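import Groth.Agent.Lib.Helper28.DeltaWhisker
import Groth.Agent.S8535
import Mathlib.CategoryTheory.Abelian.GrothendieckAxioms.Basic
import Mathlib.Algebra.Category.Grp.AB
import Mathlib.Algebra.Homology.DerivedCategory.Ext.EnoughInjectives

/-!
# `Ext^n(X, -)` and filtered colimits
-/

namespace Groth.Agent.Lib.Helper28.ExtColim

open CategoryTheory Limits Abelian

universe w v u

variable {𝒜 : Type u} [Category.{v} 𝒜] [Abelian 𝒜] [HasExt.{w} 𝒜] (X : 𝒜)
  (I : Type w) [SmallCategory I] [IsFiltered I]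
  [HasColimitsOfShape I 𝒜] [HasExactColimitsOfShape I 𝒜]

/-- `F ↦ colim_i Ext^n(X, F i)` as a δ-functor on `I ⥤ 𝒜`. -/
noncomputable def T₁ : DeltaF.CohDeltaFunctor (I ⥤ 𝒜) AddCommGrpCat.{w} ℕ :=
  DeltaOps.postcomp (DeltaWhisker.whiskerDelta I (ExtDelta.extDelta.{w} X))
    (colim : (I ⥤ AddCommGrpCat.{w}) ⥤ AddCommGrpCat.{w})

/-- `F ↦ Ext^n(X, colim F)` as a δ-functor on `I ⥤ 𝒜`. -/
noncomputable def T₂ : DeltaF.CohDeltaFunctor (I ⥤ 𝒜) AddCommGrpCat.{w} ℕ :=
  DeltaOps.precomp (ExtDelta.extDelta.{w} X) (colim : (I ⥤ 𝒜) ⥤ 𝒜)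

lemma T₁_F (n : ℕ) : (T₁ X I).F n =
    (Functor.whiskeringRight I 𝒜 AddCommGrpCat.{w}).obj (extFunctorObj X n) ⋙ colim := rfl

lemma T₂_F (n : ℕ) : (T₂ X I).F n = colim ⋙ extFunctorObj X n := rfl

/-- The comparison `colim_i Ext^n(X, F i) ⟶ Ext^n(X, colim F)`, as a natural transformation. -/
noncomputable def φapp (n : ℕ) : (T₁ X I).F n ⟶ (T₂ X I).F n where
  app F := colimit.post F (extFunctorObj X n)
  naturality {F F'} α := by
    apply colimit.hom_ext
    intro j
    change colimit.ι (F ⋙ extFunctorObj X n) j ≫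
      colimMap (Functor.whiskerRight α (extFunctorObj X n)) ≫
        colimit.post F' (extFunctorObj X n) =
      colimit.ι (F ⋙ extFunctorObj X n) j ≫ colimit.post F (extFunctorObj X n) ≫
        (extFunctorObj X n).map (colimMap α)
    rw [ι_colimMap_assoc, colimit.ι_post, colimit.ι_post_assoc, ← Functor.map_comp, ι_colimMap,
      Functor.whiskerRight_app, Functor.map_comp]

lemma φapp_app (n : ℕ) (F : I ⥤ 𝒜) :
    (φapp X I n).app F = colimit.post F (extFunctorObj X n) := rfl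

/-- The inclusions `F j ⟶ colim F` as a natural transformation `ev_j ⟶ colim`. -/
noncomputable def ιNat (j : I) : (evaluation I 𝒜).obj j ⟶ (colim : (I ⥤ 𝒜) ⥤ 𝒜) where
  app F := colimit.ι F j
  naturality {F F'} α := by
    change α.app j ≫ colimit.ι F' j = colimit.ι F j ≫ colimMap α
    rw [ι_colimMap]

/-- The comparison morphism of δ-functors. -/
noncomputable def φ : T₁ X I ⟶ T₂ X I where
  app n := φapp X I n
  comm S hS n₀ n₁ h := by
    apply colimit.hom_ext
    intro j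
    let δw : S.X₃ ⋙ extFunctorObj X n₀ ⟶ S.X₁ ⋙ extFunctorObj X n₁ :=
      DeltaWhisker.δ I (ExtDelta.extDelta.{w} X) S hS n₀ n₁ h
    have hδw : δw.app j = (ExtDelta.extDelta.{w} X).δ (S.map ((evaluation I 𝒜).obj j))
      (DeltaWhisker.shortExact_eval I hS j) n₀ n₁ h := rfl
    let δc : (extFunctorObj X n₀).obj (colimit S.X₃) ⟶ (extFunctorObj X n₁).obj (colimit S.X₁) :=
      (ExtDelta.extDelta.{w} X).δ (S.map colim) (hS.map_of_exact colim) n₀ n₁ h
    change colimit.ι (S.X₃ ⋙ extFunctorObj X n₀) j ≫ colimMap δw ≫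
        colimit.post S.X₁ (extFunctorObj X n₁) =
      colimit.ι (S.X₃ ⋙ extFunctorObj X n₀) j ≫ colimit.post S.X₃ (extFunctorObj X n₀) ≫ δc
    rw [ι_colimMap_assoc, colimit.ι_post, colimit.ι_post_assoc, hδw]
    exact ((ExtDelta.extDelta.{w} X).δ_natural (DeltaWhisker.shortExact_eval I hS j)
      (hS.map_of_exact colim) (S.mapNatTrans (ιNat I j)) n₀ n₁ h).symm


lemma zeroMono_T₂ : (T₂ X I).ZeroMono := by
  intro S hS
  have hm : Mono (colimMap S.f) := (hS.map_of_exact (colim : (I ⥤ 𝒜) ⥤ 𝒜)).mono_f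
  exact Ext.mono_postcomp_mk₀_of_mono X (colimMap S.f)

lemma zeroMono_T₁ : (T₁ X I).ZeroMono := by
  intro S hS
  have h1 : Mono (Functor.whiskerRight S.f (extFunctorObj X 0)) := by
    have : ∀ i, Mono ((Functor.whiskerRight S.f (extFunctorObj X 0)).app i) := fun i => by
      have hm : Mono (S.f.app i) := (DeltaWhisker.shortExact_eval I hS i).mono_f
      exact Ext.mono_postcomp_mk₀_of_mono X (S.f.app i)
    exact NatTrans.mono_of_mono_app _
  exact inferInstanceAs (Mono ((colim : (I ⥤ AddCommGrpCat.{w}) ⥤ AddCommGrpCat.{w}).map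
    (Functor.whiskerRight S.f (extFunctorObj X 0))))

section Embedding

variable [EnoughInjectives 𝒜] [HasProducts.{w} 𝒜] (F : I ⥤ 𝒜)

/-- A pointwise injective functor receiving `F`. -/
noncomputable def M : I ⥤ 𝒜 where
  obj i := ∏ᶜ (fun p : Σ j, (i ⟶ j) => Injective.under (F.obj p.1))
  map {i i'} f := Pi.lift (fun p : Σ j, (i' ⟶ j) =>
    Pi.π (fun q : Σ j, (i ⟶ j) => Injective.under (F.obj q.1)) ⟨p.1, f ≫ p.2⟩)
  map_id i := by
    apply Pi.hom_ext
    intro p
    rw [Pi.lift_π, Category.id_comp, Category.id_comp]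
  map_comp {i i' i''} f g := by
    apply Pi.hom_ext
    intro p
    rw [Pi.lift_π]
    symm
    rw [Category.assoc, Pi.lift_π, Pi.lift_π, Category.assoc]

/-- The embedding of `F` into `M F`. -/
noncomputable def emb : F ⟶ M I F where
  app i := Pi.lift (fun p : Σ j, (i ⟶ j) => F.map p.2 ≫ Injective.ι (F.obj p.1))
  naturality {i i'} f := by
    apply Pi.hom_ext
    intro p
    change (F.map f ≫ Pi.lift _) ≫ Pi.π _ p = (Pi.lift _ ≫ Pi.lift _) ≫ Pi.π _ p
    rw [Category.assoc, Pi.lift_π, Category.assoc, Pi.lift_π, Pi.lift_π, Functor.map_comp,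
      Category.assoc]

instance injective_M_obj (i : I) : Injective ((M I F).obj i) :=
  inferInstanceAs (Injective (∏ᶜ (fun p : Σ j, (i ⟶ j) => Injective.under (F.obj p.1))))

instance mono_emb : Mono (emb I F) := by
  have : ∀ i, Mono ((emb I F).app i) := fun i => by
    have h : (emb I F).app i ≫
        Pi.π (fun p : Σ j, (i ⟶ j) => Injective.under (F.obj p.1)) ⟨i, 𝟙 i⟩ =
          Injective.ι (F.obj i) := by
      change Pi.lift _ ≫ Pi.π _ _ = _
      rw [Pi.lift_π, F.map_id, Category.id_comp]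
    exact mono_of_mono_fac h
  exact NatTrans.mono_of_mono_app _

end Embedding

lemma isEffaceable_T₁ [EnoughInjectives 𝒜] [HasProducts.{w} 𝒜] : (T₁ X I).IsEffaceable := by
  intro n F
  refine ⟨M I F, emb I F, inferInstance, ?_⟩
  have hz : IsZero (M I F ⋙ extFunctorObj X (n + 1)) := by
    apply Functor.isZero
    intro i
    have : Subsingleton (Ext X ((M I F).obj i) (n + 1)) :=
      subsingleton_of_forall_eq 0 (fun x => Ext.eq_zero_of_injective x)
    exact AddCommGrpCat.isZero_of_subsingleton (AddCommGrpCat.of (Ext X ((M I F).obj i) (n + 1)))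
  have hz' : IsZero ((colim : (I ⥤ AddCommGrpCat.{w}) ⥤ AddCommGrpCat.{w}).obj
      (M I F ⋙ extFunctorObj X (n + 1))) := Functor.map_isZero _ hz
  exact hz'.eq_of_tgt _ _

/-- `Ext^n(X, -)` commutes with filtered colimits as soon as `Hom(X, -)` does and
`Ext^{n+1}(X, colim M) = 0` for pointwise injective `M`. -/
theorem isIso_post [EnoughInjectives 𝒜] [HasProducts.{w} 𝒜]
    (h0 : ∀ F : I ⥤ 𝒜, PreservesColimit F (extFunctorObj X 0))
    (hvan : ∀ M : I ⥤ 𝒜, (∀ i, Injective (M.obj i)) →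
      ∀ (n : ℕ) (x : Ext X (colimit M) (n + 1)), x = 0)
    (F : I ⥤ 𝒜) (n : ℕ) : IsIso (colimit.post F (extFunctorObj X n)) := by
  have h0' : IsIso ((φ X I).app 0) := by
    have : ∀ F : I ⥤ 𝒜, IsIso (((φ X I).app 0).app F) := fun F => by
      have := h0 F
      exact inferInstanceAs (IsIso (colimit.post F (extFunctorObj X 0)))
    exact NatIso.isIso_of_isIso_app _
  have key := ((Groth.Agent.S8535.result (T₁ X I) (T₂ X I) (zeroMono_T₁ X I) (zeroMono_T₂ X I)
    (isEffaceable_T₁ X I) (φ X I) n).2).2 ⟨h0', ?_⟩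
  · have h1 : IsIso ((φ X I).app n) := key.1 n le_rfl
    exact inferInstanceAs (IsIso (((φ X I).app n).app F))
  · intro i hi _ G
    obtain ⟨k, rfl⟩ : ∃ k, i = k + 1 := ⟨i - 1, by omega⟩
    refine ⟨M I G, emb I G, inferInstance, ?_⟩
    have : Subsingleton (Ext X (colimit (M I G)) (k + 1)) :=
      subsingleton_of_forall_eq 0 (fun x => hvan (M I G) (fun i => inferInstance) k x)
    have hz : IsZero (AddCommGrpCat.of (Ext X (colimit (M I G)) (k + 1))) :=
      AddCommGrpCat.isZero_of_subsingleton _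
    exact hz.eq_of_tgt _ _

theorem preservesColimit_extFunctorObj [EnoughInjectives 𝒜] [HasProducts.{w} 𝒜]
    (h0 : ∀ F : I ⥤ 𝒜, PreservesColimit F (extFunctorObj X 0))
    (hvan : ∀ M : I ⥤ 𝒜, (∀ i, Injective (M.obj i)) →
      ∀ (n : ℕ) (x : Ext X (colimit M) (n + 1)), x = 0)
    (F : I ⥤ 𝒜) (n : ℕ) : PreservesColimit F (extFunctorObj X n) := by
  have := isIso_post X I h0 hvan F n
  exact preservesColimit_of_isIso_post (extFunctorObj X n) F

end Groth.Agent.Lib.Helper28.ExtColim
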