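import Groth.Agent.Lib.Helper28.CechA
import Mathlib.CategoryTheory.Limits.FormalCoproducts.Cech
import Mathlib.CategoryTheory.Comma.Over.Basic

namespace Groth.Agent.Lib.Helper28.CechO

open CategoryTheory Limits Opposite Simplicial AlgebraicTopology
open Groth.Agent.Lib.Helper28

universe w v u

variable {C : Type u} [Category.{v} C] [LocallySmall.{w} C] {U : C}

/-- The augmentation `Σ i, Hom(-, (X i).left) ⟶ Hom(-, U)` for a formal coproduct in `Over U`. -/
noncomputable def augApp (X : FormalCoproduct.{w} (Over U)) :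
    (CechY.sY (Over.forget U)).obj X ⟶ shrinkYoneda.{w}.obj U where
  app V := ↾(fun x => (shrinkYoneda.{w}.map (X.obj x.1).hom).app V x.2)
  naturality V V' f := by
    refine ConcreteCategory.hom_ext _ _ fun x => ?_
    obtain ⟨i, x⟩ := x
    simp only [types_comp_apply, TypeCat.ofHom_apply]
    exact NatTrans.naturality_apply (shrinkYoneda.{w}.map (X.obj i).hom) f x

@[simp]
lemma augApp_app_mk (X : FormalCoproduct.{w} (Over U)) (V : Cᵒᵖ) (i : X.I)
    (x : (shrinkYoneda.{w}.obj ((Over.forget U).obj (X.obj i))).obj V) :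
    (augApp X).app V ⟨i, x⟩ = (shrinkYoneda.{w}.map (X.obj i).hom).app V x := rfl

lemma shrinkYoneda_map_map {a b c : C} (f : a ⟶ b) (g : b ⟶ c) (h : a ⟶ c) (hh : f ≫ g = h)
    (V : Cᵒᵖ) (x : (shrinkYoneda.{w}.obj a).obj V) :
    (shrinkYoneda.{w}.map g).app V ((shrinkYoneda.{w}.map f).app V x) =
      (shrinkYoneda.{w}.map h).app V x := by
  subst hh
  simp

lemma augApp_naturality {X X' : FormalCoproduct.{w} (Over U)} (g : X' ⟶ X) :
    (CechY.sY (Over.forget U)).map g ≫ augApp X = augApp X' := by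
  ext V : 2
  refine ConcreteCategory.hom_ext _ _ fun x => ?_
  obtain ⟨i, x⟩ := x
  rw [NatTrans.comp_app, types_comp_apply, CechY.sYmap_app_mk, augApp_app_mk, augApp_app_mk]
  exact shrinkYoneda_map_map _ _ _ (Over.w (g.φ i)) V x

variable (E : SimplicialObject (FormalCoproduct.{w} (Over U)))

/-- The augmentation of the simplicial presheaf attached to `E`. -/
noncomputable def η : E ⋙ CechY.sY (Over.forget U) ⟶
    (Functor.const SimplexCategoryᵒᵖ).obj (shrinkYoneda.{w}.obj U) where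
  app n := augApp (E.obj n)
  naturality n m f := by
    exact (augApp_naturality (E.map f)).trans (Category.comp_id _).symm


section Cech

variable [HasFiniteProducts (Over U)] {ι : Type w} (Y : ι → Over U)

/-- The Čech simplicial object of the family `Y`. -/
noncomputable abbrev cechE : SimplicialObject (FormalCoproduct.{w} (Over U)) :=
  (FormalCoproduct.mk ι Y).cech

/-- Sections over `V` of the simplicial presheaf in degree `m`. -/
abbrev Sec (m : SimplexCategory) (V : Cᵒᵖ) : Type w :=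
  ((CechY.sY (Over.forget U)).obj ((cechE Y).obj (op m))).obj V

/-- Construct a section from an index function and a morphism. -/
noncomputable def mkSec (m : SimplexCategory) (V : Cᵒᵖ) (a : ToType m → ι)
    (φ : V.unop ⟶ (∏ᶜ (Y ∘ a)).left) : Sec Y m V :=
  ⟨a, shrinkYonedaObjObjEquiv.symm φ⟩

/-- The tuple of vertices of a section. -/
noncomputable def key (m : SimplexCategory) (V : Cᵒᵖ) (z : Sec Y m V) :
    ToType m → Σ i : ι, (V.unop ⟶ (Y i).left) :=
  fun j => ⟨z.1 j, shrinkYonedaObjObjEquiv z.2 ≫ (Pi.π (Y ∘ z.1) j).left⟩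

lemma key_mkSec (m : SimplexCategory) (V : Cᵒᵖ) (a : ToType m → ι)
    (φ : V.unop ⟶ (∏ᶜ (Y ∘ a)).left) (j : ToType m) :
    key Y m V (mkSec Y m V a φ) j = ⟨a j, φ ≫ (Pi.π (Y ∘ a) j).left⟩ := by
  exact congrArg (fun t => (⟨a j, t ≫ (Pi.π (Y ∘ a) j).left⟩ : Σ i : ι, (V.unop ⟶ (Y i).left)))
    (Equiv.apply_symm_apply shrinkYonedaObjObjEquiv φ)

lemma mkSec_surjective (m : SimplexCategory) (V : Cᵒᵖ) (z : Sec Y m V) :
    ∃ a φ, z = mkSec Y m V a φ := by
  obtain ⟨a, x⟩ := z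
  exact ⟨a, shrinkYonedaObjObjEquiv x,
    congrArg (Sigma.mk a) (Equiv.symm_apply_apply shrinkYonedaObjObjEquiv x).symm⟩

omit [LocallySmall.{w} C] in
lemma left_ext (m : SimplexCategory) {W : C} (a : ToType m → ι)
    (φ φ' : W ⟶ (∏ᶜ (Y ∘ a)).left)
    (h : ∀ j, φ ≫ (Pi.π (Y ∘ a) j).left = φ' ≫ (Pi.π (Y ∘ a) j).left) : φ = φ' := by
  have hg : φ' ≫ (∏ᶜ (Y ∘ a)).hom = φ ≫ (∏ᶜ (Y ∘ a)).hom := by
    rw [← Over.w (Pi.π (Y ∘ a) (0 : Fin (m.len + 1))), ← Category.assoc, ← Category.assoc, h]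
  have key : (Over.homMk φ rfl : Over.mk (φ ≫ (∏ᶜ (Y ∘ a)).hom) ⟶ ∏ᶜ (Y ∘ a)) =
      Over.homMk φ' hg := by
    refine Pi.hom_ext _ _ fun j => ?_
    ext
    exact h j
  exact congrArg (fun t => t.left) key

lemma key_injective (m : SimplexCategory) (V : Cᵒᵖ) : Function.Injective (key Y m V) := by
  intro z z' h
  obtain ⟨a, φ, rfl⟩ := mkSec_surjective Y m V z
  obtain ⟨a', φ', rfl⟩ := mkSec_surjective Y m V z'
  have ha : a = a' := by
    funext j
    have := congrFun h j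
    rw [key_mkSec, key_mkSec] at this
    exact congrArg Sigma.fst this
  subst ha
  have hφ : φ = φ' := by
    apply left_ext Y m a
    intro j
    have := congrFun h j
    rw [key_mkSec, key_mkSec] at this
    exact eq_of_heq (Sigma.mk.inj this).2
  rw [hφ]

/-- The composite to `U` of a vertex. -/
abbrev base {V : Cᵒᵖ} (t : Σ i : ι, (V.unop ⟶ (Y i).left)) : V.unop ⟶ U := t.2 ≫ (Y t.1).hom

omit [LocallySmall.{w} C] in
lemma exists_lift (m : SimplexCategory) (V : Cᵒᵖ) (t : ToType m → Σ i : ι, (V.unop ⟶ (Y i).left))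
    (g : V.unop ⟶ U) (ht : ∀ j, base Y (t j) = g) :
    ∃ φ : V.unop ⟶ (∏ᶜ (Y ∘ fun j => (t j).1)).left,
      ∀ j, φ ≫ (Pi.π (Y ∘ fun j => (t j).1) j).left = (t j).2 := by
  refine ⟨(Pi.lift (fun j => (Over.homMk (t j).2 (ht j) : Over.mk g ⟶ Y (t j).1))).left, ?_⟩
  intro j
  have h := Pi.lift_π (fun j => (Over.homMk (t j).2 (ht j) : Over.mk g ⟶ Y (t j).1)) j
  exact (Over.comp_left _ _ _ _ _).symm.trans (congrArg (fun z => z.left) h)

lemma key_surjective (m : SimplexCategory) (V : Cᵒᵖ)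
    (t : ToType m → Σ i : ι, (V.unop ⟶ (Y i).left))
    (g : V.unop ⟶ U) (ht : ∀ j, base Y (t j) = g) : ∃ z, key Y m V z = t := by
  obtain ⟨φ, hφ⟩ := exists_lift Y m V t g ht
  refine ⟨mkSec Y m V (fun j => (t j).1) φ, ?_⟩
  funext j
  rw [key_mkSec]
  exact congrArg (Sigma.mk (t j).1) (hφ j)

lemma map_mkSec {m m' : SimplexCategory} (θ : m' ⟶ m) (V : Cᵒᵖ) (a : ToType m → ι)
    (φ : V.unop ⟶ (∏ᶜ (Y ∘ a)).left) :
    ((cechE Y ⋙ CechY.sY (Over.forget U)).map θ.op).app V (mkSec Y m V a φ) =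
      mkSec Y m' V (a ∘ θ.toOrderHom)
        (φ ≫ (Pi.lift (fun k => Pi.π (Y ∘ a) (θ.toOrderHom k)) :
          ∏ᶜ (Y ∘ a) ⟶ ∏ᶜ (Y ∘ a ∘ θ.toOrderHom)).left) := by
  change (⟨a ∘ θ.toOrderHom, _⟩ : Sec Y m' V) = ⟨a ∘ θ.toOrderHom, _⟩
  refine congrArg (Sigma.mk (a ∘ θ.toOrderHom)) ?_
  exact shrinkYoneda_map_app_shrinkYonedaObjObjEquiv_symm _ _

lemma key_map {m m' : SimplexCategory} (θ : m' ⟶ m) (V : Cᵒᵖ) (z : Sec Y m V) (j : ToType m') :
    key Y m' V (((cechE Y ⋙ CechY.sY (Over.forget U)).map θ.op).app V z) j =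
      key Y m V z (θ.toOrderHom j) := by
  obtain ⟨a, φ, rfl⟩ := mkSec_surjective Y m V z
  rw [map_mkSec, key_mkSec, key_mkSec]
  refine congrArg (Sigma.mk (a (θ.toOrderHom j))) ?_
  rw [Category.assoc]
  congr 1
  have h := Pi.lift_π (fun k => Pi.π (Y ∘ a) (θ.toOrderHom k)) j
  exact (Over.comp_left _ _ _ _ _).symm.trans (congrArg (fun z => z.left) h)

lemma aug_mkSec (m : SimplexCategory) (V : Cᵒᵖ) (a : ToType m → ι)
    (φ : V.unop ⟶ (∏ᶜ (Y ∘ a)).left) (j : ToType m) :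
    ((η (cechE Y)).app (op m)).app V (mkSec Y m V a φ) =
      shrinkYonedaObjObjEquiv.symm (base Y (key Y m V (mkSec Y m V a φ) j)) := by
  rw [key_mkSec]
  change (shrinkYoneda.{w}.map (∏ᶜ (Y ∘ a)).hom).app V (shrinkYonedaObjObjEquiv.symm φ) = _
  rw [shrinkYoneda_map_app_shrinkYonedaObjObjEquiv_symm]
  congr 1
  rw [← Over.w (Pi.π (Y ∘ a) j)]
  exact (Category.assoc _ _ _).symm

lemma aug_eq (m : SimplexCategory) (V : Cᵒᵖ) (z : Sec Y m V) (j : ToType m) :
    ((η (cechE Y)).app (op m)).app V z =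
      shrinkYonedaObjObjEquiv.symm (base Y (key Y m V z j)) := by
  obtain ⟨a, φ, rfl⟩ := mkSec_surjective Y m V z
  exact aug_mkSec Y m V a φ j

/-- The augmented simplicial presheaf attached to the family `Y`. -/
noncomputable abbrev A : SimplicialObject.Augmented (Cᵒᵖ ⥤ Type w) :=
  CechA.aug (Over.forget U) (cechE Y) (η (cechE Y))

lemma key_vert (V : Cᵒᵖ) (n : ℕ) (i : Fin (n + 1)) (z : Sec Y ⦋n⦌ V) :
    key Y ⦋0⦌ V (CechED.vert (CechQ.evalAug (A Y) V).left i z) (0 : Fin 1) = key Y ⦋n⦌ V z i :=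
  key_map Y (SimplexCategory.const ⦋0⦌ ⦋n⦌ i) V z (0 : Fin 1)

lemma sectionwiseCechLike : CechQ.SectionwiseCechLike (A Y) := by
  intro V
  constructor
  · intro n x y h
    apply key_injective Y ⦋n⦌ V
    funext i
    have hx := key_vert Y V n i x
    have hy := key_vert Y V n i y
    rw [← hx, ← hy, h i]
  · intro n xs h
    have hbase : ∀ j : Fin (n + 1), base Y (key Y ⦋0⦌ V (xs j) (0 : Fin 1)) =
        base Y (key Y ⦋0⦌ V (xs 0) (0 : Fin 1)) := by
      intro j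
      have h1 := aug_eq Y ⦋0⦌ V (xs j) (0 : Fin 1)
      have h2 := aug_eq Y ⦋0⦌ V (xs 0) (0 : Fin 1)
      have h3 : ((η (cechE Y)).app (op ⦋0⦌)).app V (xs j) =
          ((η (cechE Y)).app (op ⦋0⦌)).app V (xs 0) := h j 0
      rw [h1, h2] at h3
      exact shrinkYonedaObjObjEquiv.symm.injective h3
    obtain ⟨z, hz⟩ := key_surjective Y ⦋n⦌ V (fun j => key Y ⦋0⦌ V (xs j) (0 : Fin 1)) _ hbase
    refine ⟨z, fun i => ?_⟩
    apply key_injective Y ⦋0⦌ V
    funext k
    obtain rfl : k = (0 : Fin 1) := Subsingleton.elim (α := Fin 1) _ _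
    rw [key_vert, hz]

/-- Čech cohomology of an injective presheaf of abelian groups with respect to any family of
objects over `U` vanishes in positive degrees. -/
theorem isZero_cech_homology_succ_of_injective (P : Cᵒᵖ ⥤ AddCommGrpCat.{w}) [Injective P]
    (p : ℕ) :
    IsZero (((cechComplexFunctor Y).obj ((Over.forget U).op ⋙ P)).homology (p + 1)) :=
  CechA.isZero_homology_succ (Over.forget U) (cechE Y) P (η (cechE Y)) (sectionwiseCechLike Y) p

end Cech

end Groth.Agent.Lib.Helper28.CechO
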