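import Groth.Prelude.Def_CechEdge
import Groth.Prelude.Def_DeltaF
import Groth.Agent.Lib.Helper28.CechO
import Groth.Agent.S6773
import Mathlib.Algebra.Homology.HomologySequenceLemmas
import Mathlib.CategoryTheory.Abelian.GrothendieckCategory.EnoughInjectives
import Mathlib.CategoryTheory.Abelian.GrothendieckAxioms.Sheaf

/-!
# Čech cohomology as a universal δ-functor on abelian presheaves
-/

namespace Groth.Agent.Lib.Helper28.EdgeT

open CategoryTheory Limits Opposite

universe u

section Prod

variable {J : Type u} {A B D : J → AddCommGrpCat.{u}}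

lemma π_map_apply (f : ∀ j, A j ⟶ B j) (j : J) (x : ↑(∏ᶜ A)) :
    Pi.π B j (Limits.Pi.map f x) = f j (Pi.π A j x) :=
  ConcreteCategory.congr_hom (Limits.Pi.map_π f j) x

lemma pi_map_add (f g : ∀ j, A j ⟶ B j) :
    Limits.Pi.map (fun j => f j + g j) = Limits.Pi.map f + Limits.Pi.map g := by
  refine Limits.Pi.hom_ext _ _ (fun j => ?_)
  rw [Limits.Pi.map_π, Preadditive.add_comp, Limits.Pi.map_π, Limits.Pi.map_π,
    Preadditive.comp_add]

/-- A product of short exact sequences of abelian groups is short exact. -/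
lemma pi_shortExact (f : ∀ j, A j ⟶ B j) (g : ∀ j, B j ⟶ D j) (w : ∀ j, f j ≫ g j = 0)
    (h : ∀ j, (ShortComplex.mk (f j) (g j) (w j)).ShortExact) :
    (ShortComplex.mk (Limits.Pi.map f) (Limits.Pi.map g) (by
      rw [Limits.Pi.map_comp_map]; refine Pi.hom_ext _ _ fun j => ?_; simp [w])).ShortExact := by
  have hinj : ∀ j, Function.Injective (f j) := fun j =>
    (AddCommGrpCat.mono_iff_injective _).1 (h j).mono_f
  have hsurj : ∀ j, Function.Surjective (g j) := fun j =>
    (AddCommGrpCat.epi_iff_surjective _).1 (h j).epi_g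
  have hex : ∀ j (x : B j), g j x = 0 → ∃ y, f j y = x := fun j =>
    (ShortComplex.ab_exact_iff _).1 (h j).exact
  refine ShortComplex.ShortExact.mk' ?_ ?_ ?_
  · rw [ShortComplex.ab_exact_iff]
    intro x hx
    have hx' : ∀ j, g j (Pi.π B j x) = 0 := by
      intro j
      have := congrArg (fun z => Pi.π D j z) hx
      simp only at this
      rw [π_map_apply] at this
      rw [this, map_zero]
    choose y hy using fun j => hex j _ (hx' j)
    refine ⟨(Concrete.productEquiv A).symm y, ?_⟩
    apply CechY.prod_ext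
    intro j
    change Pi.π B j (Limits.Pi.map f _) = _
    rw [π_map_apply, Concrete.productEquiv_symm_apply_π, hy]
  · rw [AddCommGrpCat.mono_iff_injective]
    intro x y hxy
    apply CechY.prod_ext
    intro j
    apply hinj j
    change (Limits.Pi.map f) x = (Limits.Pi.map f) y at hxy
    rw [← π_map_apply, ← π_map_apply, hxy]
  · rw [AddCommGrpCat.epi_iff_surjective]
    intro z
    choose y hy using fun j => hsurj j (Pi.π D j z)
    refine ⟨(Concrete.productEquiv B).symm y, ?_⟩
    apply CechY.prod_ext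
    intro j
    change Pi.π D j (Limits.Pi.map g _) = _
    rw [π_map_apply, Concrete.productEquiv_symm_apply_π, hy]

end Prod

variable {C : Type u} [SmallCategory C]

lemma enoughInjectives_presheaf : EnoughInjectives (Cᵒᵖ ⥤ AddCommGrpCat.{u}) :=
  (Equivalence.enoughInjectives_iff (sheafBotEquivalence (C := C) AddCommGrpCat.{u})).1
    inferInstance

variable [HasPullbacks C] {U : C} {ι : Type u} (Y : ι → Over U)

lemma cxFunctor_map_f {P Q : Cᵒᵖ ⥤ AddCommGrpCat.{u}} (φ : P ⟶ Q) (n : ℕ) :
    ((CechEdge.cxFunctor Y).map φ).f n =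
      Limits.Pi.map (fun a : Fin (n + 1) → ι => φ.app (op (∏ᶜ (Y ∘ a)).left)) := rfl

instance additive_cxFunctor : (CechEdge.cxFunctor (C := C) Y).Additive where
  map_add {P Q f g} := by
    apply HomologicalComplex.hom_ext
    intro n
    exact pi_map_add (fun a : Fin (n + 1) → ι => f.app (op (∏ᶜ (Y ∘ a)).left))
      (fun a : Fin (n + 1) → ι => g.app (op (∏ᶜ (Y ∘ a)).left))

/-- The Čech complex functor sends short exact sequences of presheaves to short exact sequences
of complexes. -/
lemma shortExact_map_cxFunctor (S : ShortComplex (Cᵒᵖ ⥤ AddCommGrpCat.{u})) (hS : S.ShortExact) :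
    (S.map (CechEdge.cxFunctor Y)).ShortExact := by
  apply HomologicalComplex.shortExact_of_degreewise_shortExact
  intro n
  have hV : ∀ V : Cᵒᵖ, (S.map ((evaluation _ _).obj V)).ShortExact := fun V => by
    have := hS.mono_f
    have := hS.epi_g
    exact hS.map_of_exact _
  exact pi_shortExact (fun a => S.f.app _) (fun a => S.g.app _) _ (fun a => hV _)

/-- Čech cohomology with respect to `Y` as a cohomological δ-functor on abelian presheaves. -/
noncomputable def T : DeltaF.CohDeltaFunctor (Cᵒᵖ ⥤ AddCommGrpCat.{u}) AddCommGrpCat.{u} ℕ where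
  F n := CechEdge.cxFunctor Y ⋙ HomologicalComplex.homologyFunctor _ _ n
  additive _ := inferInstance
  δ S hS n₀ n₁ h := (shortExact_map_cxFunctor Y S hS).δ n₀ n₁ h
  δ_natural hS hS' φ n₀ n₁ h :=
    (HomologicalComplex.HomologySequence.δ_naturality
      ((CechEdge.cxFunctor Y).mapShortComplex.map φ) (shortExact_map_cxFunctor Y _ hS)
      (shortExact_map_cxFunctor Y _ hS') n₀ n₁ h).symm
  exact₂ S hS n := (shortExact_map_cxFunctor Y S hS).homology_exact₂ n
  comp_δ S hS n₀ n₁ h := (shortExact_map_cxFunctor Y S hS).comp_δ n₀ n₁ h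
  exact₃ S hS n₀ n₁ h := (shortExact_map_cxFunctor Y S hS).homology_exact₃ n₀ n₁ h
  δ_comp S hS n₀ n₁ h := (shortExact_map_cxFunctor Y S hS).δ_comp n₀ n₁ h
  exact₁ S hS n₀ n₁ h := (shortExact_map_cxFunctor Y S hS).homology_exact₁ n₀ n₁ h

lemma isEffaceable_T : (T Y).IsEffaceable := by
  intro n P
  have := enoughInjectives_presheaf (C := C)
  refine ⟨Injective.under P, Injective.ι P, inferInstance, ?_⟩
  exact (CechO.isZero_cech_homology_succ_of_injective Y (Injective.under P) n).eq_of_tgt _ _

theorem isUniversal_T : (T Y).IsUniversal :=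
  Groth.Agent.S6773.result (T Y) (isEffaceable_T Y)

end Groth.Agent.Lib.Helper28.EdgeT
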