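import Groth.Prelude.Def_EtCech
import Groth.Prelude.Def_DeltaF
import Groth.Prelude.Def_RDerDelta
import Groth.Agent.Lib.Helper28.EdgeT
import Groth.Agent.S6773
import Groth.Agent.S6774
import Groth.Agent.S16463
import Groth.Agent.S16465
import Mathlib.Algebra.Homology.HomologySequenceLemmas

/-!
# Čech cohomology of presheaves as a universal δ-functor (general universes)

`Ȟ^p(Y, -)` is the `p`-th right derived functor of `Ȟ^0(Y, -)` on abelian presheaves.
-/

namespace Groth.Agent.Lib.Helper28.CechDelta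

open CategoryTheory Limits Opposite

universe w v u

variable {C : Type u} [Category.{v} C] {U : C} [HasFiniteProducts (Over U)] {ι : Type w}
  (Y : ι → Over U)

/-- The Čech complex functor on abelian presheaves on `C`. -/
noncomputable abbrev cxF : (Cᵒᵖ ⥤ AddCommGrpCat.{w}) ⥤ CochainComplex AddCommGrpCat.{w} ℕ :=
  (Functor.whiskeringLeft (Over U)ᵒᵖ Cᵒᵖ AddCommGrpCat.{w}).obj (Over.forget U).op ⋙
    cechComplexFunctor Y

lemma cxF_map_f {P Q : Cᵒᵖ ⥤ AddCommGrpCat.{w}} (φ : P ⟶ Q) (n : ℕ) :
    ((cxF Y).map φ).f n =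
      Limits.Pi.map (fun a : Fin (n + 1) → ι => φ.app (op (∏ᶜ (Y ∘ a)).left)) := rfl

instance additive_cxF : (cxF (C := C) Y).Additive where
  map_add {P Q f g} := by
    apply HomologicalComplex.hom_ext
    intro n
    exact EdgeT.pi_map_add (fun a : Fin (n + 1) → ι => f.app (op (∏ᶜ (Y ∘ a)).left))
      (fun a : Fin (n + 1) → ι => g.app (op (∏ᶜ (Y ∘ a)).left))

lemma shortExact_map_cxF (S : ShortComplex (Cᵒᵖ ⥤ AddCommGrpCat.{w})) (hS : S.ShortExact) :
    (S.map (cxF Y)).ShortExact := by
  apply HomologicalComplex.shortExact_of_degreewise_shortExact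
  intro n
  have hV : ∀ V : Cᵒᵖ, (S.map ((evaluation _ _).obj V)).ShortExact := fun V => by
    have := hS.mono_f
    have := hS.epi_g
    exact hS.map_of_exact _
  exact EdgeT.pi_shortExact (fun a => S.f.app _) (fun a => S.g.app _) _ (fun a => hV _)

/-- Čech cohomology with respect to `Y` as a cohomological δ-functor on abelian presheaves. -/
noncomputable def T :
    DeltaF.CohDeltaFunctor (Cᵒᵖ ⥤ AddCommGrpCat.{w}) AddCommGrpCat.{w} ℕ where
  F n := EtCech.cechHFunctor Y n
  additive n := inferInstanceAs ((cxF Y ⋙ HomologicalComplex.homologyFunctor _ _ n).Additive)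
  δ S hS n₀ n₁ h := (shortExact_map_cxF Y S hS).δ n₀ n₁ h
  δ_natural hS hS' φ n₀ n₁ h :=
    (HomologicalComplex.HomologySequence.δ_naturality
      ((cxF Y).mapShortComplex.map φ) (shortExact_map_cxF Y _ hS)
      (shortExact_map_cxF Y _ hS') n₀ n₁ h).symm
  exact₂ S hS n := (shortExact_map_cxF Y S hS).homology_exact₂ n
  comp_δ S hS n₀ n₁ h := (shortExact_map_cxF Y S hS).comp_δ n₀ n₁ h
  exact₃ S hS n₀ n₁ h := (shortExact_map_cxF Y S hS).homology_exact₃ n₀ n₁ h
  δ_comp S hS n₀ n₁ h := (shortExact_map_cxF Y S hS).δ_comp n₀ n₁ h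
  exact₁ S hS n₀ n₁ h := (shortExact_map_cxF Y S hS).homology_exact₁ n₀ n₁ h

lemma isEffaceable_T [LocallySmall.{w} C] [EnoughInjectives (Cᵒᵖ ⥤ AddCommGrpCat.{w})] :
    (T Y).IsEffaceable := by
  intro n P
  refine ⟨Injective.under P, Injective.ι P, inferInstance, ?_⟩
  exact (CechO.isZero_cech_homology_succ_of_injective Y (Injective.under P) n).eq_of_tgt _ _

theorem isUniversal_T [LocallySmall.{w} C] [EnoughInjectives (Cᵒᵖ ⥤ AddCommGrpCat.{w})] :
    (T Y).IsUniversal :=
  Groth.Agent.S6773.result (T Y) (isEffaceable_T Y)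

end Groth.Agent.Lib.Helper28.CechDelta

namespace Groth.Agent.Lib.Helper28.CechDelta

open CategoryTheory Limits Opposite

universe w v u

variable {C : Type u} [Category.{v} C] {U : C} [HasFiniteProducts (Over U)] {ι : Type w}
  (Y : ι → Over U)

/-- `H^0` of cochain complexes indexed by `ℕ` preserves monomorphisms. -/
lemma mono_homologyMap_zero {A : Type*} [Category A] [Abelian A] {K L : CochainComplex A ℕ}
    (φ : K ⟶ L) [Mono φ] : Mono (HomologicalComplex.homologyMap φ 0) := by
  have h := HomologicalComplex.homologyπ_naturality φ 0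
  have : Mono (HomologicalComplex.cyclesMap φ 0) := inferInstance
  have e : HomologicalComplex.homologyMap φ 0 =
      inv (K.homologyπ 0) ≫ HomologicalComplex.cyclesMap φ 0 ≫ L.homologyπ 0 := by
    rw [← h, IsIso.inv_hom_id_assoc]
  rw [e]
  infer_instance

/-- `Ȟ^0(Y, -)` is left exact. -/
lemma preservesFiniteLimits_cechH_zero [(EtCech.cechHFunctor (C := C) Y 0).Additive] :
    PreservesFiniteLimits (EtCech.cechHFunctor (C := C) Y 0) := by
  refine ((EtCech.cechHFunctor (C := C) Y 0).preservesFiniteLimits_tfae.out 0 3).1 ?_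
  intro S hS
  have hC := shortExact_map_cxF Y S hS
  refine ⟨(T Y).exact₂ S hS 0, ?_⟩
  have : Mono ((cxF Y).map S.f) := hC.mono_f
  exact mono_homologyMap_zero ((cxF Y).map S.f)

end Groth.Agent.Lib.Helper28.CechDelta

namespace Groth.Agent.Lib.Helper28.CechDelta

open CategoryTheory Limits Opposite

universe w v u

lemma enoughInjectives_of_hasInjectiveResolutions {A : Type*} [Category A] [Abelian A]
    [HasInjectiveResolutions A] : EnoughInjectives A where
  presentation X := by
    let I := injectiveResolution X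
    have h : Mono (I.ι.f 0) := inferInstance
    exact ⟨{ J := I.cocomplex.X 0, injective := inferInstance, f := I.ι.f 0, mono := h }⟩

/-- An isomorphism of δ-functors gives isomorphisms of functors in each degree. -/
def isoApp {A : Type*} [Category A] [Abelian A] {B : Type*} [Category B] [Abelian B]
    {T₁ T₂ : DeltaF.CohDeltaFunctor A B ℕ} (φ : T₁ ≅ T₂) (n : ℕ) : T₁.F n ≅ T₂.F n where
  hom := φ.hom.app n
  inv := φ.inv.app n
  hom_inv_id := by
    rw [← DeltaF.CohDeltaFunctor.comp_app, φ.hom_inv_id, DeltaF.CohDeltaFunctor.id_app]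
  inv_hom_id := by
    rw [← DeltaF.CohDeltaFunctor.comp_app, φ.inv_hom_id, DeltaF.CohDeltaFunctor.id_app]

/-- A universal δ-functor whose degree zero part is a left exact functor `F` computes the right
derived functors of `F`. -/
theorem nonempty_iso_rightDerived {A : Type*} [Category A] [Abelian A]
    [HasInjectiveResolutions A]
    {B : Type*} [Category B] [Abelian B]
    (T₁ : DeltaF.CohDeltaFunctor A B ℕ) (hT : T₁.IsUniversal) (F : A ⥤ B) [F.Additive]
    [PreservesFiniteLimits F] (e : T₁.F 0 ≅ F) (p : ℕ) :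
    Nonempty (T₁.F p ≅ F.rightDerived p) := by
  have : EnoughInjectives A := enoughInjectives_of_hasInjectiveResolutions
  obtain ⟨Δ⟩ := Groth.Agent.S16463.result F
  have hΔ := Groth.Agent.S16465.result F Δ
  obtain ⟨φ, -, -⟩ := Groth.Agent.S6774.result T₁ Δ.toCohDeltaFunctor hT hΔ
    (e ≪≫ F.rightDerivedZeroIsoSelf.symm)
  exact ⟨isoApp φ p⟩

variable {C : Type u} [Category.{v} C] {U : C} [HasFiniteProducts (Over U)] {ι : Type w}
  (Y : ι → Over U)

/-- Čech cohomology is the right derived functor of `Ȟ^0` on abelian presheaves. -/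
theorem nonempty_cechH_iso_rightDerived [LocallySmall.{w} C]
    [(EtCech.cechHFunctor (C := C) Y 0).Additive]
    [HasInjectiveResolutions (Cᵒᵖ ⥤ AddCommGrpCat.{w})] (p : ℕ) :
    Nonempty (EtCech.cechHFunctor (C := C) Y p ≅
      (EtCech.cechHFunctor (C := C) Y 0).rightDerived p) := by
  have : EnoughInjectives (Cᵒᵖ ⥤ AddCommGrpCat.{w}) :=
    enoughInjectives_of_hasInjectiveResolutions
  have := preservesFiniteLimits_cechH_zero Y
  exact nonempty_iso_rightDerived (T Y) (isUniversal_T Y) (EtCech.cechHFunctor (C := C) Y 0)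
    (Iso.refl _) p

end Groth.Agent.Lib.Helper28.CechDelta
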