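import Groth.Agent.Lib.Helper28.FiltColim
import Groth.Agent.Lib.Helper28.CechDelta
import Mathlib.Algebra.Homology.ShortComplex.Ab

/-!
# Čech cohomology of a finite family and filtered colimits
-/

namespace Groth.Agent.Lib.Helper28.FiltCech

open CategoryTheory Limits Opposite

universe w v u

variable {C : Type u} [Category.{v} C] {U : C} [HasFiniteProducts (Over U)] {ι : Type w}
  [Finite ι] (Y : ι → Over U)
  {I : Type w} [SmallCategory I] [IsFiltered I]
  {G : I ⥤ Cᵒᵖ ⥤ AddCommGrpCat.{w}} {c : Cocone G}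
  (hc : ∀ (n : ℕ) (a : Fin (n + 1) → ι),
    IsColimit (FiltColim.evalCocone G c (op (∏ᶜ (Y ∘ a)).left)))

omit [Finite ι] in
lemma π_map_f {P Q : Cᵒᵖ ⥤ AddCommGrpCat.{w}} (φ : P ⟶ Q) (n : ℕ) (a : Fin (n + 1) → ι)
    (x : ((CechDelta.cxF Y).obj P).X n) :
    Pi.π (fun a : Fin (n + 1) → ι => Q.obj (op (∏ᶜ (Y ∘ a)).left)) a
      (((CechDelta.cxF Y).map φ).f n x) =
    φ.app (op (∏ᶜ (Y ∘ a)).left)
      (Pi.π (fun a : Fin (n + 1) → ι => P.obj (op (∏ᶜ (Y ∘ a)).left)) a x) :=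
  EdgeT.π_map_apply (fun a : Fin (n + 1) → ι => φ.app (op (∏ᶜ (Y ∘ a)).left)) a x

include hc in
lemma exists_rep (n : ℕ) (x : ((CechDelta.cxF Y).obj c.pt).X n) :
    ∃ (k : I) (x' : ((CechDelta.cxF Y).obj (G.obj k)).X n),
      ((CechDelta.cxF Y).map (c.ι.app k)).f n x' = x := by
  obtain ⟨k, hk⟩ := FiltColim.fin_stage
    (fun (a : Fin (n + 1) → ι) (k : I) => ∃ x' : (G.obj k).obj (op (∏ᶜ (Y ∘ a)).left),
      (c.ι.app k).app (op (∏ᶜ (Y ∘ a)).left) x' =
        Pi.π (fun a : Fin (n + 1) → ι => c.pt.obj (op (∏ᶜ (Y ∘ a)).left)) a x)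
    (fun a k k' g ⟨x', hx'⟩ => ⟨(G.map g).app _ x', (FiltColim.ι_map g x').trans hx'⟩)
    (fun a => FiltColim.exists_rep (hc n a) _)
  choose x' hx' using hk
  refine ⟨k, (Concrete.productEquiv
    (fun a : Fin (n + 1) → ι => (G.obj k).obj (op (∏ᶜ (Y ∘ a)).left))).symm x', ?_⟩
  refine CechY.prod_ext (fun a : Fin (n + 1) → ι => c.pt.obj (op (∏ᶜ (Y ∘ a)).left)) _ _
    (fun a => ?_)
  refine (π_map_f Y (c.ι.app k) n a _).trans ?_
  rw [Concrete.productEquiv_symm_apply_π]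
  exact hx' a

include hc in
lemma exists_zero_stage (n : ℕ) (k : I) (x' : ((CechDelta.cxF Y).obj (G.obj k)).X n)
    (h : ((CechDelta.cxF Y).map (c.ι.app k)).f n x' = 0) :
    ∃ (k' : I) (g : k ⟶ k'), ((CechDelta.cxF Y).map (G.map g)).f n x' = 0 := by
  obtain ⟨k', g, hg⟩ := FiltColim.fin_stage_under k
    (fun (a : Fin (n + 1) → ι) k' (g : k ⟶ k') => (G.map g).app (op (∏ᶜ (Y ∘ a)).left)
      (Pi.π (fun a : Fin (n + 1) → ι => (G.obj k).obj (op (∏ᶜ (Y ∘ a)).left)) a x') = 0)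
    (fun a k' k'' g g' hq => by
      have e : ∀ y : (G.obj k).obj (op (∏ᶜ (Y ∘ a)).left),
          (G.map (g ≫ g')).app (op (∏ᶜ (Y ∘ a)).left) y =
          (G.map g').app (op (∏ᶜ (Y ∘ a)).left) ((G.map g).app (op (∏ᶜ (Y ∘ a)).left) y) :=
        fun y => by rw [G.map_comp]; rfl
      rw [e, hq, map_zero])
    (fun a => by
      have h0 := FiltColim.exists_eq_stage (hc n a)
        (Pi.π (fun a : Fin (n + 1) → ι => (G.obj k).obj (op (∏ᶜ (Y ∘ a)).left)) a x') 0
        (((π_map_f Y (c.ι.app k) n a x').symm.trans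
          ((congrArg (fun z : ((CechDelta.cxF Y).obj c.pt).X n =>
            Pi.π (fun a : Fin (n + 1) → ι => c.pt.obj (op (∏ᶜ (Y ∘ a)).left)) a z) h).trans
              (map_zero _))).trans (map_zero _).symm)
      obtain ⟨k', g, hg⟩ := h0
      exact ⟨k', g, by rw [hg, map_zero]⟩)
  refine ⟨k', g, ?_⟩
  refine CechY.prod_ext (fun a : Fin (n + 1) → ι => (G.obj k').obj (op (∏ᶜ (Y ∘ a)).left)) _ _
    (fun a => ?_)
  exact ((π_map_f Y (G.map g) n a x').trans (hg a)).trans (map_zero _).symm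

include hc in
/-- Vanishing of Čech cohomology (for a finite family) passes to filtered colimits. -/
theorem isZero_homology_colimit (p : ℕ)
    (h : ∀ k, IsZero (((CechDelta.cxF Y).obj (G.obj k)).homology (p + 1))) :
    IsZero (((CechDelta.cxF Y).obj c.pt).homology (p + 1)) := by
  have hex : ∀ k, ((CechDelta.cxF Y).obj (G.obj k)).ExactAt (p + 1) := fun k =>
    (HomologicalComplex.exactAt_iff_isZero_homology _ _).2 (h k)
  rw [← HomologicalComplex.exactAt_iff_isZero_homology,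
    HomologicalComplex.exactAt_iff' _ p (p + 1) (p + 2) (by simp) (by simp),
    ShortComplex.ab_exact_iff]
  intro x hx
  obtain ⟨k, x', rfl⟩ := exists_rep Y hc (p + 1) x
  -- `d x'` dies in the colimit
  have h1 : ((CechDelta.cxF Y).map (c.ι.app k)).f (p + 2)
      (((CechDelta.cxF Y).obj (G.obj k)).d (p + 1) (p + 2) x') = 0 := by
    have hcomm := ((CechDelta.cxF Y).map (c.ι.app k)).comm (p + 1) (p + 2)
    have := ConcreteCategory.congr_hom hcomm x'
    exact this.symm.trans hx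
  obtain ⟨k', g, hg⟩ := exists_zero_stage Y hc (p + 2) k _ h1
  -- at stage `k'`, the image of `x'` is a cocycle
  have h2 : ((CechDelta.cxF Y).obj (G.obj k')).d (p + 1) (p + 2)
      (((CechDelta.cxF Y).map (G.map g)).f (p + 1) x') = 0 := by
    have hcomm := ((CechDelta.cxF Y).map (G.map g)).comm (p + 1) (p + 2)
    have := ConcreteCategory.congr_hom hcomm x'
    exact this.trans hg
  have hex' := hex k'
  rw [HomologicalComplex.exactAt_iff' _ p (p + 1) (p + 2) (by simp) (by simp),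
    ShortComplex.ab_exact_iff] at hex'
  obtain ⟨y, hy⟩ := hex' _ h2
  refine ⟨((CechDelta.cxF Y).map (c.ι.app k')).f p y, ?_⟩
  have hcomm := ((CechDelta.cxF Y).map (c.ι.app k')).comm p (p + 1)
  have e1 := ConcreteCategory.congr_hom hcomm y
  refine e1.trans ?_
  have e2 : ((CechDelta.cxF Y).map (c.ι.app k')).f (p + 1)
      (((CechDelta.cxF Y).map (G.map g)).f (p + 1) x') =
      ((CechDelta.cxF Y).map (c.ι.app k)).f (p + 1) x' := by
    have e3 : (CechDelta.cxF Y).map (G.map g) ≫ (CechDelta.cxF Y).map (c.ι.app k') =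
        (CechDelta.cxF Y).map (c.ι.app k) := by
      rw [← Functor.map_comp, c.w]
    exact ConcreteCategory.congr_hom (congrArg (fun φ => φ.f (p + 1)) e3) x'
  refine Eq.trans ?_ e2
  exact congrArg _ hy

end Groth.Agent.Lib.Helper28.FiltCech
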