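import Groth.Agent.Lib.Helper28.FiltGlue
import Mathlib.CategoryTheory.Sites.LocallyBijective
import Mathlib.CategoryTheory.Sites.Localization
import Mathlib.CategoryTheory.Sites.Limits
import Mathlib.CategoryTheory.Sites.Whiskering
import Mathlib.CategoryTheory.Sites.IsSheafFor
import Mathlib.Algebra.Category.Grp.Colimits
import Mathlib.CategoryTheory.Limits.FunctorCategory.Basic

/-!
# Sections of a filtered colimit of abelian sheaves over "quasi-compact" objects
-/

namespace Groth.Agent.Lib.Helper28.FiltSheaf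

open CategoryTheory Limits Opposite

universe w v u

variable {C : Type u} [Category.{v} C] (J : GrothendieckTopology C)

section Glue

variable [J.HasSheafCompose (forget AddCommGrpCat.{w})]
  {Q : Cᵒᵖ ⥤ AddCommGrpCat.{w}} (hQ : Presheaf.IsSheaf J Q)
  {V : C} {ι : Type*} {Y : ι → C} (f : ∀ i, Y i ⟶ V) (hcov : Sieve.ofArrows Y f ∈ J V)
  {Z : ι → ι → C} (p₁ : ∀ i j, Z i j ⟶ Y i) (p₂ : ∀ i j, Z i j ⟶ Y j)
  (hl : ∀ i j {Z' : C} (g₁ : Z' ⟶ Y i) (g₂ : Z' ⟶ Y j), g₁ ≫ f i = g₂ ≫ f j →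
    ∃ l : Z' ⟶ Z i j, l ≫ p₁ i j = g₁ ∧ l ≫ p₂ i j = g₂)

include hQ hcov hl in
/-- Gluing sections of an abelian sheaf along a covering family with weak fibre products. -/
lemma sheaf_glue (x : ∀ i, Q.obj (op (Y i)))
    (hx : ∀ i j, Q.map (p₁ i j).op (x i) = Q.map (p₂ i j).op (x j)) :
    ∃! s : Q.obj (op V), ∀ i, Q.map (f i).op s = x i := by
  have h1 : Presieve.IsSheaf J (Q ⋙ forget AddCommGrpCat.{w}) :=
    (isSheaf_iff_isSheaf_of_type J _).1 (GrothendieckTopology.HasSheafCompose.isSheaf Q hQ)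
  have h2 : Presieve.IsSheafFor (Q ⋙ forget AddCommGrpCat.{w}) (Presieve.ofArrows Y f) :=
    (Presieve.isSheafFor_iff_generate (Presieve.ofArrows Y f)).2 (h1 _ hcov)
  refine (Presieve.isSheafFor_arrows_iff (Q ⋙ forget AddCommGrpCat.{w}) f).1 h2 x ?_
  intro i j Z' gi gj hg
  obtain ⟨l, hl₁, hl₂⟩ := hl i j gi gj hg
  change Q.map gi.op (x i) = Q.map gj.op (x j)
  rw [← hl₁, ← hl₂, op_comp, op_comp, Functor.map_comp, Functor.map_comp]
  exact congrArg (Q.map l.op) (hx i j)

end Glue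

section Bij

variable [HasWeakSheafify J AddCommGrpCat.{w}] [J.WEqualsLocallyBijective AddCommGrpCat.{w}]
  [J.HasSheafCompose (forget AddCommGrpCat.{w})]
  (P : Cᵒᵖ ⥤ AddCommGrpCat.{w}) (B : Set C)

/-- A covering sieve `T` of `W` contains a covering family with (weak) fibre products in `B` along
which sections of `P` glue uniquely. -/
def GoodCover (W : C) (T : Sieve W) : Prop :=
  ∃ (ι : Type w) (Y : ι → C) (f : ∀ i, Y i ⟶ W) (Z : ι → ι → C)
    (p₁ : ∀ i j, Z i j ⟶ Y i) (p₂ : ∀ i j, Z i j ⟶ Y j),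
    (∀ i, T (f i)) ∧ Sieve.ofArrows Y f ∈ J W ∧ (∀ i j, Z i j ∈ B) ∧
    (∀ i j, p₁ i j ≫ f i = p₂ i j ≫ f j) ∧
    ∀ x : ∀ i, P.obj (op (Y i)),
      (∀ i j, P.map (p₁ i j).op (x i) = P.map (p₂ i j).op (x j)) →
        ∃! s : P.obj (op W), ∀ i, P.map (f i).op s = x i

variable (hB : ∀ W ∈ B, ∀ T ∈ J W, GoodCover J P B W T)

omit [J.HasSheafCompose (forget AddCommGrpCat.{w})] in
include hB in
lemma injective_toSheafify_app {W : C} (hW : W ∈ B) :
    Function.Injective (ConcreteCategory.hom ((toSheafify J P).app (op W))) := by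
  intro x y hxy
  have hT := Presheaf.equalizerSieve_mem J (toSheafify J P) x y hxy
  obtain ⟨ι, Y, f, Z, p₁, p₂, hTf, -, -, hw, hglue⟩ := hB W hW _ hT
  obtain ⟨s, -, hs⟩ := hglue (fun i => P.map (f i).op x) (fun i j => by
    have e1 : P.map (f i).op ≫ P.map (p₁ i j).op = P.map (f j).op ≫ P.map (p₂ i j).op := by
      rw [← Functor.map_comp, ← Functor.map_comp, ← op_comp, ← op_comp, hw i j]
    exact ConcreteCategory.congr_hom e1 x)
  rw [hs x (fun i => rfl), hs y (fun i => (hTf i).symm)]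

include hB in
lemma surjective_toSheafify_app {W : C} (hW : W ∈ B) :
    Function.Surjective (ConcreteCategory.hom ((toSheafify J P).app (op W))) := by
  intro t
  have hT := Presheaf.imageSieve_mem J (toSheafify J P) (U := op W) t
  obtain ⟨ι, Y, f, Z, p₁, p₂, hTf, hcov, hZ, hw, hglue⟩ := hB W hW _ hT
  choose s hs using hTf
  obtain ⟨s₀, hs₀, -⟩ := hglue s (fun i j => by
    apply injective_toSheafify_app J P B hB (hZ i j)
    rw [NatTrans.naturality_apply, NatTrans.naturality_apply, hs i, hs j]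
    have e1 : (sheafify J P).map (f i).op ≫ (sheafify J P).map (p₁ i j).op =
        (sheafify J P).map (f j).op ≫ (sheafify J P).map (p₂ i j).op := by
      rw [← Functor.map_comp, ← Functor.map_comp, ← op_comp, ← op_comp, hw i j]
    exact ConcreteCategory.congr_hom e1 t)
  refine ⟨s₀, ?_⟩
  refine (Presheaf.IsSheaf.isSeparated ((presheafToSheaf J AddCommGrpCat.{w}).obj P).property) W _ hcov _ _ ?_
  intro Y' g hg
  obtain ⟨Y'', h, g', hg', rfl⟩ := hg
  obtain ⟨i⟩ := hg'
  rw [op_comp, Functor.map_comp]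
  change (sheafify J P).map h.op ((sheafify J P).map (f i).op _) =
    (sheafify J P).map h.op ((sheafify J P).map (f i).op t)
  rw [← NatTrans.naturality_apply, hs₀ i, hs i]

include hB in
theorem isIso_toSheafify_app {W : C} (hW : W ∈ B) : IsIso ((toSheafify J P).app (op W)) :=
  (ConcreteCategory.isIso_iff_bijective _).2
    ⟨injective_toSheafify_app J P B hB hW, surjective_toSheafify_app J P B hB hW⟩

end Bij


section Main

variable [HasSheafify J AddCommGrpCat.{w}] [J.WEqualsLocallyBijective AddCommGrpCat.{w}]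
  [J.HasSheafCompose (forget AddCommGrpCat.{w})]
  {I : Type w} [SmallCategory I] [IsFiltered I] (F : I ⥤ Sheaf J AddCommGrpCat.{w})
  (B : Set C)

/-- Every covering sieve of a member of `B` contains a finite covering family whose (weak) fibre
products lie in `B`. -/
def FinCovers : Prop :=
  ∀ W ∈ B, ∀ T ∈ J W, ∃ (ι : Type w) (_ : Finite ι) (Y : ι → C) (f : ∀ i, Y i ⟶ W)
    (Z : ι → ι → C) (p₁ : ∀ i j, Z i j ⟶ Y i) (p₂ : ∀ i j, Z i j ⟶ Y j),
    (∀ i, T (f i)) ∧ Sieve.ofArrows Y f ∈ J W ∧ (∀ i j, Z i j ∈ B) ∧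
    (∀ i j, p₁ i j ≫ f i = p₂ i j ≫ f j) ∧
    ∀ i j {Z' : C} (g₁ : Z' ⟶ Y i) (g₂ : Z' ⟶ Y j), g₁ ≫ f i = g₂ ≫ f j →
      ∃ l : Z' ⟶ Z i j, l ≫ p₁ i j = g₁ ∧ l ≫ p₂ i j = g₂

variable (hB : FinCovers.{w} J B)

omit [HasSheafify J AddCommGrpCat.{w}] [J.WEqualsLocallyBijective AddCommGrpCat.{w}] in
include hB in
lemma goodCover_colimit (W : C) (hW : W ∈ B) (T : Sieve W) (hT : T ∈ J W) :
    GoodCover J (colimit (F ⋙ sheafToPresheaf J AddCommGrpCat.{w})) B W T := by
  obtain ⟨ι, _, Y, f, Z, p₁, p₂, hTf, hcov, hZ, hw, hl⟩ := hB W hW T hT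
  refine ⟨ι, Y, f, Z, p₁, p₂, hTf, hcov, hZ, hw, ?_⟩
  have hE : ∀ W' : Cᵒᵖ, IsColimit (FiltColim.evalCocone (F ⋙ sheafToPresheaf J AddCommGrpCat.{w})
      (colimit.cocone (F ⋙ sheafToPresheaf J AddCommGrpCat.{w})) W') := fun W' =>
    isColimitOfPreserves ((evaluation Cᵒᵖ AddCommGrpCat.{w}).obj W') (colimit.isColimit _)
  exact FiltColim.glue_colim (c := colimit.cocone (F ⋙ sheafToPresheaf J AddCommGrpCat.{w}))
    f p₁ p₂ hw (hE _) (fun i => hE _) (fun i j => hE _)
    (fun k x hx => sheaf_glue J (F.obj k).property f hcov p₁ p₂ hl x hx)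

include hB in
/-- Sections over a member of `B` commute with filtered colimits of abelian sheaves. -/
theorem preservesColimit_sections {V : C} (hV : V ∈ B) :
    PreservesColimit F (sheafToPresheaf J AddCommGrpCat.{w} ⋙
      (evaluation Cᵒᵖ AddCommGrpCat.{w}).obj (op V)) := by
  let G := F ⋙ sheafToPresheaf J AddCommGrpCat.{w}
  have hiso : IsIso ((toSheafify J (colimit G)).app (op V)) :=
    isIso_toSheafify_app J (colimit G) B (fun W hW T hT => goodCover_colimit J F B hB W hW T hT) hV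
  have hE : IsColimit (FiltColim.evalCocone G (colimit.cocone G) (op V)) :=
    isColimitOfPreserves ((evaluation Cᵒᵖ AddCommGrpCat.{w}).obj (op V)) (colimit.isColimit _)
  refine preservesColimit_of_preserves_colimit_cocone
    (Sheaf.isColimitSheafifyCocone (colimit.cocone G) (colimit.isColimit G))
    (IsColimit.ofIsoColimit hE (Cocone.ext (@asIso _ _ _ _ ((toSheafify J (colimit G)).app (op V)) hiso) ?_))
  intro k
  change (colimit.ι G k).app (op V) ≫ (toSheafify J (colimit G)).app (op V) =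
    ((Sheaf.sheafifyCocone (colimit.cocone G)).ι.app k).hom.app (op V)
  rw [Sheaf.sheafifyCocone_ι_app_val]
  rfl

end Main

end Groth.Agent.Lib.Helper28.FiltSheaf
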