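import Mathlib.CategoryTheory.Comma.Over.Basic
import Mathlib.CategoryTheory.Limits.Shapes.Products
import Mathlib.CategoryTheory.Limits.Shapes.FiniteProducts
import Mathlib.Data.Fin.VecNotation

/-!
# The product of two objects of `Over W` (indexed by `Fin 2`) as a weak fibre product
-/

namespace Groth.Agent.Lib.Helper28.OverPair

open CategoryTheory Limits

universe w v u

variable {C : Type u} [Category.{v} C] {W : C} [HasFiniteProducts (Over W)] {ι : Type w}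
  (Y : ι → Over W) (i j : ι)

/-- The fibre product `Y i ×_W Y j`, as the product in `Over W` indexed by `Fin 2`. -/
noncomputable abbrev Z : C := (∏ᶜ fun k : Fin (1 + 1) => Y (![i, j] k)).left

noncomputable def p₁ : Z Y i j ⟶ (Y i).left :=
  (Pi.π (fun k : Fin (1 + 1) => Y (![i, j] k)) 0).left

noncomputable def p₂ : Z Y i j ⟶ (Y j).left :=
  (Pi.π (fun k : Fin (1 + 1) => Y (![i, j] k)) 1).left

lemma w : p₁ Y i j ≫ (Y i).hom = p₂ Y i j ≫ (Y j).hom :=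
  (Over.w (Pi.π (fun k : Fin (1 + 1) => Y (![i, j] k)) 0)).trans
    (Over.w (Pi.π (fun k : Fin (1 + 1) => Y (![i, j] k)) 1)).symm

variable {Y i j}

/-- The two legs of a commutative square, as a family of morphisms in `Over W`. -/
noncomputable def legs {Z' : C} (g₁ : Z' ⟶ (Y i).left) (g₂ : Z' ⟶ (Y j).left)
    (h : g₁ ≫ (Y i).hom = g₂ ≫ (Y j).hom) :
    ∀ k : Fin (1 + 1), Over.mk (g₁ ≫ (Y i).hom) ⟶ Y (![i, j] k)
  | ⟨0, _⟩ => Over.homMk g₁ rfl
  | ⟨1, _⟩ => Over.homMk g₂ h.symm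

lemma exists_lift {Z' : C} (g₁ : Z' ⟶ (Y i).left) (g₂ : Z' ⟶ (Y j).left)
    (h : g₁ ≫ (Y i).hom = g₂ ≫ (Y j).hom) :
    ∃ l : Z' ⟶ Z Y i j, l ≫ p₁ Y i j = g₁ ∧ l ≫ p₂ Y i j = g₂ := by
  refine ⟨(Pi.lift (legs g₁ g₂ h)).left, ?_, ?_⟩
  · have e : Pi.lift (legs g₁ g₂ h) ≫ Pi.π (fun k : Fin (1 + 1) => Y (![i, j] k)) 0 =
        legs g₁ g₂ h 0 := Pi.lift_π _ _
    exact congrArg CommaMorphism.left e
  · have e : Pi.lift (legs g₁ g₂ h) ≫ Pi.π (fun k : Fin (1 + 1) => Y (![i, j] k)) 1 =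
        legs g₁ g₂ h 1 := Pi.lift_π _ _
    exact congrArg CommaMorphism.left e

end Groth.Agent.Lib.Helper28.OverPair
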