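import Groth.Agent.Lib.Helper28.ExtPsh

/-!
# Degree zero of the presheaves `U ↦ Ext^n(Φ U, -)`

If `Γ : 𝒜 ⥤ (Cᵒᵖ ⥤ Ab)` is "corepresented" by `Φ : C ⥤ 𝒜` (i.e. `Hom(Φ U, G) ≃+ Γ(G)(U)`
naturally), then `extPsh Φ 0 ≅ Γ`.
-/

namespace Groth.Agent.Lib.Helper28.ExtPsh

open CategoryTheory Limits Abelian Opposite

universe w v u v₁ u₁

variable {𝒜 : Type u} [Category.{v} 𝒜] [Abelian 𝒜] [HasExt.{w} 𝒜]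
  {C : Type u₁} [Category.{v₁} C] (Φ : C ⥤ 𝒜)

lemma addEquiv₀_mk₀ {X Y : 𝒜} (f : X ⟶ Y) : Ext.addEquiv₀ (Ext.mk₀ f) = f := by
  rw [← Ext.addEquiv₀_symm_apply, AddEquiv.apply_symm_apply]

lemma addEquiv₀_mk₀_comp {X' X Y : 𝒜} (a : X' ⟶ X) (x : Ext X Y 0) :
    Ext.addEquiv₀ ((Ext.mk₀ a).comp x (zero_add 0)) = a ≫ Ext.addEquiv₀ x := by
  obtain ⟨y, rfl⟩ := (Ext.mk₀_bijective X Y).2 x
  rw [Ext.mk₀_comp_mk₀, addEquiv₀_mk₀, addEquiv₀_mk₀]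

lemma addEquiv₀_comp_mk₀ {X Y Y' : 𝒜} (x : Ext X Y 0) (b : Y ⟶ Y') :
    Ext.addEquiv₀ (x.comp (Ext.mk₀ b) (add_zero 0)) = Ext.addEquiv₀ x ≫ b := by
  obtain ⟨y, rfl⟩ := (Ext.mk₀_bijective X Y).2 x
  rw [Ext.mk₀_comp_mk₀, addEquiv₀_mk₀, addEquiv₀_mk₀]

variable (Γ : 𝒜 ⥤ Cᵒᵖ ⥤ AddCommGrpCat.{w})
  (σ : ∀ (U : C) (G : 𝒜), (Φ.obj U ⟶ G) ≃+ ((Γ.obj G).obj (op U)))
  (hr : ∀ (U : C) {G G' : 𝒜} (φ : G ⟶ G') (f : Φ.obj U ⟶ G),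
    σ U G' (f ≫ φ) = (Γ.map φ).app (op U) (σ U G f))
  (hl : ∀ {U V : C} (i : V ⟶ U) (G : 𝒜) (f : Φ.obj U ⟶ G),
    σ V G (Φ.map i ≫ f) = (Γ.obj G).map i.op (σ U G f))

/-- Pointwise iso `Ext^0(Φ U, G) ≅ Γ(G)(U)`. -/
noncomputable def zeroIsoApp (G : 𝒜) (U : Cᵒᵖ) :
    ((extPsh.{w} Φ 0).obj G).obj U ≅ (Γ.obj G).obj U :=
  (Ext.addEquiv₀.trans (σ U.unop G)).toAddCommGrpIso

lemma zeroIsoApp_hom_apply (G : 𝒜) (U : Cᵒᵖ) (x : Ext (Φ.obj U.unop) G 0) :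
    (zeroIsoApp Φ Γ σ G U).hom x = σ U.unop G (Ext.addEquiv₀ x) := rfl

include hl in
/-- `Ext^0(Φ -, G) ≅ Γ(G)` as presheaves. -/
noncomputable def zeroIsoObj (G : 𝒜) : (extPsh.{w} Φ 0).obj G ≅ Γ.obj G :=
  NatIso.ofComponents (fun U => zeroIsoApp Φ Γ σ G U) (by
    intro U V f
    refine AddCommGrpCat.hom_ext (AddMonoidHom.ext
      (fun (x : Ext (Φ.obj U.unop) G 0) => ?_))
    change (zeroIsoApp Φ Γ σ G V).hom ((Ext.mk₀ (Φ.map f.unop)).comp x (zero_add 0)) =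
      (Γ.obj G).map f ((zeroIsoApp Φ Γ σ G U).hom x)
    rw [zeroIsoApp_hom_apply, zeroIsoApp_hom_apply, addEquiv₀_mk₀_comp, hl f.unop G]
    rfl)

lemma zeroIsoObj_hom_app (G : 𝒜) (U : Cᵒᵖ) :
    (zeroIsoObj Φ Γ σ hl G).hom.app U = (zeroIsoApp Φ Γ σ G U).hom := rfl

include hr in
/-- `extPsh Φ 0 ≅ Γ`. -/
noncomputable def zeroIso : extPsh.{w} Φ 0 ≅ Γ :=
  NatIso.ofComponents (fun G => zeroIsoObj Φ Γ σ hl G) (by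
    intro G G' φ
    ext U : 2
    refine AddCommGrpCat.hom_ext (AddMonoidHom.ext
      (fun (x : Ext (Φ.obj U.unop) G 0) => ?_))
    change (zeroIsoApp Φ Γ σ G' U).hom (x.comp (Ext.mk₀ φ) (add_zero 0)) =
      (Γ.map φ).app U ((zeroIsoApp Φ Γ σ G U).hom x)
    rw [zeroIsoApp_hom_apply, zeroIsoApp_hom_apply, addEquiv₀_comp_mk₀, hr U.unop φ])

end Groth.Agent.Lib.Helper28.ExtPsh
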