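import Groth.Agent.Lib.Helper28.ExtPshDer
import Groth.Agent.Lib.Helper28.ExtPshZero
import Groth.Agent.Lib.Helper53.SiteCoh
import Groth.Prelude.Def_CohSite

namespace Groth.Agent.Lib.Helper28.RpushIso

open CategoryTheory Limits Abelian Opposite
open Groth.Agent.Lib.Helper53

universe u

variable {C : Type u} [SmallCategory C] (J : GrothendieckTopology C)

/-- The free abelian sheaf functor. -/
noncomputable abbrev freeSheaf : C ⥤ Sheaf J AddCommGrpCat.{u} :=
  yoneda ⋙ (Functor.whiskeringRight _ _ _).obj AddCommGrpCat.free ⋙ presheafToSheaf _ _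

lemma cohomologyPresheafFunctor_eq (n : ℕ) :
    Sheaf.cohomologyPresheafFunctor.{u} J n = ExtPsh.extPsh (freeSheaf J) n := rfl

/-- Morphisms out of the free sheaf on `U` are sections over `U`. -/
noncomputable def σ (U : C) (G : Sheaf J AddCommGrpCat.{u}) :
    ((freeSheaf J).obj U ⟶ G) ≃+
      (((sheafToPresheaf J AddCommGrpCat.{u}).obj G).obj (op U)) :=
  (SiteCoh.shTheta J U G).trans (SiteCoh.freePreHomAddEquiv U G.obj)

lemma σ_right (U : C) {G G' : Sheaf J AddCommGrpCat.{u}} (φ : G ⟶ G')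
    (f : (freeSheaf J).obj U ⟶ G) :
    σ J U G' (f ≫ φ) = ((sheafToPresheaf J AddCommGrpCat.{u}).map φ).app (op U) (σ J U G f) := by
  change SiteCoh.freePreHomAddEquiv U G'.obj (SiteCoh.shTheta J U G' (f ≫ φ)) = _
  rw [SiteCoh.shTheta_naturality_right, SiteCoh.freePreHomAddEquiv_naturality_right]
  rfl

lemma σ_left {U V : C} (i : V ⟶ U) (G : Sheaf J AddCommGrpCat.{u})
    (f : (freeSheaf J).obj U ⟶ G) :
    σ J V G ((freeSheaf J).map i ≫ f) =
      ((sheafToPresheaf J AddCommGrpCat.{u}).obj G).map i.op (σ J U G f) := by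
  change SiteCoh.freePreHomAddEquiv V G.obj
    (SiteCoh.shTheta J V G (SiteCoh.freeShMap J i ≫ f)) = _
  rw [SiteCoh.shTheta_naturality_left, SiteCoh.freePreHomAddEquiv_naturality_left]
  rfl

/-- `H^0(U, G) = G(U)`, naturally. -/
noncomputable def zeroIso :
    ExtPsh.extPsh.{u} (freeSheaf J) 0 ≅ sheafToPresheaf J AddCommGrpCat.{u} :=
  ExtPsh.zeroIso (freeSheaf J) (sheafToPresheaf J AddCommGrpCat.{u}) (σ J)
    (fun U _ _ φ f => σ_right J U φ f) (fun i G f => σ_left J i G f)


variable {D : Type u} [SmallCategory D] (K : GrothendieckTopology D) (u : D ⥤ C)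

/-- Restriction of presheaves along `u` followed by sheafification. -/
noncomputable abbrev E : (Cᵒᵖ ⥤ AddCommGrpCat.{u}) ⥤ Sheaf K AddCommGrpCat.{u} :=
  (Functor.whiskeringLeft Dᵒᵖ Cᵒᵖ AddCommGrpCat.{u}).obj u.op ⋙ presheafToSheaf K AddCommGrpCat.{u}

variable [u.IsContinuous K J]

instance preservesFiniteLimits_push : PreservesFiniteLimits (CohSite.push J K u) := by
  have h : PreservesFiniteLimits (CohSite.push J K u ⋙ sheafToPresheaf K AddCommGrpCat.{u}) :=
    inferInstanceAs (PreservesFiniteLimits (sheafToPresheaf J AddCommGrpCat.{u} ⋙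
      (Functor.whiskeringLeft Dᵒᵖ Cᵒᵖ AddCommGrpCat.{u}).obj u.op))
  exact preservesFiniteLimits_of_reflects_of_preserves (CohSite.push J K u)
    (sheafToPresheaf K AddCommGrpCat.{u})

/-- `(sheafToPresheaf ⋙ restriction along u) ⋙ sheafification ≅ u_*`. -/
noncomputable def pushIso :
    sheafToPresheaf J AddCommGrpCat.{u} ⋙ E K u ≅ CohSite.push J K u :=
  NatIso.ofComponents
    (fun G => (asIso (sheafificationAdjunction K AddCommGrpCat.{u}).counit).app
      ((CohSite.push J K u).obj G))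
    (fun {G G'} φ => (sheafificationAdjunction K AddCommGrpCat.{u}).counit.naturality
      ((CohSite.push J K u).map φ))

/-- `R^p u_* ≅ (V ↦ H^p(u V, -))^#`, naturally. -/
theorem nonempty_natIso (p : ℕ) :
    Nonempty (ExtPsh.extPsh.{u} (freeSheaf J) p ⋙ E K u ≅ CohSite.Rpush J K u p) :=
  ExtPshDer.nonempty_iso_rightDerived (freeSheaf J) (E K u) (CohSite.push J K u)
    (Functor.isoWhiskerRight (zeroIso J) (E K u) ≪≫ pushIso J K u) p

end Groth.Agent.Lib.Helper28.RpushIso
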