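import Mathlib.CategoryTheory.Sites.SheafCohomology.Basic
import Mathlib.CategoryTheory.Sites.Abelian
import Mathlib.CategoryTheory.Sites.Adjunction
import Mathlib.CategoryTheory.Sites.Limits
import Mathlib.CategoryTheory.Sites.LeftExact
import Mathlib.CategoryTheory.Sites.ConcreteSheafification
import Mathlib.Algebra.Category.Grp.Abelian
import Mathlib.Algebra.Category.Grp.FilteredColimits
import Mathlib.Algebra.Category.Grp.Adjunctions
import Mathlib.Algebra.Homology.DerivedCategory.Ext.ExactSequences
import Mathlib.Algebra.Homology.DerivedCategory.Ext.EnoughInjectives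
import Mathlib.CategoryTheory.Abelian.GrothendieckCategory.HasExt
import Mathlib.CategoryTheory.Abelian.GrothendieckCategory.EnoughInjectives
import Mathlib.CategoryTheory.Sites.Equivalence
import Groth.Prelude.Def_CohSite

namespace Groth.Agent.Lib.Helper28.Cartan

open CategoryTheory Limits Opposite Abelian

universe u

variable {C : Type u} [SmallCategory C] (J : GrothendieckTopology C)

/-- The free abelian sheaf on the representable presheaf of `U`. -/
noncomputable abbrev freeSh (U : C) : Sheaf J AddCommGrpCat.{u} :=
  (presheafToSheaf J AddCommGrpCat.{u}).obj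
    (((Functor.whiskeringRight Cᵒᵖ _ _).obj AddCommGrpCat.free.{u}).obj (yoneda.obj U))

/-- Morphisms out of the free abelian sheaf on `U` are sections over `U`. -/
noncomputable def homEquivSections (U : C) (P : Sheaf J AddCommGrpCat.{u}) :
    (freeSh J U ⟶ P) ≃ P.obj.obj (op U) :=
  ((sheafificationAdjunction J AddCommGrpCat.{u}).homEquiv _ P).trans
    (((AddCommGrpCat.adj.{u}.whiskerRight Cᵒᵖ).homEquiv (yoneda.obj U) P.obj).trans yonedaEquiv)

lemma homEquivSections_comp (U : C) {P P' : Sheaf J AddCommGrpCat.{u}} (g : P ⟶ P')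
    (x : freeSh J U ⟶ P) :
    homEquivSections J U P' (x ≫ g) = g.hom.app (op U) (homEquivSections J U P x) := by
  unfold homEquivSections
  simp only [Equiv.trans_apply]
  rw [Adjunction.homEquiv_naturality_right, Adjunction.homEquiv_naturality_right, yonedaEquiv_comp]
  rfl

lemma surjective_comp (U : C) {P P' : Sheaf J AddCommGrpCat.{u}} (g : P ⟶ P')
    (hg : Function.Surjective (g.hom.app (op U))) (x' : freeSh J U ⟶ P') :
    ∃ x : freeSh J U ⟶ P, x ≫ g = x' := by
  obtain ⟨s, hs⟩ := hg (homEquivSections J U P' x')
  refine ⟨(homEquivSections J U P).symm s, ?_⟩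
  apply (homEquivSections J U P').injective
  rw [homEquivSections_comp, Equiv.apply_symm_apply, hs]


lemma injective_obj (I : Sheaf J AddCommGrpCat.{u}) [Injective I] : Injective I.obj := by
  have : (presheafToSheaf J AddCommGrpCat.{u}).PreservesMonomorphisms := inferInstance
  exact Injective.injective_of_adjoint (sheafificationAdjunction J AddCommGrpCat.{u}) I

/-- Abstract form of Cartan's criterion: if a class of abelian sheaves contains the injectives and,
for a short exact sequence whose first two terms are in the class, contains the third and the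
sequence of sections over the objects of `B` is right exact, then the members of the class have
vanishing higher cohomology over the objects of `B`. -/
theorem cartan (B : Set C) (Pr : Sheaf J AddCommGrpCat.{u} → Prop)
    (hinj : ∀ I : Sheaf J AddCommGrpCat.{u}, Injective I → Pr I)
    (hstep : ∀ S : ShortComplex (Sheaf J AddCommGrpCat.{u}), S.ShortExact → Pr S.X₁ → Pr S.X₂ →
      (Pr S.X₃ ∧ ∀ U ∈ B, Function.Surjective (S.g.hom.app (op U)))) (p : ℕ) :
    ∀ F : Sheaf J AddCommGrpCat.{u}, Pr F → ∀ U ∈ B, ∀ x : Ext (freeSh J U) F (p + 1), x = 0 := by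
  induction p with
  | zero =>
    intro F hF U hU x
    let S : ShortComplex (Sheaf J AddCommGrpCat.{u}) :=
      ShortComplex.mk (Injective.ι F) (cokernel.π (Injective.ι F)) (cokernel.condition _)
    have hS : S.ShortExact :=
      ShortComplex.ShortExact.mk' (ShortComplex.exact_cokernel _) inferInstance inferInstance
    obtain ⟨x₃, hx₃⟩ := Ext.covariant_sequence_exact₁ (freeSh J U) hS x
      (Ext.eq_zero_of_injective _) (zero_add 1)
    obtain ⟨s, rfl⟩ := (Ext.mk₀_bijective _ _).2 x₃
    obtain ⟨t, rfl⟩ := surjective_comp J U S.g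
      ((hstep S hS hF (hinj _ inferInstance)).2 U hU) s
    rw [← hx₃, ← Ext.mk₀_comp_mk₀, Ext.comp_assoc_of_second_deg_zero, hS.comp_extClass,
      Ext.comp_zero]
  | succ p ih =>
    intro F hF U hU x
    let S : ShortComplex (Sheaf J AddCommGrpCat.{u}) :=
      ShortComplex.mk (Injective.ι F) (cokernel.π (Injective.ι F)) (cokernel.condition _)
    have hS : S.ShortExact :=
      ShortComplex.ShortExact.mk' (ShortComplex.exact_cokernel _) inferInstance inferInstance
    obtain ⟨x₃, hx₃⟩ := Ext.covariant_sequence_exact₁ (freeSh J U) hS x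
      (Ext.eq_zero_of_injective _) (rfl : (p + 1) + 1 = p + 1 + 1)
    have hQ : Pr S.X₃ := (hstep S hS hF (hinj _ inferInstance)).1
    rw [← hx₃, ih S.X₃ hQ U hU x₃, Ext.zero_comp]

end Groth.Agent.Lib.Helper28.Cartan
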