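import Groth.Prelude.Def_AlgSpRep
import Groth.Agent.S10089

set_option autoImplicit false

open CategoryTheory CategoryTheory.Limits Opposite AlgebraicGeometry

namespace Groth.Agent.Lib.Helper28.RepBySp

section Abstract

universe v' u'
variable {𝒞 : Type u'} [Category.{v'} 𝒞]

/-- the fibre product of `t, t'` over `F` computed through `X` and an equalizer of two sections -/
lemma isPullback_of_sections {F X T T' Q A E : 𝒞} {φ : F ⟶ X} {t : T ⟶ F} {t' : T' ⟶ F}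
    {q : Q ⟶ T} {q' : Q ⟶ T'} (sqQ : IsPullback q q' (t ≫ φ) (t' ≫ φ))
    {pr₁ : A ⟶ F} {pr₂ : A ⟶ Q} (sqA : IsPullback pr₁ pr₂ φ (q ≫ t ≫ φ))
    {σ τ : Q ⟶ A} (hσ₁ : σ ≫ pr₁ = q ≫ t) (hσ₂ : σ ≫ pr₂ = 𝟙 Q)
    (hτ₁ : τ ≫ pr₁ = q' ≫ t') (hτ₂ : τ ≫ pr₂ = 𝟙 Q)
    {e e' : E ⟶ Q} (sqE : IsPullback e e' σ τ) :
    IsPullback (e ≫ q) (e' ≫ q') t t' := by
  have hee : e = e' := by
    have := congrArg (· ≫ pr₂) sqE.w
    simpa [hσ₂, hτ₂] using this
  have hw : (e ≫ q) ≫ t = (e' ≫ q') ≫ t' := by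
    have := congrArg (· ≫ pr₁) sqE.w
    simpa [hσ₁, hτ₁] using this
  refine ⟨⟨hw⟩, ⟨PullbackCone.IsLimit.mk _ ?_ ?_ ?_ ?_⟩⟩
  · intro c
    have hc : c.fst ≫ t ≫ φ = c.snd ≫ t' ≫ φ := by
      rw [← Category.assoc, c.condition, Category.assoc]
    refine sqE.lift (sqQ.lift c.fst c.snd hc) (sqQ.lift c.fst c.snd hc) ?_
    apply sqA.hom_ext
    · simp [hσ₁, hτ₁, c.condition]
    · simp [hσ₂, hτ₂]
  · intro c
    simp
  · intro c
    simp
  · intro c m h₁ h₂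
    have hc : c.fst ≫ t ≫ φ = c.snd ≫ t' ≫ φ := by
      rw [← Category.assoc, c.condition, Category.assoc]
    have hm : m ≫ e = sqQ.lift c.fst c.snd hc := by
      apply sqQ.hom_ext
      · simpa using h₁
      · rw [hee]; simpa using h₂
    have hm' : m ≫ e' = sqQ.lift c.fst c.snd hc := by rw [← hm, hee]
    apply sqE.hom_ext
    · simpa using hm
    · simpa using hm'

end Abstract

section Core

universe u
variable {S : Scheme.{u}}

theorem representable_diag_of_repBySp {Fs X : AlgSp.Sp S} (φ : Fs ⟶ X)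
    (hφ : AlgSp.RepBySp φ.hom) (hX : AlgSp.Representable (Limits.diag X)) :
    AlgSp.Representable (Limits.diag Fs) := by
  apply Functor.relativelyRepresentable.diag_of_map_from_obj
  intro T t T' t'
  obtain ⟨Q, q', q, sqQ⟩ := (Functor.relativelyRepresentable.of_diag hX (t ≫ φ)) (t' ≫ φ)
  have sqA := IsPullback.of_hasPullback φ (q ≫ t ≫ φ)
  have hA : AlgSp.IsAlgSpace (pullback φ (q ≫ t ≫ φ)) :=
    (AlgSp.repBySp_hom_iff φ).mp hφ _ _ _ sqA
  have hσ : (q ≫ t) ≫ φ = 𝟙 _ ≫ q ≫ t ≫ φ := by simp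
  have hτ : ((AlgSp.yon S).map q' ≫ t') ≫ φ = 𝟙 _ ≫ q ≫ t ≫ φ := by
    simp only [Category.assoc, Category.id_comp]
    exact sqQ.w.symm
  obtain ⟨E, e', e, sqE⟩ := (Functor.relativelyRepresentable.of_diag hA.diag
    (pullback.lift (q ≫ t) (𝟙 _) hσ)) (pullback.lift ((AlgSp.yon S).map q' ≫ t') (𝟙 _) hτ)
  refine ⟨E, e' ≫ q', e ≫ q, ?_⟩
  rw [Functor.map_comp]
  exact isPullback_of_sections sqQ sqA (pullback.lift_fst _ _ _) (pullback.lift_snd _ _ _)
    (pullback.lift_fst _ _ _) (pullback.lift_snd _ _ _) sqE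

theorem isAlgSpace_of_repBySp {Fs X : AlgSp.Sp S} (φ : Fs ⟶ X)
    (hφ : AlgSp.RepBySp φ.hom) (hX : AlgSp.IsAlgSpace X) : AlgSp.IsAlgSpace Fs := by
  refine ⟨representable_diag_of_repBySp φ hφ hX.diag, ?_⟩
  obtain ⟨U, p, hp1, hp2⟩ := hX.atlas
  have hW : AlgSp.IsAlgSpace (pullback φ p) :=
    (AlgSp.repBySp_hom_iff φ).mp hφ _ _ _ (IsPullback.of_hasPullback φ p)
  obtain ⟨V, r, hr1, hr2⟩ := hW.atlas
  have i1 := AlgSp.repWith_isStableUnderBaseChange (S := S) (@Etale : MorphismProperty Scheme.{u})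
  have i2 := AlgSp.repWith_isMultiplicative (S := S) (@Etale : MorphismProperty Scheme.{u})
  have i3 := AlgSp.repWith_isStableUnderBaseChange (S := S)
    (@Surjective : MorphismProperty Scheme.{u})
  have i4 := AlgSp.repWith_isMultiplicative (S := S) (@Surjective : MorphismProperty Scheme.{u})
  refine ⟨V, r ≫ pullback.fst φ p, ?_, ?_⟩
  · exact i2.comp_mem _ _ hr1 (i1.of_isPullback (IsPullback.of_hasPullback φ p).flip hp1)
  · exact i4.comp_mem _ _ hr2 (i3.of_isPullback (IsPullback.of_hasPullback φ p).flip hp2)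

theorem isAlgSpaceP_of_repBySp {F : AlgSp.PSp S} {X : AlgSp.Sp S} (a : F ⟶ X.obj)
    (ha : AlgSp.RepBySp a) (hX : AlgSp.IsAlgSpace X) : AlgSp.IsAlgSpaceP F := by
  have hF : Presheaf.IsSheaf (AlgSp.J S) F := Groth.Agent.S10089.result S F X.obj a ha X.property
  exact ⟨hF, isAlgSpace_of_repBySp (Fs := ⟨F, hF⟩) (ObjectProperty.homMk a) ha hX⟩

end Core

end Groth.Agent.Lib.Helper28.RepBySp
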