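import Groth.Prelude.Def_EtGlue
import Mathlib.LinearAlgebra.TensorProduct.RightExactness
import Mathlib.RingTheory.Localization.BaseChange
import Mathlib.Tactic.Ring
import Mathlib.Tactic.LinearCombination
import Mathlib.Tactic.Abel

set_option autoImplicit false

universe u v

open TensorProduct

namespace Groth.Agent.Lib.Helper28.BL

variable {R R' : Type u} [CommRing R] [CommRing R'] [Algebra R R'] {f : R}

theorem Q1 (hq : EtGlue.QuotPowBijective R R' f) (n : ℕ) (x' : R') :
    ∃ (r : R) (s' : R'), x' = algebraMap R R' r + algebraMap R R' f ^ n * s' := by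
  rcases Nat.eq_zero_or_pos n with rfl | hn
  · exact ⟨0, x', by simp⟩
  · obtain ⟨y, hy⟩ := (hq n hn).2 (Ideal.Quotient.mk _ x')
    obtain ⟨r, rfl⟩ := Ideal.Quotient.mk_surjective y
    rw [Ideal.quotientMap_mk, Ideal.Quotient.eq, Ideal.map_span, Set.image_singleton,
      Ideal.mem_span_singleton'] at hy
    obtain ⟨a, ha⟩ := hy
    rw [map_pow] at ha
    exact ⟨r, -a, by linear_combination ha⟩

theorem Q2 (hq : EtGlue.QuotPowBijective R R' f) (n : ℕ) (r : R) (s' : R')
    (h : algebraMap R R' r = algebraMap R R' f ^ n * s') : ∃ s : R, r = f ^ n * s := by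
  rcases Nat.eq_zero_or_pos n with rfl | hn
  · exact ⟨r, by simp⟩
  · have h0 : Ideal.quotientMap (Ideal.map (algebraMap R R') (Ideal.span {f ^ n})) (algebraMap R R')
        Ideal.le_comap_map (Ideal.Quotient.mk _ r) = 0 := by
      rw [Ideal.quotientMap_mk, Ideal.Quotient.eq_zero_iff_mem, Ideal.map_span, Set.image_singleton,
        Ideal.mem_span_singleton', map_pow]
      exact ⟨s', by rw [h, mul_comm]⟩
    have h1 := (hq n hn).1 (h0.trans (map_zero _).symm)
    rw [Ideal.Quotient.eq_zero_iff_mem, Ideal.mem_span_singleton'] at h1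
    obtain ⟨a, ha⟩ := h1
    exact ⟨a, by rw [← ha, mul_comm]⟩

section FactB

variable (hq : EtGlue.QuotPowBijective R R' f) {T : Type v} [AddCommGroup T] [Module R T]
  (hT : ∀ t : T, ∃ n : ℕ, f ^ n • t = 0)

noncomputable def actFun (x' : R') (t : T) : T :=
  (Classical.choose (Q1 hq (Classical.choose (hT t)) x')) • t

include hq hT in
theorem actFun_eq (x' : R') (t : T) (n : ℕ) (r : R) (s' : R') (hn : f ^ n • t = 0)
    (hr : x' = algebraMap R R' r + algebraMap R R' f ^ n * s') : actFun hq hT x' t = r • t := by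
  unfold actFun
  set n0 := Classical.choose (hT t) with hn0def
  have hn0 : f ^ n0 • t = 0 := Classical.choose_spec (hT t)
  set r0 := Classical.choose (Q1 hq n0 x') with hr0def
  obtain ⟨s0, hs0⟩ := Classical.choose_spec (Q1 hq n0 x')
  rw [← hr0def] at hs0
  rw [← sub_eq_zero, ← sub_smul]
  rcases le_total n n0 with hle | hle
  · obtain ⟨d, hd⟩ := Nat.exists_eq_add_of_le hle
    have e1 : algebraMap R R' (r0 - r) = algebraMap R R' f ^ n * (s' - algebraMap R R' f ^ d * s0) := by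
      rw [map_sub]
      have : algebraMap R R' f ^ n0 = algebraMap R R' f ^ n * algebraMap R R' f ^ d := by
        rw [hd, pow_add]
      rw [this] at hs0
      linear_combination hr - hs0
    obtain ⟨s, hs⟩ := Q2 hq n _ _ e1
    rw [hs, mul_comm, mul_smul, hn, smul_zero]
  · obtain ⟨d, hd⟩ := Nat.exists_eq_add_of_le hle
    have e1 : algebraMap R R' (r0 - r) = algebraMap R R' f ^ n0 * (algebraMap R R' f ^ d * s' - s0) := by
      rw [map_sub]
      have : algebraMap R R' f ^ n = algebraMap R R' f ^ n0 * algebraMap R R' f ^ d := by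
        rw [hd, pow_add]
      rw [this] at hr
      linear_combination hr - hs0
    obtain ⟨s, hs⟩ := Q2 hq n0 _ _ e1
    rw [hs, mul_comm, mul_smul, hn0, smul_zero]

noncomputable def actBil : R' →ₗ[R] T →ₗ[R] T :=
  LinearMap.mk₂ R (actFun hq hT)
    (by
      intro x1 x2 t
      obtain ⟨n, hn⟩ := hT t
      obtain ⟨r1, s1, h1⟩ := Q1 hq n x1
      obtain ⟨r2, s2, h2⟩ := Q1 hq n x2
      rw [actFun_eq hq hT x1 t n r1 s1 hn h1, actFun_eq hq hT x2 t n r2 s2 hn h2,
        actFun_eq hq hT (x1 + x2) t n (r1 + r2) (s1 + s2) hn (by rw [h1, h2, map_add]; ring),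
        add_smul])
    (by
      intro c x t
      obtain ⟨n, hn⟩ := hT t
      obtain ⟨r1, s1, h1⟩ := Q1 hq n x
      rw [actFun_eq hq hT x t n r1 s1 hn h1,
        actFun_eq hq hT (c • x) t n (c * r1) (algebraMap R R' c * s1) hn
          (by rw [Algebra.smul_def, h1, map_mul]; ring), mul_smul])
    (by
      intro x t1 t2
      obtain ⟨n1, hn1⟩ := hT t1
      obtain ⟨n2, hn2⟩ := hT t2
      have h1 : f ^ (n1 + n2) • t1 = 0 := by rw [pow_add, mul_comm, mul_smul, hn1, smul_zero]
      have h2 : f ^ (n1 + n2) • t2 = 0 := by rw [pow_add, mul_smul, hn2, smul_zero]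
      have h12 : f ^ (n1 + n2) • (t1 + t2) = 0 := by rw [smul_add, h1, h2, add_zero]
      obtain ⟨r, s, h⟩ := Q1 hq (n1 + n2) x
      rw [actFun_eq hq hT x t1 _ r s h1 h, actFun_eq hq hT x t2 _ r s h2 h,
        actFun_eq hq hT x (t1 + t2) _ r s h12 h, smul_add])
    (by
      intro c x t
      obtain ⟨n, hn⟩ := hT t
      have hn' : f ^ n • (c • t) = 0 := by rw [smul_comm, hn, smul_zero]
      obtain ⟨r, s, h⟩ := Q1 hq n x
      rw [actFun_eq hq hT x t n r s hn h, actFun_eq hq hT x (c • t) n r s hn' h, smul_comm])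

noncomputable def actLin : R' ⊗[R] T →ₗ[R] T := TensorProduct.lift (actBil hq hT)

theorem actLin_tmul (x' : R') (t : T) : actLin hq hT (x' ⊗ₜ[R] t) = actFun hq hT x' t := by
  simp [actLin, actBil]

theorem actLin_one_tmul (t : T) : actLin hq hT ((1 : R') ⊗ₜ[R] t) = t := by
  obtain ⟨n, hn⟩ := hT t
  rw [actLin_tmul, actFun_eq hq hT 1 t n 1 0 hn (by simp), one_smul]

include hq hT in
theorem tmul_eq_one_tmul (x' : R') (t : T) : ∃ t' : T, x' ⊗ₜ[R] t = (1 : R') ⊗ₜ[R] t' := by
  obtain ⟨n, hn⟩ := hT t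
  obtain ⟨r, s, h⟩ := Q1 hq n x'
  refine ⟨r • t, ?_⟩
  rw [h, add_tmul, ← map_pow, ← Algebra.smul_def, smul_tmul, hn, tmul_zero, add_zero,
    Algebra.algebraMap_eq_smul_one, smul_tmul]

include hq hT in
theorem factB : Function.Bijective (fun t : T => (1 : R') ⊗ₜ[R] t) := by
  constructor
  · intro t1 t2 h
    have := congrArg (actLin hq hT) h
    simpa [actLin_one_tmul] using this
  · intro x
    induction x using TensorProduct.induction_on with
    | zero => exact ⟨0, by simp⟩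
    | tmul x' t =>
      obtain ⟨t', ht'⟩ := tmul_eq_one_tmul hq hT x' t
      exact ⟨t', ht'.symm⟩
    | add a b ha hb =>
      obtain ⟨t1, h1⟩ := ha
      obtain ⟨t2, h2⟩ := hb
      exact ⟨t1 + t2, by simp only [tmul_add]; rw [← h1, ← h2]⟩

end FactB

section Modules

variable (hq : EtGlue.QuotPowBijective R R' f) (M : Type v) [AddCommGroup M] [Module R M]

include hq in
theorem M1 (n : ℕ) (x : R' ⊗[R] M) :
    ∃ (m : M) (y : R' ⊗[R] M), x = (1 : R') ⊗ₜ[R] m + f ^ n • y := by
  induction x using TensorProduct.induction_on with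
  | zero => exact ⟨0, 0, by simp⟩
  | tmul x' m =>
    obtain ⟨r, s, h⟩ := Q1 hq n x'
    refine ⟨r • m, s ⊗ₜ m, ?_⟩
    rw [h, add_tmul, ← map_pow, ← Algebra.smul_def, ← smul_tmul', Algebra.algebraMap_eq_smul_one,
      smul_tmul]
  | add a b ha hb =>
    obtain ⟨m1, y1, h1⟩ := ha
    obtain ⟨m2, y2, h2⟩ := hb
    exact ⟨m1 + m2, y1 + y2, by rw [h1, h2, tmul_add, smul_add]; abel⟩

include hq in
theorem M2 (n : ℕ) (m : M) (y : R' ⊗[R] M) (h : (1 : R') ⊗ₜ[R] m = f ^ n • y) :
    ∃ m1 : M, m = f ^ n • m1 := by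
  let N : Submodule R M := LinearMap.range (LinearMap.lsmul R M (f ^ n))
  have hkill : ∀ t : M ⧸ N, f ^ n • t = 0 := by
    intro t
    obtain ⟨m0, rfl⟩ := N.mkQ_surjective t
    rw [← map_smul, Submodule.mkQ_apply, Submodule.Quotient.mk_eq_zero]
    exact ⟨m0, rfl⟩
  have hT : ∀ t : M ⧸ N, ∃ k : ℕ, f ^ k • t = 0 := fun t => ⟨n, hkill t⟩
  have h1 := congrArg (LinearMap.lTensor R' N.mkQ) h
  rw [LinearMap.lTensor_tmul, map_smul] at h1
  have h2 := congrArg (actLin hq hT) h1
  rw [actLin_one_tmul, map_smul, hkill, Submodule.mkQ_apply, Submodule.Quotient.mk_eq_zero] at h2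
  obtain ⟨m1, hm1⟩ := h2
  exact ⟨m1, hm1.symm⟩

end Modules

section TS

noncomputable def iP : R →ₗ[R] (R' × Localization.Away f) :=
  (Algebra.linearMap R R').prod (Algebra.linearMap R (Localization.Away f))

theorem awayMap_algebraMap (r : R) :
    Localization.awayMap (algebraMap R R') f (algebraMap R (Localization.Away f) r) =
      algebraMap R' (Localization.Away (algebraMap R R' f)) (algebraMap R R' r) := by
  simp [Localization.awayMap, IsLocalization.Away.map]

noncomputable def awayLin : Localization.Away f →ₗ[R] Localization.Away (algebraMap R R' f) :=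
  { toFun := Localization.awayMap (algebraMap R R') f
    map_add' := map_add _
    map_smul' := fun c y => by
      simp only [RingHom.id_apply, Algebra.smul_def, map_mul, awayMap_algebraMap]
      rw [IsScalarTower.algebraMap_apply R R' (Localization.Away (algebraMap R R' f))] }

noncomputable def gP : (R' × Localization.Away f) →ₗ[R] Localization.Away (algebraMap R R' f) :=
  ((Algebra.linearMap R' (Localization.Away (algebraMap R R' f))).restrictScalars R).coprod
    (-awayLin)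

theorem gP_apply (p : R' × Localization.Away f) :
    gP p = algebraMap R' (Localization.Away (algebraMap R R' f)) p.1 -
      Localization.awayMap (algebraMap R R') f p.2 := by
  simp [gP, awayLin, sub_eq_add_neg]

theorem exact_iP_gP (h : EtGlue.IsGlueingPair R R' f) :
    Function.Exact (iP (R := R) (R' := R') (f := f)) gP := by
  intro p
  constructor
  · intro hp
    rw [gP_apply, sub_eq_zero] at hp
    obtain ⟨r, h1, h2⟩ := h.2.2.1 p.1 p.2 hp
    exact ⟨r, Prod.ext h1 h2⟩
  · rintro ⟨r, rfl⟩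
    rw [gP_apply, sub_eq_zero]
    simp [iP, awayMap_algebraMap]

theorem surjective_gP (h : EtGlue.IsGlueingPair R R' f) :
    Function.Surjective (gP (R := R) (R' := R') (f := f)) := by
  intro z
  obtain ⟨x, y, hxy⟩ := h.2.2.2 z
  exact ⟨(x, y), by rw [gP_apply]; exact hxy⟩

theorem smul_pow_injective_away (M : Type v) [AddCommGroup M] [Module R M] (n : ℕ)
    (w : Localization.Away (algebraMap R R' f) ⊗[R] M) (hw : f ^ n • w = 0) : w = 0 := by
  have hu : IsUnit (algebraMap R (Localization.Away (algebraMap R R' f)) (f ^ n)) := by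
    rw [IsScalarTower.algebraMap_apply R R' (Localization.Away (algebraMap R R' f)), map_pow, map_pow]
    exact (IsLocalization.Away.algebraMap_isUnit (algebraMap R R' f)).pow n
  rw [← algebraMap_smul (Localization.Away (algebraMap R R' f)) (f ^ n) w] at hw
  exact (hu.smul_left_cancel).mp (hw.trans (smul_zero _).symm)

theorem rTensor_snd_iP (M : Type v) [AddCommGroup M] [Module R M] (w : R ⊗[R] M) :
    ((LinearMap.snd R R' (Localization.Away f)) ∘ₗ iP).rTensor M w =
      (1 : Localization.Away f) ⊗ₜ[R] (TensorProduct.lid R M w) := by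
  induction w using TensorProduct.induction_on with
  | zero => simp
  | tmul r m => simp [iP, Algebra.algebraMap_eq_smul_one, smul_tmul]
  | add a b ha hb => simp only [map_add, tmul_add, ha, hb]

theorem rTensor_fst_iP (M : Type v) [AddCommGroup M] [Module R M] (w : R ⊗[R] M) :
    ((LinearMap.fst R R' (Localization.Away f)) ∘ₗ iP).rTensor M w =
      (1 : R') ⊗ₜ[R] (TensorProduct.lid R M w) := by
  induction w using TensorProduct.induction_on with
  | zero => simp
  | tmul r m => simp [iP, Algebra.algebraMap_eq_smul_one, smul_tmul]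
  | add a b ha hb => simp only [map_add, tmul_add, ha, hb]

theorem TS (h : EtGlue.IsGlueingPair R R' f) (M : Type v) [AddCommGroup M] [Module R M]
    (x : R' ⊗[R] M) (n : ℕ) (hx : f ^ n • x = 0) :
    ∃ m : M, (∃ k : ℕ, f ^ k • m = 0) ∧ (1 : R') ⊗ₜ[R] m = x := by
  have hex := rTensor_exact M (exact_iP_gP h) (surjective_gP h)
  set z : (R' × Localization.Away f) ⊗[R] M :=
    (LinearMap.inl R R' (Localization.Away f)).rTensor M x with hz
  have hz0 : (gP (R := R) (R' := R') (f := f)).rTensor M z = 0 := by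
    apply smul_pow_injective_away M n
    rw [hz, ← LinearMap.rTensor_comp_apply, ← map_smul, hx, map_zero]
  obtain ⟨w, hw⟩ := (hex z).mp hz0
  refine ⟨TensorProduct.lid R M w, ?_, ?_⟩
  · have h2 := congrArg ((LinearMap.snd R R' (Localization.Away f)).rTensor M) hw
    rw [hz, ← LinearMap.rTensor_comp_apply, ← LinearMap.rTensor_comp_apply] at h2
    have e1 : (LinearMap.snd R R' (Localization.Away f)) ∘ₗ (LinearMap.inl R R' (Localization.Away f)) = 0 := by
      ext; simp
    rw [e1, LinearMap.rTensor_zero, LinearMap.zero_apply] at h2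
    rw [rTensor_snd_iP] at h2
    have := (IsLocalizedModule.eq_zero_iff (Submonoid.powers f)
      (TensorProduct.mk R (Localization.Away f) M 1)).mp h2
    obtain ⟨⟨_, k, rfl⟩, hk⟩ := this
    exact ⟨k, hk⟩
  · have h1 := congrArg ((LinearMap.fst R R' (Localization.Away f)).rTensor M) hw
    rw [hz, ← LinearMap.rTensor_comp_apply, ← LinearMap.rTensor_comp_apply] at h1
    have e1 : (LinearMap.fst R R' (Localization.Away f)) ∘ₗ (LinearMap.inl R R' (Localization.Away f)) =
        LinearMap.id := by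
      ext; simp
    rw [e1, LinearMap.rTensor_id, LinearMap.id_apply] at h1
    rw [← h1, rTensor_fst_iP]

end TS

section Glueable

variable (hq : EtGlue.QuotPowBijective R R' f) (M : Type u) [AddCommGroup M] [Module R M]

theorem mk_eq_zero_iff (m : M) :
    LocalizedModule.mkLinearMap (Submonoid.powers f) M m = 0 ↔ ∃ n : ℕ, f ^ n • m = 0 := by
  rw [IsLocalizedModule.eq_zero_iff (Submonoid.powers f)]
  constructor
  · rintro ⟨⟨_, n, rfl⟩, h⟩
    exact ⟨n, h⟩
  · rintro ⟨n, h⟩
    exact ⟨⟨_, n, rfl⟩, h⟩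

theorem TI_of_glueable (hM : EtGlue.IsGlueable R R' f M) (m : M) (hm : ∃ n : ℕ, f ^ n • m = 0)
    (h0 : (1 : R') ⊗ₜ[R] m = 0) : m = 0 := by
  apply hM.1
  simp only [Prod.mk.injEq, tmul_zero, map_zero]
  exact ⟨h0, (mk_eq_zero_iff M m).mpr hm⟩

theorem TS_of_glueable (hM : EtGlue.IsGlueable R R' f M) (x : R' ⊗[R] M)
    (hx : ∃ n : ℕ, f ^ n • x = 0) :
    ∃ m : M, (∃ n : ℕ, f ^ n • m = 0) ∧ (1 : R') ⊗ₜ[R] m = x := by
  have h0 : EtGlue.locOfTensor R R' f M x = EtGlue.tensorOfLoc R R' f M 0 := by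
    rw [map_zero]
    exact (mk_eq_zero_iff (R' ⊗[R] M) x).mpr hx
  obtain ⟨m, h1, h2⟩ := hM.2 x 0 h0
  exact ⟨m, (mk_eq_zero_iff M m).mp h2, h1⟩

include hq in
theorem glueable_of
    (hTI : ∀ m : M, (∃ n : ℕ, f ^ n • m = 0) → (1 : R') ⊗ₜ[R] m = 0 → m = 0)
    (hTS : ∀ x : R' ⊗[R] M, (∃ n : ℕ, f ^ n • x = 0) →
      ∃ m : M, (∃ n : ℕ, f ^ n • m = 0) ∧ (1 : R') ⊗ₜ[R] m = x) :
    EtGlue.IsGlueable R R' f M := by
  constructor
  · intro m1 m2 h
    simp only [Prod.mk.injEq] at h
    have h1 : (1 : R') ⊗ₜ[R] (m1 - m2) = 0 := by rw [tmul_sub, h.1, sub_self]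
    have h2 : LocalizedModule.mkLinearMap (Submonoid.powers f) M (m1 - m2) = 0 := by
      rw [map_sub, h.2, sub_self]
    exact sub_eq_zero.mp (hTI _ ((mk_eq_zero_iff M _).mp h2) h1)
  · intro x y hxy
    obtain ⟨⟨a, ⟨_, n, rfl⟩⟩, ha⟩ := IsLocalizedModule.surj (Submonoid.powers f)
      (LocalizedModule.mkLinearMap (Submonoid.powers f) M) y
    simp only [Submonoid.smul_def] at ha
    have e1 : EtGlue.locOfTensor R R' f M (f ^ n • x) =
        EtGlue.locOfTensor R R' f M ((1 : R') ⊗ₜ[R] a) := by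
      rw [map_smul, hxy, ← map_smul, ha]
      exact IsLocalizedModule.map_apply _ _ _ _ _
    obtain ⟨⟨_, k, rfl⟩, hk⟩ := (IsLocalizedModule.eq_iff_exists (Submonoid.powers f)
      (LocalizedModule.mkLinearMap (Submonoid.powers f) (R' ⊗[R] M))).mp e1
    simp only [Submonoid.smul_def] at hk
    obtain ⟨t, ht, ht1⟩ := hTS (f ^ n • x - (1 : R') ⊗ₜ[R] a) ⟨k, by rw [smul_sub, hk, sub_self]⟩
    have e2 : (1 : R') ⊗ₜ[R] (a + t) = f ^ n • x := by rw [tmul_add, ht1]; abel
    obtain ⟨b, hb⟩ := M2 hq M n (a + t) x e2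
    obtain ⟨s, hs, hs1⟩ := hTS (x - (1 : R') ⊗ₜ[R] b)
      ⟨n, by rw [smul_sub, ← tmul_smul, ← hb, e2, sub_self]⟩
    refine ⟨b + s, by rw [tmul_add, hs1]; abel, ?_⟩
    rw [map_add, (mk_eq_zero_iff M s).mpr hs, add_zero]
    apply IsLocalizedModule.smul_injective (LocalizedModule.mkLinearMap (Submonoid.powers f) M)
      (⟨f ^ n, n, rfl⟩ : Submonoid.powers f)
    simp only [Submonoid.smul_def]
    rw [ha, ← map_smul, ← hb, map_add, (mk_eq_zero_iff M t).mpr ht, add_zero]

include hq in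
theorem glueable_iff :
    EtGlue.IsGlueable R R' f M ↔
      ((∀ m : M, (∃ n : ℕ, f ^ n • m = 0) → (1 : R') ⊗ₜ[R] m = 0 → m = 0) ∧
       (∀ x : R' ⊗[R] M, (∃ n : ℕ, f ^ n • x = 0) →
          ∃ m : M, (∃ n : ℕ, f ^ n • m = 0) ∧ (1 : R') ⊗ₜ[R] m = x)) :=
  ⟨fun hM => ⟨TI_of_glueable M hM, TS_of_glueable M hM⟩, fun h => glueable_of hq M h.1 h.2⟩

theorem glueable_iff_of_glueingPair (h : EtGlue.IsGlueingPair R R' f) :
    EtGlue.IsGlueable R R' f M ↔
      ∀ m : M, (∃ n : ℕ, f ^ n • m = 0) → (1 : R') ⊗ₜ[R] m = 0 → m = 0 :=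
  ⟨fun hM => TI_of_glueable M hM, fun hTI => glueable_of h.1 M hTI
    (fun x ⟨n, hx⟩ => TS h M x n hx)⟩

end Glueable

section Rings

theorem loc_eq_zero_iff (x : R) :
    algebraMap R (Localization.Away f) x = 0 ↔ ∃ n : ℕ, f ^ n * x = 0 := by
  rw [IsLocalization.map_eq_zero_iff (Submonoid.powers f)]
  constructor
  · rintro ⟨⟨_, n, rfl⟩, h⟩
    exact ⟨n, h⟩
  · rintro ⟨n, h⟩
    exact ⟨⟨_, n, rfl⟩, h⟩

theorem torsion_inj_of_glueingPair (h : EtGlue.IsGlueingPair R R' f) (x : R)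
    (hx : ∃ n : ℕ, f ^ n * x = 0) (h0 : algebraMap R R' x = 0) : x = 0 := by
  apply h.2.1
  simp only [Prod.mk.injEq, map_zero]
  exact ⟨h0, (loc_eq_zero_iff x).mpr hx⟩

theorem torsion_surj_of_glueingPair (h : EtGlue.IsGlueingPair R R' f) (x' : R')
    (hx : ∃ n : ℕ, algebraMap R R' f ^ n * x' = 0) :
    ∃ x : R, (∃ n : ℕ, f ^ n * x = 0) ∧ algebraMap R R' x = x' := by
  have h0 : algebraMap R' (Localization.Away (algebraMap R R' f)) x' =
      Localization.awayMap (algebraMap R R') f 0 := by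
    rw [map_zero]
    exact (loc_eq_zero_iff x').mpr hx
  obtain ⟨r, h1, h2⟩ := h.2.2.1 x' 0 h0
  exact ⟨r, (loc_eq_zero_iff r).mp h2, h1⟩

theorem awayMap_mk' (a : R) (n : ℕ) :
    Localization.awayMap (algebraMap R R') f
      (IsLocalization.mk' (Localization.Away f) a (⟨f ^ n, n, rfl⟩ : Submonoid.powers f)) =
    IsLocalization.mk' (Localization.Away (algebraMap R R' f)) (algebraMap R R' a)
      (⟨algebraMap R R' f ^ n, n, rfl⟩ : Submonoid.powers (algebraMap R R' f)) := by
  simp only [Localization.awayMap, IsLocalization.Away.map, IsLocalization.map_mk']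
  congr 1
  ext
  simp

theorem glueingPair_of_torsion (hq : EtGlue.QuotPowBijective R R' f)
    (hTI : ∀ x : R, (∃ n : ℕ, f ^ n * x = 0) → algebraMap R R' x = 0 → x = 0)
    (hTS : ∀ x' : R', (∃ n : ℕ, algebraMap R R' f ^ n * x' = 0) →
          ∃ x : R, (∃ n : ℕ, f ^ n * x = 0) ∧ algebraMap R R' x = x') :
    EtGlue.IsGlueingPair R R' f := by
  refine ⟨hq, ?_, ?_, ?_⟩
  · intro r1 r2 h
    simp only [Prod.mk.injEq] at h
    have h1 : algebraMap R R' (r1 - r2) = 0 := by rw [map_sub, h.1, sub_self]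
    have h2 : algebraMap R (Localization.Away f) (r1 - r2) = 0 := by rw [map_sub, h.2, sub_self]
    exact sub_eq_zero.mp (hTI _ ((loc_eq_zero_iff _).mp h2) h1)
  · intro x y hxy
    obtain ⟨a, ⟨_, n, rfl⟩, rfl⟩ := IsLocalization.exists_mk'_eq (Submonoid.powers f) y
    rw [awayMap_mk', IsLocalization.eq_mk'_iff_mul_eq, ← map_mul,
      IsLocalization.eq_iff_exists (Submonoid.powers (algebraMap R R' f))] at hxy
    obtain ⟨⟨_, k, rfl⟩, hk⟩ := hxy
    simp only at hk
    obtain ⟨t, ht, ht1⟩ := hTS (algebraMap R R' f ^ n * x - algebraMap R R' a)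
      ⟨k, by rw [mul_sub, ← hk]; ring⟩
    have e2 : algebraMap R R' (a + t) = algebraMap R R' f ^ n * x := by rw [map_add, ht1]; ring
    obtain ⟨b, hb⟩ := Q2 hq n _ _ e2
    obtain ⟨s, hs, hs1⟩ := hTS (x - algebraMap R R' b)
      ⟨n, by rw [mul_sub, ← e2, hb, map_mul, map_pow, sub_self]⟩
    refine ⟨b + s, by rw [map_add, hs1]; ring, ?_⟩
    rw [IsLocalization.eq_mk'_iff_mul_eq, ← map_mul, add_mul]
    have e3 : b * f ^ n = a + t := by rw [hb, mul_comm]
    rw [e3, map_add, map_add, map_mul, (loc_eq_zero_iff s).mpr hs, (loc_eq_zero_iff t).mpr ht,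
      zero_mul, add_zero, add_zero]
  · intro z
    obtain ⟨x', ⟨_, n, rfl⟩, rfl⟩ :=
      IsLocalization.exists_mk'_eq (Submonoid.powers (algebraMap R R' f)) z
    obtain ⟨r, s', hr⟩ := Q1 hq n x'
    refine ⟨s', -(IsLocalization.mk' (Localization.Away f) r
      (⟨f ^ n, n, rfl⟩ : Submonoid.powers f)), ?_⟩
    rw [map_neg, awayMap_mk', sub_neg_eq_add, IsLocalization.eq_mk'_iff_mul_eq, add_mul,
      IsLocalization.mk'_spec, hr, map_add, map_mul, map_pow]
    ring

end Rings

end Groth.Agent.Lib.Helper28.BL
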