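import Mathlib.RingTheory.Flat.Equalizer
import Mathlib.RingTheory.Flat.Stability
import Mathlib.RingTheory.Flat.Tensor
import Mathlib.LinearAlgebra.TensorProduct.RightExactness
import Mathlib.RingTheory.Localization.BaseChange

set_option autoImplicit false

universe u v w

open TensorProduct

namespace Groth.Agent.Lib.Helper28.FlatBC

variable {R : Type u} [CommRing R] (A : Type v) [CommRing A] [Algebra R A]
  (M : Type w) [AddCommGroup M] [Module R M]

theorem rTensor_injective_of_flat_baseChange [Module.Flat A (A ⊗[R] M)]
    {X Y : Type*} [AddCommGroup X] [AddCommGroup Y] [Module R X] [Module R Y] [Module A X] [Module A Y]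
    [IsScalarTower R A X] [IsScalarTower R A Y] (u : X →ₗ[A] Y) (hu : Function.Injective u) :
    Function.Injective ((u.restrictScalars R).rTensor M) := by
  have h1 : Function.Injective (u.rTensor (A ⊗[R] M)) :=
    Module.Flat.rTensor_preserves_injective_linearMap u hu
  have hnat : ∀ z : X ⊗[A] (A ⊗[R] M),
      (AlgebraTensorModule.cancelBaseChange R A A Y M) (u.rTensor (A ⊗[R] M) z) =
        ((u.restrictScalars R).rTensor M) (AlgebraTensorModule.cancelBaseChange R A A X M z) := by
    intro z
    induction z using TensorProduct.induction_on with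
    | zero => simp
    | tmul x w =>
      induction w using TensorProduct.induction_on with
      | zero => simp
      | tmul a m => simp
      | add a b ha hb => simp only [tmul_add, map_add, ha, hb]
    | add a b ha hb => simp only [map_add, ha, hb]
  intro z1 z2 h
  have h2 := congrArg (AlgebraTensorModule.cancelBaseChange R A A Y M).symm h
  obtain ⟨w1, rfl⟩ := (AlgebraTensorModule.cancelBaseChange R A A X M).surjective z1
  obtain ⟨w2, rfl⟩ := (AlgebraTensorModule.cancelBaseChange R A A X M).surjective z2
  rw [← hnat, ← hnat] at h
  have := h1 ((AlgebraTensorModule.cancelBaseChange R A A Y M).injective h)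
  rw [this]

theorem lTensor_injective_of_flat_baseChange [Module.Flat A (A ⊗[R] M)]
    {X Y : Type*} [AddCommGroup X] [AddCommGroup Y] [Module R X] [Module R Y] [Module A X] [Module A Y]
    [IsScalarTower R A X] [IsScalarTower R A Y] (u : X →ₗ[A] Y) (hu : Function.Injective u) :
    Function.Injective ((u.restrictScalars R).lTensor M) := by
  rw [LinearMap.lTensor_inj_iff_rTensor_inj]
  exact rTensor_injective_of_flat_baseChange A M u hu

theorem lTensor_injective_of_exact_of_flat_baseChange [Module.Flat R A] [Module.Flat A (A ⊗[R] M)]
    {K F : Type*} [AddCommGroup K] [AddCommGroup F] [Module R K] [Module R F]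
    (f₁ : K →ₗ[R] F) (f₂ : F →ₗ[R] M) (h₁ : Function.Injective f₁) (h₂ : Function.Surjective f₂)
    (hex : Function.Exact f₁ f₂)
    (E : Type*) [AddCommGroup E] [Module R E] [Module A E] [IsScalarTower R A E] :
    Function.Injective (f₁.lTensor E) := by
  have hinj : Function.Injective (f₁.baseChange A) :=
    Module.Flat.lTensor_preserves_injective_linearMap f₁ h₁
  have hsurj : Function.Surjective (f₂.baseChange A) := LinearMap.lTensor_surjective A h₂
  have hexA : Function.Exact (f₁.baseChange A) (f₂.baseChange A) := lTensor_exact A hex h₂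
  have key : Function.Injective ((f₁.baseChange A).lTensor E) :=
    LinearMap.lTensor_injective_of_exact_of_flat (f₂.baseChange A) hsurj (f₁.baseChange A) hinj hexA E
  have hnat : ∀ z : E ⊗[A] (A ⊗[R] K),
      (AlgebraTensorModule.cancelBaseChange R A A E F) ((f₁.baseChange A).lTensor E z) =
        (f₁.lTensor E) (AlgebraTensorModule.cancelBaseChange R A A E K z) := by
    intro z
    induction z using TensorProduct.induction_on with
    | zero => simp
    | tmul x w =>
      induction w using TensorProduct.induction_on with
      | zero => simp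
      | tmul a m => simp
      | add a b ha hb => simp only [tmul_add, map_add, ha, hb]
    | add a b ha hb => simp only [map_add, ha, hb]
  intro z1 z2 h
  obtain ⟨w1, rfl⟩ := (AlgebraTensorModule.cancelBaseChange R A A E K).surjective z1
  obtain ⟨w2, rfl⟩ := (AlgebraTensorModule.cancelBaseChange R A A E K).surjective z2
  rw [← hnat, ← hnat] at h
  have := key ((AlgebraTensorModule.cancelBaseChange R A A E F).injective h)
  rw [this]

theorem rTensor_injective_of_exact_of_flat_baseChange [Module.Flat R A] [Module.Flat A (A ⊗[R] M)]
    {K F : Type*} [AddCommGroup K] [AddCommGroup F] [Module R K] [Module R F]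
    (f₁ : K →ₗ[R] F) (f₂ : F →ₗ[R] M) (h₁ : Function.Injective f₁) (h₂ : Function.Surjective f₂)
    (hex : Function.Exact f₁ f₂)
    (E : Type*) [AddCommGroup E] [Module R E] [Module A E] [IsScalarTower R A E] :
    Function.Injective (f₁.rTensor E) := by
  rw [← LinearMap.lTensor_inj_iff_rTensor_inj]
  exact lTensor_injective_of_exact_of_flat_baseChange A M f₁ f₂ h₁ h₂ hex E

theorem isLocalizedModule_lTensor (S : Submonoid R) {X Y : Type*} [AddCommGroup X] [AddCommGroup Y]
    [Module R X] [Module R Y] (g : X →ₗ[R] Y) [IsLocalizedModule S g]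
    (N : Type*) [AddCommGroup N] [Module R N] :
    IsLocalizedModule S (g.lTensor N) := by
  have h1 : IsLocalizedModule S (TensorProduct.AlgebraTensorModule.rTensor R N g) := inferInstance
  have h2 : IsLocalizedModule S
      ((TensorProduct.comm R Y N).toLinearMap ∘ₗ
        (TensorProduct.AlgebraTensorModule.rTensor R N g)) :=
    IsLocalizedModule.of_linearEquiv _ _ _
  have h3 : IsLocalizedModule S
      (((TensorProduct.comm R Y N).toLinearMap ∘ₗ
        (TensorProduct.AlgebraTensorModule.rTensor R N g)) ∘ₗ
          (TensorProduct.comm R N X).toLinearMap) :=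
    IsLocalizedModule.of_linearEquiv_right _ _ _
  convert h3 using 1
  ext x m
  simp

theorem eq_zero_of_lTensor_eq_zero_of_smul_eq_zero [Module.Flat A (A ⊗[R] M)]
    {X Y : Type*} [AddCommGroup X] [AddCommGroup Y] [Module R X] [Module R Y] [Module A X] [Module A Y]
    [IsScalarTower R A X] [IsScalarTower R A Y] (v : X →ₗ[A] Y) (r : R)
    (hr : ∀ z : X, v z = 0 → r • z = 0 → z = 0)
    (z : M ⊗[R] X) (hz : (v.restrictScalars R).lTensor M z = 0) (hrz : r • z = 0) : z = 0 := by
  have hι := lTensor_injective_of_flat_baseChange (R := R) A M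
    (X := ↥(LinearMap.range v)) (Y := Y) (LinearMap.range v).subtype
    (Submodule.injective_subtype (LinearMap.range v))
  have hu := lTensor_injective_of_flat_baseChange (R := R) A M
    (X := ↥(LinearMap.ker v)) (Y := X) (LinearMap.ker v).subtype
    (Submodule.injective_subtype (LinearMap.ker v))
  have hvbar0 : ((v.rangeRestrict.restrictScalars R).lTensor M) z = 0 := by
    apply hι
    rw [map_zero, ← LinearMap.comp_apply, ← LinearMap.lTensor_comp]
    exact hz
  have hex : Function.Exact ((LinearMap.ker v).subtype.restrictScalars R)
      (v.rangeRestrict.restrictScalars R) := by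
    intro y
    constructor
    · intro hy
      have hy' : v y = 0 := congrArg Subtype.val hy
      exact ⟨⟨y, hy'⟩, rfl⟩
    · rintro ⟨w, rfl⟩
      apply Subtype.ext
      exact w.2
  have hsurj : Function.Surjective (v.rangeRestrict.restrictScalars R) :=
    LinearMap.surjective_rangeRestrict v
  have hexM : Function.Exact (((LinearMap.ker v).subtype.restrictScalars R).lTensor M)
      ((v.rangeRestrict.restrictScalars R).lTensor M) := lTensor_exact M hex hsurj
  let μ : ↥(LinearMap.ker v) →ₗ[A] ↥(LinearMap.ker v) := (algebraMap R A r) • LinearMap.id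
  have hμ : Function.Injective μ := by
    rw [injective_iff_map_eq_zero]
    intro w hw
    apply Subtype.ext
    apply hr w.1 w.2
    have := congrArg Subtype.val hw
    simpa [μ, algebraMap_smul] using this
  have hμ' := lTensor_injective_of_flat_baseChange (R := R) A M
    (X := ↥(LinearMap.ker v)) (Y := ↥(LinearMap.ker v)) μ hμ
  have hμall : ∀ w : M ⊗[R] ↥(LinearMap.ker v), ((μ.restrictScalars R).lTensor M) w = r • w := by
    intro w
    induction w using TensorProduct.induction_on with
    | zero => simp
    | tmul m j =>
      rw [LinearMap.lTensor_tmul, ← tmul_smul]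
      congr 1
      simp [μ, algebraMap_smul]
    | add a b ha hb => rw [map_add, ha, hb, smul_add]
  obtain ⟨w, hw⟩ := (hexM z).mp hvbar0
  have hw0 : r • w = 0 := by
    apply hu
    rw [map_smul, hw, hrz, map_zero]
  have hw1 : w = 0 := by
    apply hμ'
    rw [hμall, hw0, map_zero]
  rw [← hw, hw1, map_zero]

end Groth.Agent.Lib.Helper28.FlatBC
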