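import Groth.Agent.Lib.Helper28.CechL

namespace Groth.Agent.Lib.Helper28.CechL

open CategoryTheory Limits Opposite Simplicial AlgebraicTopology
open Groth.Agent.Lib.Helper28

universe v' u u'

variable {C : Type u} [SmallCategory C] {U : C}
  {J : GrothendieckTopology C} {D : Type u'} [Category.{v'} D]
  {Φ : D ⥤ C} {E : SimplicialObject (FormalCoproduct.{u} D)}
  {η : E ⋙ CechY.sY Φ ⟶ (Functor.const SimplexCategoryᵒᵖ).obj (shrinkYoneda.{u}.obj U)}

/-- The zeroth Čech cohomology of a sheaf is given by its sections over `U`: every Čech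
`0`-cocycle comes from a section over `U`. -/
theorem exists_fromSection (hA : CechQ.SectionwiseCechLike (CechA.aug Φ E η))
    (hcov : imageSieve Φ E η ∈ J U) (G : Sheaf J AddCommGrpCat.{u})
    (τ : (CechA.L Φ E).X 0 ⟶ G.obj) (hτ : (CechA.L Φ E).d 1 0 ≫ τ = 0) :
    ∃ s : G.obj.obj (op U), ε₀ Φ E η ≫ fromSection G.obj s = τ := by
  have : Epi (εR Φ E η) := (exact_εR Φ E η hA).2
  obtain ⟨tb, htb⟩ : ∃ tb : CechQ.freeW.obj
      (Subfunctor.range ((CechA.aug Φ E η).hom.app (op ⦋0⦌))).toFunctor ⟶ G.obj,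
      εR Φ E η ≫ tb = τ :=
    ⟨(exact_εR Φ E η hA).1.desc _ hτ, (exact_εR Φ E η hA).1.g_desc _ hτ⟩
  let x : Presieve.FamilyOfElements (G.obj ⋙ forget AddCommGrpCat.{u})
      (imageSieve Φ E η).arrows := fun V f hf =>
    tb.app (op V) (CechY.gen
      (R := (Subfunctor.range ((CechA.aug Φ E η).hom.app (op ⦋0⦌))).toFunctor)
      ⟨shrinkYonedaObjObjEquiv.symm f, hf⟩)
  have hx : x.Compatible := by
    rw [Presieve.compatible_iff_sieveCompatible]
    intro V W f k hf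
    refine Eq.trans ?_ (CechY.app_gen_map G.obj tb k.op
      (R := (Subfunctor.range ((CechA.aug Φ E η).hom.app (op ⦋0⦌))).toFunctor)
      ⟨shrinkYonedaObjObjEquiv.symm f, hf⟩)
    refine congrArg (fun r => tb.app (op W) (CechY.gen
      (R := (Subfunctor.range ((CechA.aug Φ E η).hom.app (op ⦋0⦌))).toFunctor) r)) ?_
    apply Subtype.ext
    exact (shrinkYoneda_obj_map_shrinkYonedaObjObjEquiv_symm k.op f).symm
  have hG := isSheaf_forget J G _ hcov
  refine ⟨hG.amalgamate x hx, ?_⟩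
  apply CechY.hom_ext_gen
  intro V z
  rw [NatTrans.comp_app, ConcreteCategory.comp_apply, ε₀_app_gen, fromSection_app_gen]
  have hmem : (imageSieve Φ E η).arrows
      (shrinkYonedaObjObjEquiv ((η.app (op ⦋0⦌)).app V z)) :=
    ⟨z, (Equiv.symm_apply_apply _ _).symm⟩
  refine (hG.valid_glue hx _ hmem).trans ?_
  rw [← htb, NatTrans.comp_app, ConcreteCategory.comp_apply, εR_app_gen]
  refine congrArg (fun r => tb.app V (CechY.gen
    (R := (Subfunctor.range ((CechA.aug Φ E η).hom.app (op ⦋0⦌))).toFunctor) r)) ?_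
  apply Subtype.ext
  exact Equiv.symm_apply_apply _ _

section

variable {S : ShortComplex (Sheaf J AddCommGrpCat.{u})} (hS : S.ShortExact)

include hS

/-- Dimension shifting for Čech cohomology, degree one. -/
theorem isZero_homology_one_X₁ (hA : CechQ.SectionwiseCechLike (CechA.aug Φ E η))
    (hcov : imageSieve Φ E η ∈ J U)
    (hsurjU : Function.Surjective (S.g.hom.app (op U)))
    (h₂ : IsZero ((CechA.K Φ E S.X₂.obj).homology 1)) :
    IsZero ((CechA.K Φ E S.X₁.obj).homology 1) := by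
  rw [CechP.isZero_homology_succ_iff]
  intro τ hτ
  have := hS.mono_f
  have hSp : (S.map (sheafToPresheaf J AddCommGrpCat.{u})).Exact :=
    hS.exact.map_of_mono_of_preservesKernel (sheafToPresheaf J AddCommGrpCat.{u}) inferInstance
      inferInstance
  have hmono : Mono S.f.hom :=
    inferInstanceAs (Mono ((sheafToPresheaf J AddCommGrpCat.{u}).map S.f))
  have hmono' : Mono (S.map (sheafToPresheaf J AddCommGrpCat.{u})).f := hmono
  have hfg : S.f.hom ≫ S.g.hom = 0 := congrArg (fun k => k.hom) S.zero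
  obtain ⟨σ, hσ⟩ : ∃ σ : (CechA.L Φ E).X 0 ⟶ S.X₂.obj,
      (CechA.L Φ E).d 1 0 ≫ σ = τ ≫ S.f.hom := by
    refine (CechP.isZero_homology_succ_iff Φ E S.X₂.obj 0).1 h₂ _ ?_
    rw [← Category.assoc, hτ, zero_comp]
  have hσg : (CechA.L Φ E).d 1 0 ≫ (σ ≫ S.g.hom) = 0 := by
    rw [← Category.assoc, hσ, Category.assoc, hfg, comp_zero]
  obtain ⟨q, hq⟩ := exists_fromSection hA hcov S.X₃ _ hσg
  obtain ⟨i, hi⟩ := hsurjU q
  have h0 : (σ - ε₀ Φ E η ≫ fromSection S.X₂.obj i) ≫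
      (S.map (sheafToPresheaf J AddCommGrpCat.{u})).g = 0 := by
    change (σ - ε₀ Φ E η ≫ fromSection S.X₂.obj i) ≫ S.g.hom = 0
    rw [Preadditive.sub_comp, Category.assoc, fromSection_comp, hi, hq, sub_self]
  obtain ⟨σ', hσ'⟩ : ∃ σ' : (CechA.L Φ E).X 0 ⟶ S.X₁.obj,
      σ' ≫ S.f.hom = σ - ε₀ Φ E η ≫ fromSection S.X₂.obj i := ⟨hSp.lift _ h0, hSp.lift_f _ h0⟩
  refine ⟨σ', ?_⟩
  rw [← cancel_mono S.f.hom, Category.assoc, hσ', Preadditive.comp_sub, hσ, ← Category.assoc,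
    d_comp_ε₀, zero_comp, sub_zero]

/-- Dimension shifting for Čech cohomology, higher degrees. -/
theorem isZero_homology_X₁ (p : ℕ)
    (hsurj : ∀ i : (E.obj (op ⦋p⦌)).I,
      Function.Surjective (S.g.hom.app (op (Φ.obj ((E.obj (op ⦋p⦌)).obj i)))))
    (h₂ : IsZero ((CechA.K Φ E S.X₂.obj).homology (p + 2)))
    (h₃ : IsZero ((CechA.K Φ E S.X₃.obj).homology (p + 1))) :
    IsZero ((CechA.K Φ E S.X₁.obj).homology (p + 2)) := by
  rw [CechP.isZero_homology_succ_iff]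
  intro τ hτ
  have := hS.mono_f
  have hSp : (S.map (sheafToPresheaf J AddCommGrpCat.{u})).Exact :=
    hS.exact.map_of_mono_of_preservesKernel (sheafToPresheaf J AddCommGrpCat.{u}) inferInstance
      inferInstance
  have hmono : Mono S.f.hom :=
    inferInstanceAs (Mono ((sheafToPresheaf J AddCommGrpCat.{u}).map S.f))
  have hmono' : Mono (S.map (sheafToPresheaf J AddCommGrpCat.{u})).f := hmono
  have hfg : S.f.hom ≫ S.g.hom = 0 := congrArg (fun k => k.hom) S.zero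
  obtain ⟨σ, hσ⟩ : ∃ σ : (CechA.L Φ E).X (p + 1) ⟶ S.X₂.obj,
      (CechA.L Φ E).d (p + 2) (p + 1) ≫ σ = τ ≫ S.f.hom := by
    refine (CechP.isZero_homology_succ_iff Φ E S.X₂.obj (p + 1)).1 h₂ _ ?_
    rw [← Category.assoc, hτ, zero_comp]
  have hσg : (CechA.L Φ E).d (p + 2) (p + 1) ≫ (σ ≫ S.g.hom) = 0 := by
    rw [← Category.assoc, hσ, Category.assoc, hfg, comp_zero]
  obtain ⟨ρ, hρ⟩ : ∃ ρ : (CechA.L Φ E).X p ⟶ S.X₃.obj,
      (CechA.L Φ E).d (p + 1) p ≫ ρ = σ ≫ S.g.hom :=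
    (CechP.isZero_homology_succ_iff Φ E S.X₃.obj p).1 h₃ _ hσg
  obtain ⟨ρ', hρ'⟩ : ∃ ρ' : (CechA.L Φ E).X p ⟶ S.X₂.obj, ρ' ≫ S.g.hom = ρ :=
    CechP.exists_lift_of_components Φ S.g.hom (E.obj (op ⦋p⦌)) ρ (fun i => hsurj i _)
  have h0 : (σ - (CechA.L Φ E).d (p + 1) p ≫ ρ') ≫
      (S.map (sheafToPresheaf J AddCommGrpCat.{u})).g = 0 := by
    change (σ - (CechA.L Φ E).d (p + 1) p ≫ ρ') ≫ S.g.hom = 0
    rw [Preadditive.sub_comp, Category.assoc, hρ', hρ, sub_self]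
  obtain ⟨σ', hσ'⟩ : ∃ σ' : (CechA.L Φ E).X (p + 1) ⟶ S.X₁.obj,
      σ' ≫ S.f.hom = σ - (CechA.L Φ E).d (p + 1) p ≫ ρ' := ⟨hSp.lift _ h0, hSp.lift_f _ h0⟩
  refine ⟨σ', ?_⟩
  rw [← cancel_mono S.f.hom, Category.assoc, hσ', Preadditive.comp_sub, hσ, ← Category.assoc,
    (CechA.L Φ E).d_comp_d, zero_comp, sub_zero]

end

end Groth.Agent.Lib.Helper28.CechL
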