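import Groth.Agent.Lib.Helper28.CechTop
import Groth.Agent.Lib.Helper28.CechL2

namespace Groth.Agent.Lib.Helper28.CechTop

open CategoryTheory Limits Opposite Simplicial TopologicalSpace
open Groth.Agent.Lib.Helper28

universe u

variable {X : TopCat.{u}}

/-- Dimension shifting for Čech cohomology on a topological space, degree one. -/
theorem isZero_cechH_one_X₁ {S : ShortComplex (CohTop.Ab X)} (hS : S.ShortExact)
    {κ : Type u} (W : κ → Opens X)
    (hsurj : Function.Surjective (S.g.hom.app (op (iSup W))))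
    (h₂ : IsZero (CohTop.cechH S.X₂.obj W 1)) :
    IsZero (CohTop.cechH S.X₁.obj W 1) := by
  have hA := CechT.sectionwiseCechLike W (U := iSup W) (fun k => homOfLE (le_iSup W k))
  have hcov := imageSieve_mem W (U := iSup W) (fun k => homOfLE (le_iSup W k)) rfl
  exact CechL.isZero_homology_one_X₁ (U := iSup W) (Φ := 𝟭 (Opens X)) (E := CechT.cechE W)
    (η := CechT.η (CechT.cechE W) (CechT.toBase W fun k => homOfLE (le_iSup W k)))
    hS hA hcov hsurj h₂

/-- Dimension shifting for Čech cohomology on a topological space, higher degrees. -/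
theorem isZero_cechH_X₁ {S : ShortComplex (CohTop.Ab X)} (hS : S.ShortExact)
    {κ : Type u} (W : κ → Opens X) (p : ℕ)
    (hsurj : ∀ a : Fin (p + 1) → κ,
      Function.Surjective (S.g.hom.app (op (iInf fun k => W (a k)))))
    (h₂ : IsZero (CohTop.cechH S.X₂.obj W (p + 2)))
    (h₃ : IsZero (CohTop.cechH S.X₃.obj W (p + 1))) :
    IsZero (CohTop.cechH S.X₁.obj W (p + 2)) := by
  refine CechL.isZero_homology_X₁ (Φ := 𝟭 (Opens X)) (E := CechT.cechE W) hS p ?_ h₂ h₃
  intro a
  have := hsurj a
  rw [← cechE_obj_eq W p a] at this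
  exact this

end Groth.Agent.Lib.Helper28.CechTop
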