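import Mathlib.Algebra.Category.Grp.FilteredColimits
import Mathlib.CategoryTheory.Limits.Types.Filtered
import Mathlib.CategoryTheory.Limits.Preserves.Filtered
import Mathlib.Algebra.Category.Grp.Colimits

/-!
# Recognising filtered colimits of abelian groups elementwise
-/

namespace Groth.Agent.Lib.Helper28.AbFilt

open CategoryTheory Limits

universe w

variable {I : Type w} [SmallCategory I] [IsFiltered I] {G : I ⥤ AddCommGrpCat.{w}}

/-- A cocone of abelian groups over a filtered category is a colimit as soon as it is jointly
surjective and elements which die in the cocone point die at a later stage. -/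
theorem nonempty_isColimit (c : Cocone G)
    (hsurj : ∀ x : c.pt, ∃ (k : I) (y : G.obj k), c.ι.app k y = x)
    (hinj : ∀ (k : I) (y : G.obj k), c.ι.app k y = 0 → ∃ (k' : I) (g : k ⟶ k'), G.map g y = 0) :
    Nonempty (IsColimit c) := by
  have h : IsColimit ((forget AddCommGrpCat.{w}).mapCocone c) := by
    refine Types.FilteredColimit.isColimitOf' _ _ ?_ ?_
    · intro x
      obtain ⟨k, y, hy⟩ := hsurj x
      exact ⟨k, y, hy.symm⟩
    · intro k (x : G.obj k) (y : G.obj k) hxy
      have hxy' : c.ι.app k x = c.ι.app k y := hxy
      have h0 : c.ι.app k (x - y) = 0 := by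
        rw [map_sub]
        exact sub_eq_zero.2 hxy'
      obtain ⟨k', g, hg⟩ := hinj k (x - y) h0
      refine ⟨k', g, ?_⟩
      have hg' : G.map g x - G.map g y = 0 := (map_sub (G.map g).hom x y).symm.trans hg
      have hg'' : G.map g x = G.map g y := sub_eq_zero.1 hg'
      exact hg''
  have : ReflectsColimitsOfShape I (forget AddCommGrpCat.{w}) :=
    reflectsColimitsOfShape_of_reflectsIsomorphisms
  exact ⟨isColimitOfReflects (forget AddCommGrpCat.{w}) h⟩

end Groth.Agent.Lib.Helper28.AbFilt
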