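import Mathlib.Algebra.Homology.ShortComplex.Ab
import Mathlib.Algebra.Homology.ShortComplex.HomologicalComplex
import Mathlib.Algebra.Homology.HomologicalComplexAbelian
import Mathlib.Algebra.Category.Grp.EpiMono

/-!
# Elementwise description of the homology of a complex of abelian groups
-/

namespace Groth.Agent.Lib.Helper28.AbHom

open CategoryTheory Limits

universe w

variable {ι : Type*} {c : ComplexShape ι} (K : HomologicalComplex AddCommGrpCat.{w} c)

lemma iCycles_injective (i : ι) : Function.Injective (K.iCycles i) :=
  (AddCommGrpCat.mono_iff_injective _).1 inferInstance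

lemma homologyπ_surjective (i : ι) : Function.Surjective (K.homologyπ i) :=
  (AddCommGrpCat.epi_iff_surjective _).1 inferInstance

lemma d_iCycles (i j : ι) (x : K.cycles i) : K.d i j (K.iCycles i x) = 0 := by
  have := ConcreteCategory.congr_hom (K.iCycles_d i j) x
  exact this

/-- Elements killed by the differential are cycles. -/
lemma exists_cycle (i j : ι) (hj : c.next i = j) (y : K.X i) (hy : K.d i j y = 0) :
    ∃ x : K.cycles i, K.iCycles i x = y := by
  have hex : (ShortComplex.mk (K.iCycles i) (K.d i j) (K.iCycles_d i j)).Exact :=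
    ShortComplex.exact_of_f_is_kernel _ (K.cyclesIsKernel i j hj)
  rw [ShortComplex.ab_exact_iff] at hex
  exact hex y hy

/-- A cycle is a boundary iff its class vanishes. -/
lemma homologyπ_eq_zero_iff (i' i : ι) (hi : c.prev i = i') (x : K.cycles i) :
    K.homologyπ i x = 0 ↔ ∃ w : K.X i', K.d i' i w = K.iCycles i x := by
  have hex : (ShortComplex.mk (K.toCycles i' i) (K.homologyπ i)
      (K.toCycles_comp_homologyπ i' i)).Exact :=
    ShortComplex.exact_of_g_is_cokernel _ (K.homologyIsCokernel i' i hi)
  rw [ShortComplex.ab_exact_iff] at hex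
  constructor
  · intro h
    obtain ⟨w, hw⟩ := hex x h
    refine ⟨w, ?_⟩
    have := ConcreteCategory.congr_hom (K.toCycles_i i' i) w
    change K.iCycles i (K.toCycles i' i w) = K.d i' i w at this
    rw [← this]
    exact congrArg _ hw
  · rintro ⟨w, hw⟩
    have e : K.toCycles i' i w = x := by
      apply iCycles_injective K i
      have := ConcreteCategory.congr_hom (K.toCycles_i i' i) w
      change K.iCycles i (K.toCycles i' i w) = K.d i' i w at this
      rw [this, hw]
    rw [← e]
    exact ConcreteCategory.congr_hom (K.toCycles_comp_homologyπ i' i) w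

variable {K} {L : HomologicalComplex AddCommGrpCat.{w} c} (φ : K ⟶ L)

lemma iCycles_cyclesMap (i : ι) (x : K.cycles i) :
    L.iCycles i (HomologicalComplex.cyclesMap φ i x) = φ.f i (K.iCycles i x) :=
  ConcreteCategory.congr_hom (HomologicalComplex.cyclesMap_i φ i) x

lemma homologyMap_homologyπ (i : ι) (x : K.cycles i) :
    HomologicalComplex.homologyMap φ i (K.homologyπ i x) =
      L.homologyπ i (HomologicalComplex.cyclesMap φ i x) :=
  ConcreteCategory.congr_hom (HomologicalComplex.homologyπ_naturality φ i) x

lemma d_f (i j : ι) (y : K.X i) : L.d i j (φ.f i y) = φ.f j (K.d i j y) :=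
  ConcreteCategory.congr_hom (φ.comm i j) y

end Groth.Agent.Lib.Helper28.AbHom
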