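import Groth.Prelude.Def_EtAcyc
import Groth.Agent.Lib.Helper4.EtStalk
import Groth.Agent.Lib.Helper4.EtStalkPull

/-!
# `L`-torsion étale sheaves: stalkwise criterion and pullback
-/

set_option autoImplicit false
open CategoryTheory CategoryTheory.Limits AlgebraicGeometry Opposite
universe u

namespace Groth.Agent.Lib.Helper28.EtLTors
open Groth.Agent.Lib.Helper4

/-- All stalks are `L`-torsion. -/
def StalkLTors {X : Scheme.{u}} (L : Set ℕ) (F : EtCoh.Ab X) : Prop :=
  ∀ (Ω : Type u) [Field Ω] [IsSepClosed Ω] (ξ : Spec (CommRingCat.of Ω) ⟶ X)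
    (γ : ToType ((EtCoh.stalk ξ).obj F)), ∃ m : ℕ, EtAcyc.PrimesIn L m ∧ m • γ = 0

lemma geomPtAt_default (X : Scheme.{u}) (s : X) :
    (EtStalk.geomPtAt X s) default = s := by
  unfold EtStalk.geomPtAt
  simp [Scheme.SpecToEquivOfField]

theorem stalkLTors_of_isLTorsion {X : Scheme.{u}} (L : Set ℕ) (F : EtCoh.Ab X)
    (hF : EtAcyc.IsLTorsion L F) : StalkLTors L F := by
  intro Ω _ _ ξ γ
  have hpf : PreservesFilteredColimitsOfSize.{u, u} (forget AddCommGrpCat.{u + 1}) :=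
    preservesFilteredColimitsOfSize_shrink.{u, u + 1, u, u + 1} _
  let Φ := Scheme.pointSmallEtale ξ
  obtain ⟨W, x, s, rfl⟩ := Φ.toPresheafFiber_jointly_surjective (P := F.obj) γ
  let xl : Spec (CommRingCat.of Ω) ⟶ W.left := x.left
  obtain ⟨V, g, m, ⟨v, hv⟩, hm, hms⟩ := hF W s (xl default)
  have : Etale V.hom := V.prop
  have : Etale W.hom := W.prop
  have : Etale (g.left ≫ W.hom) := by
    have e : g.left ≫ W.hom = V.hom := MorphismProperty.Over.w g
    rw [e]; infer_instance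
  have : Etale g.left := Etale.of_comp g.left W.hom
  obtain ⟨l, hl1, -⟩ := Scheme.exists_fac_of_etale_of_isSepClosed g.left xl v hv
  have hxl : xl ≫ W.hom = ξ := Over.w x
  let y : Φ.fiber.obj V := Over.homMk l (by
    change l ≫ V.hom = ξ
    have e : g.left ≫ W.hom = V.hom := MorphismProperty.Over.w g
    rw [← e, ← Category.assoc, hl1, hxl])
  have hy : Φ.fiber.map g y = x := by
    apply Over.OverMorphism.ext
    exact hl1
  refine ⟨m, hm, ?_⟩
  have h1 : Φ.toPresheafFiber W x F.obj s = Φ.toPresheafFiber V y F.obj (F.obj.map g.op s) := by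
    rw [← hy]
    exact (Φ.toPresheafFiber_w_apply g y F.obj s).symm
  have h2 : m • (Φ.toPresheafFiber V y F.obj (F.obj.map g.op s)) = 0 := by
    rw [← map_nsmul, hms, map_zero]
  rw [h1]
  exact h2

theorem isLTorsion_of_stalkLTors {X : Scheme.{u}} (L : Set ℕ) (F : EtCoh.Ab X)
    (hF : StalkLTors L F) : EtAcyc.IsLTorsion L F := by
  intro U s x
  have hpf : PreservesFilteredColimitsOfSize.{u, u} (forget AddCommGrpCat.{u + 1}) :=
    preservesFilteredColimitsOfSize_shrink.{u, u + 1, u, u + 1} _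
  let ζ := EtStalk.geomPtAt U.left x
  have hζ : ζ default = x := geomPtAt_default _ _
  let ξ := ζ ≫ U.hom
  let Φ := Scheme.pointSmallEtale ξ
  let x' : Φ.fiber.obj U := Over.homMk ζ rfl
  obtain ⟨m, hm, hγ⟩ := hF _ ξ (Φ.toPresheafFiber U x' F.obj s)
  have h2 : Φ.toPresheafFiber U x' F.obj (m • s) = Φ.toPresheafFiber U x' F.obj 0 := by
    rw [map_nsmul, map_zero]
    exact hγ
  obtain ⟨V, g, y, hy, hms⟩ := (Φ.toPresheafFiber_eq_iff' (P := F.obj) U x' (m • s) 0).1 h2
  let yl : Spec (CommRingCat.of _) ⟶ V.left := y.left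
  refine ⟨V, g, m, ⟨yl default, ?_⟩, hm, ?_⟩
  · have h1 : yl ≫ g.left = ζ := congrArg (fun k => k.left) hy
    have h3 : g.left (yl default) = ζ default := by
      rw [← h1]
      rfl
    exact h3.trans hζ
  · rw [← map_nsmul, hms, map_zero]

theorem isLTorsion_iff {X : Scheme.{u}} (L : Set ℕ) (F : EtCoh.Ab X) :
    EtAcyc.IsLTorsion L F ↔ StalkLTors L F :=
  ⟨stalkLTors_of_isLTorsion L F, isLTorsion_of_stalkLTors L F⟩

/-- The inverse image of an `L`-torsion sheaf is `L`-torsion. -/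
theorem isLTorsion_pull {X Y : Scheme.{u}} (f : X ⟶ Y) (L : Set ℕ) (F : EtCoh.Ab Y)
    (hF : EtAcyc.IsLTorsion L F) : EtAcyc.IsLTorsion L ((EtCoh.pull f).obj F) := by
  rw [isLTorsion_iff] at hF ⊢
  intro Ω _ _ ξ γ
  let e := (EtStalkPull.stalkPullIso f ξ).app F
  obtain ⟨m, hm, hγ⟩ := hF Ω (ξ ≫ f) (e.hom γ)
  refine ⟨m, hm, ?_⟩
  have h1 : e.hom (m • γ) = 0 := by
    rw [map_nsmul]
    exact hγ
  have h2 : e.inv (e.hom (m • γ)) = m • γ := by
    rw [← ConcreteCategory.comp_apply, e.hom_inv_id]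
    rfl
  rw [← h2, h1, map_zero]

end Groth.Agent.Lib.Helper28.EtLTors
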