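import Groth.Agent.Lib.Helper28.HpullComp
import Groth.Agent.Lib.Helper28.EtLTors
import Groth.Agent.S0642

/-!
# Composition of acyclic morphisms (abelian case)
-/

set_option autoImplicit false
open CategoryTheory CategoryTheory.Limits AlgebraicGeometry Opposite
universe u

namespace Groth.Agent.Lib.Helper28.AcycComp
open EtCore Groth.Agent.Lib.Helper4

/-- Two-out-of-three for the comparison condition, given it for the first morphism. -/
theorem compN_comp_iff {A B C : Scheme.{u}} (a : A ⟶ B) (b : B ⟶ C) (c : A ⟶ C) (w : a ≫ b = c)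
    (L : Set ℕ) (n : ℕ) (ha : EtAcyc.CompN a L n) :
    EtAcyc.CompN b L n ↔ EtAcyc.CompN c L n := by
  have ia := EtStalk.preservesFiniteLimits_pull a
  have ib := EtStalk.preservesFiniteLimits_pull b
  have ic := EtStalk.preservesFiniteLimits_pull c
  have hfac : ∀ (F : EtCoh.Ab C) (q : ℕ), ∃ θ : EtCoh.H A ((EtCoh.pull a).obj ((EtCoh.pull b).obj F)) q →
      EtCoh.H A ((EtCoh.pull c).obj F) q, Function.Bijective θ ∧
      ⇑(Hpull c F q) = θ ∘ ⇑(Hpull a ((EtCoh.pull b).obj F) q) ∘ ⇑(Hpull b F q) := by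
    intro F q
    obtain ⟨θ, hθ, h⟩ := HpullComp.Hpull_comp a b c w F q
    exact ⟨θ, hθ, funext h⟩
  constructor
  · intro hb F hF inst
    obtain ⟨hb1, hb2⟩ := hb F hF
    obtain ⟨ha1, ha2⟩ := ha ((EtCoh.pull b).obj F) (EtLTors.isLTorsion_pull b L F hF)
    constructor
    · intro q hq
      obtain ⟨θ, hθ, h⟩ := hfac F q
      rw [h]
      exact hθ.comp ((ha1 q hq).comp (hb1 q hq))
    · obtain ⟨θ, hθ, h⟩ := hfac F (n + 1)
      rw [h]
      exact hθ.1.comp (ha2.comp hb2)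
  · intro hc F hF inst
    obtain ⟨hc1, hc2⟩ := hc F hF
    obtain ⟨ha1, ha2⟩ := ha ((EtCoh.pull b).obj F) (EtLTors.isLTorsion_pull b L F hF)
    constructor
    · intro q hq
      obtain ⟨θ, hθ, h⟩ := hfac F q
      have h1 := hc1 q hq
      rw [h] at h1
      have h2 := (Function.Bijective.of_comp_iff' hθ _).1 h1
      exact (Function.Bijective.of_comp_iff' (ha1 q hq) _).1 h2
    · obtain ⟨θ, hθ, h⟩ := hfac F (n + 1)
      have h1 := hc2
      rw [h] at h1
      have h2 := (Function.Injective.of_comp_iff hθ.1 _).1 h1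
      exact (Function.Injective.of_comp_iff ha2 _).1 h2

/-- An isomorphism satisfies the comparison condition. -/
theorem compN_of_isIso {A B : Scheme.{u}} (a : A ⟶ B) [IsIso a] (L : Set ℕ) (n : ℕ) :
    EtAcyc.CompN a L n := by
  intro F hF inst
  exact ⟨fun q _ => Groth.Agent.S0642.result a F q, (Groth.Agent.S0642.result a F (n + 1)).1⟩

theorem isAcyclicN_comp_iff {X Y Z : Scheme.{u}} (g : X ⟶ Y) (h : Y ⟶ Z) (L : Set ℕ) (n : ℕ)
    (hg : EtAcyc.IsAcyclicN g L n) :
    EtAcyc.IsAcyclicN h L n ↔ EtAcyc.IsAcyclicN (g ≫ h) L n := by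
  have key : ∀ V : Z.Etale, EtAcyc.CompN (EtAcyc.prj h V) L n ↔
      EtAcyc.CompN (EtAcyc.prj (g ≫ h) V) L n := by
    intro V
    have : Etale V.hom := V.prop
    let V' : Y.Etale := Scheme.Etale.mk (pullback.snd V.hom h)
    have hgV' : EtAcyc.CompN (EtAcyc.prj g V') L n := hg V'
    let e := pullbackLeftPullbackSndIso V.hom h g
    have he : e.inv ≫ (EtAcyc.prj g V' ≫ EtAcyc.prj h V) = EtAcyc.prj (g ≫ h) V :=
      pullbackLeftPullbackSndIso_inv_fst V.hom h g
    have h1 : EtAcyc.CompN (EtAcyc.prj h V) L n ↔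
        EtAcyc.CompN (EtAcyc.prj g V' ≫ EtAcyc.prj h V) L n :=
      compN_comp_iff _ _ _ rfl L n hgV'
    have h2 : EtAcyc.CompN (EtAcyc.prj g V' ≫ EtAcyc.prj h V) L n ↔
        EtAcyc.CompN (EtAcyc.prj (g ≫ h) V) L n :=
      compN_comp_iff e.inv _ _ he L n (compN_of_isIso e.inv L n)
    exact h1.trans h2
  exact ⟨fun hh V => (key V).1 (hh V), fun hh V => (key V).2 (hh V)⟩

end Groth.Agent.Lib.Helper28.AcycComp
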