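import Groth.Prelude.Def_EtCore
import Groth.Prelude.Def_EtLim
import Groth.Agent.Lib.Helper4.PullConstComp

/-!
# The degree zero base change map versus the composition isomorphisms of pullbacks

`pullComp`, `pullCongr` (defined through uniqueness of adjoints) are conjugate to `pushComp`,
`pushCongr`; hence the base change map `baseChange0` is the mate of the canonical isomorphism
`g'⁻¹ f⁻¹ ≅ f'⁻¹ g⁻¹`.
-/

set_option autoImplicit false
open CategoryTheory CategoryTheory.Limits AlgebraicGeometry Opposite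
universe u

namespace Groth.Agent.Lib.Helper28.BCMate
open EtCore Groth.Agent.Lib.Helper4

theorem pullbackCongr_rfl_hom_app {X Y : Scheme.{u}} (a : X ⟶ Y) (V : Y.Etale) :
    ((MorphismProperty.Over.pullbackCongr (P := EtCoh.etaleMP.{u}) (Q := ⊤) (rfl : a = a)).hom.app V) =
      𝟙 _ := by
  apply MorphismProperty.Over.Hom.ext
  change (pullback.congrHom rfl rfl).hom = 𝟙 _
  rw [pullback.congrHom_hom]
  exact pullback.map_id

theorem pullbackCongr_rfl_inv_app {X Y : Scheme.{u}} (a : X ⟶ Y) (V : Y.Etale) :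
    ((MorphismProperty.Over.pullbackCongr (P := EtCoh.etaleMP.{u}) (Q := ⊤) (rfl : a = a)).inv.app V) =
      𝟙 _ := by
  have h := (MorphismProperty.Over.pullbackCongr (P := EtCoh.etaleMP.{u}) (Q := ⊤)
    (rfl : a = a)).hom_inv_id_app V
  rw [pullbackCongr_rfl_hom_app, Category.id_comp] at h
  exact h

theorem pushCongr_rfl_app {X Y : Scheme.{u}} (a : X ⟶ Y) (H : EtCoh.Ab X) :
    (EtCoh.pushCongr (rfl : a = a)).hom.app H = 𝟙 _ := by
  apply Sheaf.hom_ext
  ext V : 2
  change H.obj.map ((MorphismProperty.Over.pullbackCongr (P := EtCoh.etaleMP.{u}) (Q := ⊤)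
    (rfl : a = a)).inv.app V.unop).op = _
  refine (congrArg (fun m => H.obj.map (Quiver.Hom.op m)) (pullbackCongr_rfl_inv_app a V.unop)).trans ?_
  exact H.obj.map_id _

/-- `pullCongr` and `pushCongr` are conjugate. -/
theorem unit_pullCongr_pushCongr {X Y : Scheme.{u}} {a b : X ⟶ Y} (e : a = b) (M : EtCoh.Ab Y) :
    (EtCoh.pullPushAdj a).unit.app M ≫ (EtCoh.push a).map ((pullCongr e).hom.app M) ≫
      (EtCoh.pushCongr e).hom.app ((EtCoh.pull b).obj M) = (EtCoh.pullPushAdj b).unit.app M := by
  subst e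
  rw [pushCongr_rfl_app]
  simp [pullCongr]

section Square

variable {X Y X' Y' : Scheme.{u}} (f : X ⟶ Y) (g : Y' ⟶ Y) (f' : X' ⟶ Y') (g' : X' ⟶ X)
  (w : g' ≫ f = f' ≫ g) (F : EtCoh.Ab X)

/-- the morphism whose adjoint is `baseChange0`. -/
noncomputable def β :
    (EtCoh.push f).obj F ⟶ (EtCoh.push g).obj ((EtCoh.push f').obj ((EtCoh.pull g').obj F)) :=
  (EtCoh.push f).map ((EtCoh.pullPushAdj g').unit.app F) ≫ (EtCoh.pushComp f g').hom.app _ ≫
      (EtCoh.pushCongr w).hom.app _ ≫ (EtCoh.pushComp g f').inv.app _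

theorem baseChange0_eq :
    EtCoh.baseChange0 f g f' g' w F = ((EtCoh.pullPushAdj g).homEquiv _ _).symm (β f g f' g' w F) :=
  rfl

theorem unit_baseChange0 :
    (EtCoh.pullPushAdj g).unit.app ((EtCoh.push f).obj F) ≫
      (EtCoh.push g).map (EtCoh.baseChange0 f g f' g' w F) = β f g f' g' w F := by
  rw [baseChange0_eq]
  have h := (Adjunction.homEquiv_unit (adj := EtCoh.pullPushAdj g)
    (f := ((EtCoh.pullPushAdj g).homEquiv _ _).symm (β f g f' g' w F))).symm
  exact h.trans (Equiv.apply_symm_apply _ _)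

/-- transposing a map out of `g'⁻¹ f⁻¹ M` along `(g' ≫ f)⁻¹ ⊣ (g' ≫ f)_*` via `pullComp`. -/
theorem transpose_pullComp {A B C : Scheme.{u}} (k : A ⟶ B) (j : B ⟶ C) (M : EtCoh.Ab C)
    (N : EtCoh.Ab A) (φ : (EtCoh.pull k).obj ((EtCoh.pull j).obj M) ⟶ N) :
    (EtCoh.pullPushAdj (k ≫ j)).unit.app M ≫
        (EtCoh.push (k ≫ j)).map ((pullComp k j).hom.app M ≫ φ) =
      (EtCoh.pullPushAdj j).unit.app M ≫
        (EtCoh.push j).map ((EtCoh.pullPushAdj k).unit.app ((EtCoh.pull j).obj M) ≫
          (EtCoh.push k).map φ) ≫ (EtCoh.pushComp j k).hom.app N := by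
  have h1 := PullConstComp.pullComp_char k j M
  have h2 := (EtCoh.pushComp j k).hom.naturality φ
  simp only [Functor.comp_map, Functor.comp_obj] at h2
  rw [Functor.map_comp, ← Category.assoc, h1, Category.assoc, Category.assoc, ← h2,
    Functor.map_comp, Category.assoc]

theorem mate :
    (pullComp g' f).hom.app ((EtCoh.push f).obj F) ≫
        (EtCoh.pull g').map ((EtCoh.pullPushAdj f).counit.app F) =
      (pullCongr w).hom.app ((EtCoh.push f).obj F) ≫
        (pullComp f' g).hom.app ((EtCoh.push f).obj F) ≫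
          (EtCoh.pull f').map (EtCoh.baseChange0 f g f' g' w F) ≫
            (EtCoh.pullPushAdj f').counit.app ((EtCoh.pull g').obj F) := by
  apply ((EtCoh.pullPushAdj (g' ≫ f)).homEquiv _ _).injective
  rw [Adjunction.homEquiv_unit, Adjunction.homEquiv_unit]
  -- left side
  have hL : (EtCoh.pullPushAdj (g' ≫ f)).unit.app ((EtCoh.push f).obj F) ≫
      (EtCoh.push (g' ≫ f)).map ((pullComp g' f).hom.app ((EtCoh.push f).obj F) ≫
        (EtCoh.pull g').map ((EtCoh.pullPushAdj f).counit.app F)) =
      (EtCoh.push f).map ((EtCoh.pullPushAdj g').unit.app F) ≫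
        (EtCoh.pushComp f g').hom.app ((EtCoh.pull g').obj F) := by
    rw [transpose_pullComp]
    have hn := (EtCoh.pullPushAdj g').unit.naturality ((EtCoh.pullPushAdj f).counit.app F)
    simp only [Functor.id_map, Functor.comp_map, Functor.id_obj, Functor.comp_obj] at hn
    rw [← hn, Functor.map_comp, ← Category.assoc, ← Category.assoc]
    rw [(EtCoh.pullPushAdj f).right_triangle_components F]
    dsimp only [Functor.id_obj]
    rw [Category.id_comp]
  -- right side
  have hR : ((EtCoh.pullPushAdj (g' ≫ f)).unit.app ((EtCoh.push f).obj F) ≫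
      (EtCoh.push (g' ≫ f)).map ((pullCongr w).hom.app ((EtCoh.push f).obj F) ≫
        (pullComp f' g).hom.app ((EtCoh.push f).obj F) ≫
          (EtCoh.pull f').map (EtCoh.baseChange0 f g f' g' w F) ≫
            (EtCoh.pullPushAdj f').counit.app ((EtCoh.pull g').obj F))) ≫
        (EtCoh.pushCongr w).hom.app ((EtCoh.pull g').obj F) =
      ((EtCoh.push f).map ((EtCoh.pullPushAdj g').unit.app F) ≫
        (EtCoh.pushComp f g').hom.app ((EtCoh.pull g').obj F)) ≫
        (EtCoh.pushCongr w).hom.app ((EtCoh.pull g').obj F) := by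
    have hn := (EtCoh.pushCongr w).hom.naturality
      ((pullComp f' g).hom.app ((EtCoh.push f).obj F) ≫
          (EtCoh.pull f').map (EtCoh.baseChange0 f g f' g' w F) ≫
            (EtCoh.pullPushAdj f').counit.app ((EtCoh.pull g').obj F))
    have h3 := unit_pullCongr_pushCongr w ((EtCoh.push f).obj F)
    dsimp only [Functor.id_obj] at hn
    rw [Functor.map_comp, Category.assoc, Category.assoc, hn, ← Category.assoc,
      ← Category.assoc, Category.assoc _ _ ((EtCoh.pushCongr w).hom.app _), h3,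
      transpose_pullComp]
    have hn2 := (EtCoh.pullPushAdj f').unit.naturality (EtCoh.baseChange0 f g f' g' w F)
    simp only [Functor.id_map, Functor.comp_map, Functor.id_obj, Functor.comp_obj] at hn2
    have inner : (EtCoh.pullPushAdj f').unit.app ((EtCoh.pull g).obj ((EtCoh.push f).obj F)) ≫
        (EtCoh.push f').map ((EtCoh.pull f').map (EtCoh.baseChange0 f g f' g' w F) ≫
          (EtCoh.pullPushAdj f').counit.app ((EtCoh.pull g').obj F)) =
        EtCoh.baseChange0 f g f' g' w F := by
      rw [Functor.map_comp, ← Category.assoc, ← hn2, Category.assoc,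
        (EtCoh.pullPushAdj f').right_triangle_components, Category.comp_id]
    rw [inner, ← Category.assoc, unit_baseChange0]
    unfold β
    simp only [Category.assoc, Iso.inv_hom_id_app, Category.comp_id]
  rw [hL]
  exact ((cancel_mono ((EtCoh.pushCongr w).hom.app ((EtCoh.pull g').obj F))).1 hR).symm

end Square

end Groth.Agent.Lib.Helper28.BCMate
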