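import Mathlib
import Groth.Agent.Lib.Helper4.ExtAdj

/-!
# Sandwiching an `Ext` class between two morphisms

`sand a x b = a · x · b`; normalisation lemmas to reduce identities between composites of `Ext`
classes with degree zero maps to identities between morphisms.
-/

set_option autoImplicit false
open CategoryTheory CategoryTheory.Limits Abelian

namespace Groth.Agent.Lib.Helper28.ExtSand

universe w w' v v' u u'

section Basic
variable {A : Type u} [Category.{v} A] [Abelian A] [HasExt.{w} A]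

/-- `a · x · b`. -/
noncomputable def sand {X' X Y Y' : A} {n : ℕ} (a : X' ⟶ X) (x : Ext.{w} X Y n) (b : Y ⟶ Y') :
    Ext.{w} X' Y' n :=
  (Ext.mk₀ a).comp (x.comp (Ext.mk₀ b) (add_zero n)) (zero_add n)

theorem sand_id {X Y : A} {n : ℕ} (x : Ext.{w} X Y n) : sand (𝟙 X) x (𝟙 Y) = x := by
  unfold sand
  rw [Ext.mk₀_id_comp, Ext.comp_mk₀_id]

theorem mk₀_comp_eq {X' X Y : A} {n : ℕ} (a : X' ⟶ X) (x : Ext.{w} X Y n) :
    (Ext.mk₀ a).comp x (zero_add n) = sand a x (𝟙 Y) := by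
  unfold sand
  rw [Ext.comp_mk₀_id]

theorem comp_mk₀_eq {X Y Y' : A} {n : ℕ} (x : Ext.{w} X Y n) (b : Y ⟶ Y') :
    x.comp (Ext.mk₀ b) (add_zero n) = sand (𝟙 X) x b := by
  unfold sand
  rw [Ext.mk₀_id_comp]

theorem sand_sand {X'' X' X Y Y' Y'' : A} {n : ℕ} (a' : X'' ⟶ X') (a : X' ⟶ X)
    (x : Ext.{w} X Y n) (b : Y ⟶ Y') (b' : Y' ⟶ Y'') :
    sand a' (sand a x b) b' = sand (a' ≫ a) x (b ≫ b') := by
  unfold sand
  rw [Ext.comp_assoc_of_third_deg_zero, Ext.comp_assoc_of_third_deg_zero, Ext.mk₀_comp_mk₀]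
  rw [← Ext.mk₀_comp_mk₀ a' a]
  exact (Ext.comp_assoc (Ext.mk₀ a') (Ext.mk₀ a) (x.comp (Ext.mk₀ (b ≫ b')) (add_zero n))
    (zero_add 0) (zero_add n) (by omega)).symm

end Basic

section Map
variable {A : Type u} [Category.{v} A] [Abelian A] [HasExt.{w} A]
  {B : Type u'} [Category.{v'} B] [Abelian B] [HasExt.{w'} B]
  (G : A ⥤ B) [G.Additive] [PreservesFiniteLimits G] [PreservesFiniteColimits G]

theorem map_sand {X' X Y Y' : A} {n : ℕ} (a : X' ⟶ X) (x : Ext.{w} X Y n) (b : Y ⟶ Y') :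
    (sand a x b).mapExactFunctor G = sand (G.map a) (x.mapExactFunctor G) (G.map b) := by
  unfold sand
  rw [Ext.mapExactFunctor_comp, Ext.mapExactFunctor_comp, Ext.mapExactFunctor_mk₀,
    Ext.mapExactFunctor_mk₀]

end Map

section Nat
variable {A : Type u} [Category.{v} A] [Abelian A] [HasExt.{w} A] [EnoughInjectives A]
  {B : Type u'} [Category.{v'} B] [Abelian B] [HasExt.{w'} B]
  {C : Type*} [Category C] [Abelian C] [HasExt.{w'} C]
  (G₁ : A ⥤ B) [G₁.Additive] [PreservesFiniteLimits G₁] [PreservesFiniteColimits G₁]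
  (G₃ : B ⥤ C) [G₃.Additive] [PreservesFiniteLimits G₃] [PreservesFiniteColimits G₃]
  (G₄ : A ⥤ C) [G₄.Additive] [PreservesFiniteLimits G₄] [PreservesFiniteColimits G₄]
  (τ : G₁ ⋙ G₃ ⟶ G₄)

theorem sand_nat {X Y : A} {n : ℕ} (x : Ext.{w} X Y n) :
    sand (𝟙 _) ((x.mapExactFunctor G₁).mapExactFunctor G₃) (τ.app Y) =
      sand (τ.app X) (x.mapExactFunctor G₄) (𝟙 _) := by
  rw [← comp_mk₀_eq, ← mk₀_comp_eq]
  exact Groth.Agent.Lib.Helper4.ExtAdj.mapExactFunctor_comp_nat G₁ G₃ G₄ τ X n Y x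

/-- for a natural isomorphism. -/
theorem map_map_eq (τ : G₁ ⋙ G₃ ≅ G₄) {X Y : A} {n : ℕ} (x : Ext.{w} X Y n) :
    (x.mapExactFunctor G₁).mapExactFunctor G₃ =
      sand (τ.hom.app X) (x.mapExactFunctor G₄) (τ.inv.app Y) := by
  have h := sand_nat G₁ G₃ G₄ τ.hom x
  have h2 := congrArg (fun y => sand (𝟙 _) y (τ.inv.app Y)) h
  simp only [sand_sand, Category.id_comp, Iso.hom_inv_id_app] at h2
  exact (sand_id _).symm.trans h2

end Nat

end Groth.Agent.Lib.Helper28.ExtSand
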