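import Groth.Agent.S14451
import Groth.Agent.Lib.Helper28.BCMate
import Groth.Agent.Lib.Helper28.ExtSand
import Groth.Agent.Lib.Helper4.PullConstComp

/-!
# Compatibility of the edge maps `H^q(Y, f_* F) → H^q(X, F)` with base change
-/

set_option autoImplicit false
set_option linter.unusedSectionVars false
universe u
open CategoryTheory CategoryTheory.Limits AlgebraicGeometry Opposite

namespace Groth.Agent.Lib.Helper28.HofPushBC
open EtCore Abelian Groth.Agent.Lib.Helper4 Groth.Agent.Lib.Helper28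
  Groth.Agent.Lib.Helper28.ExtSand

theorem Hpull_apply {A B : Scheme.{u}} (a : A ⟶ B) [PreservesFiniteLimits (EtCoh.pull a)]
    (G : EtCoh.Ab B) (n : ℕ) (x : EtCoh.H B G n) :
    Hpull a G n x = sand (pullConst a ℤ).inv (x.mapExactFunctor (EtCoh.pull a)) (𝟙 _) :=
  (mk₀_comp_eq _ _)

theorem HF_map_apply {A : Scheme.{u}} {G G' : EtCoh.Ab A} (φ : G ⟶ G') (n : ℕ) (x : EtCoh.H A G n) :
    ((EtCoh.HF A n).map φ).hom x = sand (𝟙 _) x φ := (comp_mk₀_eq _ _)

theorem HofPush_apply {A B : Scheme.{u}} (a : A ⟶ B) [PreservesFiniteLimits (EtCoh.pull a)]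
    (G : EtCoh.Ab A) (n : ℕ) (x : EtCoh.H B ((EtCoh.push a).obj G) n) :
    EtLim.HofPush a G n x = sand (pullConst a ℤ).inv (x.mapExactFunctor (EtCoh.pull a))
      ((EtCoh.pullPushAdj a).counit.app G) := by
  rw [Groth.Agent.S14451.T_apply]
  unfold sand
  rw [Ext.comp_assoc_of_third_deg_zero]

theorem pfl_comp {A B C : Scheme.{u}} (a : A ⟶ B) (b : B ⟶ C)
    [h1 : PreservesFiniteLimits (EtCoh.pull a)] [h2 : PreservesFiniteLimits (EtCoh.pull b)] :
    PreservesFiniteLimits (EtCoh.pull (a ≫ b)) := by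
  have h3 : PreservesFiniteLimits (EtCoh.pull b ⋙ EtCoh.pull a) := comp_preservesFiniteLimits _ _
  exact preservesFiniteLimits_of_natIso (pullComp a b).symm


section Via

variable {A B C : Scheme.{u}} (k : A ⟶ B) (j : B ⟶ C) (j₀ : A ⟶ C) (w : k ≫ j = j₀)
  [PreservesFiniteLimits (EtCoh.pull k)] [PreservesFiniteLimits (EtCoh.pull j)]
  [PreservesFiniteLimits (EtCoh.pull j₀)]

/-- Pulling back twice, in `sand` form. -/
theorem Hpull_Hpull_sand (G : EtCoh.Ab C) (n : ℕ) (x : EtCoh.H C G n) {T₀ : EtCoh.Ab B}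
    {T : EtCoh.Ab A} (b₀ : (EtCoh.pull j).obj G ⟶ T₀) (b : (EtCoh.pull k).obj T₀ ⟶ T) :
    sand (pullConst k ℤ).inv
        ((sand (pullConst j ℤ).inv (x.mapExactFunctor (EtCoh.pull j)) b₀).mapExactFunctor
          (EtCoh.pull k)) b =
      sand (pullConst j₀ ℤ).inv (x.mapExactFunctor (EtCoh.pull j₀))
        (((pullComp k j).symm ≪≫ pullCongr w).inv.app G ≫ (EtCoh.pull k).map b₀ ≫ b) := by
  rw [map_sand, sand_sand,
    map_map_eq (EtCoh.pull j) (EtCoh.pull k) (EtCoh.pull j₀) ((pullComp k j).symm ≪≫ pullCongr w) x, sand_sand]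
  have h := PullConstComp.pullConst_inv_via k j w ℤ
  congr 1

end Via

section Key

variable {X Y X' Y' : Scheme.{u}} (f : X ⟶ Y)
    (g : Y' ⟶ Y) (f' : X' ⟶ Y') (g' : X' ⟶ X) (w : g' ≫ f = f' ≫ g) (F : EtCoh.Ab X)

theorem key0 :
    (pullCongr w).inv.app ((EtCoh.push f).obj F) ≫ (pullComp g' f).hom.app ((EtCoh.push f).obj F) ≫
          (EtCoh.pull g').map ((EtCoh.pullPushAdj f).counit.app F) =
      (pullComp f' g).hom.app ((EtCoh.push f).obj F) ≫
          (EtCoh.pull f').map (EtCoh.baseChange0 f g f' g' w F) ≫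
            (EtCoh.pullPushAdj f').counit.app ((EtCoh.pull g').obj F) := by
  have hm := BCMate.mate f g f' g' w F
  rw [hm, ← Category.assoc, ← NatTrans.comp_app, Iso.inv_hom_id, NatTrans.id_app, Category.id_comp]

theorem pullCongr_rfl_inv_app {A B : Scheme.{u}} (a : A ⟶ B) (M : EtCoh.Ab B) :
    (pullCongr (rfl : a = a)).inv.app M = 𝟙 _ := by
  simp [pullCongr]

theorem key :
    ((pullComp g' f).symm ≪≫ pullCongr w).inv.app ((EtCoh.push f).obj F) ≫
          (EtCoh.pull g').map ((EtCoh.pullPushAdj f).counit.app F) ≫ 𝟙 _ =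
      ((pullComp f' g).symm ≪≫ pullCongr (rfl : f' ≫ g = f' ≫ g)).inv.app ((EtCoh.push f).obj F) ≫
          (EtCoh.pull f').map (EtCoh.baseChange0 f g f' g' w F) ≫
            (EtCoh.pullPushAdj f').counit.app ((EtCoh.pull g').obj F) := by
  rw [Category.comp_id, Iso.trans_inv, Iso.trans_inv, NatTrans.comp_app, NatTrans.comp_app,
    Category.assoc, Category.assoc, pullCongr_rfl_inv_app, Category.id_comp]
  exact key0 f g f' g' w F

end Key

section Square

variable {X Y X' Y' : Scheme.{u}} (f : X ⟶ Y)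
    (g : Y' ⟶ Y) (f' : X' ⟶ Y') (g' : X' ⟶ X) (w : g' ≫ f = f' ≫ g) (F : EtCoh.Ab X) (q : ℕ)
    [PreservesFiniteLimits (EtCoh.pull f)] [PreservesFiniteLimits (EtCoh.pull g)]
    [PreservesFiniteLimits (EtCoh.pull f')] [PreservesFiniteLimits (EtCoh.pull g')]

theorem lhs_eq [PreservesFiniteLimits (EtCoh.pull (f' ≫ g))]
    (ζ : EtCoh.H Y ((EtCoh.push f).obj F) q) :
    EtCore.Hpull g' F q (EtLim.HofPush f F q ζ) =
      sand (pullConst (f' ≫ g) ℤ).inv (ζ.mapExactFunctor (EtCoh.pull (f' ≫ g)))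
        (((pullComp g' f).symm ≪≫ pullCongr w).inv.app ((EtCoh.push f).obj F) ≫
          (EtCoh.pull g').map ((EtCoh.pullPushAdj f).counit.app F) ≫ 𝟙 _) := by
  rw [Hpull_apply, HofPush_apply]
  exact Hpull_Hpull_sand g' f (f' ≫ g) w _ q ζ _ _

theorem mid_eq (ζ : EtCoh.H Y ((EtCoh.push f).obj F) q) :
    ((EtCoh.HF Y' q).map (EtCoh.baseChange0 f g f' g' w F)).hom
      (EtCore.Hpull g ((EtCoh.push f).obj F) q ζ) =
      sand (pullConst g ℤ).inv (ζ.mapExactFunctor (EtCoh.pull g))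
        (EtCoh.baseChange0 f g f' g' w F) := by
  refine (HF_map_apply _ _ _).trans ?_
  rw [Hpull_apply, sand_sand, Category.id_comp, Category.id_comp]

theorem rhs_eq [PreservesFiniteLimits (EtCoh.pull (f' ≫ g))]
    (ζ : EtCoh.H Y ((EtCoh.push f).obj F) q) :
    EtLim.HofPush f' ((EtCoh.pull g').obj F) q
        (((EtCoh.HF Y' q).map (EtCoh.baseChange0 f g f' g' w F)).hom
          (EtCore.Hpull g ((EtCoh.push f).obj F) q ζ)) =
      sand (pullConst (f' ≫ g) ℤ).inv (ζ.mapExactFunctor (EtCoh.pull (f' ≫ g)))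
        (((pullComp f' g).symm ≪≫ pullCongr (rfl : f' ≫ g = f' ≫ g)).inv.app ((EtCoh.push f).obj F) ≫
          (EtCoh.pull f').map (EtCoh.baseChange0 f g f' g' w F) ≫
            (EtCoh.pullPushAdj f').counit.app ((EtCoh.pull g').obj F)) := by
  refine (HofPush_apply _ _ _ _).trans ?_
  rw [mid_eq]
  exact Hpull_Hpull_sand f' g (f' ≫ g) rfl _ q ζ _ _

theorem main (ζ : EtCoh.H Y ((EtCoh.push f).obj F) q) :
    EtCore.Hpull g' F q (EtLim.HofPush f F q ζ) =
      EtLim.HofPush f' ((EtCoh.pull g').obj F) q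
        (((EtCoh.HF Y' q).map (EtCoh.baseChange0 f g f' g' w F)).hom
          (EtCore.Hpull g ((EtCoh.push f).obj F) q ζ)) := by
  have := pfl_comp f' g
  exact (lhs_eq f g f' g' w F q ζ).trans ((congrArg
    (sand (pullConst (f' ≫ g) ℤ).inv (ζ.mapExactFunctor (EtCoh.pull (f' ≫ g))))
    (key f g f' g' w F)).trans (rhs_eq f g f' g' w F q ζ).symm)

end Square

end Groth.Agent.Lib.Helper28.HofPushBC
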