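import Groth.Agent.Lib.Helper28.EtBCEtale
import Groth.Agent.Lib.Helper28.HofPushBC
import Groth.Agent.Lib.Helper4.EtExtShriek
import Groth.Agent.Lib.Helper4.EtStalk

/-!
# Pulling back `Ext` classes out of `j_! ℤ` along a base change

For a cartesian square `j' , f' , f , j` with `j` étale, the map
`Ext^q(j_! ℤ, F) → Ext^q(f⁻¹ j_! ℤ, f⁻¹ F)` is identified (through `Θ` and the isomorphism
`γ : j'_! ℤ ≅ f⁻¹ j_! ℤ`) with `H^q(V, j⁻¹F) → H^q(V', f'⁻¹ j⁻¹ F)`.
-/

set_option autoImplicit false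
set_option linter.unusedSectionVars false
open CategoryTheory CategoryTheory.Limits AlgebraicGeometry Opposite
universe u

namespace Groth.Agent.Lib.Helper28.AcycGamma
open EtCore Abelian Groth.Agent.Lib.Helper4 Groth.Agent.Lib.Helper4.EtExtShriek
open Groth.Agent.Lib.Helper28.ExtSand

local instance pflPull {A B : Scheme.{u}} (a : A ⟶ B) : PreservesFiniteLimits (EtCoh.pull a) :=
  EtStalk.preservesFiniteLimits_pull a

section Gen
variable {V' V Y X : Scheme.{u}} (j : V ⟶ X) [Etale j]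
    (f : Y ⟶ X) (j' : V' ⟶ Y) [Etale j'] (f' : V' ⟶ V)
    (c : EtCoh.pull j ⋙ EtCoh.pull f' ≅ EtCoh.pull f ⋙ EtCoh.pull j')

/-- the adjoint of `γ`. -/
noncomputable def m : EtCoh.const V' ℤ ⟶ (EtCoh.pull j').obj ((EtCoh.pull f).obj (AU j)) :=
  (pullConst f' ℤ).inv ≫ (EtCoh.pull f').map ((adjP j).unit.app (EtCoh.const V ℤ)) ≫
    c.hom.app (AU j)

/-- `j'_! ℤ ⟶ f⁻¹ j_! ℤ`. -/
noncomputable def γ : AU j' ⟶ (EtCoh.pull f).obj (AU j) :=
  ((adjP j').homEquiv _ _).symm (m j f j' f' c)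

theorem unit_γ : (adjP j').unit.app (EtCoh.const V' ℤ) ≫ (EtCoh.pull j').map (γ j f j' f' c) =
    m j f j' f' c := by
  have h := (Adjunction.homEquiv_unit (adj := adjP j') (f := γ j f j' f' c)).symm
  exact h.trans (Equiv.apply_symm_apply _ _)

theorem map_map_comp {K K' : EtCoh.Ab X} {q : ℕ} (x : Ext K K' q) :
    (x.mapExactFunctor (EtCoh.pull f)).mapExactFunctor (EtCoh.pull j') =
      x.mapExactFunctor (EtCoh.pull f ⋙ EtCoh.pull j') := by
  have h := sand_nat (EtCoh.pull f) (EtCoh.pull j') (EtCoh.pull f ⋙ EtCoh.pull j') (𝟙 _) x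
  rw [NatTrans.id_app, NatTrans.id_app] at h
  exact (sand_id _).symm.trans (h.trans (sand_id _))

theorem sand_c {K K' : EtCoh.Ab X} {q : ℕ} (x : Ext K K' q) :
    sand (𝟙 _) ((x.mapExactFunctor (EtCoh.pull j)).mapExactFunctor (EtCoh.pull f')) (c.hom.app K') =
      sand (c.hom.app K) ((x.mapExactFunctor (EtCoh.pull f)).mapExactFunctor (EtCoh.pull j'))
        (𝟙 _) := by
  rw [map_map_comp f j']
  exact sand_nat (EtCoh.pull j) (EtCoh.pull f') (EtCoh.pull f ⋙ EtCoh.pull j') c.hom x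

/-- The big square. -/
theorem bigSquare (F : EtCoh.Ab X) (q : ℕ) (e : Ext (AU j) F q) :
    ΘE j' ((EtCoh.pull f).obj F) q
        ((Ext.mk₀ (γ j f j' f' c)).comp (e.mapExactFunctor (EtCoh.pull f)) (zero_add q)) =
      ((EtCoh.HF V' q).map (c.hom.app F)).hom
        (Hpull f' ((EtCoh.pull j).obj F) q (ΘE j F q e)) := by
  rw [HofPushBC.HF_map_apply, HofPushBC.Hpull_apply, ΘE_apply, ΘE_apply, mk₀_comp_eq, mk₀_comp_eq,
    mk₀_comp_eq, map_sand, map_sand, sand_sand, sand_sand, sand_sand]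
  simp only [CategoryTheory.Functor.map_id, Category.id_comp, Category.comp_id]
  rw [unit_γ]
  have h := congrArg (fun y => sand ((pullConst f' ℤ).inv ≫
    (EtCoh.pull f').map ((adjP j).unit.app (EtCoh.const V ℤ))) y (𝟙 _)) (sand_c j f j' f' c e)
  simp only [sand_sand, Category.comp_id, Category.assoc] at h
  unfold m
  exact h.symm

section Iso
variable (w : j' ≫ f = f' ≫ j)
  (hmate : ∀ G : EtCoh.Ab Y, c.hom.app ((EtCoh.push f).obj G) ≫
      (EtCoh.pull j').map ((EtCoh.pullPushAdj f).counit.app G) =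
    (EtCoh.pull f').map (EtCoh.baseChange0 f j f' j' w G) ≫
      (EtCoh.pullPushAdj f').counit.app ((EtCoh.pull j').obj G))

include hmate in
theorem γ_comp (G : EtCoh.Ab Y) (φ : (EtCoh.pull f).obj (AU j) ⟶ G) :
    (adjP j').homEquiv _ _ (γ j f j' f' c ≫ φ) =
      (pullConst f' ℤ).inv ≫ ((EtCoh.pullPushAdj f').homEquiv _ _).symm
        ((adjP j).homEquiv _ _ ((EtCoh.pullPushAdj f).homEquiv _ _ φ) ≫
          EtCoh.baseChange0 f j f' j' w G) := by
  rw [Adjunction.homEquiv_unit, Functor.map_comp, ← Category.assoc, unit_γ,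
    Adjunction.homEquiv_counit, Adjunction.homEquiv_unit]
  unfold m
  simp only [Functor.map_comp, Category.assoc]
  rw [← hmate G]
  have hn := c.hom.naturality (((EtCoh.pullPushAdj f).homEquiv _ _) φ)
  simp only [Functor.comp_map] at hn
  rw [reassoc_of% hn, ← Functor.map_comp]
  have h2 : (EtCoh.pull f).map (((EtCoh.pullPushAdj f).homEquiv _ _) φ) ≫
      (EtCoh.pullPushAdj f).counit.app G = φ := by
    have h3 := Adjunction.homEquiv_counit (adj := EtCoh.pullPushAdj f)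
      (g := ((EtCoh.pullPushAdj f).homEquiv _ _) φ)
    exact h3.symm.trans (Equiv.symm_apply_apply _ _)
  rw [h2]

include hmate in
theorem isIso_γ (hbc : ∀ G : EtCoh.Ab Y, IsIso (EtCoh.baseChange0 f j f' j' w G)) :
    IsIso (γ j f j' f' c) := by
  rw [isIso_iff_coyoneda_map_bijective]
  intro G
  have hfun : (fun φ : (EtCoh.pull f).obj (AU j) ⟶ G => γ j f j' f' c ≫ φ) =
      fun φ => ((adjP j').homEquiv _ _).symm ((pullConst f' ℤ).inv ≫
        ((EtCoh.pullPushAdj f').homEquiv _ _).symm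
          ((adjP j).homEquiv _ _ ((EtCoh.pullPushAdj f).homEquiv _ _ φ) ≫
            EtCoh.baseChange0 f j f' j' w G)) := by
    funext φ
    rw [← γ_comp j f j' f' c w hmate G φ]
    exact (Equiv.symm_apply_apply _ _).symm
  rw [hfun]
  have := hbc G
  let E : ((EtCoh.pull f).obj (AU j) ⟶ G) ≃ (AU j' ⟶ G) :=
    (((EtCoh.pullPushAdj f).homEquiv _ _).trans ((adjP j).homEquiv _ _)).trans
      (((asIso (EtCoh.baseChange0 f j f' j' w G)).homToEquiv).trans
        ((((EtCoh.pullPushAdj f').homEquiv _ _).symm.trans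
          (pullConst f' ℤ).homFromEquiv).trans ((adjP j').homEquiv _ _).symm))
  exact E.bijective

end Iso

section Main

theorem precomp_bijective (hγ : IsIso (γ j f j' f' c)) (K : EtCoh.Ab Y) (q : ℕ) :
    Function.Bijective (fun y : Ext ((EtCoh.pull f).obj (AU j)) K q =>
      (Ext.mk₀ (γ j f j' f' c)).comp y (zero_add q)) := by
  refine Function.bijective_iff_has_inverse.2
    ⟨fun z => (Ext.mk₀ (inv (γ j f j' f' c))).comp z (zero_add q), fun y => ?_, fun z => ?_⟩
  · change (Ext.mk₀ (inv (γ j f j' f' c))).comp ((Ext.mk₀ (γ j f j' f' c)).comp y (zero_add q))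
      (zero_add q) = y
    rw [Ext.mk₀_comp_mk₀_assoc, IsIso.inv_hom_id, Ext.mk₀_id_comp]
  · change (Ext.mk₀ (γ j f j' f' c)).comp ((Ext.mk₀ (inv (γ j f j' f' c))).comp z (zero_add q))
      (zero_add q) = z
    rw [Ext.mk₀_comp_mk₀_assoc, IsIso.hom_inv_id, Ext.mk₀_id_comp]

theorem HFmap_bijective {A : Scheme.{u}} {G G' : EtCoh.Ab A} (φ : G ⟶ G') [IsIso φ] (q : ℕ) :
    Function.Bijective ((EtCoh.HF A q).map φ).hom := by
  exact ConcreteCategory.bijective_of_isIso ((EtCoh.HF A q).map φ)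

theorem comp_eq (F : EtCoh.Ab X) (q : ℕ) :
    ((ΘE j' ((EtCoh.pull f).obj F) q) ∘ (fun y : Ext ((EtCoh.pull f).obj (AU j)) _ q =>
      (Ext.mk₀ (γ j f j' f' c)).comp y (zero_add q))) ∘
        (fun e : Ext (AU j) F q => e.mapExactFunctor (EtCoh.pull f)) =
      (((EtCoh.HF V' q).map (c.hom.app F)).hom ∘ (Hpull f' ((EtCoh.pull j).obj F) q)) ∘
        (ΘE j F q) := by
  funext e
  exact bigSquare j f j' f' c F q e

theorem mapPull_bijective (hγ : IsIso (γ j f j' f' c)) (F : EtCoh.Ab X) (q : ℕ)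
    (hq : Function.Bijective (Hpull f' ((EtCoh.pull j).obj F) q)) :
    Function.Bijective (fun e : Ext (AU j) F q => e.mapExactFunctor (EtCoh.pull f)) := by
  have hT : Function.Bijective ((ΘE j' ((EtCoh.pull f).obj F) q) ∘
      (fun y : Ext ((EtCoh.pull f).obj (AU j)) _ q =>
        (Ext.mk₀ (γ j f j' f' c)).comp y (zero_add q))) :=
    (ΘE j' ((EtCoh.pull f).obj F) q).bijective.comp (precomp_bijective j f j' f' c hγ _ q)
  rw [← Function.Bijective.of_comp_iff' hT, comp_eq]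
  exact ((HFmap_bijective (c.hom.app F) q).comp hq).comp (ΘE j F q).bijective

theorem mapPull_injective (hγ : IsIso (γ j f j' f' c)) (F : EtCoh.Ab X) (q : ℕ)
    (hq : Function.Injective (Hpull f' ((EtCoh.pull j).obj F) q)) :
    Function.Injective (fun e : Ext (AU j) F q => e.mapExactFunctor (EtCoh.pull f)) := by
  have hT : Function.Injective ((ΘE j' ((EtCoh.pull f).obj F) q) ∘
      (fun y : Ext ((EtCoh.pull f).obj (AU j)) _ q =>
        (Ext.mk₀ (γ j f j' f' c)).comp y (zero_add q))) :=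
    (ΘE j' ((EtCoh.pull f).obj F) q).injective.comp (precomp_bijective j f j' f' c hγ _ q).1
  rw [← Function.Injective.of_comp_iff hT, comp_eq]
  exact ((HFmap_bijective (c.hom.app F) q).1.comp hq).comp (ΘE j F q).injective

end Main

end Gen
section Inst
variable {V' V Y X : Scheme.{u}} (j : V ⟶ X) [Etale j]
    (f : Y ⟶ X) (j' : V' ⟶ Y) [Etale j'] (f' : V' ⟶ V) (w : j' ≫ f = f' ≫ j)

/-- the canonical isomorphism `f'⁻¹ j⁻¹ ≅ j'⁻¹ f⁻¹`. -/
noncomputable def cIso : EtCoh.pull j ⋙ EtCoh.pull f' ≅ EtCoh.pull f ⋙ EtCoh.pull j' :=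
  (pullComp f' j).symm ≪≫ (pullCongr w).symm ≪≫ pullComp j' f

theorem cIso_hom : (cIso j f j' f' w).hom =
    (pullComp f' j).inv ≫ (pullCongr w).inv ≫ (pullComp j' f).hom := rfl

theorem comp_app₃ (K : EtCoh.Ab X) :
    ((pullComp f' j).inv ≫ (pullCongr w).inv ≫ (pullComp j' f).hom).app K =
      (pullComp f' j).inv.app K ≫ (pullCongr w).inv.app K ≫ (pullComp j' f).hom.app K := rfl

theorem cIso_hom_app (K : EtCoh.Ab X) : (cIso j f j' f' w).hom.app K =
    (pullComp f' j).inv.app K ≫ (pullCongr w).inv.app K ≫ (pullComp j' f).hom.app K :=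
  (congrArg (fun t => NatTrans.app t K) (cIso_hom j f j' f' w)).trans (comp_app₃ j f j' f' w K)

theorem cIso_mate (G : EtCoh.Ab Y) :
    (cIso j f j' f' w).hom.app ((EtCoh.push f).obj G) ≫
      (EtCoh.pull j').map ((EtCoh.pullPushAdj f).counit.app G) =
    (EtCoh.pull f').map (EtCoh.baseChange0 f j f' j' w G) ≫
      (EtCoh.pullPushAdj f').counit.app ((EtCoh.pull j').obj G) := by
  have hk := HofPushBC.key0 f j f' j' w G
  rw [cIso_hom_app, Category.assoc, Category.assoc, hk, Iso.inv_hom_id_app_assoc]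

end Inst

section Pb
variable {V' V Y X : Scheme.{u}} (j : V ⟶ X) [Etale j]
    (f : Y ⟶ X) (j' : V' ⟶ Y) [Etale j'] (f' : V' ⟶ V) (h : IsPullback j' f' f j)

include h in
theorem isIso_γ_of_isPullback : IsIso (γ j f j' f' (cIso j f j' f' h.w)) :=
  isIso_γ j f j' f' _ h.w (cIso_mate j f j' f' h.w)
    (fun G => EtBCEtale.isIso_baseChange0 j f j' f' h G)

include h in
theorem mapPull_bijective_of_isPullback (F : EtCoh.Ab X) (q : ℕ)
    (hq : Function.Bijective (Hpull f' ((EtCoh.pull j).obj F) q)) :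
    Function.Bijective (fun e : Ext (AU j) F q => e.mapExactFunctor (EtCoh.pull f)) :=
  mapPull_bijective j f j' f' _ (isIso_γ_of_isPullback j f j' f' h) F q hq

include h in
theorem mapPull_injective_of_isPullback (F : EtCoh.Ab X) (q : ℕ)
    (hq : Function.Injective (Hpull f' ((EtCoh.pull j).obj F) q)) :
    Function.Injective (fun e : Ext (AU j) F q => e.mapExactFunctor (EtCoh.pull f)) :=
  mapPull_injective j f j' f' _ (isIso_γ_of_isPullback j f j' f' h) F q hq

end Pb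

end Groth.Agent.Lib.Helper28.AcycGamma
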