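import Mathlib.Algebra.Homology.DerivedCategory.Ext.ExactSequences
import Mathlib.Algebra.Homology.DerivedCategory.Ext.EnoughInjectives
import Mathlib.Algebra.Homology.DerivedCategory.Ext.Map
import Mathlib.CategoryTheory.Abelian.Injective.Basic
import Mathlib.CategoryTheory.Preadditive.Injective.Preserves
import Mathlib.CategoryTheory.Adjunction.Additive

/-!
# Edge maps of an adjunction with exact left adjoint in low degrees

For an adjunction `L ⊣ R` between abelian categories with `L` exact, the maps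
`θ : Ext^n(T, R G) → Ext^n(L T, G)` are injective for `n = 1`, and for `n = 2` as soon as
`R` keeps an injective embedding of `G` short exact (`R¹R(G) = 0`).
-/

namespace Groth.Agent.Lib.Helper28.ExtAdjEdge

open CategoryTheory Limits Abelian

universe w w' v v' u u'

variable {A : Type u} [Category.{v} A] [Abelian A] [HasExt.{w} A]
  {B : Type u'} [Category.{v'} B] [Abelian B] [HasExt.{w'} B]
  {L : A ⥤ B} {R : B ⥤ A} (adj : L ⊣ R) [L.Additive] [PreservesFiniteLimits L]
  [PreservesFiniteColimits L]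

/-- The edge map. -/
noncomputable def θ (T : A) (G : B) (n : ℕ) (e : Ext T (R.obj G) n) : Ext (L.obj T) G n :=
  (e.mapExactFunctor L).comp (Ext.mk₀ (adj.counit.app G)) (add_zero n)

include adj in
lemma injective_R (I : B) [Injective I] : Injective (R.obj I) :=
  Injective.injective_of_adjoint adj I

include adj in
lemma R_additive : R.Additive := adj.right_adjoint_additive

include adj in
lemma R_pfl : PreservesFiniteLimits R :=
  have : PreservesLimitsOfSize.{0, 0} R := adj.rightAdjoint_preservesLimits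
  PreservesLimitsOfSize.preservesFiniteLimits _

/-- Core of the degree one statement, for a given injective embedding. -/
theorem eq_zero_of_θ₁ (T : A) (S : ShortComplex B) (hS : S.ShortExact) [Injective S.X₂]
    (e : Ext T (R.obj S.X₁) 1) (h : θ adj T S.X₁ 1 e = 0) : e = 0 := by
  have hRa := R_additive adj
  have hRl := R_pfl adj
  have hRI := injective_R adj S.X₂
  have hSf := hS.mono_f
  have hmono : Mono (R.map S.f) := inferInstance
  have hex : (S.map R).Exact :=
    hS.exact.map_of_mono_of_preservesKernel R inferInstance inferInstance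
  -- the cokernel sequence
  let SC : ShortComplex A :=
    ShortComplex.mk (R.map S.f) (cokernel.π (R.map S.f)) (cokernel.condition _)
  have hSC : SC.ShortExact :=
    ShortComplex.ShortExact.mk' (ShortComplex.exact_cokernel _) hmono inferInstance
  have hI : Injective SC.X₂ := hRI
  let m : cokernel (R.map S.f) ⟶ R.obj S.X₃ := cokernel.desc (R.map S.f) (R.map S.g) (S.map R).zero
  have hm : Mono m := (S.map R).exact_iff_mono_cokernel_desc.1 hex
  have hπm : cokernel.π (R.map S.f) ≫ m = R.map S.g := cokernel.π_desc _ _ _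
  obtain ⟨x₃, hx₃⟩ := Ext.covariant_sequence_exact₁ T hSC e
    (Ext.eq_zero_of_injective _) (zero_add 1)
  obtain ⟨c, rfl⟩ := (Ext.mk₀_bijective _ _).2 x₃
  -- the morphism of short exact sequences given by the counit
  let φ : SC.map L ⟶ S :=
    { τ₁ := adj.counit.app S.X₁
      τ₂ := adj.counit.app S.X₂
      τ₃ := L.map m ≫ adj.counit.app S.X₃
      comm₁₂ := (adj.counit.naturality S.f).symm
      comm₂₃ := by
        change adj.counit.app S.X₂ ≫ S.g =
          L.map (cokernel.π (R.map S.f)) ≫ L.map m ≫ adj.counit.app S.X₃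
        rw [← L.map_comp_assoc, hπm]
        exact (adj.counit.naturality S.g).symm }
  have hnat := ShortComplex.ShortExact.extClass_naturality (hSC.map_of_exact L) hS φ
  have a1 : ((Ext.mk₀ c).comp hSC.extClass (zero_add 1)).mapExactFunctor L =
      (Ext.mk₀ (L.map c)).comp (hSC.map_of_exact L).extClass (zero_add 1) := by
    rw [Ext.mapExactFunctor_comp, Ext.mapExactFunctor_mk₀, Ext.mapExactFunctor_extClass]
    rfl
  have a2 : ((Ext.mk₀ (L.map c)).comp (hSC.map_of_exact L).extClass (zero_add 1)).comp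
      (Ext.mk₀ (adj.counit.app S.X₁)) (add_zero 1) =
      (Ext.mk₀ (L.map c)).comp ((hSC.map_of_exact L).extClass.comp (Ext.mk₀ φ.τ₁) (add_zero 1))
        (zero_add 1) :=
    Ext.comp_assoc_of_third_deg_zero _ _ _ _
  have a3 : (Ext.mk₀ (L.map c)).comp ((Ext.mk₀ φ.τ₃).comp hS.extClass (zero_add 1)) (zero_add 1) =
      (Ext.mk₀ (L.map c ≫ L.map m ≫ adj.counit.app S.X₃)).comp hS.extClass (zero_add 1) :=
    (Ext.comp_assoc_of_second_deg_zero (Ext.mk₀ (L.map c)) (Ext.mk₀ φ.τ₃) hS.extClass
      (zero_add 1)).symm.trans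
      (congrArg (fun z => z.comp hS.extClass (zero_add 1)) (Ext.mk₀_comp_mk₀ (L.map c) φ.τ₃))
  have h1 : θ adj T S.X₁ 1 ((Ext.mk₀ c).comp hSC.extClass (zero_add 1)) =
      (Ext.mk₀ (L.map c ≫ L.map m ≫ adj.counit.app S.X₃)).comp hS.extClass (zero_add 1) :=
    (congrArg (fun z => z.comp (Ext.mk₀ (adj.counit.app S.X₁)) (add_zero 1)) a1).trans
      (a2.trans ((congrArg (fun z => (Ext.mk₀ (L.map c)).comp z (zero_add 1)) hnat).trans a3))
  rw [← hx₃, h1] at h
  obtain ⟨x₂, hx₂⟩ := Ext.covariant_sequence_exact₃ (L.obj T) hS _ (zero_add 1) h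
  obtain ⟨k, rfl⟩ := (Ext.mk₀_bijective _ _).2 x₂
  rw [Ext.mk₀_comp_mk₀] at hx₂
  have hk : k ≫ S.g = L.map c ≫ L.map m ≫ adj.counit.app S.X₃ := (Ext.mk₀_bijective _ _).1 hx₂
  -- transpose
  have hy : adj.homEquiv _ _ k ≫ R.map S.g = c ≫ m := by
    rw [← Adjunction.homEquiv_naturality_right, hk, ← L.map_comp_assoc]
    have hcu := Adjunction.homEquiv_counit adj T S.X₃ (c ≫ m)
    rw [← hcu]
    exact Equiv.apply_symm_apply _ _
  have hc : adj.homEquiv _ _ k ≫ cokernel.π (R.map S.f) = c := by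
    rw [← cancel_mono m, Category.assoc, hπm, hy]
  rw [← hx₃, ← hc, ← Ext.mk₀_comp_mk₀, Ext.comp_assoc_of_second_deg_zero]
  have : (Ext.mk₀ (cokernel.π (R.map S.f))).comp hSC.extClass (zero_add 1) = 0 := hSC.comp_extClass
  rw [this, Ext.comp_zero]

variable [EnoughInjectives B]

theorem eq_zero_of_θ₁' (T : A) (G : B) (e : Ext T (R.obj G) 1) (h : θ adj T G 1 e = 0) : e = 0 := by
  let S : ShortComplex B :=
    ShortComplex.mk (Injective.ι G) (cokernel.π (Injective.ι G)) (cokernel.condition _)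
  have hS : S.ShortExact :=
    ShortComplex.ShortExact.mk' (ShortComplex.exact_cokernel _) inferInstance inferInstance
  have hI : Injective S.X₂ := inferInstanceAs (Injective (Injective.under G))
  exact eq_zero_of_θ₁ adj T S hS e h

/-- The degree two statement. -/
theorem eq_zero_of_θ₂ (T : A) (S : ShortComplex B) (hS : S.ShortExact) [Injective S.X₂]
    (hepi : Epi (R.map S.g)) (e : Ext T (R.obj S.X₁) 2) (h : θ adj T S.X₁ 2 e = 0) : e = 0 := by
  have hRa := R_additive adj
  have hRl := R_pfl adj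
  have hRI := injective_R adj S.X₂
  have hSf := hS.mono_f
  have hmono : Mono (R.map S.f) := inferInstance
  have hex : (S.map R).Exact :=
    hS.exact.map_of_mono_of_preservesKernel R inferInstance inferInstance
  let SA : ShortComplex A := ShortComplex.mk (R.map S.f) (R.map S.g) (S.map R).zero
  have hSA : SA.ShortExact := ShortComplex.ShortExact.mk' hex hmono hepi
  have hI : Injective SA.X₂ := hRI
  obtain ⟨β, hβ⟩ := Ext.covariant_sequence_exact₁ T hSA e
    (Ext.eq_zero_of_injective _) (rfl : 1 + 1 = 2)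
  let φ : SA.map L ⟶ S :=
    { τ₁ := adj.counit.app S.X₁
      τ₂ := adj.counit.app S.X₂
      τ₃ := adj.counit.app S.X₃
      comm₁₂ := (adj.counit.naturality S.f).symm
      comm₂₃ := (adj.counit.naturality S.g).symm }
  have hnat := ShortComplex.ShortExact.extClass_naturality (hSA.map_of_exact L) hS φ
  let β' : Ext T (R.obj S.X₃) 1 := β
  have hβ' : β'.comp hSA.extClass (rfl : 1 + 1 = 2) = e := hβ
  have b1 : (β'.comp hSA.extClass (rfl : 1 + 1 = 2)).mapExactFunctor L =
      (β'.mapExactFunctor L).comp (hSA.map_of_exact L).extClass (rfl : 1 + 1 = 2) := by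
    rw [Ext.mapExactFunctor_comp, Ext.mapExactFunctor_extClass]
    rfl
  have b2 : ((β'.mapExactFunctor L).comp (hSA.map_of_exact L).extClass (rfl : 1 + 1 = 2)).comp
      (Ext.mk₀ (adj.counit.app S.X₁)) (add_zero 2) =
      (β'.mapExactFunctor L).comp ((hSA.map_of_exact L).extClass.comp (Ext.mk₀ φ.τ₁) (add_zero 1))
        (rfl : 1 + 1 = 2) :=
    Ext.comp_assoc_of_third_deg_zero _ _ _ _
  have b3 : (β'.mapExactFunctor L).comp ((Ext.mk₀ φ.τ₃).comp hS.extClass (zero_add 1))
      (rfl : 1 + 1 = 2) = (θ adj T S.X₃ 1 β').comp hS.extClass (rfl : 1 + 1 = 2) :=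
    (Ext.comp_assoc_of_second_deg_zero _ _ _ _).symm
  have h1 : θ adj T S.X₁ 2 (β'.comp hSA.extClass (rfl : 1 + 1 = 2)) =
      (θ adj T S.X₃ 1 β').comp hS.extClass (rfl : 1 + 1 = 2) :=
    (congrArg (fun z => z.comp (Ext.mk₀ (adj.counit.app S.X₁)) (add_zero 2)) b1).trans
      (b2.trans ((congrArg (fun z => (β'.mapExactFunctor L).comp z (rfl : 1 + 1 = 2)) hnat).trans b3))
  rw [← hβ', h1] at h
  obtain ⟨x₂, hx₂⟩ := Ext.covariant_sequence_exact₃ (L.obj T) hS _ (rfl : 1 + 1 = 2) h
  have hx₂0 : x₂ = 0 := Ext.eq_zero_of_injective x₂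
  rw [hx₂0, Ext.zero_comp] at hx₂
  have hβ0 : β' = 0 := eq_zero_of_θ₁' adj T S.X₃ β' hx₂.symm
  rw [← hβ', hβ0]
  exact Ext.zero_comp T 1 hSA.extClass 2 (rfl : 1 + 1 = 2)

end Groth.Agent.Lib.Helper28.ExtAdjEdge
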