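import Groth.Agent.Lib.Helper28.GalH90W
import Groth.Agent.Lib.Helper28.ExtAdjEdge
import Groth.Prelude.Def_EtLim

set_option autoImplicit false
open CategoryTheory CategoryTheory.Limits AlgebraicGeometry Opposite
universe u

namespace Groth.Agent.Lib.Helper28.GalH90Push
open GalTors Abelian

section General
variable {X Y : Scheme.{u}} (i : X ⟶ Y) [PreservesFiniteLimits (EtCoh.pull i)]

lemma HofPush_eq (F : EtCoh.Ab X) (n : ℕ) (e : EtCoh.H Y ((EtCoh.push i).obj F) n) :
    EtLim.HofPush i F n e = (Ext.mk₀ (EtCore.pullConst i ℤ).inv).comp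
      (ExtAdjEdge.θ (EtCoh.pullPushAdj i) (EtCoh.const Y ℤ) F n e) (zero_add n) := by
  unfold ExtAdjEdge.θ
  rw [← Ext.comp_assoc_of_third_deg_zero]
  rfl

lemma θ_eq_zero (F : EtCoh.Ab X) (n : ℕ) (e : EtCoh.H Y ((EtCoh.push i).obj F) n)
    (h : EtLim.HofPush i F n e = 0) :
    ExtAdjEdge.θ (EtCoh.pullPushAdj i) (EtCoh.const Y ℤ) F n e = 0 := by
  rw [HofPush_eq] at h
  have h1 := congrArg (fun z => (Ext.mk₀ (EtCore.pullConst i ℤ).hom).comp z (zero_add n)) h
  simp only [Ext.comp_zero] at h1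
  rw [← Ext.comp_assoc_of_second_deg_zero, Ext.mk₀_comp_mk₀, Iso.hom_inv_id, Ext.mk₀_id_comp] at h1
  exact h1

end General

section Field
variable (k : Type u) [Field k] {Y : Scheme.{u}} (i : X k ⟶ Y)

/-- `R¹i_* G_m = 0` in the form needed: `i_*` keeps a short exact sequence starting with `G_m`
right exact. -/
theorem epi_push {X₂ X₃ : EtCoh.Ab (X k)} (f : EtCoh.Gm (X k) ⟶ X₂) (g : X₂ ⟶ X₃)
    (w : f ≫ g = 0) (hS : (ShortComplex.mk f g w).ShortExact) :
    Epi ((EtCoh.push i).map g) := by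
  refine (Sheaf.isLocallySurjective_iff_epi' _ ((EtCoh.push i).map g)).1 ?_
  refine Presheaf.isLocallySurjective_of_surjective _ _ ?_
  intro V q
  exact GalH90W.exists_lift_W k f g w hS ((EtCoh.bc i).obj V.unop) q

variable [PreservesFiniteLimits (EtCoh.pull i)]

theorem eq_zero_H1_push (α : EtCoh.H Y ((EtCoh.push i).obj (EtCoh.Gm (X k))) 1) : α = 0 := by
  apply ExtAdjEdge.eq_zero_of_θ₁' (EtCoh.pullPushAdj i) (EtCoh.const Y ℤ) (EtCoh.Gm (X k)) α
  apply θ_eq_zero i
  exact GalH90.eq_zero_H1 k _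

theorem injective_HofPush₂ :
    Function.Injective (EtLim.HofPush i (EtCoh.Gm (X k)) 2) := by
  rw [injective_iff_map_eq_zero]
  intro e he
  let F := EtCoh.Gm (X k)
  let S : ShortComplex (EtCoh.Ab (X k)) :=
    ShortComplex.mk (Injective.ι F) (cokernel.π (Injective.ι F)) (cokernel.condition _)
  have hS : S.ShortExact :=
    ShortComplex.ShortExact.mk' (ShortComplex.exact_cokernel _) inferInstance inferInstance
  have hI : Injective S.X₂ := inferInstanceAs (Injective (Injective.under F))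
  have hepi : Epi ((EtCoh.push i).map S.g) :=
    epi_push k i (Injective.ι F) (cokernel.π (Injective.ι F)) (cokernel.condition _) hS
  exact ExtAdjEdge.eq_zero_of_θ₂ (EtCoh.pullPushAdj i) (EtCoh.const Y ℤ) S hS hepi e
    (θ_eq_zero i F 2 e he)

end Field

end Groth.Agent.Lib.Helper28.GalH90Push
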