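import Groth.Agent.S0642
import Groth.Agent.S14451
import Groth.Agent.Lib.Helper28.GalH90Push

/-!
# Truncated Leray comparison

If `R^q f_* G = 0` for `1 ≤ q ≤ m`, then `H^q(Y, f_* G) → H^q(X, G)` is bijective for `q ≤ m` and
injective for `q = m + 1`.
-/

set_option autoImplicit false
set_option linter.unusedSectionVars false
universe u
open CategoryTheory CategoryTheory.Limits AlgebraicGeometry
open EtCore

namespace Groth.Agent.Lib.Helper28.AcycLeray
open Abelian Groth.Agent.S14451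

variable {X Y : Scheme.{u}} (f : X ⟶ Y) [PreservesFiniteLimits (EtCoh.pull f)]

theorem T_one_injective (F : EtCoh.Ab X) : Function.Injective (EtLim.HofPush f F 1) := by
  rw [injective_iff_map_eq_zero]
  intro x hx
  exact ExtAdjEdge.eq_zero_of_θ₁' (EtCoh.pullPushAdj f) _ F x (GalH90Push.θ_eq_zero f F 1 x hx)

theorem T_succ_injective (n : ℕ) (F : EtCoh.Ab X)
    (hS' : ((injSC F).map (EtCoh.push f)).ShortExact)
    (hI : Function.Surjective (EtLim.HofPush f (injSC F).X₂ n))
    (hQ : Function.Injective (EtLim.HofPush f (injSC F).X₃ n)) :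
    Function.Injective (EtLim.HofPush f F (n + 1)) := by
  let S := injSC F
  have hS : S.ShortExact := injSC_shortExact F
  have hinjI : Injective ((S.map (EtCoh.push f)).X₂) := injective_push f S.X₂
  rw [injective_iff_map_eq_zero]
  intro x hx
  have hx0 : x.comp (Ext.mk₀ (S.map (EtCoh.push f)).f) (add_zero (n + 1)) = 0 :=
    Ext.eq_zero_of_injective _
  obtain ⟨z', hz'⟩ := Ext.covariant_sequence_exact₁ _ hS' x hx0 rfl
  have h1 : (EtLim.HofPush f S.X₃ n z').comp hS.extClass rfl = 0 := by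
    rw [← T_delta f S hS hS' n z', hz']
    exact hx
  obtain ⟨w, hw⟩ := Ext.covariant_sequence_exact₃ _ hS (EtLim.HofPush f S.X₃ n z') rfl h1
  obtain ⟨w', rfl⟩ := hI w
  have h2 : z' = w'.comp (Ext.mk₀ (S.map (EtCoh.push f)).g) (add_zero n) := by
    apply hQ
    rw [← hw]
    exact (T_natural f S.g n w').symm
  rw [← hz', h2, Ext.comp_assoc_of_second_deg_zero]
  exact (congrArg (fun e => Ext.comp w' e rfl) hS'.comp_extClass).trans
    (Ext.comp_zero _ _ _ _ _)

theorem T_succ_surjective (n : ℕ) (F : EtCoh.Ab X)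
    (hS' : ((injSC F).map (EtCoh.push f)).ShortExact)
    (hQ : Function.Surjective (EtLim.HofPush f (injSC F).X₃ n)) :
    Function.Surjective (EtLim.HofPush f F (n + 1)) := by
  let S := injSC F
  have hS : S.ShortExact := injSC_shortExact F
  intro y
  have hy0 : y.comp (Ext.mk₀ S.f) (add_zero (n + 1)) = 0 := Ext.eq_zero_of_injective _
  obtain ⟨z, hz⟩ := Ext.covariant_sequence_exact₁ _ hS y hy0 rfl
  obtain ⟨z', rfl⟩ := hQ z
  exact ⟨z'.comp hS'.extClass rfl, (T_delta f S hS hS' n z').trans hz⟩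

open Groth.Agent.Lib.Helper68 in
theorem coker_vanish (F : EtCoh.Ab X) (m : ℕ)
    (hR : ∀ q : ℕ, 0 < q → q ≤ m + 1 → IsZero ((EtCoh.Rpush f q).obj F)) (q : ℕ) (hq : 0 < q)
    (hqm : q ≤ m) : IsZero ((EtCoh.Rpush f q).obj (injSC F).X₃) := by
  obtain ⟨q, rfl⟩ : ∃ j, q = j + 1 := ⟨q - 1, by omega⟩
  exact RightDerivedLES.isZero_right (EtCoh.push f) (injSC_shortExact F) (q + 1)
    (Functor.isZero_rightDerived_obj_injective_succ (EtCoh.push f) q (injSC F).X₂)
    (hR (q + 1 + 1) (by omega) (by omega))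

theorem injective_all (F : EtCoh.Ab X) [Injective F] (q : ℕ) :
    Function.Bijective (EtLim.HofPush f F q) :=
  Groth.Agent.S14451.result f F (fun q hq => by
    obtain ⟨q, rfl⟩ : ∃ j, q = j + 1 := ⟨q - 1, by omega⟩
    exact Functor.isZero_rightDerived_obj_injective_succ (EtCoh.push f) q F) q

/-- Truncated Leray comparison. -/
theorem truncated (m : ℕ) : ∀ (F : EtCoh.Ab X),
    (∀ q : ℕ, 0 < q → q ≤ m → IsZero ((EtCoh.Rpush f q).obj F)) →
    (∀ q : ℕ, q ≤ m → Function.Bijective (EtLim.HofPush f F q)) ∧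
      Function.Injective (EtLim.HofPush f F (m + 1)) := by
  induction m with
  | zero =>
    intro F _
    refine ⟨fun q hq => ?_, T_one_injective f F⟩
    obtain rfl : q = 0 := by omega
    exact T_zero_bijective f F
  | succ m IH =>
    intro F hR
    have hS' : ((injSC F).map (EtCoh.push f)).ShortExact :=
      push_injSC_shortExact f F (hR 1 Nat.one_pos (by omega))
    obtain ⟨hQb, hQi⟩ := IH (injSC F).X₃ (fun q hq hqm => coker_vanish f F m hR q hq hqm)
    refine ⟨fun q hq => ?_, ?_⟩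
    · rcases q with _ | k
      · exact T_zero_bijective f F
      · exact ⟨T_succ_injective f k F hS' (injective_all f _ k).2 (hQb k (by omega)).1,
          T_succ_surjective f k F hS' (hQb k (by omega)).2⟩
    · exact T_succ_injective f (m + 1) F hS' (injective_all f _ (m + 1)).2 hQi

/-- (i) ⇒ (ii) for a single sheaf. -/
theorem comp_of_unit_iso (F : EtCoh.Ab Y) (n : ℕ)
    (hu : IsIso ((EtCoh.pullPushAdj f).unit.app F))
    (hR : ∀ q : ℕ, 1 ≤ q → q ≤ n →
      IsZero ((EtCoh.Rpush f q).obj ((EtCoh.pull f).obj F))) :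
    (∀ q : ℕ, q ≤ n → Function.Bijective (EtCore.Hpull f F q)) ∧
      Function.Injective (EtCore.Hpull f F (n + 1)) := by
  obtain ⟨hb, hi⟩ := truncated f n ((EtCoh.pull f).obj F) (fun q hq hqn => hR q hq hqn)
  have hunit : ∀ q : ℕ, Function.Bijective
      (fun x : EtCoh.H Y F q => x.comp (Ext.mk₀ ((EtCoh.pullPushAdj f).unit.app F)) (add_zero q)) := by
    intro q
    refine Function.bijective_iff_has_inverse.2
      ⟨fun y => y.comp (Ext.mk₀ (inv ((EtCoh.pullPushAdj f).unit.app F))) (add_zero q),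
        fun x => ?_, fun y => ?_⟩
    · change (x.comp (Ext.mk₀ ((EtCoh.pullPushAdj f).unit.app F)) (add_zero q)).comp
        (Ext.mk₀ (inv ((EtCoh.pullPushAdj f).unit.app F))) (add_zero q) = x
      rw [Ext.comp_assoc_of_third_deg_zero, Ext.mk₀_comp_mk₀, IsIso.hom_inv_id, Ext.comp_mk₀_id]
    · change (y.comp (Ext.mk₀ (inv ((EtCoh.pullPushAdj f).unit.app F))) (add_zero q)).comp
        (Ext.mk₀ ((EtCoh.pullPushAdj f).unit.app F)) (add_zero q) = y
      rw [Ext.comp_assoc_of_third_deg_zero, Ext.mk₀_comp_mk₀, IsIso.inv_hom_id, Ext.comp_mk₀_id]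
  have heq : ∀ q : ℕ, (EtCore.Hpull f F q : EtCoh.H Y F q → _) =
      (EtLim.HofPush f ((EtCoh.pull f).obj F) q) ∘
        (fun x : EtCoh.H Y F q =>
          x.comp (Ext.mk₀ ((EtCoh.pullPushAdj f).unit.app F)) (add_zero q)) := by
    intro q
    funext x
    exact Groth.Agent.S0642.Hpull_eq f F q x
  refine ⟨fun q hq => ?_, ?_⟩
  · rw [heq q]
    exact (hb q hq).comp (hunit q)
  · rw [heq (n + 1)]
    exact hi.comp (hunit (n + 1)).1

end Groth.Agent.Lib.Helper28.AcycLeray
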