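import Groth.Agent.Lib.Helper28.AcycLeray

/-!
# Truncated Leray comparison with an arbitrary first argument

For `K` on `Y` and `G` on `X` with `R^q f_* G = 0` for `1 ≤ q ≤ m`, the adjunction maps
`Ext^q(K, f_* G) → Ext^q(f⁻¹ K, G)` are bijective for `q ≤ m` and injective for `q = m + 1`.
-/

set_option autoImplicit false
set_option linter.unusedSectionVars false
universe u
open CategoryTheory CategoryTheory.Limits AlgebraicGeometry
open EtCore

namespace Groth.Agent.Lib.Helper28.AcycLerayK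
open Abelian Groth.Agent.S14451 Groth.Agent.Lib.Helper28.AcycLeray

variable {X Y : Scheme.{u}} (f : X ⟶ Y) [PreservesFiniteLimits (EtCoh.pull f)]

/-- the adjunction map on `Ext`. -/
noncomputable def θK (K : EtCoh.Ab Y) (G : EtCoh.Ab X) (q : ℕ) :
    Ext K ((EtCoh.push f).obj G) q →+ Ext ((EtCoh.pull f).obj K) G q :=
  AddMonoidHom.mk' (fun x => (x.mapExactFunctor (EtCoh.pull f)).comp
    (Ext.mk₀ ((EtCoh.pullPushAdj f).counit.app G)) (add_zero q))
    (fun x y => by rw [Ext.mapExactFunctor_add, Ext.add_comp])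

theorem θK_apply (K : EtCoh.Ab Y) (G : EtCoh.Ab X) (q : ℕ) (x : Ext K ((EtCoh.push f).obj G) q) :
    θK f K G q x = (x.mapExactFunctor (EtCoh.pull f)).comp
      (Ext.mk₀ ((EtCoh.pullPushAdj f).counit.app G)) (add_zero q) := rfl

theorem θK_natural (K : EtCoh.Ab Y) {F G : EtCoh.Ab X} (φ : F ⟶ G) (n : ℕ)
    (x : Ext K ((EtCoh.push f).obj F) n) :
    θK f K G n (x.comp (Ext.mk₀ ((EtCoh.push f).map φ)) (add_zero n)) =
      (θK f K F n x).comp (Ext.mk₀ φ) (add_zero n) := by
  rw [θK_apply, θK_apply, Ext.mapExactFunctor_comp, Ext.mapExactFunctor_mk₀]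
  rw [Ext.comp_assoc_of_third_deg_zero, Ext.comp_assoc_of_third_deg_zero,
    Ext.mk₀_comp_mk₀, Ext.mk₀_comp_mk₀]
  congr 2
  exact (EtCoh.pullPushAdj f).counit.naturality φ

theorem θK_delta (K : EtCoh.Ab Y) (S : ShortComplex (EtCoh.Ab X)) (hS : S.ShortExact)
    (hS' : (S.map (EtCoh.push f)).ShortExact) (n : ℕ)
    (x : Ext K (S.map (EtCoh.push f)).X₃ n) :
    θK f K S.X₁ (n + 1) (x.comp hS'.extClass rfl) =
      (θK f K S.X₃ n x).comp hS.extClass rfl := by
  have h := T_delta' f S hS hS' n K _ (𝟙 _) x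
  rw [Ext.mk₀_id_comp, Ext.mk₀_id_comp] at h
  exact h

theorem θK_zero_bijective (K : EtCoh.Ab Y) (F : EtCoh.Ab X) :
    Function.Bijective (θK f K F 0) := by
  have key : ∀ g : K ⟶ (EtCoh.push f).obj F,
      θK f K F 0 (Ext.mk₀ g) = Ext.mk₀ (((EtCoh.pullPushAdj f).homEquiv K F).symm g) := by
    intro g
    rw [θK_apply, Ext.mapExactFunctor_mk₀, Ext.mk₀_comp_mk₀, Adjunction.homEquiv_counit]
  constructor
  · intro x x' h
    obtain ⟨g, rfl⟩ := (Ext.mk₀_bijective _ _).2 x
    obtain ⟨g', rfl⟩ := (Ext.mk₀_bijective _ _).2 x'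
    rw [key, key] at h
    rw [((EtCoh.pullPushAdj f).homEquiv K F).symm.injective ((Ext.mk₀_bijective _ _).1 h)]
  · intro y
    obtain ⟨k, rfl⟩ := (Ext.mk₀_bijective _ _).2 y
    refine ⟨Ext.mk₀ (((EtCoh.pullPushAdj f).homEquiv K F) k), ?_⟩
    rw [key, Equiv.symm_apply_apply]

theorem θK_one_injective (K : EtCoh.Ab Y) (F : EtCoh.Ab X) :
    Function.Injective (θK f K F 1) := by
  rw [injective_iff_map_eq_zero]
  intro x hx
  exact ExtAdjEdge.eq_zero_of_θ₁' (EtCoh.pullPushAdj f) K F x hx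

theorem θK_injective_obj (K : EtCoh.Ab Y) (F : EtCoh.Ab X) [Injective F] (q : ℕ) :
    Function.Bijective (θK f K F q) := by
  rcases q with _ | q
  · exact θK_zero_bijective f K F
  · have : Injective ((EtCoh.push f).obj F) := injective_push f F
    constructor
    · intro x y _
      rw [Ext.eq_zero_of_injective x, Ext.eq_zero_of_injective y]
    · intro y
      exact ⟨0, by rw [map_zero, Ext.eq_zero_of_injective y]⟩

theorem θK_succ_injective (K : EtCoh.Ab Y) (n : ℕ) (F : EtCoh.Ab X)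
    (hS' : ((injSC F).map (EtCoh.push f)).ShortExact)
    (hQ : Function.Injective (θK f K (injSC F).X₃ n)) :
    Function.Injective (θK f K F (n + 1)) := by
  let S := injSC F
  have hS : S.ShortExact := injSC_shortExact F
  have hinjI : Injective ((S.map (EtCoh.push f)).X₂) := injective_push f S.X₂
  have hI := (θK_injective_obj f K S.X₂ n).2
  rw [injective_iff_map_eq_zero]
  intro x hx
  have hx0 : x.comp (Ext.mk₀ (S.map (EtCoh.push f)).f) (add_zero (n + 1)) = 0 :=
    Ext.eq_zero_of_injective _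
  obtain ⟨z', hz'⟩ := Ext.covariant_sequence_exact₁ _ hS' x hx0 rfl
  have h1 : (θK f K S.X₃ n z').comp hS.extClass rfl = 0 := by
    rw [← θK_delta f K S hS hS' n z', hz']
    exact hx
  obtain ⟨w, hw⟩ := Ext.covariant_sequence_exact₃ _ hS (θK f K S.X₃ n z') rfl h1
  obtain ⟨w', rfl⟩ := hI w
  have h2 : z' = w'.comp (Ext.mk₀ (S.map (EtCoh.push f)).g) (add_zero n) := by
    apply hQ
    rw [← hw]
    exact (θK_natural f K S.g n w').symm
  rw [← hz', h2, Ext.comp_assoc_of_second_deg_zero]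
  exact (congrArg (fun e => Ext.comp w' e rfl) hS'.comp_extClass).trans
    (Ext.comp_zero _ _ _ _ _)

theorem θK_succ_surjective (K : EtCoh.Ab Y) (n : ℕ) (F : EtCoh.Ab X)
    (hS' : ((injSC F).map (EtCoh.push f)).ShortExact)
    (hQ : Function.Surjective (θK f K (injSC F).X₃ n)) :
    Function.Surjective (θK f K F (n + 1)) := by
  let S := injSC F
  have hS : S.ShortExact := injSC_shortExact F
  intro y
  have hy0 : y.comp (Ext.mk₀ S.f) (add_zero (n + 1)) = 0 := Ext.eq_zero_of_injective _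
  obtain ⟨z, hz⟩ := Ext.covariant_sequence_exact₁ _ hS y hy0 rfl
  obtain ⟨z', rfl⟩ := hQ z
  exact ⟨z'.comp hS'.extClass rfl, (θK_delta f K S hS hS' n z').trans hz⟩

/-- Truncated Leray comparison for `Ext(K, -)`. -/
theorem truncatedK (K : EtCoh.Ab Y) (m : ℕ) : ∀ (F : EtCoh.Ab X),
    (∀ q : ℕ, 0 < q → q ≤ m → IsZero ((EtCoh.Rpush f q).obj F)) →
    (∀ q : ℕ, q ≤ m → Function.Bijective (θK f K F q)) ∧
      Function.Injective (θK f K F (m + 1)) := by
  induction m with
  | zero =>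
    intro F _
    refine ⟨fun q hq => ?_, θK_one_injective f K F⟩
    obtain rfl : q = 0 := by omega
    exact θK_zero_bijective f K F
  | succ m IH =>
    intro F hR
    have hS' : ((injSC F).map (EtCoh.push f)).ShortExact :=
      push_injSC_shortExact f F (hR 1 Nat.one_pos (by omega))
    obtain ⟨hQb, hQi⟩ := IH (injSC F).X₃ (fun q hq hqm => coker_vanish f F m hR q hq hqm)
    refine ⟨fun q hq => ?_, ?_⟩
    · rcases q with _ | k
      · exact θK_zero_bijective f K F
      · exact ⟨θK_succ_injective f K k F hS' (hQb k (by omega)).1,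
          θK_succ_surjective f K k F hS' (hQb k (by omega)).2⟩
    · exact θK_succ_injective f K (m + 1) F hS' hQi

/-- pulling back `Ext` classes is `θK` after the unit. -/
theorem mapPull_eq (K F : EtCoh.Ab Y) (q : ℕ) (e : Ext K F q) :
    e.mapExactFunctor (EtCoh.pull f) =
      θK f K ((EtCoh.pull f).obj F) q
        (e.comp (Ext.mk₀ ((EtCoh.pullPushAdj f).unit.app F)) (add_zero q)) := by
  rw [θK_apply, Ext.mapExactFunctor_comp, Ext.mapExactFunctor_mk₀,
    Ext.comp_assoc_of_third_deg_zero, Ext.mk₀_comp_mk₀,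
    (EtCoh.pullPushAdj f).left_triangle_components F, Ext.comp_mk₀_id]

end Groth.Agent.Lib.Helper28.AcycLerayK
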