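import Groth.Agent.Lib.Helper28.ExtAcyc
import Mathlib.Algebra.Homology.DerivedCategory.Ext.EnoughInjectives
import Mathlib.CategoryTheory.Abelian.Injective.Basic

namespace Groth.Agent.Lib.Helper28.CartanT

open CategoryTheory Limits Abelian
open Groth.Agent.Lib.Helper28 ExtAcyc

universe w v u

variable {𝒜 : Type u} [Category.{v} 𝒜] [Abelian 𝒜] [HasExt.{w} 𝒜] [EnoughInjectives 𝒜]

/-- Abstract dimension shifting: let `Pr` be a class of objects such that for every short exact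
sequence `0 → F → I → Q → 0` with `I` injective and `F` in the class, `Q` is in the class and
morphisms `T ⟶ Q` lift to `I`. Then `T` has no higher `Ext` into the members of the class. -/
theorem acyc_of_step (T : 𝒜) (Pr : 𝒜 → Prop)
    (hstep : ∀ S : ShortComplex 𝒜, S.ShortExact → Injective S.X₂ → Pr S.X₁ →
      (Pr S.X₃ ∧ ∀ x : T ⟶ S.X₃, ∃ y : T ⟶ S.X₂, y ≫ S.g = x)) (p : ℕ) :
    ∀ F : 𝒜, Pr F → ∀ x : Ext T F (p + 1), x = 0 := by
  induction p with
  | zero =>
    intro F hF x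
    let S : ShortComplex 𝒜 :=
      ShortComplex.mk (Injective.ι F) (cokernel.π (Injective.ι F)) (cokernel.condition _)
    have hS : S.ShortExact :=
      ShortComplex.ShortExact.mk' (ShortComplex.exact_cokernel _) inferInstance inferInstance
    have hI : Injective S.X₂ := inferInstanceAs (Injective (Injective.under F))
    obtain ⟨x₃, hx₃⟩ := Ext.covariant_sequence_exact₁ T hS x
      (Ext.eq_zero_of_injective _) (zero_add 1)
    obtain ⟨s, rfl⟩ := (Ext.mk₀_bijective _ _).2 x₃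
    obtain ⟨t, rfl⟩ := (hstep S hS hI hF).2 s
    rw [← hx₃, ← Ext.mk₀_comp_mk₀, Ext.comp_assoc_of_second_deg_zero, hS.comp_extClass,
      Ext.comp_zero]
  | succ p ih =>
    intro F hF x
    let S : ShortComplex 𝒜 :=
      ShortComplex.mk (Injective.ι F) (cokernel.π (Injective.ι F)) (cokernel.condition _)
    have hS : S.ShortExact :=
      ShortComplex.ShortExact.mk' (ShortComplex.exact_cokernel _) inferInstance inferInstance
    have hI : Injective S.X₂ := inferInstanceAs (Injective (Injective.under F))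
    obtain ⟨x₃, hx₃⟩ := Ext.covariant_sequence_exact₁ T hS x
      (Ext.eq_zero_of_injective _) (rfl : (p + 1) + 1 = p + 1 + 1)
    have hQ : Pr S.X₃ := (hstep S hS hI hF).1
    rw [← hx₃, ih S.X₃ hQ x₃, Ext.zero_comp]

omit [EnoughInjectives 𝒜] in
/-- If `T` has no higher `Ext` into `S.X₁` and `S.X₂` is injective, then `T` has no higher `Ext`
into `S.X₃`. -/
lemma acyc_X₃ (T : 𝒜) {S : ShortComplex 𝒜} (hS : S.ShortExact) [Injective S.X₂]
    (h₁ : Acyc S.X₁ T) : Acyc S.X₃ T := by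
  intro q x₃
  obtain ⟨x₂, hx₂⟩ := Ext.covariant_sequence_exact₃ T hS x₃ (rfl : (q + 1) + 1 = q + 1 + 1)
    (h₁ (q + 1) _)
  rw [← hx₂, Ext.eq_zero_of_injective x₂, Ext.zero_comp]

omit [EnoughInjectives 𝒜] in
/-- If `Ext¹(T, S.X₁) = 0`, morphisms `T ⟶ S.X₃` lift to `S.X₂`. -/
lemma exists_lift (T : 𝒜) {S : ShortComplex 𝒜} (hS : S.ShortExact)
    (h₁ : ∀ x : Ext T S.X₁ 1, x = 0) (x : T ⟶ S.X₃) : ∃ y : T ⟶ S.X₂, y ≫ S.g = x := by
  obtain ⟨x₂, hx₂⟩ := Ext.covariant_sequence_exact₃ T hS (Ext.mk₀ x) (zero_add 1) (h₁ _)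
  obtain ⟨y, rfl⟩ := (Ext.mk₀_bijective _ _).2 x₂
  refine ⟨y, ?_⟩
  rw [Ext.mk₀_comp_mk₀] at hx₂
  exact (Ext.mk₀_bijective _ _).1 hx₂

end Groth.Agent.Lib.Helper28.CartanT
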