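import Groth.Agent.Lib.Helper28.CechOLG
import Groth.Agent.Lib.Helper28.CartanT
import Mathlib.CategoryTheory.Sites.EpiMono
import Mathlib.CategoryTheory.Sites.Adjunction
import Mathlib.CategoryTheory.Sites.LeftExact

/-!
# Cartan's criterion on a site, in general universes
-/

namespace Groth.Agent.Lib.Helper28.CartanG

open CategoryTheory Limits Opposite Simplicial Abelian
open Groth.Agent.Lib.Helper28

universe w' w v u

variable {C : Type u} [Category.{v} C] [LocallySmall.{w} C] {J : GrothendieckTopology C}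
  [HasSheafify J AddCommGrpCat.{w}] [J.HasSheafCompose (forget AddCommGrpCat.{w})]
  [J.WEqualsLocallyBijective AddCommGrpCat.{w}]

/-- Čech cohomology of a presheaf with respect to a family over `U`. -/
noncomputable abbrev cechH {U : C} [HasFiniteProducts (Over U)] (P : Cᵒᵖ ⥤ AddCommGrpCat.{w})
    {ι : Type w} (Y : ι → Over U) (p : ℕ) : AddCommGrpCat.{w} :=
  ((cechComplexFunctor Y).obj ((Over.forget U).op ⋙ P)).homology p

/-- If every covering sieve of `U` can be refined by a covering family with respect to which the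
first Čech cohomology group of `S.X₁` vanishes, then `S.X₂(U) → S.X₃(U)` is surjective. -/
theorem surjective_sections (S : ShortComplex (Sheaf J AddCommGrpCat.{w})) (hS : S.ShortExact)
    (U : C) [HasFiniteProducts (Over U)]
    (h : ∀ T ∈ J U, ∃ (ι : Type w) (Y : ι → Over U), (∀ i, T.arrows (Y i).hom) ∧
      Sieve.ofArrows (fun i => (Y i).left) (fun i => (Y i).hom) ∈ J U ∧
      IsZero (cechH S.X₁.obj Y 1)) :
    Function.Surjective (S.g.hom.app (op U)) := by
  intro s
  have := hS.epi_g
  have hls : Sheaf.IsLocallySurjective S.g :=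
    (Sheaf.isLocallySurjective_iff_epi' _ S.g).2 inferInstance
  obtain ⟨ι, Y, hYT, hYcov, hY1⟩ := h _ (Presheaf.imageSieve_mem J S.g.hom s)
  refine CechLG.exists_section (CechO.sectionwiseCechLike Y)
    (J.superset_covering (CechOLG.ofArrows_le_imageSieve Y) hYcov) hS s ?_ hY1
  intro a
  rw [CechOLG.baseHom_eq]
  have hmem : (Presheaf.imageSieve S.g.hom s).arrows (((CechO.cechE Y).obj (op ⦋0⦌)).obj a).hom := by
    rw [CechOLG.hom_eq]
    exact (Presheaf.imageSieve S.g.hom s).downward_closed (hYT (a 0)) _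
  exact hmem

omit [LocallySmall.{w} C] [J.HasSheafCompose (forget AddCommGrpCat.{w})]
  [J.WEqualsLocallyBijective AddCommGrpCat.{w}] in
lemma injective_obj (I : Sheaf J AddCommGrpCat.{w}) [Injective I] : Injective I.obj := by
  have : (presheafToSheaf J AddCommGrpCat.{w}).PreservesMonomorphisms := inferInstance
  exact Injective.injective_of_adjoint (sheafificationAdjunction J AddCommGrpCat.{w}) I

section Cartan

variable [HasExt.{w'} (Sheaf J AddCommGrpCat.{w})] [EnoughInjectives (Sheaf J AddCommGrpCat.{w})]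
  [∀ U : C, HasFiniteProducts (Over U)]

/-- Cartan's criterion: let `B` be a class of objects and `Cov` a class of covering families such
that (1) for a family in `Cov` over `U`, `U` and all iterated fibre products of its members lie in
`B`, (2) every covering sieve of a member of `B` contains a family from `Cov`, (3) `F` has vanishing
higher Čech cohomology for all families in `Cov`. Then any object `T` whose morphisms lift along
morphisms of sheaves which are surjective on sections over some `U₀ ∈ B` (e.g. the free sheaf on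
`U₀`) has no higher `Ext` into `F`. -/
theorem cartan (B : Set C) (Cov : ∀ (U : C) (ι : Type w), (ι → Over U) → Prop)
    (h1 : ∀ (U : C) (ι : Type w) (Y : ι → Over U), Cov U ι Y → U ∈ B ∧
      Sieve.ofArrows (fun i => (Y i).left) (fun i => (Y i).hom) ∈ J U ∧
      ∀ (p : ℕ) (a : Fin (p + 1) → ι), (∏ᶜ fun k => Y (a k)).left ∈ B)
    (h2 : ∀ U ∈ B, ∀ T ∈ J U, ∃ (ι : Type w) (Y : ι → Over U), Cov U ι Y ∧
      ∀ i, T.arrows (Y i).hom)
    (T : Sheaf J AddCommGrpCat.{w}) (U₀ : C) (hU₀ : U₀ ∈ B)
    (hT : ∀ (G H : Sheaf J AddCommGrpCat.{w}) (g : G ⟶ H),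
      Function.Surjective (g.hom.app (op U₀)) → ∀ x : T ⟶ H, ∃ y : T ⟶ G, y ≫ g = x)
    (F : Sheaf J AddCommGrpCat.{w})
    (h3 : ∀ (U : C) (ι : Type w) (Y : ι → Over U), Cov U ι Y →
      ∀ p : ℕ, IsZero (cechH F.obj Y (p + 1)))
    (n : ℕ) (x : Ext.{w'} T F (n + 1)) : x = 0 := by
  let Pr : Sheaf J AddCommGrpCat.{w} → Prop := fun F =>
    ∀ (U : C) (ι : Type w) (Y : ι → Over U), Cov U ι Y →
      ∀ p : ℕ, IsZero (cechH F.obj Y (p + 1))
  have hstep : ∀ S : ShortComplex (Sheaf J AddCommGrpCat.{w}), S.ShortExact → Injective S.X₂ →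
      Pr S.X₁ → (Pr S.X₃ ∧ ∀ x : T ⟶ S.X₃, ∃ y : T ⟶ S.X₂, y ≫ S.g = x) := by
    intro S hS hI hP₁
    have hsurj : ∀ U ∈ B, Function.Surjective (S.g.hom.app (op U)) := by
      intro U hU
      apply surjective_sections S hS U
      intro T hT
      obtain ⟨ι, Y, hCov, hYT⟩ := h2 U hU T hT
      exact ⟨ι, Y, hYT, (h1 U ι Y hCov).2.1, hP₁ U ι Y hCov 0⟩
    refine ⟨?_, fun x => hT _ _ S.g (hsurj U₀ hU₀) x⟩
    intro U ι Y hCov p
    have := injective_obj S.X₂
    exact CechLG.isZero_homology_X₃ (Φ := Over.forget U) (E := CechO.cechE Y) hS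
      (fun n i => hsurj _ ((h1 U ι Y hCov).2.2 n i)) (hP₁ U ι Y hCov)
      (fun p => CechO.isZero_cech_homology_succ_of_injective Y S.X₂.obj p) p
  exact CartanT.acyc_of_step T Pr hstep n F h3 x

end Cartan

end Groth.Agent.Lib.Helper28.CartanG
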