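import Mathlib.CategoryTheory.Sites.SheafCohomology.Basic

/-!
# `H⁰` of a site with a terminal object is global sections, naturally
-/

namespace Groth.Agent.Lib.Helper28.ConstZero

open CategoryTheory Limits Abelian Opposite

universe w v u

variable {C : Type u} [Category.{v} C] (J : GrothendieckTopology C)
  [HasSheafify J AddCommGrpCat.{w}] [HasExt.{w} (Sheaf J AddCommGrpCat.{w})]
  {T : C} (hT : IsTerminal T)

/-- The constant sheaf `ℤ`. -/
noncomputable abbrev Zc : Sheaf J AddCommGrpCat.{w} :=
  (constantSheaf J AddCommGrpCat.{w}).obj (AddCommGrpCat.of (ULift ℤ))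

/-- `Ext⁰(ℤ, F) ≅ F(T)` for a terminal object `T`, naturally in `F`. -/
noncomputable def zeroIso : extFunctorObj (Zc J) 0 ≅
    sheafToPresheaf J AddCommGrpCat.{w} ⋙ (evaluation Cᵒᵖ AddCommGrpCat.{w}).obj (op T) :=
  NatIso.ofComponents (fun F => (Sheaf.H.equiv₀ F hT).toAddCommGrpIso) (by
    intro F G f
    ext x
    exact (Sheaf.H.equiv₀_naturality hT f x).symm)

/-- The cohomology functor is an `Ext` functor. -/
noncomputable def functorHIso (n : ℕ) : Sheaf.functorH J n ≅ extFunctorObj (Zc J) n :=
  NatIso.ofComponents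
    (fun F => (AddEquiv.refl (Ext.{w} (Zc J) F n)).toAddCommGrpIso) (by
    intro F G f
    ext x
    rfl)

end Groth.Agent.Lib.Helper28.ConstZero
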