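import Mathlib.Algebra.Homology.DerivedCategory.Ext.Basic
import Mathlib.Algebra.Homology.DerivedCategory.Ext.ExactSequences
import Mathlib.Algebra.Category.Grp.Basic

/-!
# Lifting morphisms out of an object whose `Hom` functor is a "sections" functor
-/

namespace Groth.Agent.Lib.Helper28.ExtLift

open CategoryTheory Limits Abelian

universe w v u

variable {𝒜 : Type u} [Category.{v} 𝒜] [Abelian 𝒜] [HasExt.{w} 𝒜] (T : 𝒜)
  (Γ : 𝒜 ⥤ AddCommGrpCat.{w}) (iso : extFunctorObj T 0 ≅ Γ)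

include iso in
/-- If `Ext⁰(T, -) ≅ Γ`, morphisms out of `T` lift along morphisms on which `Γ` is surjective. -/
lemma exists_lift_of_iso {G H : 𝒜} (g : G ⟶ H) (hg : Function.Surjective (Γ.map g))
    (x : T ⟶ H) : ∃ y : T ⟶ G, y ≫ g = x := by
  obtain ⟨t, ht⟩ := hg (iso.hom.app H (Ext.mk₀ x))
  obtain ⟨y, hy⟩ := (Ext.mk₀_bijective T G).2 (iso.inv.app G t)
  refine ⟨y, (Ext.mk₀_bijective T H).1 ?_⟩
  have h1 : (extFunctorObj T 0).map g (iso.inv.app G t) = iso.inv.app H (Γ.map g t) :=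
    (ConcreteCategory.congr_hom (iso.inv.naturality g) t).symm
  have h2 : iso.inv.app H (iso.hom.app H (Ext.mk₀ x)) = Ext.mk₀ x :=
    ConcreteCategory.congr_hom (iso.hom_inv_id_app H) (Ext.mk₀ x)
  have h3 : (extFunctorObj T 0).map g (Ext.mk₀ y) = Ext.mk₀ (y ≫ g) := by
    change (Ext.mk₀ y).comp (Ext.mk₀ g) (add_zero 0) = _
    rw [Ext.mk₀_comp_mk₀]
  rw [← h3, hy, h1, ht, h2]

end Groth.Agent.Lib.Helper28.ExtLift
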