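import Groth.Agent.Lib.Helper28.EtQc
import Groth.Agent.Lib.Helper28.CartanG
import Groth.Agent.Lib.Helper28.FiltCech
import Groth.Agent.Lib.Helper28.ExtColim
import Groth.Agent.Lib.Helper28.ExtLift
import Groth.Agent.Lib.Helper28.ConstZero
import Groth.Prelude.Def_EtCore

/-!
# Étale cohomology of qcqs schemes commutes with filtered colimits
-/

namespace Groth.Agent.Lib.Helper28.EtColim

open CategoryTheory Limits AlgebraicGeometry Opposite Abelian
open Groth.Agent.Lib.Helper28

universe u

variable (X : Scheme.{u}) {I : Type (u + 1)} [SmallCategory I] [IsFiltered I]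

/-- Sections over a qcqs étale `X`-scheme commute with filtered colimits of abelian sheaves. -/
lemma preservesColimit_sections (F : I ⥤ EtCoh.Ab X) {V : X.Etale} (hV : V ∈ EtQc.B X) :
    PreservesColimit F (sheafToPresheaf X.smallEtaleTopology AddCommGrpCat.{u + 1} ⋙
      (evaluation X.Etaleᵒᵖ AddCommGrpCat.{u + 1}).obj (op V)) :=
  FiltSheaf.preservesColimit_sections X.smallEtaleTopology F (EtQc.B X) (EtQc.finCovers X) hV

lemma cech_vanish_colimit (M : I ⥤ EtCoh.Ab X) (hM : ∀ i, Injective (M.obj i))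
    (U' : X.Etale) (ι : Type (u + 1)) (Y : ι → Over U') (hCov : EtQc.Cov X U' ι Y) (p : ℕ) :
    IsZero (CartanG.cechH (colimit M).obj Y (p + 1)) := by
  obtain ⟨hfin, -, hcov, hprod⟩ := EtQc.cov_h1 U' ι Y hCov
  have hcV : ∀ V ∈ EtQc.B X, IsColimit (FiltColim.evalCocone
      (M ⋙ sheafToPresheaf X.smallEtaleTopology AddCommGrpCat.{u + 1})
      ((sheafToPresheaf X.smallEtaleTopology AddCommGrpCat.{u + 1}).mapCocone (colimit.cocone M))
      (op V)) := by
    intro V hV
    have := preservesColimit_sections X M hV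
    exact isColimitOfPreserves (sheafToPresheaf X.smallEtaleTopology AddCommGrpCat.{u + 1} ⋙
      (evaluation X.Etaleᵒᵖ AddCommGrpCat.{u + 1}).obj (op V)) (colimit.isColimit M)
  exact FiltCech.isZero_homology_colimit Y
    (G := M ⋙ sheafToPresheaf X.smallEtaleTopology AddCommGrpCat.{u + 1})
    (c := (sheafToPresheaf X.smallEtaleTopology AddCommGrpCat.{u + 1}).mapCocone
      (colimit.cocone M))
    (fun n a => hcV _ (hprod n a)) p
    (fun k => by
      have := hM k
      have := CartanG.injective_obj (M.obj k)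
      exact CechO.isZero_cech_homology_succ_of_injective Y (M.obj k).obj p)

/-- A filtered colimit of injective abelian étale sheaves is acyclic for every object `T` whose
morphisms lift along maps which are surjective on sections over some qcqs `U₀`. -/
theorem ext_vanish_colimit (T : EtCoh.Ab X) (U₀ : X.Etale) (hU₀ : U₀ ∈ EtQc.B X)
    (hT : ∀ (G H : EtCoh.Ab X) (g : G ⟶ H),
      Function.Surjective (g.hom.app (op U₀)) → ∀ x : T ⟶ H, ∃ y : T ⟶ G, y ≫ g = x)
    (M : I ⥤ EtCoh.Ab X) (hM : ∀ i, Injective (M.obj i)) (n : ℕ)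
    (x : Ext.{u + 1} T (colimit M) (n + 1)) : x = 0 :=
  CartanG.cartan (EtQc.B X) (EtQc.Cov X) (fun U ι Y h => (EtQc.cov_h1 U ι Y h).2)
    (fun U hU T hT => EtQc.cov_h2 U hU T hT) T U₀ hU₀ hT (colimit M)
    (fun U' ι Y hCov p => cech_vanish_colimit X M hM U' ι Y hCov p) n x

/-- Étale cohomology of a qcqs scheme commutes with filtered colimits of abelian sheaves. -/
theorem preservesColimit_HF [CompactSpace X] [QuasiSeparatedSpace X] (F : I ⥤ EtCoh.Ab X)
    (n : ℕ) : PreservesColimit F (EtCoh.HF X n) := by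
  have htop : EtCoh.top X ∈ EtQc.B X :=
    ⟨inferInstanceAs (CompactSpace X), inferInstanceAs (QuasiSeparatedSpace X)⟩
  let z := ConstZero.zeroIso.{u + 1} X.smallEtaleTopology (EtCore.topIsTerminal X)
  have h0 : ∀ F' : I ⥤ EtCoh.Ab X,
      PreservesColimit F' (extFunctorObj (ConstZero.Zc.{u + 1} X.smallEtaleTopology) 0) := by
    intro F'
    have := preservesColimit_sections X F' htop
    exact preservesColimit_of_natIso F' z.symm
  have hvan : ∀ M : I ⥤ EtCoh.Ab X, (∀ i, Injective (M.obj i)) →
      ∀ (n : ℕ) (x : Ext.{u + 1} (ConstZero.Zc.{u + 1} X.smallEtaleTopology) (colimit M) (n + 1)),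
        x = 0 := by
    intro M hM n x
    refine ext_vanish_colimit X _ (EtCoh.top X) htop ?_ M hM n x
    intro G H g hg x
    exact ExtLift.exists_lift_of_iso _ _ z g hg x
  have h := ExtColim.preservesColimit_extFunctorObj
    (ConstZero.Zc.{u + 1} X.smallEtaleTopology) I h0 hvan F n
  exact preservesColimit_of_natIso F (ConstZero.functorHIso.{u + 1} X.smallEtaleTopology n).symm

end Groth.Agent.Lib.Helper28.EtColim
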