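import Groth.Agent.Lib.Helper4.EtExtShriek

set_option autoImplicit false
open CategoryTheory CategoryTheory.Limits AlgebraicGeometry Opposite
universe u

namespace Groth.Agent.Lib.Helper28.EtGsecPull
open EtCore Groth.Agent.Lib.Helper4

/-- Morphisms out of the constant sheaf `ℤ` are global sections. -/
noncomputable def ev (X : Scheme.{u}) (G : EtCoh.Ab X) :
    (EtCoh.const X ℤ ⟶ G) ≃+ G.obj.obj (op (EtCoh.top X)) :=
  ((constAdj X).homAddEquiv _ G).trans (AddCommGrpCat.uliftZMultiplesAddEquiv _)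

lemma ev_apply (X : Scheme.{u}) (G : EtCoh.Ab X) (b : EtCoh.const X ℤ ⟶ G) :
    ev X G b = ((constAdj X).unit.app (AddCommGrpCat.of (ULift.{u+1} ℤ)) ≫ (gsec X).map b) ⟨1⟩ := by
  rfl

lemma ev_comp (X : Scheme.{u}) {G G' : EtCoh.Ab X} (b : EtCoh.const X ℤ ⟶ G) (φ : G ⟶ G') :
    ev X G' (b ≫ φ) = φ.hom.app (op (EtCoh.top X)) (ev X G b) := by
  rw [ev_apply, ev_apply, Functor.map_comp, ← Category.assoc]
  rfl

section Pull
variable {U X : Scheme.{u}} (f : U ⟶ X)

/-- The pullback of global sections corresponds to the pullback of morphisms out of `ℤ`. -/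
lemma ev_pull (G : EtCoh.Ab X) (b : EtCoh.const X ℤ ⟶ G) :
    ev U ((EtCoh.pull f).obj G) ((pullConst f ℤ).inv ≫ (EtCoh.pull f).map b) =
      PullConstComp.σ f G (ev X G b) := by
  rw [ev_apply, ev_apply]
  have h1 := PullConstComp.pullConstIso_char f (AddCommGrpCat.of (ULift.{u+1} ℤ))
  have h2 := PullConstComp.σ_naturality f b
  have h3 : (constAdj U).unit.app (AddCommGrpCat.of (ULift.{u+1} ℤ)) ≫
      (gsec U).map ((pullConst f ℤ).inv ≫ (EtCoh.pull f).map b) =
      ((constAdj X).unit.app (AddCommGrpCat.of (ULift.{u+1} ℤ)) ≫ (gsec X).map b) ≫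
        PullConstComp.σ f G := by
    rw [Category.assoc, h2, ← h1, Functor.map_comp]
    simp only [Category.assoc]
    congr 2
    rw [← Category.assoc ((gsec U).map _), ← Functor.map_comp]
    have : (pullConstIso f).hom.app (AddCommGrpCat.of (ULift.{u+1} ℤ)) ≫ (pullConst f ℤ).inv = 𝟙 _ :=
      Iso.hom_inv_id_app _ _
    rw [this]
    exact (congrArg (· ≫ (gsec U).map ((EtCoh.pull f).map b)) ((gsec U).map_id _)).trans
      (Category.id_comp _)
  rw [h3]
  rfl

end Pull

section Restr
variable {U X : Scheme.{u}} (j : U ⟶ X) [Etale j]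

/-- Global sections of the pullback along an étale morphism are sections over it. -/
noncomputable def θ (G : EtCoh.Ab X) :
    (gsec U).obj ((EtCoh.pull j).obj G) ≅
      G.obj.obj (op ((EtShriek.compEtale j).obj (EtCoh.top U))) :=
  (gsec U).mapIso ((EtRestr.restrPullIso j).symm.app G)

lemma θ_naturality {G G' : EtCoh.Ab X} (φ : G ⟶ G') :
    (gsec U).map ((EtCoh.pull j).map φ) ≫ (θ j G').hom =
      (θ j G).hom ≫ φ.hom.app (op ((EtShriek.compEtale j).obj (EtCoh.top U))) := by
  unfold θ
  have h := (EtRestr.restrPullIso j).inv.naturality φ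
  have h2 := congrArg (fun ψ => (gsec U).map ψ) h
  simp only [Functor.map_comp] at h2
  exact h2

lemma σ_θ (G : EtCoh.Ab X) :
    PullConstComp.σ j G ≫ (θ j G).hom =
      G.obj.map ((topIsTerminal X).from ((EtShriek.compEtale j).obj (EtCoh.top U))).op := by
  have h1 := Adjunction.unit_leftAdjointUniq_hom_app (EtRestr.restrPushAdj j) (EtCoh.pullPushAdj j) G
  have h2 := (pushGsecIso j).hom.naturality ((EtRestr.restrPullIso j).hom.app G)
  have h3 : PullConstComp.σ j G ≫ (θ j G).hom =
      (gsec X).map ((EtRestr.restrPushAdj j).unit.app G) ≫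
        (pushGsecIso j).hom.app ((EtShriek.restrAlong j).obj G) := by
    unfold PullConstComp.σ θ
    rw [← h1]
    simp only [Functor.comp_map] at h2
    rw [Functor.map_comp, Category.assoc, Category.assoc]
    congr 1
    refine ((Category.assoc _ _ _).symm.trans (congrArg (· ≫ _) h2)).trans ?_
    rw [Category.assoc]
    refine (congrArg ((pushGsecIso j).hom.app ((EtShriek.restrAlong j).obj G) ≫ ·) ?_).trans
      (Category.comp_id _)
    change (gsec U).map ((EtRestr.restrPullIso j).hom.app G) ≫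
      (gsec U).map ((EtRestr.restrPullIso j).inv.app G) = _
    refine ((gsec U).map_comp _ _).symm.trans ?_
    refine (congrArg (fun ψ => (gsec U).map ψ) ?_).trans ((gsec U).map_id _)
    exact Iso.hom_inv_id_app (EtRestr.restrPullIso j) G
  refine h3.trans ?_
  have h4 : (gsec X).map ((EtRestr.restrPushAdj j).unit.app G) =
      G.obj.map ((EtRestr.adjSite j).counit.app (EtCoh.top X)).op := by
    simp [EtRestr.restrPushAdj] <;> rfl
  have h5 : (pushGsecIso j).hom.app ((EtShriek.restrAlong j).obj G) =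
      G.obj.map ((EtShriek.compEtale j).map (bcTopIso j).inv).op := rfl
  have h6 : G.obj.map ((EtRestr.adjSite j).counit.app (EtCoh.top X)).op ≫
      G.obj.map ((EtShriek.compEtale j).map (bcTopIso j).inv).op =
      G.obj.map ((topIsTerminal X).from ((EtShriek.compEtale j).obj (EtCoh.top U))).op := by
    refine (G.obj.map_comp _ _).symm.trans (congrArg G.obj.map ?_)
    refine op_comp.symm.trans (congrArg Quiver.Hom.op ?_)
    exact (topIsTerminal X).hom_ext _ _
  exact (congrArg₂ (· ≫ ·) h4 h5).trans h6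


/-- If `cU ≫ b` lifts along `g`, then the restriction of the section `b` lifts along `g`. -/
theorem exists_section_of_factor {I Q : EtCoh.Ab X} (g : I ⟶ Q) (b : EtCoh.const X ℤ ⟶ Q)
    (h : EtExtShriek.AU j ⟶ I) (hh : h ≫ g = EtExtShriek.cU j ≫ b) :
    ∃ s : I.obj.obj (op ((EtShriek.compEtale j).obj (EtCoh.top U))),
      g.hom.app (op ((EtShriek.compEtale j).obj (EtCoh.top U))) s =
        Q.obj.map ((topIsTerminal X).from ((EtShriek.compEtale j).obj (EtCoh.top U))).op
          (ev X Q b) := by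
  let h' : EtCoh.const U ℤ ⟶ (EtCoh.pull j).obj I := (EtExtShriek.adjP j).homEquiv _ _ h
  have e1 : h' ≫ (EtCoh.pull j).map g = (pullConst j ℤ).inv ≫ (EtCoh.pull j).map b := by
    have a1 : h' ≫ (EtCoh.pull j).map g = (EtExtShriek.adjP j).homEquiv _ _ (h ≫ g) :=
      (Adjunction.homEquiv_naturality_right (EtExtShriek.adjP j) h g).symm
    have a2 : (EtExtShriek.adjP j).homEquiv _ _ (EtExtShriek.cU j ≫ b) =
        (EtExtShriek.adjP j).homEquiv _ _ (EtExtShriek.cU j) ≫ (EtCoh.pull j).map b :=
      Adjunction.homEquiv_naturality_right (EtExtShriek.adjP j) _ b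
    have a3 : (EtExtShriek.adjP j).homEquiv _ _ (EtExtShriek.cU j) = (pullConst j ℤ).inv :=
      Equiv.apply_symm_apply _ _
    rw [a1, hh, a2, a3]
  refine ⟨(θ j I).hom (ev U _ h'), ?_⟩
  have e2 : g.hom.app (op ((EtShriek.compEtale j).obj (EtCoh.top U))) ((θ j I).hom (ev U _ h')) =
      (θ j Q).hom (((gsec U).map ((EtCoh.pull j).map g)) (ev U _ h')) := by
    have := ConcreteCategory.congr_hom (θ_naturality j g) (ev U _ h')
    rw [ConcreteCategory.comp_apply, ConcreteCategory.comp_apply] at this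
    exact this.symm
  have e3 : ((gsec U).map ((EtCoh.pull j).map g)) (ev U _ h') =
      ev U _ (h' ≫ (EtCoh.pull j).map g) := (ev_comp U h' ((EtCoh.pull j).map g)).symm
  rw [e2, e3, e1, ev_pull]
  have := ConcreteCategory.congr_hom (σ_θ j Q) (ev X Q b)
  rw [ConcreteCategory.comp_apply] at this
  exact this

end Restr

end Groth.Agent.Lib.Helper28.EtGsecPull
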