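import Groth.Agent.Lib.Helper28.AcycGamma
import Groth.Agent.Lib.Helper28.EtGsecPull
import Groth.Agent.Lib.Helper28.EtFree

/-!
# `j_! ℤ` is the free sheaf on the étale object `j`; base change of free sheaves
-/

set_option autoImplicit false
set_option linter.unusedSectionVars false
open CategoryTheory CategoryTheory.Limits AlgebraicGeometry Opposite
universe u

namespace Groth.Agent.Lib.Helper28.AcycLocalA
open EtCore Abelian Groth.Agent.Lib.Helper4 Groth.Agent.Lib.Helper4.EtExtShriek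
open Groth.Agent.Lib.Helper28

section Yoneda
variable {C : Type*} [Category C]

/-- an isomorphism from a natural bijection of covariant hom-sets. -/
def isoOfNatBij (X Y : C) (q : ∀ Z : C, (Y ⟶ Z) ≃ (X ⟶ Z))
    (n : ∀ {Z Z' : C} (f : Y ⟶ Z) (g : Z ⟶ Z'), q Z' (f ≫ g) = q Z f ≫ g) : X ≅ Y where
  hom := q Y (𝟙 Y)
  inv := (q X).symm (𝟙 X)
  hom_inv_id := by
    rw [← n, Category.id_comp, Equiv.apply_symm_apply]
  inv_hom_id := by
    apply (q Y).injective
    rw [n, Equiv.apply_symm_apply, Category.id_comp]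

theorem isoOfNatBij_hom_comp (X Y : C) (q : ∀ Z : C, (Y ⟶ Z) ≃ (X ⟶ Z))
    (n : ∀ {Z Z' : C} (f : Y ⟶ Z) (g : Z ⟶ Z'), q Z' (f ≫ g) = q Z f ≫ g) {Z : C} (f : Y ⟶ Z) :
    (isoOfNatBij X Y q n).hom ≫ f = q Z f := by
  change q Y (𝟙 Y) ≫ f = _
  rw [← n, Category.id_comp]

end Yoneda

section Shriek
variable {X : Scheme.{u}} (W : X.Etale)

instance etale_hom : Etale W.hom := W.prop

/-- the tautological isomorphism of étale objects. -/
noncomputable def ιWiso : W ≅ (EtShriek.compEtale W.hom).obj (EtCoh.top W.left) :=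
  MorphismProperty.Over.isoMk (Iso.refl _)
    (by change 𝟙 _ ≫ 𝟙 _ ≫ W.hom = W.hom; rw [Category.id_comp, Category.id_comp])

/-- the tautological isomorphism of étale objects. -/
noncomputable abbrev ιW : W ⟶ (EtShriek.compEtale W.hom).obj (EtCoh.top W.left) := (ιWiso W).hom

/-- morphisms out of `j_! ℤ` are sections over `W`. -/
noncomputable def secFun (G : EtCoh.Ab X) : (AU W.hom ⟶ G) → G.obj.obj (op W) := fun φ =>
  G.obj.map (ιW W).op ((EtGsecPull.θ W.hom G).hom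
    (EtGsecPull.ev W.left _ ((adjP W.hom).homEquiv _ _ φ)))

theorem secFun_bijective (G : EtCoh.Ab X) : Function.Bijective (secFun W G) := by
  have h1 : Function.Bijective (G.obj.map (ιW W).op) :=
    ConcreteCategory.bijective_of_isIso (G.obj.map (ιW W).op)
  have h2 : Function.Bijective (EtGsecPull.θ W.hom G).hom :=
    ConcreteCategory.bijective_of_isIso (EtGsecPull.θ W.hom G).hom
  exact h1.comp (h2.comp ((EtGsecPull.ev W.left _).bijective.comp
    ((adjP W.hom).homEquiv _ _).bijective))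

theorem secFun_comp {G G' : EtCoh.Ab X} (φ : AU W.hom ⟶ G) (ψ : G ⟶ G') :
    secFun W G' (φ ≫ ψ) = ψ.hom.app (op W) (secFun W G φ) := by
  unfold secFun
  rw [Adjunction.homEquiv_naturality_right, EtGsecPull.ev_comp]
  have h1 := EtGsecPull.θ_naturality W.hom ψ
  have h2 := congrArg (fun t => t (EtGsecPull.ev W.left _ ((adjP W.hom).homEquiv _ _ φ))) h1
  have h3 := NatTrans.naturality_apply ψ.hom (ιW W).op
    ((EtGsecPull.θ W.hom G).hom (EtGsecPull.ev W.left _ ((adjP W.hom).homEquiv _ _ φ)))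
  exact (congrArg (G'.obj.map (ιW W).op) h2).trans h3.symm

/-- `(Zf W ⟶ Z) ≃ (j_! ℤ ⟶ Z)`. -/
noncomputable def homEquivZf (Z : EtCoh.Ab X) : ((EtFree.Zf X).obj W ⟶ Z) ≃ (AU W.hom ⟶ Z) :=
  (FreeShG.σ.{u + 1} X.smallEtaleTopology W Z).toEquiv.trans
    (Equiv.ofBijective _ (secFun_bijective W Z)).symm

theorem secFun_homEquivZf (Z : EtCoh.Ab X) (f : (EtFree.Zf X).obj W ⟶ Z) :
    secFun W Z (homEquivZf W Z f) = FreeShG.σ.{u + 1} X.smallEtaleTopology W Z f :=
  (Equiv.ofBijective _ (secFun_bijective W Z)).apply_symm_apply _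

/-- `j_! ℤ ≅ ℤ_W`. -/
noncomputable def eW : AU W.hom ≅ (EtFree.Zf X).obj W :=
  isoOfNatBij _ _ (homEquivZf W) (by
    intro Z Z' f g
    apply (secFun_bijective W Z').1
    rw [secFun_comp, secFun_homEquivZf, secFun_homEquivZf]
    exact FreeShG.σ_right.{u + 1} X.smallEtaleTopology W g f)

end Shriek
section MapZf

local instance pflPull {A B : Scheme.{u}} (a : A ⟶ B) : PreservesFiniteLimits (EtCoh.pull a) :=
  EtStalk.preservesFiniteLimits_pull a

theorem precomp_iso_bijective {𝒜 : Type*} [Category 𝒜] [Abelian 𝒜] [HasExt 𝒜] {K K' : 𝒜}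
    (a : K ⟶ K') [IsIso a] (F : 𝒜) (q : ℕ) :
    Function.Bijective (fun e : Ext K' F q => (Ext.mk₀ a).comp e (zero_add q)) := by
  refine Function.bijective_iff_has_inverse.2
    ⟨fun z => (Ext.mk₀ (inv a)).comp z (zero_add q), fun y => ?_, fun z => ?_⟩
  · change (Ext.mk₀ (inv a)).comp ((Ext.mk₀ a).comp y (zero_add q)) (zero_add q) = y
    rw [Ext.mk₀_comp_mk₀_assoc, IsIso.inv_hom_id, Ext.mk₀_id_comp]
  · change (Ext.mk₀ a).comp ((Ext.mk₀ (inv a)).comp z (zero_add q)) (zero_add q) = z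
    rw [Ext.mk₀_comp_mk₀_assoc, IsIso.hom_inv_id, Ext.mk₀_id_comp]

variable {A B : Scheme.{u}} (f : A ⟶ B)

theorem mapPull_transfer {K K' : EtCoh.Ab B} (a : K ≅ K') (F : EtCoh.Ab B) (q : ℕ) :
    (fun e : Ext K' F q => e.mapExactFunctor (EtCoh.pull f)) =
      (fun z => (Ext.mk₀ ((EtCoh.pull f).map a.inv)).comp z (zero_add q)) ∘
        (fun e : Ext K F q => e.mapExactFunctor (EtCoh.pull f)) ∘
          (fun e : Ext K' F q => (Ext.mk₀ a.hom).comp e (zero_add q)) := by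
  funext e
  change _ = (Ext.mk₀ ((EtCoh.pull f).map a.inv)).comp
    (((Ext.mk₀ a.hom).comp e (zero_add q)).mapExactFunctor (EtCoh.pull f)) (zero_add q)
  rw [Ext.mapExactFunctor_comp, Ext.mapExactFunctor_mk₀, Ext.mk₀_comp_mk₀_assoc,
    ← Functor.map_comp, Iso.inv_hom_id, CategoryTheory.Functor.map_id, Ext.mk₀_id_comp]

theorem mapPull_bijective_of_iso {K K' : EtCoh.Ab B} (a : K ≅ K') (F : EtCoh.Ab B) (q : ℕ)
    (h : Function.Bijective (fun e : Ext K F q => e.mapExactFunctor (EtCoh.pull f))) :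
    Function.Bijective (fun e : Ext K' F q => e.mapExactFunctor (EtCoh.pull f)) := by
  rw [mapPull_transfer f a F q]
  exact (precomp_iso_bijective ((EtCoh.pull f).map a.inv) _ q).comp
    (h.comp (precomp_iso_bijective a.hom F q))

variable (W : B.Etale)

theorem isPullback_bc : IsPullback (pullback.snd W.hom f) (pullback.fst W.hom f) f W.hom :=
  (IsPullback.of_hasPullback W.hom f).flip

instance etale_snd : Etale (pullback.snd W.hom f) := inferInstance

/-- `Ext^q(ℤ_W, F) → Ext^q(f⁻¹ ℤ_W, f⁻¹ F)` is bijective when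
`H^q(W, F) → H^q(W ×_B A, F)` is. -/
theorem mapPull_Zf_bijective (F : EtCoh.Ab B) (q : ℕ)
    (hq : Function.Bijective (Hpull (pullback.fst W.hom f) ((EtCoh.pull W.hom).obj F) q)) :
    Function.Bijective (fun e : Ext ((EtFree.Zf B).obj W) F q =>
      e.mapExactFunctor (EtCoh.pull f)) :=
  mapPull_bijective_of_iso f (eW W) F q
    (AcycGamma.mapPull_bijective_of_isPullback W.hom f (pullback.snd W.hom f)
      (pullback.fst W.hom f) (isPullback_bc f W) F q hq)

end MapZf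

section BCFree
variable {A B : Scheme.{u}} (f : A ⟶ B) (W : B.Etale)

/-- `(f⁻¹ ℤ_W ⟶ Z) ≃ (ℤ_{W ×_B A} ⟶ Z)`. -/
noncomputable def homEquivBC (Z : EtCoh.Ab A) :
    ((EtCoh.pull f).obj ((EtFree.Zf B).obj W) ⟶ Z) ≃ ((EtFree.Zf A).obj ((EtCoh.bc f).obj W) ⟶ Z) :=
  ((EtCoh.pullPushAdj f).homEquiv _ Z).trans
    ((FreeShG.σ.{u + 1} B.smallEtaleTopology W ((EtCoh.push f).obj Z)).toEquiv.trans
      (FreeShG.σ.{u + 1} A.smallEtaleTopology ((EtCoh.bc f).obj W) Z).symm.toEquiv)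

theorem σ_homEquivBC (Z : EtCoh.Ab A) (ψ : (EtCoh.pull f).obj ((EtFree.Zf B).obj W) ⟶ Z) :
    FreeShG.σ.{u + 1} A.smallEtaleTopology ((EtCoh.bc f).obj W) Z (homEquivBC f W Z ψ) =
      FreeShG.σ.{u + 1} B.smallEtaleTopology W ((EtCoh.push f).obj Z)
        ((EtCoh.pullPushAdj f).homEquiv _ Z ψ) :=
  (FreeShG.σ.{u + 1} A.smallEtaleTopology ((EtCoh.bc f).obj W) Z).apply_symm_apply _

theorem homEquivBC_natural {Z Z' : EtCoh.Ab A}
    (ψ : (EtCoh.pull f).obj ((EtFree.Zf B).obj W) ⟶ Z) (g : Z ⟶ Z') :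
    homEquivBC f W Z' (ψ ≫ g) = homEquivBC f W Z ψ ≫ g := by
  apply (FreeShG.σ.{u + 1} A.smallEtaleTopology ((EtCoh.bc f).obj W) Z').injective
  rw [σ_homEquivBC, FreeShG.σ_right, σ_homEquivBC, Adjunction.homEquiv_naturality_right,
    FreeShG.σ_right]
  rfl

/-- `ℤ_{W ×_B A} ≅ f⁻¹ ℤ_W`. -/
noncomputable def dW : (EtFree.Zf A).obj ((EtCoh.bc f).obj W) ≅
    (EtCoh.pull f).obj ((EtFree.Zf B).obj W) :=
  isoOfNatBij _ _ (homEquivBC f W) (homEquivBC_natural f W)

theorem dW_hom_comp {Z : EtCoh.Ab A} (ψ : (EtCoh.pull f).obj ((EtFree.Zf B).obj W) ⟶ Z) :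
    (dW f W).hom ≫ ψ = homEquivBC f W Z ψ :=
  isoOfNatBij_hom_comp _ _ (homEquivBC f W) (homEquivBC_natural f W) ψ

theorem homEquiv_pull_map {K F : EtCoh.Ab B} (φ : K ⟶ F) :
    (EtCoh.pullPushAdj f).homEquiv _ _ ((EtCoh.pull f).map φ) =
      φ ≫ (EtCoh.pullPushAdj f).unit.app F := by
  rw [Adjunction.homEquiv_unit]
  exact ((EtCoh.pullPushAdj f).unit.naturality φ).symm

/-- compatibility with the unit. -/
theorem σ_dW_pull (F : EtCoh.Ab B) (φ : (EtFree.Zf B).obj W ⟶ F) :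
    FreeShG.σ.{u + 1} A.smallEtaleTopology ((EtCoh.bc f).obj W) _
        ((dW f W).hom ≫ (EtCoh.pull f).map φ) =
      ((EtCoh.pullPushAdj f).unit.app F).hom.app (op W)
        (FreeShG.σ.{u + 1} B.smallEtaleTopology W F φ) := by
  rw [dW_hom_comp, σ_homEquivBC, homEquiv_pull_map, FreeShG.σ_right]
  rfl

/-- naturality in `W`. -/
theorem dW_natural {W₁ : B.Etale} (i : W₁ ⟶ W) :
    (EtFree.Zf A).map ((EtCoh.bc f).map i) ≫ (dW f W).hom =
      (dW f W₁).hom ≫ (EtCoh.pull f).map ((EtFree.Zf B).map i) := by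
  apply (FreeShG.σ.{u + 1} A.smallEtaleTopology ((EtCoh.bc f).obj W₁) _).injective
  rw [FreeShG.σ_left, dW_hom_comp, σ_homEquivBC, homEquiv_pull_map, FreeShG.σ_left]
  have h : (dW f W).hom = homEquivBC f W _ (𝟙 _) := by
    rw [← dW_hom_comp, Category.comp_id]
  rw [h, σ_homEquivBC]
  have h2 : (EtCoh.pullPushAdj f).homEquiv _ _ (𝟙 ((EtCoh.pull f).obj ((EtFree.Zf B).obj W))) =
      (EtCoh.pullPushAdj f).unit.app _ := by
    rw [Adjunction.homEquiv_unit, CategoryTheory.Functor.map_id]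
    exact Category.comp_id _
  rw [h2]
  rfl

end BCFree

end Groth.Agent.Lib.Helper28.AcycLocalA
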