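import Mathlib.CategoryTheory.Limits.Shapes.Pullback.IsPullback.Basic
import Mathlib.CategoryTheory.Limits.Shapes.Products
import Mathlib.CategoryTheory.Limits.Shapes.FiniteProducts
import Mathlib.CategoryTheory.Comma.Over.Basic

/-!
# Iterated fibre products as products in an over category

A class of objects closed under pullbacks (and isomorphisms) is closed under finite nonempty
products in over categories.
-/

namespace Groth.Agent.Lib.Helper28.OverProd

open CategoryTheory Limits

universe v u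

variable {C : Type u} [Category.{v} C] {U : C} [HasFiniteProducts (Over U)]

/-- The product of `n + 2` objects over `U` is the fibre product of the first one and the product
of the others. -/
lemma isPullback_succ (n : ℕ) (Y : Fin (n + 2) → Over U) :
    IsPullback (Pi.π Y 0).left
      (Pi.lift (fun k : Fin (n + 1) => Pi.π Y k.succ) :
        (∏ᶜ Y) ⟶ ∏ᶜ (fun k : Fin (n + 1) => Y k.succ)).left
      (Y 0).hom (∏ᶜ (fun k : Fin (n + 1) => Y k.succ)).hom := by
  set R : Over U := ∏ᶜ (fun k : Fin (n + 1) => Y k.succ) with hR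
  set q : (∏ᶜ Y) ⟶ R := Pi.lift (fun k : Fin (n + 1) => Pi.π Y k.succ) with hq
  have hw : (Pi.π Y 0).left ≫ (Y 0).hom = q.left ≫ R.hom := by
    rw [Over.w, Over.w]
  refine ⟨⟨hw⟩, ⟨PullbackCone.IsLimit.mk _ ?_ ?_ ?_ ?_⟩⟩
  · intro s
    let T' : Over U := Over.mk (s.fst ≫ (Y 0).hom)
    let s' : T' ⟶ Y 0 := Over.homMk s.fst rfl
    let t' : T' ⟶ R := Over.homMk s.snd s.condition.symm
    exact (Pi.lift (fun k : Fin (n + 2) =>
      (Fin.cases s' (fun k => t' ≫ Pi.π _ k) k : T' ⟶ Y k)) : T' ⟶ ∏ᶜ Y).left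
  · intro s
    let T' : Over U := Over.mk (s.fst ≫ (Y 0).hom)
    let s' : T' ⟶ Y 0 := Over.homMk s.fst rfl
    let t' : T' ⟶ R := Over.homMk s.snd s.condition.symm
    have := Pi.lift_π (fun k : Fin (n + 2) =>
      (Fin.cases s' (fun k => t' ≫ Pi.π _ k) k : T' ⟶ Y k)) 0
    exact congrArg (fun z => z.left) this
  · intro s
    let T' : Over U := Over.mk (s.fst ≫ (Y 0).hom)
    let s' : T' ⟶ Y 0 := Over.homMk s.fst rfl
    let t' : T' ⟶ R := Over.homMk s.snd s.condition.symm
    have h : (Pi.lift (fun k : Fin (n + 2) =>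
        (Fin.cases s' (fun k => t' ≫ Pi.π _ k) k : T' ⟶ Y k)) : T' ⟶ ∏ᶜ Y) ≫ q = t' := by
      apply Pi.hom_ext
      intro k
      rw [Category.assoc, hq, Pi.lift_π, Pi.lift_π]
      rfl
    exact congrArg (fun z => z.left) h
  · intro s m h₁ h₂
    let T' : Over U := Over.mk (s.fst ≫ (Y 0).hom)
    let s' : T' ⟶ Y 0 := Over.homMk s.fst rfl
    let t' : T' ⟶ R := Over.homMk s.snd s.condition.symm
    have hm : m ≫ (∏ᶜ Y).hom = T'.hom := by
      change m ≫ (∏ᶜ Y).hom = s.fst ≫ (Y 0).hom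
      rw [← h₁, Category.assoc, Over.w]
    let m' : T' ⟶ ∏ᶜ Y := Over.homMk m hm
    have e : m' = Pi.lift (fun k : Fin (n + 2) =>
        (Fin.cases s' (fun k => t' ≫ Pi.π _ k) k : T' ⟶ Y k)) := by
      apply Pi.hom_ext
      intro k
      rw [Pi.lift_π]
      refine Fin.cases ?_ (fun k => ?_) k
      · apply Over.OverMorphism.ext
        exact h₁
      · have h3 : m' ≫ q = t' := by
          apply Over.OverMorphism.ext
          exact h₂
        change m' ≫ Pi.π Y k.succ = t' ≫ Pi.π _ k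
        rw [← h3, Category.assoc, hq, Pi.lift_π]
    exact congrArg (fun z => z.left) e

/-- A class of objects closed under isomorphisms and pullbacks is closed under finite nonempty
products in over categories. -/
theorem prod_left_mem (B : Set C)
    (hB : ∀ {P Z₁ Z₂ W : C} {fst : P ⟶ Z₁} {snd : P ⟶ Z₂} {f : Z₁ ⟶ W} {g : Z₂ ⟶ W},
      IsPullback fst snd f g → Z₁ ∈ B → Z₂ ∈ B → W ∈ B → P ∈ B)
    (hU : U ∈ B) : ∀ (n : ℕ) (Y : Fin (n + 1) → Over U), (∀ k, (Y k).left ∈ B) →
      (∏ᶜ Y).left ∈ B := by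
  have hiso : ∀ {A A' : C}, (A ≅ A') → A ∈ B → A' ∈ B := by
    intro A A' e hA
    have sq : IsPullback e.inv e.inv (𝟙 A) (𝟙 A) := IsPullback.of_horiz_isIso ⟨rfl⟩
    exact hB sq hA hA hA
  intro n
  induction n with
  | zero =>
    intro Y hY
    have : Unique (Fin (0 + 1)) := inferInstanceAs (Unique (Fin 1))
    exact hiso ((Over.forget U).mapIso (productUniqueIso Y)).symm (hY _)
  | succ n ih =>
    intro Y hY
    exact hB (isPullback_succ n Y) (hY 0) (ih _ (fun k => hY k.succ)) hU

end Groth.Agent.Lib.Helper28.OverProd
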