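import Groth.Prelude.Def_EtBase
import Mathlib.AlgebraicGeometry.Morphisms.QuasiSeparated
import Mathlib.AlgebraicGeometry.Morphisms.UniversallyOpen
import Mathlib.AlgebraicGeometry.Morphisms.Flat
import Groth.Agent.Lib.Helper28.OverProd
import Groth.Agent.Lib.Helper28.FiltSheaf

/-!
# Quasi-compact quasi-separated objects of the small étale site
-/

namespace Groth.Agent.Lib.Helper28.EtQc

open CategoryTheory Limits AlgebraicGeometry Opposite

universe u

variable {X : Scheme.{u}}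

/-- The quasi-compact quasi-separated objects of the small étale site. -/
def B (X : Scheme.{u}) : Set X.Etale := {U | CompactSpace U.left ∧ QuasiSeparatedSpace U.left}

set_option backward.isDefEq.respectTransparency.types false in
lemma mem_topology_iff (W : X.Etale) (T : Sieve W) :
    T ∈ X.smallEtaleTopology W ↔
      ∀ w : W.left, ∃ (Y : X.Etale) (f : Y ⟶ W) (y : Y.left), T f ∧ f.left y = w := by
  have e : X.smallEtaleTopology =
      (X.smallPretopology (P := EtCoh.etaleMP) (Q := EtCoh.etaleMP)).toGrothendieck :=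
    Scheme.smallGrothendieckTopology_eq_toGrothendieck_smallPretopology X le_rfl
  rw [e]
  constructor
  · intro h w
    obtain ⟨Y, f, y, hf, -, hy⟩ := (Scheme.mem_toGrothendieck_smallPretopology W T).1 h w
    exact ⟨Y, f, y, hf, hy⟩
  · intro h
    refine (Scheme.mem_toGrothendieck_smallPretopology W T).2 ?_
    intro w
    obtain ⟨Y, f, y, hf, hy⟩ := h w
    exact ⟨Y, f, y, hf, inferInstanceAs (Etale f.left), hy⟩

/-- Pullback squares of schemes preserve qcqs-ness. -/
lemma qcqs_of_isPullback {P Z₁ Z₂ W : Scheme.{u}} {fst : P ⟶ Z₁} {snd : P ⟶ Z₂} {f : Z₁ ⟶ W}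
    {g : Z₂ ⟶ W} (h : IsPullback fst snd f g) [CompactSpace Z₁] [QuasiSeparatedSpace Z₁]
    [CompactSpace Z₂] [QuasiSeparatedSpace Z₂] [QuasiSeparatedSpace W] :
    CompactSpace P ∧ QuasiSeparatedSpace P := by
  have h1 : QuasiCompact fst := MorphismProperty.of_isPullback (P := @QuasiCompact) h.flip
    (inferInstanceAs (QuasiCompact g))
  have h2 : QuasiSeparated fst := MorphismProperty.of_isPullback (P := @QuasiSeparated) h.flip
    (inferInstanceAs (QuasiSeparated g))
  exact ⟨QuasiCompact.compactSpace_of_compactSpace fst, quasiSeparatedSpace_of_quasiSeparated fst⟩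

/-- Pullback squares in the small étale site preserve qcqs-ness. -/
lemma B_of_isPullback {P Z₁ Z₂ W : X.Etale} {fst : P ⟶ Z₁} {snd : P ⟶ Z₂} {f : Z₁ ⟶ W}
    {g : Z₂ ⟶ W} (h : IsPullback fst snd f g) (h₁ : Z₁ ∈ B X) (h₂ : Z₂ ∈ B X) (hW : W ∈ B X) :
    P ∈ B X := by
  have hp : IsPullback fst.left snd.left f.left g.left :=
    h.map (Scheme.Etale.forget X ⋙ Over.forget X)
  have := h₁.1
  have := h₁.2
  have := h₂.1
  have := h₂.2
  have := hW.2
  exact qcqs_of_isPullback hp

lemma B_of_isAffine (Y : X.Etale) [IsAffine Y.left] : Y ∈ B X :=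
  ⟨inferInstance, inferInstance⟩

/-- Every covering sieve of a quasi-compact object of the small étale site contains a finite
covering family of affine objects. -/
lemma exists_finite_affine_refinement (W : X.Etale) [CompactSpace W.left] (T : Sieve W)
    (hT : T ∈ X.smallEtaleTopology W) :
    ∃ (ι : Type (u + 1)) (_ : Finite ι) (Y : ι → X.Etale) (f : ∀ i, Y i ⟶ W),
      (∀ i, IsAffine (Y i).left) ∧ (∀ i, T (f i)) ∧
        Sieve.ofArrows Y f ∈ X.smallEtaleTopology W := by
  choose Y f y hf hy using (mem_topology_iff W T).1 hT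
  have hA : ∀ w : W.left, ∃ A : (Y w).left.Opens, IsAffineOpen A ∧ y w ∈ A := by
    intro w
    obtain ⟨A, hA, hy, -⟩ := exists_isAffineOpen_mem_and_subset (x := y w) (U := ⊤) trivial
    exact ⟨A, hA, hy⟩
  choose A hA hyA using hA
  let Y' : W.left → X.Etale := fun w => Scheme.Etale.mk ((A w).ι ≫ (Y w).hom)
  let j : ∀ w, Y' w ⟶ Y w := fun w => MorphismProperty.Over.homMk (A w).ι rfl
  let f' : ∀ w, Y' w ⟶ W := fun w => j w ≫ f w
  have hopen : ∀ w, IsOpen (Set.range (f' w).left) := fun w => (f' w).left.isOpenMap.isOpen_range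
  have hcov : (Set.univ : Set W.left) ⊆ ⋃ w, Set.range (f' w).left := by
    intro w _
    refine Set.mem_iUnion.2 ⟨w, ⟨⟨y w, hyA w⟩, ?_⟩⟩
    exact hy w
  obtain ⟨t, ht⟩ := isCompact_univ.elim_finite_subcover _ hopen hcov
  refine ⟨ULift.{u + 1} t, inferInstance, fun i => Y' i.down.1, fun i => f' i.down.1,
    fun i => hA i.down.1, fun i => T.downward_closed (hf i.down.1) (j i.down.1), ?_⟩
  refine (mem_topology_iff W _).2 ?_
  intro w
  obtain ⟨w₀, hw₀⟩ := Set.mem_iUnion.1 (ht (Set.mem_univ w))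
  obtain ⟨hw₀t, a, ha⟩ := Set.mem_iUnion.1 hw₀
  exact ⟨Y' w₀, f' w₀, a, Sieve.ofArrows_mk _ _ (⟨⟨w₀, hw₀t⟩⟩ : ULift.{u + 1} t), ha⟩

/-- The qcqs objects of the small étale site satisfy the finite covering condition. -/
lemma finCovers (X : Scheme.{u}) : FiltSheaf.FinCovers.{u + 1} X.smallEtaleTopology (B X) := by
  intro W hW T hT
  have := hW.1
  obtain ⟨ι, hfin, Y, f, hYa, hfT, hcov⟩ := exists_finite_affine_refinement W T hT
  refine ⟨ι, hfin, Y, f, fun i j => pullback (f i) (f j), fun i j => pullback.fst _ _,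
    fun i j => pullback.snd _ _, hfT, hcov, ?_, fun i j => pullback.condition, ?_⟩
  · intro i j
    have := hYa i
    have := hYa j
    exact B_of_isPullback (IsPullback.of_hasPullback (f i) (f j)) (B_of_isAffine _)
      (B_of_isAffine _) hW
  · intro i j Z' g₁ g₂ h
    exact ⟨pullback.lift g₁ g₂ h, pullback.lift_fst _ _ _, pullback.lift_snd _ _ _⟩

/-- The class of finite covering families of qcqs objects by qcqs objects. -/
def Cov (X : Scheme.{u}) (U : X.Etale) (ι : Type (u + 1)) (Y : ι → Over U) : Prop :=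
  Finite ι ∧ U ∈ B X ∧
    Sieve.ofArrows (fun i => (Y i).left) (fun i => (Y i).hom) ∈ X.smallEtaleTopology U ∧
    ∀ i, (Y i).left ∈ B X

lemma prod_mem {U : X.Etale} (hU : U ∈ B X) {ι : Type (u + 1)} (Y : ι → Over U)
    (hY : ∀ i, (Y i).left ∈ B X) (p : ℕ) (a : Fin (p + 1) → ι) :
    (∏ᶜ fun k => Y (a k)).left ∈ B X :=
  OverProd.prod_left_mem (B X) (fun h h₁ h₂ hW => B_of_isPullback h h₁ h₂ hW) hU p
    (fun k => Y (a k)) (fun k => hY (a k))

lemma cov_h1 (U : X.Etale) (ι : Type (u + 1)) (Y : ι → Over U) (h : Cov X U ι Y) :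
    Finite ι ∧ U ∈ B X ∧
      Sieve.ofArrows (fun i => (Y i).left) (fun i => (Y i).hom) ∈ X.smallEtaleTopology U ∧
      ∀ (p : ℕ) (a : Fin (p + 1) → ι), (∏ᶜ fun k => Y (a k)).left ∈ B X :=
  ⟨h.1, h.2.1, h.2.2.1, fun p a => prod_mem h.2.1 Y h.2.2.2 p a⟩

lemma cov_h2 (U : X.Etale) (hU : U ∈ B X) (T : Sieve U) (hT : T ∈ X.smallEtaleTopology U) :
    ∃ (ι : Type (u + 1)) (Y : ι → Over U), Cov X U ι Y ∧ ∀ i, T.arrows (Y i).hom := by
  have := hU.1
  obtain ⟨ι, hfin, Y, f, hYa, hfT, hcov⟩ := exists_finite_affine_refinement U T hT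
  refine ⟨ι, fun i => Over.mk (f i), ⟨hfin, hU, hcov, fun i => ?_⟩, hfT⟩
  have := hYa i
  exact B_of_isAffine (Y i)

end Groth.Agent.Lib.Helper28.EtQc
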