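import Groth.Prelude.Def_DeltaF
import Mathlib.Algebra.Homology.ShortComplex.ExactFunctor
import Mathlib.Algebra.Homology.ShortComplex.PreservesHomology
import Mathlib.CategoryTheory.Preadditive.LeftExact

/-!
# Operations on cohomological δ-functors: composition with exact functors
-/

namespace Groth.Agent.Lib.Helper28.DeltaOps

open CategoryTheory Limits

universe w

variable {A : Type*} [Category A] [Abelian A] {B : Type*} [Category B] [Abelian B]
  {ι : Type w} [Add ι] [One ι]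

section Postcomp

variable {B' : Type*} [Category B'] [Abelian B'] (T : DeltaF.CohDeltaFunctor A B ι)
  (E : B ⥤ B') [E.Additive] [PreservesFiniteLimits E] [PreservesFiniteColimits E]

/-- Post-composition of a δ-functor with an exact functor. -/
noncomputable def postcomp : DeltaF.CohDeltaFunctor A B' ι where
  F n := T.F n ⋙ E
  additive n := inferInstance
  δ S hS n₀ n₁ h := E.map (T.δ S hS n₀ n₁ h)
  δ_natural hS hS' φ n₀ n₁ h := by
    dsimp
    rw [← E.map_comp, ← E.map_comp, T.δ_natural hS hS' φ n₀ n₁ h]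
  exact₂ S hS n := (T.exact₂ S hS n).map E
  comp_δ S hS n₀ n₁ h := by
    dsimp
    rw [← E.map_comp, T.comp_δ S hS n₀ n₁ h, E.map_zero]
  exact₃ S hS n₀ n₁ h := (T.exact₃ S hS n₀ n₁ h).map E
  δ_comp S hS n₀ n₁ h := by
    dsimp
    rw [← E.map_comp, T.δ_comp S hS n₀ n₁ h, E.map_zero]
  exact₁ S hS n₀ n₁ h := (T.exact₁ S hS n₀ n₁ h).map E

lemma postcomp_F (n : ι) : (postcomp T E).F n = T.F n ⋙ E := rfl

lemma postcomp_δ (S : ShortComplex A) (hS : S.ShortExact) (n₀ n₁ : ι) (h : n₀ + 1 = n₁) :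
    (postcomp T E).δ S hS n₀ n₁ h = E.map (T.δ S hS n₀ n₁ h) := rfl

end Postcomp

section Precomp

variable {A' : Type*} [Category A'] [Abelian A'] (T : DeltaF.CohDeltaFunctor A B ι)
  (E : A' ⥤ A) [E.Additive] [PreservesFiniteLimits E] [PreservesFiniteColimits E]

/-- Pre-composition of a δ-functor with an exact functor. -/
noncomputable def precomp : DeltaF.CohDeltaFunctor A' B ι where
  F n := E ⋙ T.F n
  additive n := inferInstance
  δ S hS n₀ n₁ h := T.δ (S.map E) (hS.map_of_exact E) n₀ n₁ h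
  δ_natural hS hS' φ n₀ n₁ h :=
    T.δ_natural (hS.map_of_exact E) (hS'.map_of_exact E) (E.mapShortComplex.map φ) n₀ n₁ h
  exact₂ S hS n := T.exact₂ (S.map E) (hS.map_of_exact E) n
  comp_δ S hS n₀ n₁ h := T.comp_δ (S.map E) (hS.map_of_exact E) n₀ n₁ h
  exact₃ S hS n₀ n₁ h := T.exact₃ (S.map E) (hS.map_of_exact E) n₀ n₁ h
  δ_comp S hS n₀ n₁ h := T.δ_comp (S.map E) (hS.map_of_exact E) n₀ n₁ h
  exact₁ S hS n₀ n₁ h := T.exact₁ (S.map E) (hS.map_of_exact E) n₀ n₁ h

lemma precomp_F (n : ι) : (precomp T E).F n = E ⋙ T.F n := rfl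

lemma precomp_δ (S : ShortComplex A') (hS : S.ShortExact) (n₀ n₁ : ι) (h : n₀ + 1 = n₁) :
    (precomp T E).δ S hS n₀ n₁ h = T.δ (S.map E) (hS.map_of_exact E) n₀ n₁ h := rfl

end Precomp

end Groth.Agent.Lib.Helper28.DeltaOps
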