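import Groth.Agent.Lib.Helper28.ExtPsh
import Groth.Agent.Lib.Helper28.DeltaOps
import Groth.Agent.Lib.Helper28.CechDelta

/-!
# Right derived functors through the presheaves `U ↦ Ext^n(Φ U, -)`

If `E` is an exact functor on presheaves and `G` a left exact functor with
`E ∘ (U ↦ Hom(Φ U, -)) ≅ G`, then `R^p G ≅ E ∘ (U ↦ Ext^p(Φ U, -))`, naturally.
-/

namespace Groth.Agent.Lib.Helper28.ExtPshDer

open CategoryTheory Limits Abelian Opposite

universe w v u v₁ u₁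

variable {𝒜 : Type u} [Category.{v} 𝒜] [Abelian 𝒜] [HasExt.{w} 𝒜]
  {C : Type u₁} [Category.{v₁} C] (Φ : C ⥤ 𝒜)
  {ℬ : Type*} [Category ℬ] [Abelian ℬ] (E : (Cᵒᵖ ⥤ AddCommGrpCat.{w}) ⥤ ℬ) [E.Additive]
  [PreservesFiniteLimits E] [PreservesFiniteColimits E]

lemma isEffaceable_postcomp [EnoughInjectives 𝒜] :
    (DeltaOps.postcomp (ExtPsh.extPshDelta.{w} Φ) E).IsEffaceable := by
  intro n X
  obtain ⟨Y, u, hu, h0⟩ := ExtPsh.isEffaceable_extPshDelta Φ n X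
  refine ⟨Y, u, hu, ?_⟩
  change E.map (((ExtPsh.extPshDelta.{w} Φ).F (n + 1)).map u) = 0
  rw [h0, E.map_zero]

theorem nonempty_iso_rightDerived [HasInjectiveResolutions 𝒜]
    (G : 𝒜 ⥤ ℬ) [G.Additive] [PreservesFiniteLimits G]
    (e : ExtPsh.extPsh.{w} Φ 0 ⋙ E ≅ G) (p : ℕ) :
    Nonempty (ExtPsh.extPsh.{w} Φ p ⋙ E ≅ G.rightDerived p) := by
  have : EnoughInjectives 𝒜 := CechDelta.enoughInjectives_of_hasInjectiveResolutions
  exact CechDelta.nonempty_iso_rightDerived (DeltaOps.postcomp (ExtPsh.extPshDelta.{w} Φ) E)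
    (Groth.Agent.S6773.result _ (isEffaceable_postcomp Φ E)) G e p

end Groth.Agent.Lib.Helper28.ExtPshDer
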