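import Groth.Agent.Lib.Helper28.AcycLocalA
import Groth.Agent.Lib.Helper28.EtRpush
import Groth.Agent.Lib.Helper28.EtQc
import Groth.Agent.Lib.Helper4.ExtAdj
import Mathlib.CategoryTheory.Sites.LocallySurjective

/-!
# Local vanishing of `Ext` classes out of free sheaves and the vanishing criterion for `R^q f_*`
-/

set_option autoImplicit false
set_option linter.unusedSectionVars false
open CategoryTheory CategoryTheory.Limits AlgebraicGeometry Opposite
universe u

namespace Groth.Agent.Lib.Helper28.AcycLocalB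
open EtCore Abelian Groth.Agent.Lib.Helper4 Groth.Agent.Lib.Helper28
open Groth.Agent.Lib.Helper28.AcycLocalA

section Sep
variable {B : Scheme.{u}}

lemma section_ext (G : EtCoh.Ab B) {V : B.Etale} (S : Sieve V)
    (hS : S ∈ B.smallEtaleTopology V) (x y : G.obj.obj (op V))
    (h : ∀ ⦃U : B.Etale⦄ (f : U ⟶ V), S f → G.obj.map f.op x = G.obj.map f.op y) : x = y := by
  have hG : Presieve.IsSheaf B.smallEtaleTopology (G.obj ⋙ forget AddCommGrpCat.{u + 1}) :=
    (isSheaf_iff_isSheaf_of_type _ _).1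
      ((Presheaf.isSheaf_iff_isSheaf_forget _ G.obj (forget _)).1 G.property)
  exact (hG.isSeparated _ hS).ext (fun U f hf => h f hf)

/-- a presheaf whose sections are locally zero has zero sheafification. -/
theorem isZero_sheafify_of_locally_zero (P : B.Etaleᵒᵖ ⥤ AddCommGrpCat.{u + 1})
    (h : ∀ (W : B.Etale) (s : P.obj (op W)) (w : W.left),
      ∃ (W₁ : B.Etale) (i : W₁ ⟶ W) (w₁ : W₁.left), i.left w₁ = w ∧ P.map i.op s = 0) :
    IsZero ((presheafToSheaf B.smallEtaleTopology AddCommGrpCat.{u + 1}).obj P) := by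
  have key : ∀ (G : EtCoh.Ab B) (φ ψ : P ⟶ G.obj), φ = ψ := by
    intro G φ ψ
    ext V s
    induction V using Opposite.rec with | _ V => ?_
    let S : Sieve V :=
      { arrows := fun W₁ i => P.map i.op s = 0
        downward_closed := by
          intro Y Z i hi k
          rw [op_comp, Functor.map_comp, ConcreteCategory.comp_apply]
          have hi' : P.map i.op s = 0 := hi
          rw [hi', map_zero] }
    have hS : S ∈ B.smallEtaleTopology V := by
      refine (EtQc.mem_topology_iff V S).2 ?_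
      intro w
      obtain ⟨W₁, i, w₁, hw, hs⟩ := h V s w
      exact ⟨W₁, i, w₁, hs, hw⟩
    refine section_ext G S hS _ _ ?_
    intro U i hi
    have h1 : ∀ χ : P ⟶ G.obj, G.obj.map i.op (χ.app (op V) s) = 0 := by
      intro χ
      have h3 := NatTrans.naturality_apply χ i.op s
      have hi' : P.map i.op s = 0 := hi
      rw [← h3, hi', map_zero]
    exact (h1 φ).trans (h1 ψ).symm
  rw [IsZero.iff_id_eq_zero]
  apply ((sheafificationAdjunction B.smallEtaleTopology
    AddCommGrpCat.{u + 1}).homEquiv P _).injective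
  exact key _ _ _

/-- epimorphisms of sheaves are locally surjective. -/
theorem exists_local_lift {I Q : EtCoh.Ab B} (g : I ⟶ Q) [Epi g] (W : B.Etale)
    (s : Q.obj.obj (op W)) (w : W.left) :
    ∃ (W₁ : B.Etale) (i : W₁ ⟶ W) (w₁ : W₁.left) (t : I.obj.obj (op W₁)),
      i.left w₁ = w ∧ g.hom.app (op W₁) t = Q.obj.map i.op s := by
  have hls : Sheaf.IsLocallySurjective g := (Sheaf.isLocallySurjective_iff_epi' _ g).2 inferInstance
  have hmem := Presheaf.imageSieve_mem B.smallEtaleTopology g.hom s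
  obtain ⟨W₁, i, w₁, ⟨t, ht⟩, hw⟩ := (EtQc.mem_topology_iff W _).1 hmem w
  exact ⟨W₁, i, w₁, t, hw, ht⟩

/-- Classes of positive degree out of `ℤ_W` vanish étale locally on `W`. -/
theorem locally_zero (p : ℕ) : ∀ (G : EtCoh.Ab B) (W : B.Etale)
    (ξ : Ext ((EtFree.Zf B).obj W) G (p + 1)) (w : W.left),
    ∃ (W₁ : B.Etale) (i : W₁ ⟶ W) (w₁ : W₁.left), i.left w₁ = w ∧
      (Ext.mk₀ ((EtFree.Zf B).map i)).comp ξ (zero_add (p + 1)) = 0 := by
  induction p with
  | zero =>
    intro G W ξ w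
    let S := ExtAdj.injSC G
    have hS : S.ShortExact := ExtAdj.injSC_shortExact G
    have h1 : ξ.comp (Ext.mk₀ S.f) (add_zero 1) = 0 := Ext.eq_zero_of_injective _
    obtain ⟨ξ', hξ'⟩ := Ext.covariant_sequence_exact₁ _ hS ξ h1 (zero_add 1)
    obtain ⟨φ, rfl⟩ := (Ext.mk₀_bijective _ _).2 ξ'
    have : Epi S.g := hS.epi_g
    obtain ⟨W₁, i, w₁, t, hw, ht⟩ := exists_local_lift S.g W
      (FreeShG.σ.{u + 1} B.smallEtaleTopology W _ φ) w
    refine ⟨W₁, i, w₁, hw, ?_⟩
    let ψ : (EtFree.Zf B).obj W₁ ⟶ S.X₂ := (FreeShG.σ.{u + 1} B.smallEtaleTopology W₁ _).symm t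
    have hψ : ψ ≫ S.g = (EtFree.Zf B).map i ≫ φ := by
      apply (FreeShG.σ.{u + 1} B.smallEtaleTopology W₁ _).injective
      rw [FreeShG.σ_right, FreeShG.σ_left, AddEquiv.apply_symm_apply]
      exact ht
    have key : (Ext.mk₀ ((EtFree.Zf B).map i)).comp ((Ext.mk₀ φ).comp hS.extClass (zero_add 1))
        (zero_add 1) = 0 := by
      rw [← Ext.comp_assoc_of_second_deg_zero, Ext.mk₀_comp_mk₀, ← hψ, ← Ext.mk₀_comp_mk₀,
        Ext.comp_assoc_of_second_deg_zero]
      have e2 := hS.comp_extClass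
      exact (congrArg (fun t => Ext.comp (Ext.mk₀ ψ) t (zero_add 1)) e2).trans
        (Ext.comp_zero _ _ _ _ _)
    rw [← hξ']
    exact key
  | succ p ih =>
    intro G W ξ w
    let S := ExtAdj.injSC G
    have hS : S.ShortExact := ExtAdj.injSC_shortExact G
    have h1 : ξ.comp (Ext.mk₀ S.f) (add_zero (p + 1 + 1)) = 0 := Ext.eq_zero_of_injective _
    obtain ⟨ξ', hξ'⟩ := Ext.covariant_sequence_exact₁ _ hS ξ h1 rfl
    obtain ⟨W₁, i, w₁, hw, hz⟩ := ih S.X₃ W ξ' w
    refine ⟨W₁, i, w₁, hw, ?_⟩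
    rw [← hξ']
    have h2 := Ext.comp_assoc (Ext.mk₀ ((EtFree.Zf B).map i)) ξ' hS.extClass (zero_add (p + 1))
      (rfl : p + 1 + 1 = p + 1 + 1) (by omega : 0 + (p + 1) + 1 = p + 1 + 1)
    rw [hz, Ext.zero_comp] at h2
    exact h2.symm

end Sep
section Crit
variable {A B : Scheme.{u}} (f : A ⟶ B)

local instance pflPull {A B : Scheme.{u}} (a : A ⟶ B) : PreservesFiniteLimits (EtCoh.pull a) :=
  EtStalk.preservesFiniteLimits_pull a

/-- vanishing of `R^q f_* f⁻¹ F` from surjectivity of the pullback maps on `Ext` out of free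
sheaves. -/
theorem isZero_Rpush (F : EtCoh.Ab B) (q : ℕ)
    (hM : ∀ W : B.Etale, Function.Surjective
      (fun e : Ext ((EtFree.Zf B).obj W) F (q + 1) => e.mapExactFunctor (EtCoh.pull f))) :
    IsZero ((EtCoh.Rpush f (q + 1)).obj ((EtCoh.pull f).obj F)) := by
  obtain ⟨e⟩ := EtRpush.nonempty_natIso f (q + 1)
  refine IsZero.of_iso ?_ (e.app ((EtCoh.pull f).obj F)).symm
  apply isZero_sheafify_of_locally_zero
  intro W s w
  let s' : Ext ((EtFree.Zf A).obj ((EtCoh.bc f).obj W)) ((EtCoh.pull f).obj F) (q + 1) := s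
  obtain ⟨y, hy⟩ := hM W ((Ext.mk₀ (dW f W).inv).comp s' (zero_add (q + 1)))
  obtain ⟨W₁, i, w₁, hw, hz⟩ := locally_zero q F W y w
  refine ⟨W₁, i, w₁, hw, ?_⟩
  change (Ext.mk₀ ((EtFree.Zf A).map ((EtCoh.bc f).map i))).comp s' (zero_add (q + 1)) = 0
  have hs' : s' = (Ext.mk₀ (dW f W).hom).comp (y.mapExactFunctor (EtCoh.pull f))
      (zero_add (q + 1)) := by
    have hy' : y.mapExactFunctor (EtCoh.pull f) =
      (Ext.mk₀ (dW f W).inv).comp s' (zero_add (q + 1)) := hy
    rw [hy', Ext.mk₀_comp_mk₀_assoc, Iso.hom_inv_id, Ext.mk₀_id_comp]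
  rw [hs', Ext.mk₀_comp_mk₀_assoc, dW_natural, ← Ext.mk₀_comp_mk₀_assoc]
  have h3 : (Ext.mk₀ ((EtCoh.pull f).map ((EtFree.Zf B).map i))).comp
      (y.mapExactFunctor (EtCoh.pull f)) (zero_add (q + 1)) = 0 := by
    have h4 := congrArg (fun z => z.mapExactFunctor (EtCoh.pull f)) hz
    simp only [Ext.mapExactFunctor_comp, Ext.mapExactFunctor_mk₀] at h4
    rw [h4]
    exact Ext.mapExactFunctor_zero (EtCoh.pull f) _ _ _
  rw [h3, Ext.comp_zero]

/-- the unit is an isomorphism when pullback is bijective on morphisms out of free sheaves. -/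
theorem isIso_unit (F : EtCoh.Ab B)
    (hM : ∀ W : B.Etale, Function.Bijective
      (fun e : Ext ((EtFree.Zf B).obj W) F 0 => e.mapExactFunctor (EtCoh.pull f))) :
    IsIso ((EtCoh.pullPushAdj f).unit.app F) := by
  have hbij : ∀ W : B.Etale,
      Function.Bijective (((EtCoh.pullPushAdj f).unit.app F).hom.app (op W)) := by
    intro W
    have hmap : Function.Bijective (fun φ : (EtFree.Zf B).obj W ⟶ F => (EtCoh.pull f).map φ) := by
      have h1 : (fun e : Ext ((EtFree.Zf B).obj W) F 0 => e.mapExactFunctor (EtCoh.pull f)) ∘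
          (fun φ : (EtFree.Zf B).obj W ⟶ F => Ext.mk₀ φ) =
          (fun ψ => Ext.mk₀ ψ) ∘ (fun φ : (EtFree.Zf B).obj W ⟶ F => (EtCoh.pull f).map φ) := by
        funext φ
        exact Ext.mapExactFunctor_mk₀ _ _
      have h2 : Function.Bijective ((fun ψ : (EtCoh.pull f).obj ((EtFree.Zf B).obj W) ⟶
          (EtCoh.pull f).obj F => Ext.mk₀ ψ) ∘
          (fun φ : (EtFree.Zf B).obj W ⟶ F => (EtCoh.pull f).map φ)) := by
        rw [← h1]
        exact (hM W).comp (Ext.mk₀_bijective _ _)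
      exact (Function.Bijective.of_comp_iff' (Ext.mk₀_bijective _ _) _).1 h2
    have hcomp : (((EtCoh.pullPushAdj f).unit.app F).hom.app (op W)) ∘
        (FreeShG.σ.{u + 1} B.smallEtaleTopology W F) =
        (FreeShG.σ.{u + 1} A.smallEtaleTopology ((EtCoh.bc f).obj W) _) ∘
          (fun ψ => (dW f W).hom ≫ ψ) ∘
            (fun φ : (EtFree.Zf B).obj W ⟶ F => (EtCoh.pull f).map φ) := by
      funext φ
      exact (σ_dW_pull f W F φ).symm
    have h3 : Function.Bijective ((((EtCoh.pullPushAdj f).unit.app F).hom.app (op W)) ∘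
        (FreeShG.σ.{u + 1} B.smallEtaleTopology W F)) := by
      rw [hcomp]
      refine (FreeShG.σ.{u + 1} A.smallEtaleTopology ((EtCoh.bc f).obj W) _).bijective.comp
        (Function.Bijective.comp ?_ hmap)
      exact (Iso.homFromEquiv (dW f W).symm).bijective
    exact (Function.Bijective.of_comp_iff _
      (FreeShG.σ.{u + 1} B.smallEtaleTopology W F).bijective).1 h3
  have h1 : ∀ W : B.Etaleᵒᵖ, IsIso (((EtCoh.pullPushAdj f).unit.app F).hom.app W) := by
    intro W
    exact (ConcreteCategory.isIso_iff_bijective _).2 (hbij W.unop)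
  have h2 : IsIso ((EtCoh.pullPushAdj f).unit.app F).hom := NatIso.isIso_of_isIso_app _
  have h3 : IsIso ((sheafToPresheaf _ _).map ((EtCoh.pullPushAdj f).unit.app F)) := h2
  exact isIso_of_reflects_iso _ (sheafToPresheaf B.smallEtaleTopology AddCommGrpCat.{u + 1})

end Crit

end Groth.Agent.Lib.Helper28.AcycLocalB
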