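import Groth.Prelude.Def_EtCore
import Groth.Agent.Lib.Helper4.ExtAdj
import Groth.Agent.Lib.Helper4.PullConstComp
import Groth.Agent.Lib.Helper4.EtStalk

/-!
# Transitivity of the pullback maps on étale cohomology

For `f : X ⟶ Y`, `t : Y ⟶ Z` and `f ≫ t = f₀`, the pullback `Hpull f₀` is `Hpull t` followed by
`HpullVia f t f₀` (which is `Hpull f` followed by an isomorphism).
-/

set_option autoImplicit false
open CategoryTheory CategoryTheory.Limits AlgebraicGeometry Opposite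
universe u

namespace Groth.Agent.Lib.Helper28.HpullComp
open EtCore Abelian Groth.Agent.Lib.Helper4

variable {X Y Z : Scheme.{u}} (f : X ⟶ Y) (t : Y ⟶ Z) (f₀ : X ⟶ Z) (w : f ≫ t = f₀)
  [PreservesFiniteLimits (EtCoh.pull f)] [PreservesFiniteLimits (EtCoh.pull t)]
  [PreservesFiniteLimits (EtCoh.pull f₀)]

noncomputable abbrev viaIso : EtCoh.pull t ⋙ EtCoh.pull f ≅ EtCoh.pull f₀ :=
  (pullComp f t).symm ≪≫ pullCongr w

theorem Hpull_apply {A B : Scheme.{u}} (a : A ⟶ B) [PreservesFiniteLimits (EtCoh.pull a)]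
    (G : EtCoh.Ab B) (p : ℕ) (x : EtCoh.H B G p) :
    Hpull a G p x = (Ext.mk₀ (pullConst a ℤ).inv).comp (x.mapExactFunctor (EtCoh.pull a))
      (zero_add p) := rfl

theorem HpullVia_Hpull (G : EtCoh.Ab Z) (p : ℕ) (x : EtCoh.H Z G p) :
    HpullVia f t f₀ w G p (Hpull t G p x) = Hpull f₀ G p x := by
  have hL : HpullVia f t f₀ w G p (Hpull t G p x) =
      ((Ext.mk₀ (pullConst f ℤ).inv).comp ((Hpull t G p x).mapExactFunctor (EtCoh.pull f))
        (zero_add p)).comp (Ext.mk₀ ((viaIso f t f₀ w).hom.app G)) (add_zero p) := rfl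
  rw [hL, Hpull_apply, Hpull_apply, Ext.mapExactFunctor_comp, Ext.mapExactFunctor_mk₀]
  have hnat := ExtAdj.mapExactFunctor_comp_nat (EtCoh.pull t) (EtCoh.pull f) (EtCoh.pull f₀)
    (viaIso f t f₀ w).hom (EtCoh.const Z ℤ) p G x
  rw [Ext.comp_assoc_of_third_deg_zero, Ext.comp_assoc_of_third_deg_zero, hnat,
    ← Ext.comp_assoc_of_second_deg_zero, ← Ext.comp_assoc_of_second_deg_zero,
    Ext.mk₀_comp_mk₀, Ext.mk₀_comp_mk₀]
  congr 2
  rw [Category.assoc]
  exact PullConstComp.pullConst_inv_via f t w ℤ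

omit [PreservesFiniteLimits (EtCoh.pull t)] [PreservesFiniteLimits (EtCoh.pull f₀)] in
/-- `HpullVia` is `Hpull` followed by a bijection. -/
theorem HpullVia_eq_comp (G : EtCoh.Ab Z) (p : ℕ) :
    ∃ θ : EtCoh.H X ((EtCoh.pull f).obj ((EtCoh.pull t).obj G)) p →
        EtCoh.H X ((EtCoh.pull f₀).obj G) p,
      Function.Bijective θ ∧
        ∀ y, HpullVia f t f₀ w G p y = θ (Hpull f ((EtCoh.pull t).obj G) p y) := by
  let φ := (viaIso f t f₀ w).app G
  refine ⟨fun y => ((EtCoh.HF X p).map φ.hom) y, ?_, fun y => rfl⟩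
  have h4 : (EtCoh.HF X p).map φ.hom ≫ (EtCoh.HF X p).map φ.inv = 𝟙 _ := by
    rw [← Functor.map_comp, Iso.hom_inv_id, CategoryTheory.Functor.map_id]
  have h5 : (EtCoh.HF X p).map φ.inv ≫ (EtCoh.HF X p).map φ.hom = 𝟙 _ := by
    rw [← Functor.map_comp, Iso.inv_hom_id, CategoryTheory.Functor.map_id]
  refine Function.bijective_iff_has_inverse.mpr ⟨fun y => ((EtCoh.HF X p).map φ.inv) y, ?_, ?_⟩
  · intro y
    change ((EtCoh.HF X p).map φ.hom ≫ (EtCoh.HF X p).map φ.inv) y = y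
    rw [h4]
    rfl
  · intro y
    change ((EtCoh.HF X p).map φ.inv ≫ (EtCoh.HF X p).map φ.hom) y = y
    rw [h5]
    rfl

include w in
/-- Transitivity: `Hpull f₀ = θ ∘ Hpull f ∘ Hpull t` with `θ` bijective. -/
theorem Hpull_comp (G : EtCoh.Ab Z) (p : ℕ) :
    ∃ θ : EtCoh.H X ((EtCoh.pull f).obj ((EtCoh.pull t).obj G)) p →
        EtCoh.H X ((EtCoh.pull f₀).obj G) p,
      Function.Bijective θ ∧
        ∀ x, Hpull f₀ G p x = θ (Hpull f ((EtCoh.pull t).obj G) p (Hpull t G p x)) := by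
  obtain ⟨θ, hθ, h⟩ := HpullVia_eq_comp f t f₀ w G p
  exact ⟨θ, hθ, fun x => (HpullVia_Hpull f t f₀ w G p x).symm.trans (h _)⟩

end Groth.Agent.Lib.Helper28.HpullComp
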