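import Groth.Agent.Lib.Helper28.AcycLocalB
import Groth.Agent.Lib.Helper28.AcycLerayK
import Groth.Agent.Lib.Helper28.HpullComp

/-!
# Single sheaf comparison: unit and higher direct images versus étale-local pullback maps
-/

set_option autoImplicit false
set_option linter.unusedSectionVars false
open CategoryTheory CategoryTheory.Limits AlgebraicGeometry Opposite
universe u

namespace Groth.Agent.Lib.Helper28.AcycSingle
open EtCore Abelian Groth.Agent.Lib.Helper4 Groth.Agent.Lib.Helper4.EtExtShriek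
open Groth.Agent.Lib.Helper28 Groth.Agent.Lib.Helper28.AcycLocalA

local instance pflPull {A B : Scheme.{u}} (a : A ⟶ B) : PreservesFiniteLimits (EtCoh.pull a) :=
  EtStalk.preservesFiniteLimits_pull a

section Rev
variable {A B : Scheme.{u}} (f : A ⟶ B) (W : B.Etale) (F : EtCoh.Ab B) (q : ℕ)

/-- the comparison of `AcycGamma.comp_eq` in the geometric situation. -/
theorem hpull_iff_mapPull_AU :
    (Function.Bijective (Hpull (pullback.fst W.hom f) ((EtCoh.pull W.hom).obj F) q) ↔
      Function.Bijective (fun e : Ext (AU W.hom) F q => e.mapExactFunctor (EtCoh.pull f))) ∧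
    (Function.Injective (Hpull (pullback.fst W.hom f) ((EtCoh.pull W.hom).obj F) q) ↔
      Function.Injective (fun e : Ext (AU W.hom) F q => e.mapExactFunctor (EtCoh.pull f))) := by
  have hγ := AcycGamma.isIso_γ_of_isPullback W.hom f (pullback.snd W.hom f)
    (pullback.fst W.hom f) (isPullback_bc f W)
  have hc := AcycGamma.comp_eq W.hom f (pullback.snd W.hom f) (pullback.fst W.hom f)
    (AcycGamma.cIso W.hom f (pullback.snd W.hom f) (pullback.fst W.hom f) (isPullback_bc f W).w) F q
  have hT : Function.Bijective ((ΘE (pullback.snd W.hom f) ((EtCoh.pull f).obj F) q) ∘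
      (fun y : Ext ((EtCoh.pull f).obj (AU W.hom)) _ q =>
        (Ext.mk₀ (AcycGamma.γ W.hom f (pullback.snd W.hom f) (pullback.fst W.hom f)
          (AcycGamma.cIso W.hom f (pullback.snd W.hom f) (pullback.fst W.hom f)
            (isPullback_bc f W).w))).comp y (zero_add q))) :=
    (ΘE (pullback.snd W.hom f) ((EtCoh.pull f).obj F) q).bijective.comp
      (AcycGamma.precomp_bijective _ _ _ _ _ hγ _ q)
  have hH := AcycGamma.HFmap_bijective
    ((AcycGamma.cIso W.hom f (pullback.snd W.hom f) (pullback.fst W.hom f)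
      (isPullback_bc f W).w).hom.app F) q
  constructor
  · constructor
    · intro hq
      exact AcycGamma.mapPull_bijective_of_isPullback W.hom f (pullback.snd W.hom f)
        (pullback.fst W.hom f) (isPullback_bc f W) F q hq
    · intro hM
      have h1 := hT.comp hM
      have h2 := (congrArg Function.Bijective hc).mp h1
      have h3 := (Function.Bijective.of_comp_iff _ (ΘE W.hom F q).bijective).1 h2
      exact (Function.Bijective.of_comp_iff' hH _).1 h3
  · constructor
    · intro hq
      exact AcycGamma.mapPull_injective_of_isPullback W.hom f (pullback.snd W.hom f)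
        (pullback.fst W.hom f) (isPullback_bc f W) F q hq
    · intro hM
      have h1 := hT.1.comp hM
      have h2 := (congrArg Function.Injective hc).mp h1
      have h3 := (Function.Injective.of_comp_iff' _ (ΘE W.hom F q).bijective).1 h2
      exact (Function.Injective.of_comp_iff hH.1 _).1 h3

theorem hpull_iff_mapPull :
    (Function.Bijective (Hpull (pullback.fst W.hom f) ((EtCoh.pull W.hom).obj F) q) ↔
      Function.Bijective (fun e : Ext ((EtFree.Zf B).obj W) F q =>
        e.mapExactFunctor (EtCoh.pull f))) ∧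
    (Function.Injective (Hpull (pullback.fst W.hom f) ((EtCoh.pull W.hom).obj F) q) ↔
      Function.Injective (fun e : Ext ((EtFree.Zf B).obj W) F q =>
        e.mapExactFunctor (EtCoh.pull f))) := by
  obtain ⟨h1, h2⟩ := hpull_iff_mapPull_AU f W F q
  have ht := mapPull_transfer f (eW W) F q
  have hP1 := precomp_iso_bijective (eW W).hom F q
  have hP2 := precomp_iso_bijective ((EtCoh.pull f).map (eW W).inv) ((EtCoh.pull f).obj F) q
  constructor
  · rw [h1, ht, Function.Bijective.of_comp_iff' hP2, Function.Bijective.of_comp_iff _ hP1]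
  · rw [h2, ht, Function.Injective.of_comp_iff hP2.1, Function.Injective.of_comp_iff' _ hP1]

end Rev

section Unit
variable {A B : Scheme.{u}} (f : A ⟶ B) (F : EtCoh.Ab B)

theorem postcomp_iso_bijective {K F F' : EtCoh.Ab B} (a : F ⟶ F') [IsIso a] (q : ℕ) :
    Function.Bijective (fun x : Ext K F q => x.comp (Ext.mk₀ a) (add_zero q)) := by
  refine Function.bijective_iff_has_inverse.2
    ⟨fun y => y.comp (Ext.mk₀ (inv a)) (add_zero q), fun x => ?_, fun y => ?_⟩
  · change (x.comp (Ext.mk₀ a) (add_zero q)).comp (Ext.mk₀ (inv a)) (add_zero q) = x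
    rw [Ext.comp_assoc_of_third_deg_zero, Ext.mk₀_comp_mk₀, IsIso.hom_inv_id, Ext.comp_mk₀_id]
  · change (y.comp (Ext.mk₀ (inv a)) (add_zero q)).comp (Ext.mk₀ a) (add_zero q) = y
    rw [Ext.comp_assoc_of_third_deg_zero, Ext.mk₀_comp_mk₀, IsIso.inv_hom_id, Ext.comp_mk₀_id]

theorem mapPull_fun_eq (K : EtCoh.Ab B) (q : ℕ) :
    (fun e : Ext K F q => e.mapExactFunctor (EtCoh.pull f)) =
      (AcycLerayK.θK f K ((EtCoh.pull f).obj F) q) ∘
        (fun x : Ext K F q => x.comp (Ext.mk₀ ((EtCoh.pullPushAdj f).unit.app F)) (add_zero q)) := by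
  funext e
  exact AcycLerayK.mapPull_eq f K F q e

/-- (unit iso and vanishing of `R^q f_* f⁻¹F`) ⇒ pullback of `Ext` classes is bijective in low
degrees. -/
theorem mapPull_of_unit (K : EtCoh.Ab B) (m : ℕ)
    (hu : IsIso ((EtCoh.pullPushAdj f).unit.app F))
    (hR : ∀ q : ℕ, 1 ≤ q → q ≤ m → IsZero ((EtCoh.Rpush f q).obj ((EtCoh.pull f).obj F))) :
    (∀ q : ℕ, q ≤ m → Function.Bijective
      (fun e : Ext K F q => e.mapExactFunctor (EtCoh.pull f))) ∧
    Function.Injective (fun e : Ext K F (m + 1) => e.mapExactFunctor (EtCoh.pull f)) := by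
  obtain ⟨hb, hi⟩ := AcycLerayK.truncatedK f K m ((EtCoh.pull f).obj F)
    (fun q hq hqm => hR q hq hqm)
  refine ⟨fun q hq => ?_, ?_⟩
  · rw [mapPull_fun_eq]
    exact (hb q hq).comp (postcomp_iso_bijective _ q)
  · rw [mapPull_fun_eq]
    exact hi.comp (postcomp_iso_bijective _ (m + 1)).1

theorem mapPull_zero_injective_of_mono (K : EtCoh.Ab B)
    (hu : Mono ((EtCoh.pullPushAdj f).unit.app F)) :
    Function.Injective (fun e : Ext K F 0 => e.mapExactFunctor (EtCoh.pull f)) := by
  rw [mapPull_fun_eq]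
  refine (AcycLerayK.θK_zero_bijective f K _).1.comp ?_
  intro x y h
  obtain ⟨φ, rfl⟩ := (Ext.mk₀_bijective _ _).2 x
  obtain ⟨ψ, rfl⟩ := (Ext.mk₀_bijective _ _).2 y
  have h' : (Ext.mk₀ φ).comp (Ext.mk₀ ((EtCoh.pullPushAdj f).unit.app F)) (add_zero 0) =
    (Ext.mk₀ ψ).comp (Ext.mk₀ ((EtCoh.pullPushAdj f).unit.app F)) (add_zero 0) := h
  rw [Ext.mk₀_comp_mk₀, Ext.mk₀_comp_mk₀] at h'
  have h2 := (Ext.mk₀_bijective _ _).1 h'
  rw [(cancel_mono _).1 h2]

/-- the unit is a monomorphism when pullback is injective on morphisms out of free sheaves. -/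
theorem mono_unit
    (hM : ∀ W : B.Etale, Function.Injective
      (fun e : Ext ((EtFree.Zf B).obj W) F 0 => e.mapExactFunctor (EtCoh.pull f))) :
    Mono ((EtCoh.pullPushAdj f).unit.app F) := by
  have hinj : ∀ W : B.Etale,
      Function.Injective (((EtCoh.pullPushAdj f).unit.app F).hom.app (op W)) := by
    intro W
    have hmap : Function.Injective (fun φ : (EtFree.Zf B).obj W ⟶ F => (EtCoh.pull f).map φ) := by
      intro φ ψ h
      have h1 : (Ext.mk₀ φ).mapExactFunctor (EtCoh.pull f) =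
          (Ext.mk₀ ψ).mapExactFunctor (EtCoh.pull f) := by
        rw [Ext.mapExactFunctor_mk₀, Ext.mapExactFunctor_mk₀]
        exact congrArg Ext.mk₀ h
      exact (Ext.mk₀_bijective _ _).1 (hM W h1)
    have hcomp : (((EtCoh.pullPushAdj f).unit.app F).hom.app (op W)) ∘
        (FreeShG.σ.{u + 1} B.smallEtaleTopology W F) =
        (FreeShG.σ.{u + 1} A.smallEtaleTopology ((EtCoh.bc f).obj W) _) ∘
          (fun ψ => (dW f W).hom ≫ ψ) ∘
            (fun φ : (EtFree.Zf B).obj W ⟶ F => (EtCoh.pull f).map φ) := by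
      funext φ
      exact (σ_dW_pull f W F φ).symm
    have h3 : Function.Injective ((((EtCoh.pullPushAdj f).unit.app F).hom.app (op W)) ∘
        (FreeShG.σ.{u + 1} B.smallEtaleTopology W F)) := by
      rw [hcomp]
      refine (FreeShG.σ.{u + 1} A.smallEtaleTopology ((EtCoh.bc f).obj W) _).injective.comp
        (Function.Injective.comp ?_ hmap)
      exact (Iso.homFromEquiv (dW f W).symm).injective
    exact (Function.Injective.of_comp_iff' _
      (FreeShG.σ.{u + 1} B.smallEtaleTopology W F).bijective).1 h3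
  have h1 : ∀ W : B.Etaleᵒᵖ, Mono (((EtCoh.pullPushAdj f).unit.app F).hom.app W) := by
    intro W
    exact ConcreteCategory.mono_of_injective _ (hinj W.unop)
  have h2 : Mono ((EtCoh.pullPushAdj f).unit.app F).hom := NatTrans.mono_of_mono_app _
  have h3 : Mono ((sheafToPresheaf _ _).map ((EtCoh.pullPushAdj f).unit.app F)) := h2
  exact (sheafToPresheaf B.smallEtaleTopology AddCommGrpCat.{u + 1}).mono_of_mono_map h3

end Unit

section Main
variable {A B : Scheme.{u}} (f : A ⟶ B) (F : EtCoh.Ab B)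

theorem hpull_of_unit (m : ℕ) (hu : IsIso ((EtCoh.pullPushAdj f).unit.app F))
    (hR : ∀ q : ℕ, 1 ≤ q → q ≤ m → IsZero ((EtCoh.Rpush f q).obj ((EtCoh.pull f).obj F)))
    (W : B.Etale) :
    (∀ q : ℕ, q ≤ m → Function.Bijective
      (Hpull (pullback.fst W.hom f) ((EtCoh.pull W.hom).obj F) q)) ∧
    Function.Injective (Hpull (pullback.fst W.hom f) ((EtCoh.pull W.hom).obj F) (m + 1)) := by
  obtain ⟨hb, hi⟩ := mapPull_of_unit f F ((EtFree.Zf B).obj W) m hu hR
  exact ⟨fun q hq => (hpull_iff_mapPull f W F q).1.2 (hb q hq),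
    (hpull_iff_mapPull f W F (m + 1)).2.2 hi⟩

theorem hpull_zero_injective_of_mono (hu : Mono ((EtCoh.pullPushAdj f).unit.app F))
    (W : B.Etale) :
    Function.Injective (Hpull (pullback.fst W.hom f) ((EtCoh.pull W.hom).obj F) 0) :=
  (hpull_iff_mapPull f W F 0).2.2 (mapPull_zero_injective_of_mono f F _ hu)

theorem unit_of_hpull (m : ℕ)
    (h : ∀ (W : B.Etale) (q : ℕ), q ≤ m → Function.Bijective
      (Hpull (pullback.fst W.hom f) ((EtCoh.pull W.hom).obj F) q)) :
    IsIso ((EtCoh.pullPushAdj f).unit.app F) ∧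
      ∀ q : ℕ, 1 ≤ q → q ≤ m → IsZero ((EtCoh.Rpush f q).obj ((EtCoh.pull f).obj F)) := by
  refine ⟨AcycLocalB.isIso_unit f F
    (fun W => (hpull_iff_mapPull f W F 0).1.1 (h W 0 (Nat.zero_le m))), ?_⟩
  intro q hq1 hqm
  obtain ⟨q, rfl⟩ : ∃ k, q = k + 1 := ⟨q - 1, by omega⟩
  exact AcycLocalB.isZero_Rpush f F q
    (fun W => ((hpull_iff_mapPull f W F (q + 1)).1.1 (h W (q + 1) hqm)).2)

theorem mono_of_hpull
    (h : ∀ (W : B.Etale), Function.Injective
      (Hpull (pullback.fst W.hom f) ((EtCoh.pull W.hom).obj F) 0)) :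
    Mono ((EtCoh.pullPushAdj f).unit.app F) :=
  mono_unit f F (fun W => (hpull_iff_mapPull f W F 0).2.1 (h W))

end Main

end Groth.Agent.Lib.Helper28.AcycSingle
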