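import Groth.Agent.Lib.Helper28.CechBC2
import Groth.Agent.S0455
import Mathlib.Topology.Sheaves.SheafCondition.UniqueGluing

namespace Groth.Agent.Lib.Helper28.AuxSpace

open CategoryTheory Limits Opposite TopologicalSpace

universe u

/-- Nonempty tuples of indices. -/
abbrev Tup (ι : Type u) : Type u := Σ p : ℕ, Fin (p + 1) → ι

/-- The points of the auxiliary space: the nonempty subsets of `ι`. -/
def Pt (ι : Type u) : Type u := {A : Set ι // A.Nonempty}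

variable {ι : Type u}

/-- Concatenation of tuples. -/
def Tup.append (s t : Tup ι) : Tup ι :=
  ⟨s.1 + 1 + t.1, (Fin.append s.2 t.2 : Fin (s.1 + 1 + (t.1 + 1)) → ι)⟩

lemma Tup.append_forall (s t : Tup ι) (P : ι → Prop) :
    (∀ j, P ((s.append t).2 j)) ↔ (∀ j, P (s.2 j)) ∧ ∀ j, P (t.2 j) := by
  constructor
  · intro h
    refine ⟨fun j => ?_, fun j => ?_⟩
    · have := h (Fin.castAdd (t.1 + 1) j)
      exact (Fin.append_left s.2 t.2 j) ▸ this
    · have := h (Fin.natAdd (s.1 + 1) j)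
      exact (Fin.append_right s.2 t.2 j) ▸ this
  · rintro ⟨h1, h2⟩ j
    refine Fin.addCases (m := s.1 + 1) (n := t.1 + 1) (fun i => ?_) (fun i => ?_) j
    · change P (Fin.append s.2 t.2 (Fin.castAdd (t.1 + 1) i))
      rw [Fin.append_left]; exact h1 i
    · change P (Fin.append s.2 t.2 (Fin.natAdd (s.1 + 1) i))
      rw [Fin.append_right]; exact h2 i

/-- A tuple lies in a subset. -/
def Tup.Sub (t : Tup ι) (A : Set ι) : Prop := ∀ j, t.2 j ∈ A

lemma Tup.append_sub (s t : Tup ι) (A : Set ι) : (s.append t).Sub A ↔ s.Sub A ∧ t.Sub A :=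
  Tup.append_forall s t (fun i => i ∈ A)

/-- The point attached to a tuple: its set of entries. -/
def Tup.pt (t : Tup ι) : Pt ι := ⟨Set.range t.2, ⟨t.2 0, Set.mem_range_self 0⟩⟩

lemma Tup.sub_pt (t : Tup ι) : t.Sub t.pt.1 := fun j => Set.mem_range_self j

lemma Tup.pt_subset_iff (t : Tup ι) (A : Set ι) : t.pt.1 ⊆ A ↔ t.Sub A := by
  constructor
  · intro h j
    exact h (Set.mem_range_self j)
  · rintro h _ ⟨j, rfl⟩
    exact h j

instance : TopologicalSpace (Pt ι) where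
  IsOpen V := ∀ A ∈ V, ∃ t : Tup ι, t.Sub A.1 ∧ ∀ B : Pt ι, t.Sub B.1 → B ∈ V
  isOpen_univ := by
    intro A _
    obtain ⟨i, hi⟩ := A.2
    exact ⟨⟨0, fun _ => i⟩, fun _ => hi, fun _ _ => Set.mem_univ _⟩
  isOpen_inter := by
    intro V W hV hW A hA
    obtain ⟨s, hs, hs'⟩ := hV A hA.1
    obtain ⟨t, ht, ht'⟩ := hW A hA.2
    refine ⟨s.append t, (Tup.append_sub s t _).2 ⟨hs, ht⟩, fun B hB => ?_⟩
    obtain ⟨h1, h2⟩ := (Tup.append_sub s t _).1 hB
    exact ⟨hs' B h1, ht' B h2⟩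
  isOpen_sUnion := by
    intro S hS A hA
    obtain ⟨V, hV, hAV⟩ := hA
    obtain ⟨t, ht, ht'⟩ := hS V hV A hAV
    exact ⟨t, ht, fun B hB => ⟨V, hV, ht' B hB⟩⟩

lemma isOpen_iff (V : Set (Pt ι)) :
    IsOpen V ↔ ∀ A ∈ V, ∃ t : Tup ι, t.Sub A.1 ∧ ∀ B : Pt ι, t.Sub B.1 → B ∈ V := Iff.rfl

/-- Opens are upper sets. -/
lemma mem_of_subset {V : Set (Pt ι)} (hV : IsOpen V) {A B : Pt ι} (hA : A ∈ V) (hAB : A.1 ⊆ B.1) :
    B ∈ V := by
  obtain ⟨t, ht, ht'⟩ := hV A hA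
  exact ht' B fun j => hAB (ht j)

/-- A tuple-point lies in an open iff all points containing the tuple do. -/
lemma pt_mem_iff {V : Set (Pt ι)} (hV : IsOpen V) (t : Tup ι) :
    t.pt ∈ V ↔ ∀ B : Pt ι, t.Sub B.1 → B ∈ V := by
  constructor
  · intro h B hB
    exact mem_of_subset hV h ((Tup.pt_subset_iff t _).2 hB)
  · intro h
    exact h _ t.sub_pt

lemma exists_pt_mem {V : Set (Pt ι)} (hV : IsOpen V) {A : Pt ι} (hA : A ∈ V) :
    ∃ t : Tup ι, t.Sub A.1 ∧ t.pt ∈ V := by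
  obtain ⟨t, ht, ht'⟩ := hV A hA
  exact ⟨t, ht, ht' _ t.sub_pt⟩


lemma exists_tup_of_finite (S : Set ι) (hS : S.Finite) (hne : S.Nonempty) :
    ∃ s : Tup ι, Set.range s.2 = S := by
  obtain ⟨n, f, hf⟩ := hS.fin_embedding
  cases n with
  | zero =>
    exfalso
    obtain ⟨i, hi⟩ := hne
    rw [← hf] at hi
    obtain ⟨j, -⟩ := hi
    exact j.elim0
  | succ m => exact ⟨⟨m, f⟩, hf⟩

/-- The auxiliary space. -/
abbrev Y (ι : Type u) : TopCat.{u} := TopCat.of (Pt ι)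

/-- The basic open of the subsets containing `i`. -/
def Vb (i : ι) : Opens (Y ι) := ⟨{A | i ∈ A.1}, by
  intro A hA
  exact ⟨⟨0, fun _ => i⟩, fun _ => hA, fun B hB => hB 0⟩⟩

lemma mem_Vb (i : ι) (A : Pt ι) : A ∈ Vb i ↔ i ∈ A.1 := Iff.rfl

variable {X : TopCat.{u}} (U : ι → Opens X)

/-- The frame homomorphism from opens of the auxiliary space to opens of `X`. -/
def φobj (V : Opens (Y ι)) : Opens X := ⨆ k : {t : Tup ι // t.pt ∈ V}, ⨅ j, U (k.1.2 j)

lemma mem_iInf_fin {n : ℕ} (W : Fin n → Opens X) (x : X) : x ∈ (⨅ j, W j) ↔ ∀ j, x ∈ W j := by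
  rw [← SetLike.mem_coe, Opens.coe_iInf, Set.mem_iInter]
  rfl

lemma mem_φobj (V : Opens (Y ι)) (x : X) :
    x ∈ φobj U V ↔ ∃ t : Tup ι, t.pt ∈ V ∧ ∀ j, x ∈ U (t.2 j) := by
  unfold φobj
  rw [Opens.mem_iSup]
  constructor
  · rintro ⟨k, hk⟩
    exact ⟨k.1, k.2, (mem_iInf_fin _ x).1 hk⟩
  · rintro ⟨t, ht, hx⟩
    exact ⟨⟨t, ht⟩, (mem_iInf_fin _ x).2 hx⟩

lemma φobj_mono : Monotone (φobj U) := by
  intro V W hVW x hx
  obtain ⟨t, ht, hx⟩ := (mem_φobj U V x).1 hx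
  exact (mem_φobj U W x).2 ⟨t, hVW ht, hx⟩

lemma φobj_Vb (i : ι) : φobj U (Vb i) = U i := by
  ext x
  rw [SetLike.mem_coe, SetLike.mem_coe, mem_φobj]
  constructor
  · rintro ⟨t, ht, hx⟩
    obtain ⟨j, hj⟩ := (mem_Vb i t.pt).1 ht
    exact hj ▸ hx j
  · intro hx
    exact ⟨⟨0, fun _ => i⟩, ⟨0, rfl⟩, fun _ => hx⟩

lemma φobj_le (V : Opens (Y ι)) : φobj U V ≤ iSup U := by
  intro x hx
  obtain ⟨t, -, hx⟩ := (mem_φobj U V x).1 hx
  exact Opens.mem_iSup.2 ⟨t.2 0, hx 0⟩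

lemma φobj_iSup_le {κ : Type*} (W : κ → Opens (Y ι)) : φobj U (iSup W) ≤ ⨆ k, φobj U (W k) := by
  intro x hx
  obtain ⟨t, ht, hx⟩ := (mem_φobj U _ x).1 hx
  obtain ⟨k, hk⟩ := Opens.mem_iSup.1 ht
  exact Opens.mem_iSup.2 ⟨k, (mem_φobj U _ x).2 ⟨t, hk, hx⟩⟩

lemma inf_φobj_le (V W : Opens (Y ι)) : φobj U V ⊓ φobj U W ≤ φobj U (V ⊓ W) := by
  rintro x ⟨h1, h2⟩
  obtain ⟨s, hs, hxs⟩ := (mem_φobj U V x).1 h1
  obtain ⟨t, ht, hxt⟩ := (mem_φobj U W x).1 h2
  refine (mem_φobj U _ x).2 ⟨s.append t, ⟨?_, ?_⟩, ?_⟩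
  · exact mem_of_subset V.isOpen hs
      ((Tup.pt_subset_iff s _).2 ((Tup.append_sub s t _).1 (s.append t).sub_pt).1)
  · exact mem_of_subset W.isOpen ht
      ((Tup.pt_subset_iff t _).2 ((Tup.append_sub s t _).1 (s.append t).sub_pt).2)
  · exact (Tup.append_forall s t (fun i => x ∈ U i)).2 ⟨hxs, hxt⟩

lemma iInf_φobj_le {J : Type} [Finite J] [Nonempty J] (W : J → Opens (Y ι)) :
    ⨅ j, φobj U (W j) ≤ φobj U (⨅ j, W j) := by
  intro x hx
  have hx' : ∀ j, x ∈ φobj U (W j) := by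
    intro j
    exact (iInf_le (fun j => φobj U (W j)) j) hx
  choose t ht hxt using fun j => (mem_φobj U (W j) x).1 (hx' j)
  obtain ⟨s, hs⟩ := exists_tup_of_finite (⋃ j, Set.range (t j).2)
    (Set.finite_iUnion fun j => Set.finite_range _)
    ⟨(t (Classical.arbitrary J)).2 0, Set.mem_iUnion.2 ⟨_, Set.mem_range_self 0⟩⟩
  refine (mem_φobj U _ x).2 ⟨s, ?_, ?_⟩
  · rw [← SetLike.mem_coe, Opens.coe_iInf, Set.mem_iInter]
    intro j
    refine mem_of_subset (W j).isOpen (ht j) ?_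
    intro i hi
    change i ∈ Set.range s.2
    rw [hs]
    exact Set.mem_iUnion.2 ⟨j, hi⟩
  · intro k
    have : s.2 k ∈ ⋃ j, Set.range (t j).2 := hs ▸ Set.mem_range_self k
    obtain ⟨j, l, hl⟩ := Set.mem_iUnion.1 this
    exact hl ▸ hxt j l

/-- The functor on opens. -/
def φ : Opens (Y ι) ⥤ Opens X := (φobj_mono U).functor

lemma φ_obj (V : Opens (Y ι)) : (φ U).obj V = φobj U V := rfl


instance preservesLimitsOfShape_φ (J : Type) [Finite J] [Nonempty J] :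
    PreservesLimitsOfShape (Discrete J) (φ U) where
  preservesLimit {K} := ⟨fun {c} hc => ⟨by
    have h1 : (⨅ j, K.obj ⟨j⟩) ≤ c.pt :=
      leOfHom (hc.lift ⟨⨅ j, K.obj ⟨j⟩,
        Discrete.natTrans fun j => homOfLE (iInf_le (fun j => K.obj ⟨j⟩) j.as)⟩)
    exact
      { lift := fun s => homOfLE (by
          have h2 : ∀ j : J, s.pt ≤ φobj U (K.obj ⟨j⟩) := fun j => leOfHom (s.π.app ⟨j⟩)
          exact ((le_iInf h2).trans (iInf_φobj_le U fun j => K.obj ⟨j⟩)).trans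
            (φobj_mono U h1))
        fac := fun _ _ => Subsingleton.elim _ _
        uniq := fun _ _ _ => Subsingleton.elim _ _ }⟩⟩

instance (n : SimplexCategory) : PreservesLimitsOfShape (Discrete (ToType n)) (φ U) :=
  preservesLimitsOfShape_φ U (Fin (n.len + 1))

variable (F : CohTop.Ab X)

lemma isSheaf_comp : TopCat.Presheaf.IsSheaf ((φ U).op ⋙ F.obj) := by
  rw [TopCat.Presheaf.isSheaf_iff_isSheafUniqueGluing]
  intro κ W sf hsf
  refine TopCat.Sheaf.existsUnique_gluing' F (fun k => (φ U).obj (W k)) ((φ U).obj (iSup W))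
    (fun k => (φ U).map (Opens.leSupr W k)) (φobj_iSup_le U W) sf ?_
  intro i j
  have hle : (φ U).obj (W i) ⊓ (φ U).obj (W j) ≤ (φ U).obj (W i ⊓ W j) :=
    inf_φobj_le U (W i) (W j)
  have h := congrArg (F.obj.map (homOfLE hle).op) (hsf i j)
  have e1 : ∀ y, F.obj.map (homOfLE hle).op
      (F.obj.map ((φ U).map (Opens.infLELeft (W i) (W j))).op y) =
      F.obj.map (Opens.infLELeft ((φ U).obj (W i)) ((φ U).obj (W j))).op y := by
    intro y
    refine (ConcreteCategory.comp_apply _ _ _).symm.trans ?_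
    rw [← Functor.map_comp, ← op_comp]
    rfl
  have e2 : ∀ y, F.obj.map (homOfLE hle).op
      (F.obj.map ((φ U).map (Opens.infLERight (W i) (W j))).op y) =
      F.obj.map (Opens.infLERight ((φ U).obj (W i)) ((φ U).obj (W j))).op y := by
    intro y
    refine (ConcreteCategory.comp_apply _ _ _).symm.trans ?_
    rw [← Functor.map_comp, ← op_comp]
    rfl
  exact (e1 _).symm.trans (h.trans (e2 _))

/-- The sheaf on the auxiliary space. -/
def G : CohTop.Ab (Y ι) := ⟨(φ U).op ⋙ F.obj, isSheaf_comp U F⟩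


lemma G_obj : (G U F).obj = (φ U).op ⋙ F.obj := rfl

/-- The auxiliary sheaf is flasque when sections over the union of the family surject onto sections
over unions of finite intersections. -/
lemma isFlasque_G
    (h : ∀ (κ : Type u) (a : κ → Σ p : ℕ, Fin (p + 1) → ι),
      Function.Surjective (F.obj.map (homOfLE
        (iSup_le fun k => (iInf_le _ ⟨0, Nat.succ_pos _⟩).trans
          (le_iSup U ((a k).2 ⟨0, Nat.succ_pos _⟩)) :
          (⨆ k, ⨅ j, U ((a k).2 j)) ≤ iSup U)).op)) :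
    TopCat.Sheaf.IsFlasque (G U F) := by
  refine ⟨fun {V W} i => ?_⟩
  rw [AddCommGrpCat.epi_iff_surjective]
  intro y
  obtain ⟨s, hs⟩ := h {t : Tup ι // t.pt ∈ W.unop} (fun k => k.1) y
  have hVU : (φ U).obj V.unop ≤ iSup U := φobj_le U V.unop
  refine ⟨F.obj.map (homOfLE hVU).op s, ?_⟩
  refine Eq.trans ?_ hs
  change F.obj.map ((φ U).map i.unop).op (F.obj.map (homOfLE hVU).op s) = _
  refine (ConcreteCategory.comp_apply _ _ _).symm.trans ?_
  rw [← Functor.map_comp, ← op_comp]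
  rfl

end Groth.Agent.Lib.Helper28.AuxSpace
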