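import Groth.Agent.Lib.Helper28.CechY
import Mathlib.CategoryTheory.Sites.SheafCohomology.Cech
import Mathlib.Algebra.Homology.ShortComplex.Ab
import Mathlib.CategoryTheory.Abelian.FunctorCategory
import Mathlib.CategoryTheory.Preadditive.Injective.Basic

namespace Groth.Agent.Lib.Helper28.CechA

open CategoryTheory Limits Opposite Simplicial AlgebraicTopology
open Groth.Agent.Lib.Helper28

universe w v v' u u'

variable {C : Type u} [Category.{v} C] [LocallySmall.{w} C] {D : Type u'} [Category.{v'} D]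
  (F : D ⥤ C) (E : SimplicialObject (FormalCoproduct.{w} D)) (P : Cᵒᵖ ⥤ AddCommGrpCat.{w})

/-- The chain complex of free abelian presheaves attached to `E`. -/
noncomputable abbrev L : ChainComplex (Cᵒᵖ ⥤ AddCommGrpCat.{w}) ℕ :=
  (alternatingFaceMapComplex (Cᵒᵖ ⥤ AddCommGrpCat.{w})).obj ((E ⋙ CechY.sY F) ⋙ CechQ.freeW)

/-- The Čech cochain complex of `P` attached to `E`. -/
noncomputable abbrev K : CochainComplex AddCommGrpCat.{w} ℕ :=
  (FormalCoproduct.cochainComplexFunctor E).obj (F.op ⋙ P)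

lemma sum_apply {M N : AddCommGrpCat.{w}} {ι : Type*} (s : Finset ι) (f : ι → (M ⟶ N)) (y : M) :
    (∑ i ∈ s, f i) y = ∑ i ∈ s, f i y := by
  have h : (∑ i ∈ s, f i).hom = ∑ i ∈ s, (f i).hom := map_sum AddCommGrpCat.homAddEquiv f s
  change (∑ i ∈ s, f i).hom y = _
  rw [h, AddMonoidHom.finsetSum_apply]

lemma zsmul_apply {M N : AddCommGrpCat.{w}} (n : ℤ) (f : M ⟶ N) (y : M) :
    (n • f) y = n • f y := rfl

lemma Ψ_d (n : ℕ) (σ : CechQ.freeW.obj ((CechY.sY F).obj (E.obj (op ⦋n⦌))) ⟶ P) :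
    CechY.Ψ F P (E.obj (op ⦋n + 1⦌)) ((∑ i : Fin (n + 2), (-1 : ℤ) ^ (i : ℕ) •
      CechQ.freeW.map ((CechY.sY F).map (E.δ i))) ≫ σ) =
      (∑ i : Fin (n + 2), (-1 : ℤ) ^ (i : ℕ) • CechY.evalMap F P (E.δ i))
        (CechY.Ψ F P (E.obj (op ⦋n⦌)) σ) := by
  rw [Preadditive.sum_comp, map_sum, sum_apply]
  refine Finset.sum_congr rfl fun i _ => ?_
  rw [Preadditive.zsmul_comp, map_zsmul, zsmul_apply, CechY.Ψ_naturality]

lemma L_d (n : ℕ) : (L F E).d (n + 1) n = ∑ i : Fin (n + 2), (-1 : ℤ) ^ (i : ℕ) •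
    CechQ.freeW.map ((CechY.sY F).map (E.δ i)) :=
  alternatingFaceMapComplex_obj_d _ n

omit [LocallySmall.{w} C] in
lemma K_d (n : ℕ) : (K F E P).d n (n + 1) = ∑ i : Fin (n + 2), (-1 : ℤ) ^ (i : ℕ) •
    CechY.evalMap F P (E.δ i) := by
  exact (CochainComplex.of_d _ (AlternatingCofaceMapComplex.objD
    ((FormalCoproduct.cosimplicialObjectFunctor E).obj (F.op ⋙ P))) n).trans rfl


/-- The augmented simplicial presheaf of sets attached to `E` and an augmentation `η`. -/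
noncomputable abbrev aug {R₀ : Cᵒᵖ ⥤ Type w}
    (η : E ⋙ CechY.sY F ⟶ (Functor.const SimplexCategoryᵒᵖ).obj R₀) :
    SimplicialObject.Augmented (Cᵒᵖ ⥤ Type w) where
  left := E ⋙ CechY.sY F
  right := R₀
  hom := η

lemma exact_L {R₀ : Cᵒᵖ ⥤ Type w}
    (η : E ⋙ CechY.sY F ⟶ (Functor.const SimplexCategoryᵒᵖ).obj R₀)
    (hA : CechQ.SectionwiseCechLike (aug F E η)) (p : ℕ) :
    ((L F E).sc' (p + 2) (p + 1) p).Exact := by
  have hQ : QuasiIso (AlternatingFaceMapComplex.ε.app (CechQ.freeRangeAug (aug F E η))) :=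
    CechQ.quasiIso_ε_freeRangeAug hA
  have h := CechH.exactAt_succ_of_quasiIso (CechQ.freeRangeAug (aug F E η)) p
  rw [HomologicalComplex.exactAt_iff' _ (p + 2) (p + 1) p (by simp) (by simp)] at h
  exact h

theorem isZero_homology_succ [Injective P] {R₀ : Cᵒᵖ ⥤ Type w}
    (η : E ⋙ CechY.sY F ⟶ (Functor.const SimplexCategoryᵒᵖ).obj R₀)
    (hA : CechQ.SectionwiseCechLike (aug F E η)) (p : ℕ) :
    IsZero ((K F E P).homology (p + 1)) := by
  rw [← HomologicalComplex.exactAt_iff_isZero_homology,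
    HomologicalComplex.exactAt_iff' _ p (p + 1) (p + 2) (by simp) (by simp),
    ShortComplex.ab_exact_iff]
  intro x hx
  change (K F E P).d (p + 1) (p + 2) x = 0 at hx
  change ∃ y, (K F E P).d p (p + 1) y = x
  obtain ⟨τ, rfl⟩ := CechY.Ψ_surjective F P (E.obj (op ⦋p + 1⦌)) x
  have hS := exact_L F E η hA p
  have e1 : ((L F E).sc' (p + 2) (p + 1) p).f ≫ τ =
      (∑ i : Fin (p + 1 + 2), (-1 : ℤ) ^ (i : ℕ) •
        CechQ.freeW.map ((CechY.sY F).map (E.δ i))) ≫ τ :=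
    congrArg (fun z => z ≫ τ) (L_d F E (p + 1))
  have e2 : (∑ i : Fin (p + 1 + 2), (-1 : ℤ) ^ (i : ℕ) • CechY.evalMap F P (E.δ i))
      (CechY.Ψ F P (E.obj (op ⦋p + 1⦌)) τ) = 0 :=
    (ConcreteCategory.congr_hom (K_d F E P (p + 1)).symm _).trans hx
  have h0 : ((L F E).sc' (p + 2) (p + 1) p).f ≫ τ = 0 := by
    apply CechY.Ψ_injective F P (E.obj (op ⦋p + 2⦌))
    refine Eq.trans ?_ (map_zero (CechY.Ψ F P (E.obj (op ⦋p + 2⦌)))).symm
    refine (congrArg (CechY.Ψ F P (E.obj (op ⦋p + 2⦌))) e1).trans ?_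
    exact (Ψ_d F E P (p + 1) τ).trans e2
  refine ⟨CechY.Ψ F P (E.obj (op ⦋p⦌)) (hS.descToInjective τ h0), ?_⟩
  refine (ConcreteCategory.congr_hom (K_d F E P p) _).trans ?_
  refine (Ψ_d F E P p (hS.descToInjective τ h0)).symm.trans ?_
  refine congrArg (CechY.Ψ F P (E.obj (op ⦋p + 1⦌))) ?_
  refine Eq.trans ?_ (hS.comp_descToInjective τ h0)
  exact congrArg (fun z => z ≫ hS.descToInjective τ h0) (L_d F E p).symm

end Groth.Agent.Lib.Helper28.CechA
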