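import Mathlib.CategoryTheory.Sites.SheafCohomology.Cech
import Mathlib.CategoryTheory.Limits.Preserves.Shapes.Products

/-!
# Čech complexes and functors preserving finite products

For a functor `G : C ⥤ D` preserving finite products, a family `U : ι → C` and a presheaf `Q` on
`D`, the Čech complex of `G.op ⋙ Q` with respect to `U` is isomorphic to the Čech complex of `Q`
with respect to `G ∘ U`.
-/

namespace Groth.Agent.Lib.Helper28.CechBC

open CategoryTheory Limits Opposite

universe w v v' v'' u u' u''

variable {C : Type u} [Category.{v} C] {D : Type u'} [Category.{v'} D] (G : C ⥤ D)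

/-- Pushing formal coproducts forward along a functor. -/
@[simps]
def mapFC : FormalCoproduct.{w} C ⥤ FormalCoproduct.{w} D where
  obj X := ⟨X.I, fun i => G.obj (X.obj i)⟩
  map f := ⟨f.f, fun i => G.map (f.φ i)⟩
  map_id X := by
    refine FormalCoproduct.hom_ext rfl (fun i => ?_)
    change G.map (𝟙 _) ≫ 𝟙 _ = 𝟙 _
    rw [G.map_id, Category.comp_id]
  map_comp f g := by
    refine FormalCoproduct.hom_ext rfl (fun i => ?_)
    change G.map (f.φ i ≫ g.φ (f.f i)) ≫ 𝟙 _ = G.map (f.φ i) ≫ G.map (g.φ (f.f i))
    rw [G.map_comp, Category.comp_id]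

section Power

variable [HasFiniteProducts C] [HasFiniteProducts D] [PreservesFiniteProducts G]
  {ι : Type w} (U : ι → C)

lemma map_lift_iso {α β : Type} [Finite α] [Finite β] (a : α → ι) (g : β → α) :
    G.map (Pi.lift (fun x => Pi.π (U ∘ a) (g x))) ≫ (PreservesProduct.iso G (U ∘ a ∘ g)).hom =
      (PreservesProduct.iso G (U ∘ a)).hom ≫
        Pi.lift (fun x => Pi.π (fun j => G.obj (U (a j))) (g x)) := by
  apply Pi.hom_ext
  intro j
  have h1 : Pi.lift (fun x => Pi.π (fun j => G.obj (U (a j))) (g x)) ≫
      Pi.π (fun j => G.obj ((U ∘ a ∘ g) j)) j = Pi.π (fun j => G.obj (U (a j))) (g j) :=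
    Pi.lift_π _ j
  have h2 : (PreservesProduct.iso G (U ∘ a ∘ g)).hom ≫ Pi.π (fun j => G.obj ((U ∘ a ∘ g) j)) j =
      G.map (Pi.π (U ∘ a ∘ g) j) := by
    rw [PreservesProduct.iso_hom]
    exact piComparison_comp_π G (U ∘ a ∘ g) j
  have h3 : (PreservesProduct.iso G (U ∘ a)).hom ≫ Pi.π (fun j => G.obj (U (a j))) (g j) =
      G.map (Pi.π (U ∘ a) (g j)) := by
    rw [PreservesProduct.iso_hom]
    exact piComparison_comp_π G (U ∘ a) (g j)
  have h4 : Pi.lift (fun x => Pi.π (U ∘ a) (g x)) ≫ Pi.π (U ∘ a ∘ g) j = Pi.π (U ∘ a) (g j) :=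
    Pi.lift_π _ j
  rw [Category.assoc, Category.assoc]
  exact ((congrArg (fun z => G.map (Pi.lift fun x => Pi.π (U ∘ a) (g x)) ≫ z) h2).trans
    ((G.map_comp _ _).symm.trans (congrArg G.map h4))).trans
      ((congrArg (fun z => (PreservesProduct.iso G (U ∘ a)).hom ≫ z) h1).trans h3).symm

/-- The comparison isomorphism on the `n`-th terms of the Čech objects. -/
noncomputable def powerIso (n : SimplexCategory) :
    (mapFC G).obj ((FormalCoproduct.mk ι U).power (ToType n)) ≅
      (FormalCoproduct.mk ι (fun i => G.obj (U i))).power (ToType n) :=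
  FormalCoproduct.isoOfComponents (Equiv.refl _)
    (fun a => PreservesProduct.iso G (U ∘ a))

/-- A functor preserving finite products commutes with the formation of Čech objects. -/
noncomputable def cechIso :
    (FormalCoproduct.mk ι U).cech ⋙ mapFC G ≅
      (FormalCoproduct.mk ι (fun i => G.obj (U i))).cech :=
  NatIso.ofComponents (fun n => powerIso G U n.unop) (by
    intro n m f
    refine FormalCoproduct.hom_ext rfl (fun (a : ToType n.unop → ι) => ?_)
    refine (Category.comp_id _).trans ?_
    exact map_lift_iso G U a f.unop.toOrderHom.toFun)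

end Power

section Complex

variable {A : Type u''} [Category.{v''} A] [HasProducts.{w} A] [Preadditive A]
  [HasFiniteProducts C] [HasFiniteProducts D] [PreservesFiniteProducts G]
  {ι : Type w} (U : ι → C) (Q : Dᵒᵖ ⥤ A)

/-- The comparison isomorphism of Čech cosimplicial objects. -/
noncomputable def cosimplicialIso :
    (FormalCoproduct.cosimplicialObjectFunctor (FormalCoproduct.mk ι U).cech).obj (G.op ⋙ Q) ≅
      (FormalCoproduct.cosimplicialObjectFunctor
        (FormalCoproduct.mk ι (fun i => G.obj (U i))).cech).obj Q :=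
  NatIso.ofComponents
    (fun n => ((FormalCoproduct.evalOp D A).obj Q).mapIso ((cechIso G U).app (op n)).op.symm) (by
    intro n m f
    change ((FormalCoproduct.evalOp D A).obj Q).map
        (((FormalCoproduct.mk ι U).cech ⋙ mapFC G).map f.op).op ≫
      ((FormalCoproduct.evalOp D A).obj Q).map ((cechIso G U).inv.app (op m)).op =
      ((FormalCoproduct.evalOp D A).obj Q).map ((cechIso G U).inv.app (op n)).op ≫
        ((FormalCoproduct.evalOp D A).obj Q).map
          ((FormalCoproduct.mk ι (fun i => G.obj (U i))).cech.map f.op).op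
    rw [← Functor.map_comp, ← Functor.map_comp, ← op_comp, ← op_comp]
    exact congrArg (fun z => ((FormalCoproduct.evalOp D A).obj Q).map z.op)
      ((cechIso G U).inv.naturality f.op).symm)

/-- The Čech complex of `G.op ⋙ Q` for `U` is the Čech complex of `Q` for `G ∘ U`. -/
noncomputable def cochainIso :
    (cechComplexFunctor U).obj (G.op ⋙ Q) ≅ (cechComplexFunctor (fun i => G.obj (U i))).obj Q :=
  (AlgebraicTopology.alternatingCofaceMapComplex A).mapIso (cosimplicialIso G U Q)

end Complex

end Groth.Agent.Lib.Helper28.CechBC
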