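import Mathlib.AlgebraicTopology.ExtraDegeneracy
import Mathlib.AlgebraicTopology.AlternatingFaceMapComplex

namespace Groth.Agent.Lib.Helper28.CechED

open CategoryTheory Simplicial SimplicialObject Opposite

universe u

/-- The `i`-th vertex of an `n`-simplex of a simplicial set. -/
def vert (A : SimplicialObject (Type u)) {n : ℕ} (i : Fin (n + 1)) : A _⦋n⦌ ⟶ A _⦋0⦌ :=
  A.map (SimplexCategory.const ⦋0⦌ ⦋n⦌ i).op

lemma vert_map (A : SimplicialObject (Type u)) {n m : ℕ} (θ : ⦋n⦌ ⟶ ⦋m⦌) (i : Fin (n + 1)) :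
    A.map θ.op ≫ vert A i = vert A (θ.toOrderHom i) := by
  unfold vert
  rw [← A.map_comp, ← op_comp, SimplexCategory.const_comp]

lemma vert_δ (A : SimplicialObject (Type u)) {n : ℕ} (k : Fin (n + 2)) (i : Fin (n + 1))
    (x : A _⦋n + 1⦌) : vert A i (A.δ k x) = vert A (k.succAbove i) x := by
  have := vert_map A (SimplexCategory.δ k) i
  exact ConcreteCategory.congr_hom this x

lemma vert_σ (A : SimplicialObject (Type u)) {n : ℕ} (k : Fin (n + 1)) (i : Fin (n + 2))
    (x : A _⦋n⦌) : vert A i (A.σ k x) = vert A (k.predAbove i) x := by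
  have := vert_map A (SimplexCategory.σ k) i
  exact ConcreteCategory.congr_hom this x

lemma vert_zero_zero (A : SimplicialObject (Type u)) (x : A _⦋0⦌) : vert A (0 : Fin 1) x = x := by
  unfold vert
  rw [SimplexCategory.const_eq_id]
  simp

/-- An augmented simplicial set is Čech-like if its `n`-simplices are exactly the `(n+1)`-tuples
of `0`-simplices having the same image under the augmentation. -/
structure IsCechLike (A : SimplicialObject.Augmented (Type u)) : Prop where
  inj : ∀ (n : ℕ) (x y : A.left _⦋n⦌), (∀ i, vert A.left i x = vert A.left i y) → x = y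
  surj : ∀ (n : ℕ) (xs : Fin (n + 1) → A.left _⦋0⦌),
    (∀ i j, A.hom.app (op ⦋0⦌) (xs i) = A.hom.app (op ⦋0⦌) (xs j)) →
      ∃ x : A.left _⦋n⦌, ∀ i, vert A.left i x = xs i

lemma ε_vert (A : SimplicialObject.Augmented (Type u)) {n : ℕ} (i : Fin (n + 1))
    (x : A.left _⦋n⦌) : A.hom.app (op ⦋0⦌) (vert A.left i x) = A.hom.app (op ⦋n⦌) x := by
  have := A.hom.naturality (SimplexCategory.const ⦋0⦌ ⦋n⦌ i).op
  have h := ConcreteCategory.congr_hom this x
  simpa [vert] using h

section ED

variable {A : SimplicialObject.Augmented (Type u)} (hA : IsCechLike A)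
  (σ : A.right → A.left _⦋0⦌) (hσ : ∀ t, A.hom.app (op ⦋0⦌) (σ t) = t)

include hA hσ in
lemma exists_cons (n : ℕ) (x : A.left _⦋n⦌) :
    ∃ y : A.left _⦋n + 1⦌, ∀ i : Fin (n + 2),
      vert A.left i y =
        Fin.cons (α := fun _ => A.left _⦋0⦌) (σ (A.hom.app (op ⦋n⦌) x)) (fun j => vert A.left j x) i := by
  apply hA.surj
  intro i j
  have key : ∀ i : Fin (n + 2), A.hom.app (op ⦋0⦌)
      (Fin.cons (α := fun _ => A.left _⦋0⦌) (σ (A.hom.app (op ⦋n⦌) x)) (fun j => vert A.left j x) i) =
      A.hom.app (op ⦋n⦌) x := by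
    intro i
    refine Fin.cases ?_ (fun j => ?_) i
    · simp [hσ]
    · simp only [Fin.cons_succ]
      exact ε_vert A j x
  rw [key, key]

/-- The extra degeneracy map. -/
noncomputable def sFun (n : ℕ) (x : A.left _⦋n⦌) : A.left _⦋n + 1⦌ :=
  (exists_cons hA σ hσ n x).choose

lemma vert_sFun_zero (n : ℕ) (x : A.left _⦋n⦌) :
    vert A.left 0 (sFun hA σ hσ n x) = σ (A.hom.app (op ⦋n⦌) x) := by
  have := (exists_cons hA σ hσ n x).choose_spec 0
  simpa [sFun] using this

lemma vert_sFun_succ (n : ℕ) (x : A.left _⦋n⦌) (j : Fin (n + 1)) :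
    vert A.left j.succ (sFun hA σ hσ n x) = vert A.left j x := by
  have := (exists_cons hA σ hσ n x).choose_spec j.succ
  simpa [sFun] using this

lemma ε_sFun (n : ℕ) (x : A.left _⦋n⦌) :
    A.hom.app (op ⦋n + 1⦌) (sFun hA σ hσ n x) = A.hom.app (op ⦋n⦌) x := by
  rw [← ε_vert A 0, vert_sFun_zero, hσ]

/-- A Čech-like augmented simplicial set with a section of the augmentation has an extra
degeneracy. -/
noncomputable def extraDegeneracy : A.ExtraDegeneracy where
  s' := ↾σ
  s n := ↾(sFun hA σ hσ n)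
  s'_comp_ε := by
    refine ConcreteCategory.hom_ext _ _ fun t => ?_
    simp [hσ]
  s₀_comp_δ₁ := by
    refine ConcreteCategory.hom_ext _ _ fun x => ?_
    apply hA.inj
    intro i
    obtain rfl : i = 0 := Fin.fin_one_eq_zero i
    simp only [types_comp_apply, TypeCat.ofHom_apply]
    rw [vert_δ, vert_zero_zero]
    exact vert_sFun_zero hA σ hσ 0 x
  s_comp_δ₀ n := by
    refine ConcreteCategory.hom_ext _ _ fun x => ?_
    apply hA.inj
    intro i
    simp only [types_comp_apply, TypeCat.ofHom_apply, types_id_apply]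
    rw [vert_δ]
    exact vert_sFun_succ hA σ hσ n x i
  s_comp_δ n i := by
    refine ConcreteCategory.hom_ext _ _ fun x => ?_
    apply hA.inj
    intro j
    simp only [types_comp_apply, TypeCat.ofHom_apply]
    rw [vert_δ]
    refine Fin.cases ?_ (fun j' => ?_) j
    · rw [Fin.succ_succAbove_zero, vert_sFun_zero, vert_sFun_zero]
      congr 1
      have := A.hom.naturality (SimplexCategory.δ i).op
      exact (ConcreteCategory.congr_hom this x).symm
    · rw [Fin.succ_succAbove_succ, vert_sFun_succ, vert_sFun_succ, vert_δ]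
  s_comp_σ n i := by
    refine ConcreteCategory.hom_ext _ _ fun x => ?_
    apply hA.inj
    intro j
    simp only [types_comp_apply, TypeCat.ofHom_apply]
    rw [vert_σ]
    refine Fin.cases ?_ (fun j' => ?_) j
    · rw [Fin.predAbove_right_zero, vert_sFun_zero, vert_sFun_zero]
      congr 1
      have := A.hom.naturality (SimplexCategory.σ i).op
      exact (ConcreteCategory.congr_hom this x).symm
    · rw [Fin.succ_predAbove_succ, vert_sFun_succ, vert_sFun_succ, vert_σ]

end ED

end Groth.Agent.Lib.Helper28.CechED
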