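import Mathlib.AlgebraicTopology.ExtraDegeneracy
import Mathlib.AlgebraicTopology.AlternatingFaceMapComplex
import Mathlib.Algebra.Homology.QuasiIso
import Mathlib.Algebra.Homology.SingleHomology
import Mathlib.Algebra.Homology.ShortComplex.HomologicalComplex
import Mathlib.Algebra.Homology.Additive

namespace Groth.Agent.Lib.Helper28.CechH

open CategoryTheory Simplicial SimplicialObject Opposite Limits AlgebraicTopology

universe v v' u u'

section

variable {𝒜 : Type u} [Category.{v} 𝒜] [Abelian 𝒜]

/-- If the augmentation of the alternating face map complex of an augmented simplicial object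
is a quasi-isomorphism, the complex is exact in positive degrees. -/
lemma exactAt_succ_of_quasiIso (X : SimplicialObject.Augmented 𝒜)
    [QuasiIso (AlternatingFaceMapComplex.ε.app X)] (n : ℕ) :
    ((alternatingFaceMapComplex 𝒜).obj X.left).ExactAt (n + 1) := by
  have h : QuasiIsoAt (AlternatingFaceMapComplex.ε.app X) (n + 1) := inferInstance
  rwa [quasiIsoAt_iff_exactAt' _ _ (ChainComplex.exactAt_succ_single_obj _ _)] at h

lemma d_comp_ε (X : SimplicialObject.Augmented 𝒜) :
    ((alternatingFaceMapComplex 𝒜).obj X.left).d 1 0 ≫ X.hom.app (op ⦋0⦌) = 0 := by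
  have := (AlternatingFaceMapComplex.ε.app X).comm 1 0
  simp only [AlternatingFaceMapComplex.ε_app_f_zero] at this
  refine this.symm.trans ?_
  simp only [AlternatingFaceMapComplex.ε_app_f_succ, zero_comp]
  rfl

/-- If the augmentation of the alternating face map complex of an augmented simplicial object
is a quasi-isomorphism, the augmented complex is exact at degree `0` and the augmentation is epi. -/
lemma exact_and_epi_of_quasiIso (X : SimplicialObject.Augmented 𝒜)
    [QuasiIso (AlternatingFaceMapComplex.ε.app X)] :
    (ShortComplex.mk _ _ (d_comp_ε X)).Exact ∧ Epi (X.hom.app (op ⦋0⦌)) := by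
  have h : QuasiIsoAt (AlternatingFaceMapComplex.ε.app X) 0 := inferInstance
  rw [ChainComplex.quasiIsoAt₀_iff, ShortComplex.quasiIso_iff_of_zeros'] at h
  · simp only [AlternatingFaceMapComplex.ε_app_f_zero,
      HomologicalComplex.shortComplexFunctor'_map_τ₂] at h
    exact h
  all_goals rfl

end

variable {𝒜 : Type u} [Category.{v} 𝒜] [Abelian 𝒜] {ℬ : Type u'} [Category.{v'} ℬ] [Abelian ℬ]
  (F : 𝒜 ⥤ ℬ) [F.Additive]

/-- The alternating face map complex commutes with additive functors (componentwise identity). -/
noncomputable def afmcMapIso (Y : SimplicialObject 𝒜) :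
    (F.mapHomologicalComplex _).obj ((alternatingFaceMapComplex 𝒜).obj Y) ≅
      (alternatingFaceMapComplex ℬ).obj (((SimplicialObject.whiskering 𝒜 ℬ).obj F).obj Y) :=
  HomologicalComplex.Hom.isoOfComponents (fun n => Iso.refl _) (by
    rintro i j (rfl : j + 1 = i)
    simp only [Iso.refl_hom,
      Functor.mapHomologicalComplex_obj_d, alternatingFaceMapComplex_obj_d,
      AlternatingFaceMapComplex.objD, Functor.map_sum, Functor.map_zsmul]
    exact (Category.id_comp _).trans (Category.comp_id _).symm)

/-- Compatibility of the augmentation `ε` with additive functors, as an isomorphism of arrows. -/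
noncomputable def εMapArrowIso (X : SimplicialObject.Augmented 𝒜) :
    Arrow.mk ((F.mapHomologicalComplex _).map (AlternatingFaceMapComplex.ε.app X)) ≅
      Arrow.mk (AlternatingFaceMapComplex.ε.app
        (((SimplicialObject.Augmented.whiskering 𝒜 ℬ).obj F).obj X)) :=
  Arrow.isoMk (afmcMapIso F X.left)
    ((HomologicalComplex.singleMapHomologicalComplex F (ComplexShape.down ℕ) 0).app X.right) (by
      apply HomologicalComplex.to_single_hom_ext
      dsimp only [Arrow.mk_hom, Arrow.mk_left, Arrow.mk_right, Functor.id_obj]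
      rw [HomologicalComplex.comp_f, HomologicalComplex.comp_f]
      simp only [
        Functor.mapHomologicalComplex_map_f, AlternatingFaceMapComplex.ε_app_f_zero, Iso.app_hom,
        HomologicalComplex.singleMapHomologicalComplex_hom_app_self]
      change 𝟙 _ ≫ _ = _
      erw [Category.id_comp]
      rw [ChainComplex.single₀ObjXSelf, ChainComplex.single₀ObjXSelf]
      have h : F.map (X.hom.app (op ⦋0⦌)) ≫ F.map (𝟙 X.right) ≫ 𝟙 (F.obj X.right) =
          F.map (X.hom.app (op ⦋0⦌)) ≫ 𝟙 _ := by simp
      exact Eq.trans rfl h.symm)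

lemma quasiIso_ε_whisker_iff (X : SimplicialObject.Augmented 𝒜) :
    QuasiIso ((F.mapHomologicalComplex _).map (AlternatingFaceMapComplex.ε.app X)) ↔
      QuasiIso (AlternatingFaceMapComplex.ε.app
        (((SimplicialObject.Augmented.whiskering 𝒜 ℬ).obj F).obj X)) :=
  quasiIso_iff_of_arrow_mk_iso _ _ (εMapArrowIso F X)

lemma quasiIso_ε_iff_of_isIso {A B : SimplicialObject.Augmented 𝒜} (φ : A ⟶ B)
    (h1 : IsIso (SimplicialObject.Augmented.drop.map φ))
    (h2 : IsIso (SimplicialObject.Augmented.point.map φ)) :
    QuasiIso (AlternatingFaceMapComplex.ε.app A) ↔ QuasiIso (AlternatingFaceMapComplex.ε.app B) := by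
  have h1' : IsIso ((SimplicialObject.Augmented.drop ⋙ alternatingFaceMapComplex 𝒜).map φ) := by
    rw [Functor.comp_map]
    infer_instance
  have h2' : IsIso ((SimplicialObject.Augmented.point ⋙ ChainComplex.single₀ 𝒜).map φ) := by
    rw [Functor.comp_map]
    infer_instance
  exact quasiIso_iff_of_arrow_mk_iso (AlternatingFaceMapComplex.ε.app A)
    (AlternatingFaceMapComplex.ε.app B)
    (Arrow.isoMk (asIso ((SimplicialObject.Augmented.drop ⋙ alternatingFaceMapComplex 𝒜).map φ))
      (asIso ((SimplicialObject.Augmented.point ⋙ ChainComplex.single₀ 𝒜).map φ))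
      (AlternatingFaceMapComplex.ε.naturality φ))

lemma quasiIso_ε_iff_of_iso {A B : SimplicialObject.Augmented 𝒜} (e : A ≅ B) :
    QuasiIso (AlternatingFaceMapComplex.ε.app A) ↔ QuasiIso (AlternatingFaceMapComplex.ε.app B) :=
  quasiIso_ε_iff_of_isIso e.hom inferInstance inferInstance

end Groth.Agent.Lib.Helper28.CechH
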