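import Groth.Agent.Lib.Helper28.CartanG

/-!
# Comparing Čech complexes of presheaves which agree on the members of the Čech nerve
-/

namespace Groth.Agent.Lib.Helper28.CechIso

open CategoryTheory Limits Opposite Simplicial
open Groth.Agent.Lib.Helper28

universe w v u

lemma isZero_pi {A : Type*} [Category A] [HasZeroMorphisms A] {β : Type*} (f : β → A)
    [HasProduct f] (h : ∀ b, IsZero (f b)) : IsZero (∏ᶜ f) := by
  rw [IsZero.iff_id_eq_zero]
  apply Pi.hom_ext
  intro b
  exact (h b).eq_of_tgt _ _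

lemma isIso_piMap {A : Type*} [Category A] {β : Type*} (f g : β → A)
    [HasProduct f] [HasProduct g] (φ : ∀ b, f b ⟶ g b) (h : ∀ b, IsIso (φ b)) :
    IsIso (Limits.Pi.map φ) := by
  refine ⟨Limits.Pi.map (fun b => inv (φ b)), ?_, ?_⟩
  · apply Pi.hom_ext
    intro b
    simp
  · apply Pi.hom_ext
    intro b
    simp

variable {C : Type u} [Category.{v} C] {U : C} [HasFiniteProducts (Over U)] {ι : Type w}
  (Y : ι → Over U)

/-- If `P` vanishes on all members of the Čech nerve, its Čech cohomology vanishes. -/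
theorem isZero_cechH_of_isZero (P : Cᵒᵖ ⥤ AddCommGrpCat.{w})
    (hP : ∀ (n : ℕ) (a : Fin (n + 1) → ι), IsZero (P.obj (op (∏ᶜ fun k => Y (a k)).left)))
    (p : ℕ) : IsZero (CartanG.cechH P Y p) := by
  let K := (cechComplexFunctor Y).obj ((Over.forget U).op ⋙ P)
  have hX : IsZero (K.X p) := by
    change IsZero (∏ᶜ fun i : ((CechO.cechE Y).obj (op ⦋p⦌)).I =>
      P.obj (op ((Over.forget U).obj (((CechO.cechE Y).obj (op ⦋p⦌)).obj i))))
    exact isZero_pi _ (fun i => hP p i)
  exact ShortComplex.isZero_homology_of_isZero_X₂ (K.sc p) hX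

/-- A morphism of presheaves which is an isomorphism on all members of the Čech nerve induces an
isomorphism on Čech cohomology. -/
theorem isZero_cechH_iff {P Q : Cᵒᵖ ⥤ AddCommGrpCat.{w}} (η : P ⟶ Q)
    (hη : ∀ (n : ℕ) (a : Fin (n + 1) → ι), IsIso (η.app (op (∏ᶜ fun k => Y (a k)).left)))
    (p : ℕ) : IsZero (CartanG.cechH P Y p) ↔ IsZero (CartanG.cechH Q Y p) := by
  let φ := (cechComplexFunctor Y).map (Functor.whiskerLeft (Over.forget U).op η)
  have hf : ∀ n, IsIso (φ.f n) := by
    intro n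
    change IsIso (Limits.Pi.map fun i : ((CechO.cechE Y).obj (op ⦋n⦌)).I =>
      η.app (op ((Over.forget U).obj (((CechO.cechE Y).obj (op ⦋n⦌)).obj i))))
    exact isIso_piMap _ _ _ (fun i => hη n i)
  have hφ : IsIso φ := HomologicalComplex.Hom.isIso_of_components φ
  have e : CartanG.cechH P Y p ≅ CartanG.cechH Q Y p :=
    (HomologicalComplex.homologyFunctor _ _ p).mapIso (asIso φ)
  exact ⟨fun h => h.of_iso e.symm, fun h => h.of_iso e⟩

end Groth.Agent.Lib.Helper28.CechIso
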