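import Groth.Agent.Lib.Helper28.CechP
import Mathlib.CategoryTheory.Sites.Abelian
import Mathlib.CategoryTheory.Sites.Limits
import Mathlib.CategoryTheory.Sites.Whiskering
import Mathlib.CategoryTheory.Sites.ConcreteSheafification
import Mathlib.Algebra.Category.Grp.Abelian
import Mathlib.Algebra.Category.Grp.FilteredColimits
import Mathlib.CategoryTheory.Sites.LeftExact

namespace Groth.Agent.Lib.Helper28.CechLG

open CategoryTheory Limits Opposite Simplicial AlgebraicTopology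
open Groth.Agent.Lib.Helper28

universe w v v' u u'

variable {C : Type u} [Category.{v} C] [LocallySmall.{w} C] {U : C}

lemma fromSection_aux (Q : Cᵒᵖ ⥤ AddCommGrpCat.{w}) (s : Q.obj (op U)) {V V' : Cᵒᵖ} (f : V ⟶ V')
    (x : (shrinkYoneda.{w}.obj U).obj V) :
    Q.map (shrinkYonedaObjObjEquiv ((shrinkYoneda.{w}.obj U).map f x)).op s =
      Q.map f (Q.map (shrinkYonedaObjObjEquiv x).op s) := by
  rw [shrinkYonedaObjObjEquiv_obj_map, op_comp, Functor.map_comp, ConcreteCategory.comp_apply]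
  rfl

/-- The morphism of presheaves `ℤ[Hom(-, U)] ⟶ Q` attached to a section `s ∈ Q(U)`. -/
noncomputable def fromSection (Q : Cᵒᵖ ⥤ AddCommGrpCat.{w}) (s : Q.obj (op U)) :
    CechQ.freeW.obj (shrinkYoneda.{w}.obj U) ⟶ Q :=
  CechY.liftGen Q (fun V x => Q.map (shrinkYonedaObjObjEquiv x).op s)
    (fun f x => fromSection_aux Q s f x)

lemma fromSection_app_gen (Q : Cᵒᵖ ⥤ AddCommGrpCat.{w}) (s : Q.obj (op U)) {V : Cᵒᵖ}
    (x : (shrinkYoneda.{w}.obj U).obj V) :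
    (fromSection Q s).app V (CechY.gen x) = Q.map (shrinkYonedaObjObjEquiv x).op s :=
  CechY.liftGen_app_gen Q (fun V x => Q.map (shrinkYonedaObjObjEquiv x).op s)
    (fun f x => fromSection_aux Q s f x) x

lemma fromSection_comp {Q Q' : Cᵒᵖ ⥤ AddCommGrpCat.{w}} (g : Q ⟶ Q') (s : Q.obj (op U)) :
    fromSection Q s ≫ g = fromSection Q' (g.app _ s) := by
  apply CechY.hom_ext_gen
  intro V x
  rw [NatTrans.comp_app, ConcreteCategory.comp_apply, fromSection_app_gen, fromSection_app_gen]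
  exact NatTrans.naturality_apply g _ s


variable (J : GrothendieckTopology C) {D : Type u'} [Category.{v'} D]
  (Φ : D ⥤ C) (E : SimplicialObject (FormalCoproduct.{w} D))
  (η : E ⋙ CechY.sY Φ ⟶ (Functor.const SimplexCategoryᵒᵖ).obj (shrinkYoneda.{w}.obj U))

/-- The base morphism of the `i`-th member of the degree zero part. -/
noncomputable def baseHom (i : (E.obj (op ⦋0⦌)).I) : Φ.obj ((E.obj (op ⦋0⦌)).obj i) ⟶ U :=
  shrinkYonedaObjObjEquiv ((η.app (op ⦋0⦌)).app _ (CechY.univ Φ (E.obj (op ⦋0⦌)) i))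

/-- The sieve on `U` of morphisms in the image of the augmentation. -/
def imageSieve : Sieve U where
  arrows V f := ∃ z : ((CechY.sY Φ).obj (E.obj (op ⦋0⦌))).obj (op V),
    (η.app (op ⦋0⦌)).app (op V) z = shrinkYonedaObjObjEquiv.symm f
  downward_closed := by
    rintro V W f ⟨z, hz⟩ k
    refine ⟨((CechY.sY Φ).obj (E.obj (op ⦋0⦌))).map k.op z, ?_⟩
    refine (NatTrans.naturality_apply (η.app (op ⦋0⦌)) k.op z).trans ?_
    rw [hz]
    exact shrinkYoneda_obj_map_shrinkYonedaObjObjEquiv_symm k.op f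

/-- The augmented simplicial abelian presheaf `ℤ[A_•] → ℤ[h_U]`. -/
noncomputable abbrev Xw : SimplicialObject.Augmented (Cᵒᵖ ⥤ AddCommGrpCat.{w}) :=
  ((SimplicialObject.Augmented.whiskering _ _).obj CechQ.freeW).obj (CechA.aug Φ E η)

/-- The augmentation `ℤ[A_0] → ℤ[h_U]`. -/
noncomputable abbrev ε₀ : (CechA.L Φ E).X 0 ⟶ CechQ.freeW.obj (shrinkYoneda.{w}.obj U) :=
  (Xw Φ E η).hom.app (op ⦋0⦌)

lemma ε₀_app_gen {V : Cᵒᵖ} (z : ((CechY.sY Φ).obj (E.obj (op ⦋0⦌))).obj V) :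
    (ε₀ Φ E η).app V (CechY.gen z) = CechY.gen ((η.app (op ⦋0⦌)).app V z) := by
  have e : ε₀ Φ E η = CechQ.freeW.map (η.app (op ⦋0⦌)) := Category.comp_id _
  rw [e, CechY.freeW_map_app_gen]

lemma d_comp_ε₀ : (CechA.L Φ E).d 1 0 ≫ ε₀ Φ E η = 0 := CechH.d_comp_ε (Xw Φ E η)

/-- The augmentation `ℤ[A_0] → ℤ[R]` to the image. -/
noncomputable abbrev εR : (CechA.L Φ E).X 0 ⟶
    CechQ.freeW.obj (Subfunctor.range ((CechA.aug Φ E η).hom.app (op ⦋0⦌))).toFunctor :=
  (CechQ.freeRangeAug (CechA.aug Φ E η)).hom.app (op ⦋0⦌)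

lemma d_comp_εR : (CechA.L Φ E).d 1 0 ≫ εR Φ E η = 0 :=
  CechH.d_comp_ε (CechQ.freeRangeAug (CechA.aug Φ E η))

lemma εR_app_gen {V : Cᵒᵖ} (z : ((CechY.sY Φ).obj (E.obj (op ⦋0⦌))).obj V) :
    (εR Φ E η).app V (CechY.gen z) =
      CechY.gen (R := (Subfunctor.range ((CechA.aug Φ E η).hom.app (op ⦋0⦌))).toFunctor)
        ⟨(η.app (op ⦋0⦌)).app V z, ⟨z, rfl⟩⟩ := by
  exact FreeAbelianGroup.map_of_apply
    (f := ((CechQ.rangeAug (CechA.aug Φ E η)).hom.app (op ⦋0⦌)).app V) z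


lemma exact_εR (hA : CechQ.SectionwiseCechLike (CechA.aug Φ E η)) :
    (ShortComplex.mk _ _ (d_comp_εR Φ E η)).Exact ∧ Epi (εR Φ E η) := by
  have hQ : QuasiIso (AlternatingFaceMapComplex.ε.app (CechQ.freeRangeAug (CechA.aug Φ E η))) :=
    CechQ.quasiIso_ε_freeRangeAug hA
  exact CechH.exact_and_epi_of_quasiIso (CechQ.freeRangeAug (CechA.aug Φ E η))

variable [HasSheafify J AddCommGrpCat.{w}] [J.HasSheafCompose (forget AddCommGrpCat.{w})]

omit [LocallySmall.{w} C] [HasSheafify J AddCommGrpCat.{w}] in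
lemma isSheaf_forget (G : Sheaf J AddCommGrpCat.{w}) :
    Presieve.IsSheaf J (G.obj ⋙ forget AddCommGrpCat.{w}) :=
  (isSheaf_iff_isSheaf_of_type J _).1
    (GrothendieckTopology.HasSheafCompose.isSheaf G.obj G.property)

variable {J Φ E η}

/-- Sections of the quotient sheaf lift to the middle term, provided they lift on the members of a
covering family whose first Čech cohomology group with values in the kernel vanishes. -/
theorem exists_section (hA : CechQ.SectionwiseCechLike (CechA.aug Φ E η))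
    (hcov : imageSieve Φ E η ∈ J U)
    {S : ShortComplex (Sheaf J AddCommGrpCat.{w})} (hS : S.ShortExact) (s : S.X₃.obj.obj (op U))
    (hlift : ∀ i, ∃ y : S.X₂.obj.obj (op (Φ.obj ((E.obj (op ⦋0⦌)).obj i))),
      S.g.hom.app _ y = S.X₃.obj.map (baseHom Φ E η i).op s)
    (h1 : IsZero ((CechA.K Φ E S.X₁.obj).homology 1)) :
    ∃ g₀ : S.X₂.obj.obj (op U), S.g.hom.app (op U) g₀ = s := by
  -- the presheaf-level left exact sequence
  have := hS.mono_f
  have hSp : (S.map (sheafToPresheaf J AddCommGrpCat.{w})).Exact :=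
    hS.exact.map_of_mono_of_preservesKernel (sheafToPresheaf J AddCommGrpCat.{w}) inferInstance
      inferInstance
  have hmono : Mono (S.map (sheafToPresheaf J AddCommGrpCat.{w})).f :=
    inferInstanceAs (Mono ((sheafToPresheaf J AddCommGrpCat.{w}).map S.f))
  -- the class of `s`
  obtain ⟨t, ht⟩ : ∃ t : (CechA.L Φ E).X 0 ⟶ S.X₂.obj,
      t ≫ S.g.hom = ε₀ Φ E η ≫ fromSection S.X₃.obj s := by
    apply CechP.exists_lift_of_components Φ S.g.hom (E.obj (op ⦋0⦌))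
    intro i
    obtain ⟨y, hy⟩ := hlift i
    refine ⟨y, hy.trans ?_⟩
    rw [NatTrans.comp_app, ConcreteCategory.comp_apply, ε₀_app_gen, fromSection_app_gen]
    rfl
  have h0 : ((CechA.L Φ E).d 1 0 ≫ t) ≫ (S.map (sheafToPresheaf J AddCommGrpCat.{w})).g = 0 := by
    change ((CechA.L Φ E).d 1 0 ≫ t) ≫ S.g.hom = 0
    rw [Category.assoc, ht, ← Category.assoc, d_comp_ε₀, zero_comp]
  obtain ⟨c, hc⟩ : ∃ c : (CechA.L Φ E).X 1 ⟶ S.X₁.obj, c ≫ S.f.hom = (CechA.L Φ E).d 1 0 ≫ t :=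
    ⟨hSp.lift _ h0, hSp.lift_f _ h0⟩
  have hc' : (CechA.L Φ E).d 2 1 ≫ c = 0 := by
    have : Mono S.f.hom := hmono
    rw [← cancel_mono S.f.hom, Category.assoc, hc, ← Category.assoc, (CechA.L Φ E).d_comp_d,
      zero_comp, zero_comp]
  obtain ⟨b, hb⟩ : ∃ b : (CechA.L Φ E).X 0 ⟶ S.X₁.obj, (CechA.L Φ E).d 1 0 ≫ b = c :=
    (CechP.isZero_homology_succ_iff Φ E S.X₁.obj 0).1 h1 c hc'
  have ht' : (CechA.L Φ E).d 1 0 ≫ (t - b ≫ S.f.hom) = 0 := by
    rw [Preadditive.comp_sub, ← Category.assoc, hb, hc, sub_self]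
  have : Epi (εR Φ E η) := (exact_εR Φ E η hA).2
  obtain ⟨tb, htb⟩ : ∃ tb : CechQ.freeW.obj
      (Subfunctor.range ((CechA.aug Φ E η).hom.app (op ⦋0⦌))).toFunctor ⟶ S.X₂.obj,
      εR Φ E η ≫ tb = t - b ≫ S.f.hom :=
    ⟨(exact_εR Φ E η hA).1.desc _ ht', (exact_εR Φ E η hA).1.g_desc _ ht'⟩
  -- the compatible family of sections of `S.X₂` on the covering sieve
  let x : Presieve.FamilyOfElements (S.X₂.obj ⋙ forget AddCommGrpCat.{w})
      (imageSieve Φ E η).arrows := fun V f hf =>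
    tb.app (op V) (CechY.gen
      (R := (Subfunctor.range ((CechA.aug Φ E η).hom.app (op ⦋0⦌))).toFunctor)
      ⟨shrinkYonedaObjObjEquiv.symm f, hf⟩)
  have hx : x.Compatible := by
    rw [Presieve.compatible_iff_sieveCompatible]
    intro V W f k hf
    refine Eq.trans ?_ (CechY.app_gen_map S.X₂.obj tb k.op
      (R := (Subfunctor.range ((CechA.aug Φ E η).hom.app (op ⦋0⦌))).toFunctor)
      ⟨shrinkYonedaObjObjEquiv.symm f, hf⟩)
    refine congrArg (fun r => tb.app (op W) (CechY.gen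
      (R := (Subfunctor.range ((CechA.aug Φ E η).hom.app (op ⦋0⦌))).toFunctor) r)) ?_
    apply Subtype.ext
    exact (shrinkYoneda_obj_map_shrinkYonedaObjObjEquiv_symm k.op f).symm
  have hG := isSheaf_forget J S.X₂ _ hcov
  have hH := (isSheaf_forget J S.X₃ _ hcov).isSeparatedFor
  refine ⟨hG.amalgamate x hx, ?_⟩
  apply hH.ext
  rintro V f ⟨z, hz⟩
  have e1 : (S.X₃.obj ⋙ forget AddCommGrpCat.{w}).map f.op
      (S.g.hom.app (op U) (hG.amalgamate x hx)) =
      S.g.hom.app (op V) ((S.X₂.obj ⋙ forget AddCommGrpCat.{w}).map f.op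
        (hG.amalgamate x hx)) :=
    (NatTrans.naturality_apply S.g.hom f.op _).symm
  rw [e1, hG.valid_glue hx f ⟨z, hz⟩]
  have e2 : x f ⟨z, hz⟩ = (εR Φ E η ≫ tb).app (op V) (CechY.gen z) := by
    rw [NatTrans.comp_app, ConcreteCategory.comp_apply, εR_app_gen]
    refine congrArg (fun r => tb.app (op V) (CechY.gen
      (R := (Subfunctor.range ((CechA.aug Φ E η).hom.app (op ⦋0⦌))).toFunctor) r)) ?_
    apply Subtype.ext
    exact hz.symm
  rw [e2, htb]
  have e3 : S.g.hom.app (op V) ((t - b ≫ S.f.hom).app (op V) (CechY.gen z)) =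
      ((t - b ≫ S.f.hom) ≫ S.g.hom).app (op V) (CechY.gen z) := rfl
  have e4 : (t - b ≫ S.f.hom) ≫ S.g.hom = ε₀ Φ E η ≫ fromSection S.X₃.obj s := by
    have hz' : S.f.hom ≫ S.g.hom = 0 := by
      have := S.zero
      exact congrArg (fun k => k.hom) this
    rw [Preadditive.sub_comp, Category.assoc, hz', comp_zero, sub_zero, ht]
  rw [e3, e4, NatTrans.comp_app, ConcreteCategory.comp_apply, ε₀_app_gen, fromSection_app_gen, hz,
    Equiv.apply_symm_apply]
  rfl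


omit [J.HasSheafCompose (forget AddCommGrpCat.{w})] in
/-- If `0 → F → G → H → 0` is a short exact sequence of sheaves such that `G → H` is surjective
on sections over all members of `E`, and the Čech complexes of `F` and `G` are exact in positive
degrees, then so is the Čech complex of `H`. -/
theorem isZero_homology_X₃ {S : ShortComplex (Sheaf J AddCommGrpCat.{w})} (hS : S.ShortExact)
    (hsurj : ∀ (n : ℕ) (i : (E.obj (op ⦋n⦌)).I),
      Function.Surjective (S.g.hom.app (op (Φ.obj ((E.obj (op ⦋n⦌)).obj i)))))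
    (h₁ : ∀ p : ℕ, IsZero ((CechA.K Φ E S.X₁.obj).homology (p + 1)))
    (h₂ : ∀ p : ℕ, IsZero ((CechA.K Φ E S.X₂.obj).homology (p + 1))) (p : ℕ) :
    IsZero ((CechA.K Φ E S.X₃.obj).homology (p + 1)) := by
  rw [CechP.isZero_homology_succ_iff]
  intro z hz
  have := hS.mono_f
  have hSp : (S.map (sheafToPresheaf J AddCommGrpCat.{w})).Exact :=
    hS.exact.map_of_mono_of_preservesKernel (sheafToPresheaf J AddCommGrpCat.{w}) inferInstance
      inferInstance
  have hmono : Mono S.f.hom :=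
    inferInstanceAs (Mono ((sheafToPresheaf J AddCommGrpCat.{w}).map S.f))
  have hmono' : Mono (S.map (sheafToPresheaf J AddCommGrpCat.{w})).f := hmono
  have hfg : S.f.hom ≫ S.g.hom = 0 := congrArg (fun k => k.hom) S.zero
  obtain ⟨w, hw⟩ : ∃ w : (CechA.L Φ E).X (p + 1) ⟶ S.X₂.obj, w ≫ S.g.hom = z :=
    CechP.exists_lift_of_components Φ S.g.hom (E.obj (op ⦋p + 1⦌)) z
      (fun i => hsurj (p + 1) i _)
  have h0 : ((CechA.L Φ E).d (p + 2) (p + 1) ≫ w) ≫
      (S.map (sheafToPresheaf J AddCommGrpCat.{w})).g = 0 := by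
    change ((CechA.L Φ E).d (p + 2) (p + 1) ≫ w) ≫ S.g.hom = 0
    rw [Category.assoc, hw, hz]
  obtain ⟨v, hv⟩ : ∃ v : (CechA.L Φ E).X (p + 2) ⟶ S.X₁.obj,
      v ≫ S.f.hom = (CechA.L Φ E).d (p + 2) (p + 1) ≫ w := ⟨hSp.lift _ h0, hSp.lift_f _ h0⟩
  have hv' : (CechA.L Φ E).d (p + 3) (p + 2) ≫ v = 0 := by
    rw [← cancel_mono S.f.hom, Category.assoc, hv, ← Category.assoc, (CechA.L Φ E).d_comp_d,
      zero_comp, zero_comp]
  obtain ⟨v', hv''⟩ : ∃ v' : (CechA.L Φ E).X (p + 1) ⟶ S.X₁.obj,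
      (CechA.L Φ E).d (p + 2) (p + 1) ≫ v' = v :=
    (CechP.isZero_homology_succ_iff Φ E S.X₁.obj (p + 1)).1 (h₁ (p + 1)) v hv'
  have hw' : (CechA.L Φ E).d (p + 2) (p + 1) ≫ (w - v' ≫ S.f.hom) = 0 := by
    rw [Preadditive.comp_sub, ← Category.assoc, hv'', hv, sub_self]
  obtain ⟨y', hy'⟩ : ∃ y' : (CechA.L Φ E).X p ⟶ S.X₂.obj,
      (CechA.L Φ E).d (p + 1) p ≫ y' = w - v' ≫ S.f.hom :=
    (CechP.isZero_homology_succ_iff Φ E S.X₂.obj p).1 (h₂ p) _ hw'
  refine ⟨y' ≫ S.g.hom, ?_⟩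
  rw [← Category.assoc, hy', Preadditive.sub_comp, Category.assoc, hfg, comp_zero, sub_zero, hw]

end Groth.Agent.Lib.Helper28.CechLG
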