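import Groth.Agent.Lib.Helper28.CechLG
import Groth.Agent.Lib.Helper28.CechO

namespace Groth.Agent.Lib.Helper28.CechOLG

open CategoryTheory Limits Opposite Simplicial
open Groth.Agent.Lib.Helper28

universe w v u

variable {C : Type u} [Category.{v} C] [LocallySmall.{w} C] {U : C} [HasFiniteProducts (Over U)] {ι : Type w}
  (Y : ι → Over U)

lemma equiv_map_app_symm_id {c d : C} (g : c ⟶ d) :
    shrinkYonedaObjObjEquiv ((shrinkYoneda.{w}.map g).app (op c)
      (shrinkYonedaObjObjEquiv.symm (𝟙 c))) = g := by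
  rw [shrinkYoneda_map_app_shrinkYonedaObjObjEquiv_symm, Equiv.apply_symm_apply, Category.id_comp]

lemma baseHom_eq (a : ((CechO.cechE Y).obj (op ⦋0⦌)).I) :
    CechLG.baseHom (Over.forget U) (CechO.cechE Y) (CechO.η (CechO.cechE Y)) a =
      (((CechO.cechE Y).obj (op ⦋0⦌)).obj a).hom :=
  equiv_map_app_symm_id _

lemma mem_imageSieve (i : ι) :
    (CechLG.imageSieve (Over.forget U) (CechO.cechE Y) (CechO.η (CechO.cechE Y))).arrows
      (Y i).hom := by
  refine ⟨CechO.mkSec Y ⦋0⦌ (op (Y i).left) (fun _ => i)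
    ((Pi.lift (fun _ => 𝟙 (Y i)) : Y i ⟶ ∏ᶜ (Y ∘ fun _ : Fin 1 => i)).left), ?_⟩
  rw [CechO.aug_mkSec Y ⦋0⦌ (op (Y i).left) _ _ (0 : Fin 1), CechO.key_mkSec]
  congr 1
  dsimp only [CechO.base]
  have h1 := Pi.lift_π (fun _ : Fin 1 => 𝟙 (Y i)) (0 : Fin 1)
  have h2 : ((Pi.lift (fun _ => 𝟙 (Y i)) : Y i ⟶ ∏ᶜ (Y ∘ fun _ : Fin 1 => i)) ≫
      Pi.π (Y ∘ fun _ : Fin 1 => i) 0).left = 𝟙 _ := congrArg (fun z => z.left) h1
  rw [← Over.comp_left, h2]
  exact Category.id_comp _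

lemma ofArrows_le_imageSieve :
    Sieve.ofArrows (fun i => (Y i).left) (fun i => (Y i).hom) ≤
      CechLG.imageSieve (Over.forget U) (CechO.cechE Y) (CechO.η (CechO.cechE Y)) := by
  rw [Sieve.ofArrows, Sieve.generate_le_iff]
  intro V f hf
  cases hf with
  | mk i => exact mem_imageSieve Y i

omit [LocallySmall.{w} C] in
/-- The structure morphism of a member of the degree zero part factors through a member of the
family. -/
lemma hom_eq (a : ((CechO.cechE Y).obj (op ⦋0⦌)).I) :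
    (((CechO.cechE Y).obj (op ⦋0⦌)).obj a).hom =
      (Pi.π (Y ∘ a) (0 : Fin 1)).left ≫ (Y (a (0 : Fin 1))).hom :=
  (Over.w (Pi.π (Y ∘ a) (0 : Fin 1))).symm

end Groth.Agent.Lib.Helper28.CechOLG
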