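import Groth.Agent.Lib.Helper28.CechLG
import Groth.Agent.Lib.Helper28.CechOLG

/-!
# Lifting sections and Čech cohomology for left exact sequences of presheaves

Presheaf-level versions of `CechLG.exists_section` and `CechLG.isZero_homology_X₃`: the sheaves of a
short exact sequence are replaced by presheaves `P₁ ⟶ P₂ ⟶ P₃` forming a left exact sequence, with
the sheaf conditions needed spelled out as hypotheses.  This applies to presheaves on categories
which are too large to carry a sheaf category.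
-/

namespace Groth.Agent.Lib.Helper28.CechLP

open CategoryTheory Limits Opposite Simplicial AlgebraicTopology
open Groth.Agent.Lib.Helper28 CechLG

universe w v v' u u'

variable {C : Type u} [Category.{v} C] [LocallySmall.{w} C] {U : C}
  {D : Type u'} [Category.{v'} D]
  {Φ : D ⥤ C} {E : SimplicialObject (FormalCoproduct.{w} D)}
  {η : E ⋙ CechY.sY Φ ⟶ (Functor.const SimplexCategoryᵒᵖ).obj (shrinkYoneda.{w}.obj U)}
  {P₁ P₂ P₃ : Cᵒᵖ ⥤ AddCommGrpCat.{w}} (f : P₁ ⟶ P₂) (g : P₂ ⟶ P₃) (hfg : f ≫ g = 0)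
  (hex : (ShortComplex.mk f g hfg).Exact) [Mono f]

include hex in
/-- Sections of `P₃` over `U` lift to `P₂`, provided they lift on the members of a family whose
first Čech cohomology group with values in `P₁` vanishes, `P₂` is a sheaf and `P₃` is separated for
the sieve generated by the family. -/
theorem exists_section (hA : CechQ.SectionwiseCechLike (CechA.aug Φ E η))
    (hG : Presieve.IsSheafFor (P₂ ⋙ forget AddCommGrpCat.{w}) (imageSieve Φ E η).arrows)
    (hH : Presieve.IsSeparatedFor (P₃ ⋙ forget AddCommGrpCat.{w}) (imageSieve Φ E η).arrows)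
    (s : P₃.obj (op U))
    (hlift : ∀ i, ∃ y : P₂.obj (op (Φ.obj ((E.obj (op ⦋0⦌)).obj i))),
      g.app _ y = P₃.map (baseHom Φ E η i).op s)
    (h1 : IsZero ((CechA.K Φ E P₁).homology 1)) :
    ∃ g₀ : P₂.obj (op U), g.app (op U) g₀ = s := by
  obtain ⟨t, ht⟩ : ∃ t : (CechA.L Φ E).X 0 ⟶ P₂,
      t ≫ g = ε₀ Φ E η ≫ fromSection P₃ s := by
    apply CechP.exists_lift_of_components Φ g (E.obj (op ⦋0⦌))
    intro i
    obtain ⟨y, hy⟩ := hlift i
    refine ⟨y, hy.trans ?_⟩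
    rw [NatTrans.comp_app, ConcreteCategory.comp_apply, ε₀_app_gen, fromSection_app_gen]
    rfl
  have h0 : ((CechA.L Φ E).d 1 0 ≫ t) ≫ (ShortComplex.mk f g hfg).g = 0 := by
    change ((CechA.L Φ E).d 1 0 ≫ t) ≫ g = 0
    rw [Category.assoc, ht, ← Category.assoc, d_comp_ε₀, zero_comp]
  obtain ⟨c, hc⟩ : ∃ c : (CechA.L Φ E).X 1 ⟶ P₁, c ≫ f = (CechA.L Φ E).d 1 0 ≫ t :=
    ⟨hex.lift _ h0, hex.lift_f _ h0⟩
  have hc' : (CechA.L Φ E).d 2 1 ≫ c = 0 := by
    rw [← cancel_mono f, Category.assoc, hc, ← Category.assoc, (CechA.L Φ E).d_comp_d,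
      zero_comp, zero_comp]
  obtain ⟨b, hb⟩ : ∃ b : (CechA.L Φ E).X 0 ⟶ P₁, (CechA.L Φ E).d 1 0 ≫ b = c :=
    (CechP.isZero_homology_succ_iff Φ E P₁ 0).1 h1 c hc'
  have ht' : (CechA.L Φ E).d 1 0 ≫ (t - b ≫ f) = 0 := by
    rw [Preadditive.comp_sub, ← Category.assoc, hb, hc, sub_self]
  have : Epi (εR Φ E η) := (exact_εR Φ E η hA).2
  obtain ⟨tb, htb⟩ : ∃ tb : CechQ.freeW.obj
      (Subfunctor.range ((CechA.aug Φ E η).hom.app (op ⦋0⦌))).toFunctor ⟶ P₂,
      εR Φ E η ≫ tb = t - b ≫ f :=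
    ⟨(exact_εR Φ E η hA).1.desc _ ht', (exact_εR Φ E η hA).1.g_desc _ ht'⟩
  let x : Presieve.FamilyOfElements (P₂ ⋙ forget AddCommGrpCat.{w})
      (imageSieve Φ E η).arrows := fun V k hk =>
    tb.app (op V) (CechY.gen
      (R := (Subfunctor.range ((CechA.aug Φ E η).hom.app (op ⦋0⦌))).toFunctor)
      ⟨shrinkYonedaObjObjEquiv.symm k, hk⟩)
  have hx : x.Compatible := by
    rw [Presieve.compatible_iff_sieveCompatible]
    intro V W k l hk
    refine Eq.trans ?_ (CechY.app_gen_map P₂ tb l.op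
      (R := (Subfunctor.range ((CechA.aug Φ E η).hom.app (op ⦋0⦌))).toFunctor)
      ⟨shrinkYonedaObjObjEquiv.symm k, hk⟩)
    refine congrArg (fun r => tb.app (op W) (CechY.gen
      (R := (Subfunctor.range ((CechA.aug Φ E η).hom.app (op ⦋0⦌))).toFunctor) r)) ?_
    apply Subtype.ext
    exact (shrinkYoneda_obj_map_shrinkYonedaObjObjEquiv_symm l.op k).symm
  refine ⟨hG.amalgamate x hx, ?_⟩
  apply hH.ext
  rintro V k ⟨z, hz⟩
  have e1 : (P₃ ⋙ forget AddCommGrpCat.{w}).map k.op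
      (g.app (op U) (hG.amalgamate x hx)) =
      g.app (op V) ((P₂ ⋙ forget AddCommGrpCat.{w}).map k.op
        (hG.amalgamate x hx)) :=
    (NatTrans.naturality_apply g k.op _).symm
  rw [e1, hG.valid_glue hx k ⟨z, hz⟩]
  have e2 : x k ⟨z, hz⟩ = (εR Φ E η ≫ tb).app (op V) (CechY.gen z) := by
    rw [NatTrans.comp_app, ConcreteCategory.comp_apply, εR_app_gen]
    refine congrArg (fun r => tb.app (op V) (CechY.gen
      (R := (Subfunctor.range ((CechA.aug Φ E η).hom.app (op ⦋0⦌))).toFunctor) r)) ?_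
    apply Subtype.ext
    exact hz.symm
  rw [e2, htb]
  have e3 : g.app (op V) ((t - b ≫ f).app (op V) (CechY.gen z)) =
      ((t - b ≫ f) ≫ g).app (op V) (CechY.gen z) := rfl
  have e4 : (t - b ≫ f) ≫ g = ε₀ Φ E η ≫ fromSection P₃ s := by
    rw [Preadditive.sub_comp, Category.assoc, hfg, comp_zero, sub_zero, ht]
  rw [e3, e4, NatTrans.comp_app, ConcreteCategory.comp_apply, ε₀_app_gen, fromSection_app_gen, hz,
    Equiv.apply_symm_apply]
  rfl

include hex in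
/-- If `0 → P₁ → P₂ → P₃` is left exact, `P₂ → P₃` is surjective on sections over all members of
`E`, and the Čech complexes of `P₁` and `P₂` are exact in positive degrees, then so is the Čech
complex of `P₃`. -/
theorem isZero_homology_X₃
    (hsurj : ∀ (n : ℕ) (i : (E.obj (op ⦋n⦌)).I),
      Function.Surjective (g.app (op (Φ.obj ((E.obj (op ⦋n⦌)).obj i)))))
    (h₁ : ∀ p : ℕ, IsZero ((CechA.K Φ E P₁).homology (p + 1)))
    (h₂ : ∀ p : ℕ, IsZero ((CechA.K Φ E P₂).homology (p + 1))) (p : ℕ) :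
    IsZero ((CechA.K Φ E P₃).homology (p + 1)) := by
  rw [CechP.isZero_homology_succ_iff]
  intro z hz
  obtain ⟨w, hw⟩ : ∃ w : (CechA.L Φ E).X (p + 1) ⟶ P₂, w ≫ g = z :=
    CechP.exists_lift_of_components Φ g (E.obj (op ⦋p + 1⦌)) z
      (fun i => hsurj (p + 1) i _)
  have h0 : ((CechA.L Φ E).d (p + 2) (p + 1) ≫ w) ≫ (ShortComplex.mk f g hfg).g = 0 := by
    change ((CechA.L Φ E).d (p + 2) (p + 1) ≫ w) ≫ g = 0
    rw [Category.assoc, hw, hz]
  obtain ⟨v, hv⟩ : ∃ v : (CechA.L Φ E).X (p + 2) ⟶ P₁,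
      v ≫ f = (CechA.L Φ E).d (p + 2) (p + 1) ≫ w := ⟨hex.lift _ h0, hex.lift_f _ h0⟩
  have hv' : (CechA.L Φ E).d (p + 3) (p + 2) ≫ v = 0 := by
    rw [← cancel_mono f, Category.assoc, hv, ← Category.assoc, (CechA.L Φ E).d_comp_d,
      zero_comp, zero_comp]
  obtain ⟨v', hv''⟩ : ∃ v' : (CechA.L Φ E).X (p + 1) ⟶ P₁,
      (CechA.L Φ E).d (p + 2) (p + 1) ≫ v' = v :=
    (CechP.isZero_homology_succ_iff Φ E P₁ (p + 1)).1 (h₁ (p + 1)) v hv'
  have hw' : (CechA.L Φ E).d (p + 2) (p + 1) ≫ (w - v' ≫ f) = 0 := by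
    rw [Preadditive.comp_sub, ← Category.assoc, hv'', hv, sub_self]
  obtain ⟨y', hy'⟩ : ∃ y' : (CechA.L Φ E).X p ⟶ P₂,
      (CechA.L Φ E).d (p + 1) p ≫ y' = w - v' ≫ f :=
    (CechP.isZero_homology_succ_iff Φ E P₂ p).1 (h₂ p) _ hw'
  refine ⟨y' ≫ g, ?_⟩
  rw [← Category.assoc, hy', Preadditive.sub_comp, Category.assoc, hfg, comp_zero, sub_zero, hw]

end Groth.Agent.Lib.Helper28.CechLP
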