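import Groth.Agent.Lib.Helper28.ExtAcyc
import Groth.Agent.Lib.Helper28.CechH
import Mathlib.Algebra.Homology.Augment
import Mathlib.Algebra.Homology.ShortComplex.Ab
import Mathlib.CategoryTheory.Preadditive.Yoneda.Basic

namespace Groth.Agent.Lib.Helper28.CechR

open CategoryTheory Limits Opposite Simplicial AlgebraicTopology Abelian
open Groth.Agent.Lib.Helper28

universe w v v' u u'

variable {𝒜 : Type u} [Category.{v} 𝒜] [Abelian 𝒜]

/-- The augmented alternating face map complex, as a single chain complex. -/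
noncomputable abbrev augCx (X : SimplicialObject.Augmented 𝒜) : ChainComplex 𝒜 ℕ :=
  ((alternatingFaceMapComplex 𝒜).obj X.left).augment (X.hom.app (op ⦋0⦌)) (CechH.d_comp_ε X)

lemma exactAt_augCx (X : SimplicialObject.Augmented 𝒜)
    [QuasiIso (AlternatingFaceMapComplex.ε.app X)] (n : ℕ) : (augCx X).ExactAt n := by
  match n with
  | 0 =>
    rw [HomologicalComplex.exactAt_iff' _ 1 0 0 (by simp) (by simp)]
    have : Epi ((augCx X).sc' 1 0 0).f := (CechH.exact_and_epi_of_quasiIso X).2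
    exact (ShortComplex.exact_iff_epi _ rfl).2 this
  | 1 =>
    rw [HomologicalComplex.exactAt_iff' _ 2 1 0 (by simp) (by simp)]
    exact (CechH.exact_and_epi_of_quasiIso X).1
  | n + 2 =>
    rw [HomologicalComplex.exactAt_iff' _ (n + 3) (n + 2) (n + 1) (by simp) (by simp)]
    have h := CechH.exactAt_succ_of_quasiIso X n
    rw [HomologicalComplex.exactAt_iff' _ (n + 2) (n + 1) n (by simp) (by simp)] at h
    exact h


lemma sum_apply {M N : AddCommGrpCat.{w}} {ι : Type*} (s : Finset ι) (f : ι → (M ⟶ N)) (y : M) :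
    (∑ i ∈ s, f i) y = ∑ i ∈ s, f i y := by
  have h : (∑ i ∈ s, f i).hom = ∑ i ∈ s, (f i).hom := map_sum AddCommGrpCat.homAddEquiv f s
  change (∑ i ∈ s, f i).hom y = _
  rw [h, AddMonoidHom.finsetSum_apply]

lemma zsmul_apply {M N : AddCommGrpCat.{w}} (n : ℤ) (f : M ⟶ N) (y : M) :
    (n • f) y = n • f y := rfl

variable {ℬ : Type u'} [Category.{v'} ℬ] (S : SimplicialObject ℬ) (G : ℬ ⥤ 𝒜) (F : 𝒜)

/-- The cochain complex `Hom(G(S_•), F)`. -/
noncomputable abbrev homCx : CochainComplex AddCommGrpCat.{v} ℕ :=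
  (alternatingCofaceMapComplex AddCommGrpCat.{v}).obj
    (S.rightOp ⋙ G.op ⋙ preadditiveYoneda.obj F)

lemma homCx_d (n : ℕ) : (homCx S G F).d n (n + 1) = ∑ i : Fin (n + 2), (-1 : ℤ) ^ (i : ℕ) •
    CosimplicialObject.δ (S.rightOp ⋙ G.op ⋙ preadditiveYoneda.obj F) i :=
  (CochainComplex.of_d _ (AlternatingCofaceMapComplex.objD
    (S.rightOp ⋙ G.op ⋙ preadditiveYoneda.obj F)) n).trans rfl

lemma homCx_d_apply (n : ℕ) (x : G.obj (S.obj (op ⦋n⦌)) ⟶ F) :
    (homCx S G F).d n (n + 1) x =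
      ((alternatingFaceMapComplex 𝒜).obj (S ⋙ G)).d (n + 1) n ≫ x := by
  have hL : ((alternatingFaceMapComplex 𝒜).obj (S ⋙ G)).d (n + 1) n =
      ∑ i : Fin (n + 2), (-1 : ℤ) ^ (i : ℕ) • SimplicialObject.δ (S ⋙ G) i :=
    alternatingFaceMapComplex_obj_d _ n
  rw [hL, Preadditive.sum_comp]
  refine (ConcreteCategory.congr_hom (homCx_d S G F n) x).trans ?_
  refine (sum_apply _ _ _).trans ?_
  refine Finset.sum_congr rfl fun i _ => ?_
  rw [Preadditive.zsmul_comp]
  rfl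


/-- Exactness of `Hom(G(S_•), F)` in degree `q+1`, in terms of morphisms. -/
lemma isZero_homology_homCx_iff (q : ℕ) :
    IsZero ((homCx S G F).homology (q + 1)) ↔
      ∀ x : G.obj (S.obj (op ⦋q + 1⦌)) ⟶ F,
        ((alternatingFaceMapComplex 𝒜).obj (S ⋙ G)).d (q + 2) (q + 1) ≫ x = 0 →
        ∃ y : G.obj (S.obj (op ⦋q⦌)) ⟶ F,
          ((alternatingFaceMapComplex 𝒜).obj (S ⋙ G)).d (q + 1) q ≫ y = x := by
  rw [← HomologicalComplex.exactAt_iff_isZero_homology,
    HomologicalComplex.exactAt_iff' _ q (q + 1) (q + 2) (by simp) (by simp),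
    ShortComplex.ab_exact_iff]
  constructor
  · intro h x hx
    obtain ⟨y, hy⟩ := h x ((homCx_d_apply S G F (q + 1) x).trans hx)
    exact ⟨y, (homCx_d_apply S G F q y).symm.trans hy⟩
  · intro h x hx
    change G.obj (S.obj (op ⦋q + 1⦌)) ⟶ F at x
    obtain ⟨y, hy⟩ := h x ((homCx_d_apply S G F (q + 1) x).symm.trans hx)
    exact ⟨y, (homCx_d_apply S G F q y).trans hy⟩

/-- If `G(Xa)` is a resolution of `G(Xa.right)` by objects with no higher `Ext` into `F`, and
`G(Xa.right)` has no higher `Ext` into `F` either, then `Hom(G(Xa_•), F)` is exact in positive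
degrees. -/
theorem isZero_homology_homCx [HasExt.{w} 𝒜] (Xa : SimplicialObject.Augmented ℬ)
    (hQ : QuasiIso (AlternatingFaceMapComplex.ε.app
      (((SimplicialObject.Augmented.whiskering ℬ 𝒜).obj G).obj Xa)))
    (hl : ∀ n : ℕ, ExtAcyc.Acyc F (G.obj (Xa.left.obj (op ⦋n⦌))))
    (hr : ExtAcyc.Acyc F (G.obj Xa.right)) (q : ℕ) :
    IsZero ((homCx Xa.left G F).homology (q + 1)) := by
  rw [← HomologicalComplex.exactAt_iff_isZero_homology,
    HomologicalComplex.exactAt_iff' _ q (q + 1) (q + 2) (by simp) (by simp),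
    ShortComplex.ab_exact_iff]
  intro x hx
  change G.obj (Xa.left.obj (op ⦋q + 1⦌)) ⟶ F at x
  change (homCx Xa.left G F).d (q + 1) (q + 2) x = 0 at hx
  change ∃ y : G.obj (Xa.left.obj (op ⦋q⦌)) ⟶ F, (homCx Xa.left G F).d q (q + 1) y = x
  rw [homCx_d_apply] at hx
  have hac : ∀ n, ExtAcyc.Acyc F
      ((augCx (((SimplicialObject.Augmented.whiskering ℬ 𝒜).obj G).obj Xa)).X n) := by
    intro n
    match n with
    | 0 => exact hr
    | n + 1 => exact hl n
  obtain ⟨σ, hσ⟩ : ∃ σ : G.obj (Xa.left.obj (op ⦋q⦌)) ⟶ F,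
      ((alternatingFaceMapComplex 𝒜).obj (Xa.left ⋙ G)).d (q + 1) q ≫ σ = x :=
    ExtAcyc.exists_desc
      (augCx (((SimplicialObject.Augmented.whiskering ℬ 𝒜).obj G).obj Xa))
      (exactAt_augCx _) hac q x hx
  exact ⟨σ, (homCx_d_apply Xa.left G F q σ).trans hσ⟩

end Groth.Agent.Lib.Helper28.CechR
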