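import Groth.Agent.Lib.Helper28.LerayExt
import Mathlib.Algebra.Homology.ShortComplex.Ab
import Mathlib.GroupTheory.QuotientGroup.Basic

namespace Groth.Agent.Lib.Helper28.LerayIso

open CategoryTheory Limits Abelian
open Groth.Agent.Lib.Helper28 ExtAcyc LerayExt

universe w' w v u

/-- The homology of a short complex of abelian groups, from a surjection out of the cycles whose
kernel is the boundaries. -/
lemma homology_addEquiv_of_surjective' {G : Type*} [AddCommGroup G]
    (S : ShortComplex AddCommGrpCat.{w'}) (Φ : AddMonoidHom.ker S.g.hom →+ G)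
    (hs : Function.Surjective Φ) (hk : ∀ x, Φ x = 0 ↔ ∃ c : S.X₁, S.f c = x.1) :
    Nonempty (S.homology ≃+ G) := by
  have hker : AddMonoidHom.range S.abToCycles = Φ.ker := by
    ext x
    rw [AddMonoidHom.mem_ker, hk x, AddMonoidHom.mem_range]
    constructor
    · rintro ⟨c, rfl⟩
      exact ⟨c, rfl⟩
    · rintro ⟨c, hc⟩
      exact ⟨c, Subtype.ext hc⟩
  exact ⟨(S.abHomologyIso.addCommGroupIsoToAddEquiv.trans
    (QuotientAddGroup.quotientAddEquivOfEq hker)).trans
    (QuotientAddGroup.quotientKerEquivOfSurjective Φ hs)⟩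

lemma homology_addEquiv_of_surjective {G : Type*} [AddCommGroup G]
    {X₁ X₂ X₃ : AddCommGrpCat.{w'}} (f : X₁ ⟶ X₂) (g : X₂ ⟶ X₃) (w : f ≫ g = 0)
    (Φ : AddMonoidHom.ker g.hom →+ G)
    (hs : Function.Surjective Φ) (hk : ∀ x, Φ x = 0 ↔ ∃ c : X₁, f c = x.1) :
    Nonempty ((ShortComplex.mk f g w).homology ≃+ G) :=
  homology_addEquiv_of_surjective' (ShortComplex.mk f g w) Φ hs hk

variable {𝒜 : Type u} [Category.{v} 𝒜] [Abelian 𝒜] [HasExt.{w} 𝒜]
  {K : ChainComplex 𝒜 ℕ} {F : 𝒜}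
  (hex : ∀ n, K.ExactAt n) (hac : ∀ n, Acyc F (K.X (n + 1)))
  {C : CochainComplex AddCommGrpCat.{w'} ℕ} (e : ∀ n, (K.X (n + 1) ⟶ F) ≃+ C.X n)
  (he : ∀ n τ, e (n + 1) (K.d (n + 2) (n + 1) ≫ τ) = C.d n (n + 1) (e n τ))

include hex hac he

/-- **Leray's theorem**, abstract form: if `K_{•+1} → K_0` is a resolution by objects without
higher `Ext` into `F`, then the complex `Hom(K_{•+1}, F)` computes `Ext^•(K_0, F)`. -/
theorem homology_addEquiv (p : ℕ) : Nonempty (C.homology p ≃+ Ext (K.X 0) F p) := by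
  have hmem : ∀ (n : ℕ) (x : AddMonoidHom.ker (C.d n (n + 1)).hom),
      (e n).symm x.1 ∈ (dHom K F (n + 1)).ker := by
    intro n x
    rw [AddMonoidHom.mem_ker, dHom_apply]
    apply (e (n + 1)).injective
    rw [he, AddEquiv.apply_symm_apply, map_zero]
    exact x.2
  cases p with
  | zero =>
    obtain ⟨φ, hφ⟩ := exists_equiv_zero (F := F) hex
    let κ : AddMonoidHom.ker (C.d 0 1).hom →+ (dHom K F 1).ker :=
      AddMonoidHom.codRestrict ((e 0).symm.toAddMonoidHom.comp (AddSubgroup.subtype _)) _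
        (hmem 0)
    have hd : C.d 0 0 = 0 := C.shape _ _ (by simp)
    obtain ⟨a⟩ := homology_addEquiv_of_surjective (C.d 0 0) (C.d 0 1) (C.d_comp_d 0 0 1)
      (φ.toAddMonoidHom.comp κ) (by
      intro y
      obtain ⟨τ, rfl⟩ := φ.surjective y
      have hτ : e 0 τ.1 ∈ AddMonoidHom.ker (C.d 0 1).hom := by
        have := τ.2
        rw [AddMonoidHom.mem_ker, dHom_apply] at this
        refine AddMonoidHom.mem_ker.2 ?_
        change C.d 0 1 (e 0 τ.1) = 0
        rw [← he, this, map_zero]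
      refine ⟨⟨e 0 τ.1, hτ⟩, ?_⟩
      change φ (κ ⟨e 0 τ.1, hτ⟩) = φ τ
      congr 1
      exact Subtype.ext ((e 0).symm_apply_apply τ.1)) (by
      intro x
      change φ (κ x) = 0 ↔ _
      rw [map_eq_zero_iff φ φ.injective]
      constructor
      · intro h
        refine ⟨0, ?_⟩
        have h' : (e 0).symm x.1 = 0 := congrArg Subtype.val h
        rw [map_zero]
        exact ((e 0).symm.map_eq_zero_iff.1 h').symm
      · rintro ⟨c, hc⟩
        apply Subtype.ext
        change (e 0).symm x.1 = 0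
        rw [← hc]
        rw [hd]
        exact map_zero _)
    exact ⟨((C.homologyIsoSc' 0 0 1 (by simp) (by simp)).addCommGroupIsoToAddEquiv).trans a⟩
  | succ q =>
    obtain ⟨φ, hφs, hφk⟩ := exists_hom (F := F) hex hac q
    let κ : AddMonoidHom.ker (C.d (q + 1) (q + 2)).hom →+ (dHom K F (q + 2)).ker :=
      AddMonoidHom.codRestrict ((e (q + 1)).symm.toAddMonoidHom.comp (AddSubgroup.subtype _)) _
        (hmem (q + 1))
    obtain ⟨a⟩ := homology_addEquiv_of_surjective (C.d q (q + 1)) (C.d (q + 1) (q + 2))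
      (C.d_comp_d q (q + 1) (q + 2)) (φ.comp κ) (by
      intro y
      obtain ⟨τ, rfl⟩ := hφs y
      have hτ : e (q + 1) τ.1 ∈ AddMonoidHom.ker (C.d (q + 1) (q + 2)).hom := by
        have := τ.2
        rw [AddMonoidHom.mem_ker, dHom_apply] at this
        refine AddMonoidHom.mem_ker.2 ?_
        change C.d (q + 1) (q + 2) (e (q + 1) τ.1) = 0
        rw [← he, this, map_zero]
      refine ⟨⟨e (q + 1) τ.1, hτ⟩, ?_⟩
      change φ (κ ⟨e (q + 1) τ.1, hτ⟩) = φ τ
      congr 1
      exact Subtype.ext ((e (q + 1)).symm_apply_apply τ.1)) (by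
      intro x
      change φ (κ x) = 0 ↔ _
      rw [hφk]
      change (∃ σ : K.X (q + 1) ⟶ F, K.d (q + 2) (q + 1) ≫ σ = (e (q + 1)).symm x.1) ↔
        ∃ c : C.X q, C.d q (q + 1) c = x.1
      constructor
      · rintro ⟨σ, hσ⟩
        refine ⟨e q σ, ?_⟩
        rw [← he, hσ, AddEquiv.apply_symm_apply]
      · rintro ⟨c, hc⟩
        refine ⟨(e q).symm c, ?_⟩
        apply (e (q + 1)).injective
        rw [he, AddEquiv.apply_symm_apply, AddEquiv.apply_symm_apply, hc])
    exact ⟨((C.homologyIsoSc' q (q + 1) (q + 2) (by simp) (by simp)).addCommGroupIsoToAddEquiv).trans a⟩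

end Groth.Agent.Lib.Helper28.LerayIso
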