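import Groth.Agent.Lib.Helper28.CechL
import Groth.Agent.Lib.Helper28.CechR
import Groth.Agent.Lib.Helper28.LerayIso
import Groth.Agent.Lib.Helper28.CartanT
import Groth.Agent.Lib.Helper28.Cartan
import Mathlib.CategoryTheory.Sites.LocallyBijective
import Mathlib.CategoryTheory.Sites.Localization
import Mathlib.CategoryTheory.Adjunction.Additive

namespace Groth.Agent.Lib.Helper28.CechLeray

open CategoryTheory Limits Opposite Simplicial AlgebraicTopology Abelian
open Groth.Agent.Lib.Helper28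

universe v' u u'

variable {C : Type u} [SmallCategory C] {U : C} (J : GrothendieckTopology C)
  {D : Type u'} [Category.{v'} D]
  (Φ : D ⥤ C) (E : SimplicialObject (FormalCoproduct.{u} D))
  (η : E ⋙ CechY.sY Φ ⟶ (Functor.const SimplexCategoryᵒᵖ).obj (shrinkYoneda.{u}.obj U))

/-- The sheafification of the augmented simplicial presheaf `ℤ[A_•] → ℤ[R]`. -/
noncomputable abbrev Xs : SimplicialObject.Augmented (Sheaf J AddCommGrpCat.{u}) :=
  ((SimplicialObject.Augmented.whiskering _ _).obj (presheafToSheaf J AddCommGrpCat.{u})).obj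
    (CechQ.freeRangeAug (CechA.aug Φ E η))

variable {Φ E η}

lemma quasiIso_Xs (hA : CechQ.SectionwiseCechLike (CechA.aug Φ E η)) :
    QuasiIso (AlternatingFaceMapComplex.ε.app (Xs J Φ E η)) := by
  have hQ : QuasiIso (AlternatingFaceMapComplex.ε.app (CechQ.freeRangeAug (CechA.aug Φ E η))) :=
    CechQ.quasiIso_ε_freeRangeAug hA
  have hQ' : QuasiIso (((presheafToSheaf J AddCommGrpCat.{u}).mapHomologicalComplex _).map
      (AlternatingFaceMapComplex.ε.app (CechQ.freeRangeAug (CechA.aug Φ E η)))) := inferInstance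
  rw [CechH.quasiIso_ε_whisker_iff] at hQ'
  exact hQ'

variable (Φ E η)

/-- The resolution of `ℤ[R]^#` by the sheaves `ℤ[A_n]^#`. -/
noncomputable abbrev Kc : ChainComplex (Sheaf J AddCommGrpCat.{u}) ℕ := CechR.augCx (Xs J Φ E η)

variable {Φ E η}

lemma exactAt_Kc (hA : CechQ.SectionwiseCechLike (CechA.aug Φ E η)) (n : ℕ) :
    (Kc J Φ E η).ExactAt n := by
  have := quasiIso_Xs J hA
  exact CechR.exactAt_augCx _ n

variable (Φ E η)

/-- Morphisms from `ℤ[A_n]^#` to a sheaf are the Čech cochains. -/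
noncomputable def e (F : Sheaf J AddCommGrpCat.{u}) (n : ℕ) :
    ((Kc J Φ E η).X (n + 1) ⟶ F) ≃+ (CechA.K Φ E F.obj).X n :=
  (((sheafificationAdjunction J AddCommGrpCat.{u}).homAddEquiv
      (CechQ.freeW.obj ((CechY.sY Φ).obj (E.obj (op ⦋n⦌)))) F).trans
    (AddEquiv.ofBijective (CechY.Ψ Φ F.obj (E.obj (op ⦋n⦌)))
      ⟨CechY.Ψ_injective Φ F.obj _, CechY.Ψ_surjective Φ F.obj _⟩) :)

omit [SmallCategory C] in
lemma afmc_whisker_d {𝒜 ℬ : Type*} [Category 𝒜] [Category ℬ] [Preadditive 𝒜] [Preadditive ℬ]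
    (G : 𝒜 ⥤ ℬ) [G.Additive] (Y : SimplicialObject 𝒜) (n : ℕ) :
    ((alternatingFaceMapComplex ℬ).obj (((SimplicialObject.whiskering 𝒜 ℬ).obj G).obj Y)).d
      (n + 1) n = G.map (((alternatingFaceMapComplex 𝒜).obj Y).d (n + 1) n) := by
  have h2 : ((alternatingFaceMapComplex 𝒜).obj Y).d (n + 1) n =
      ∑ i : Fin (n + 2), (-1 : ℤ) ^ (i : ℕ) • SimplicialObject.δ Y i :=
    alternatingFaceMapComplex_obj_d _ n
  have h1 : ((alternatingFaceMapComplex ℬ).obj
      (((SimplicialObject.whiskering 𝒜 ℬ).obj G).obj Y)).d (n + 1) n =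
      ∑ i : Fin (n + 2), (-1 : ℤ) ^ (i : ℕ) •
        SimplicialObject.δ (((SimplicialObject.whiskering 𝒜 ℬ).obj G).obj Y) i :=
    alternatingFaceMapComplex_obj_d _ n
  rw [h1, h2, Functor.map_sum]
  refine Finset.sum_congr rfl fun i _ => ?_
  rw [Functor.map_zsmul]
  rfl

lemma Ψ_L_d (P : Cᵒᵖ ⥤ AddCommGrpCat.{u}) (p : ℕ) (σ : (CechA.L Φ E).X p ⟶ P) :
    CechY.Ψ Φ P (E.obj (op ⦋p + 1⦌)) ((CechA.L Φ E).d (p + 1) p ≫ σ) =
      (CechA.K Φ E P).d p (p + 1) (CechY.Ψ Φ P (E.obj (op ⦋p⦌)) σ) := by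
  refine Eq.trans ?_ (ConcreteCategory.congr_hom (CechA.K_d Φ E P p) _).symm
  refine Eq.trans ?_ (CechA.Ψ_d Φ E P p σ)
  exact congrArg (CechY.Ψ Φ P (E.obj (op ⦋p + 1⦌)))
    (congrArg (fun z => z ≫ σ) (CechA.L_d Φ E p))

lemma Kc_d (n : ℕ) : (Kc J Φ E η).d (n + 2) (n + 1) =
    (presheafToSheaf J AddCommGrpCat.{u}).map ((CechA.L Φ E).d (n + 1) n) :=
  afmc_whisker_d (presheafToSheaf J AddCommGrpCat.{u})
    ((E ⋙ CechY.sY Φ) ⋙ CechQ.freeW) n

lemma e_d (F : Sheaf J AddCommGrpCat.{u}) (n : ℕ) (τ : (Kc J Φ E η).X (n + 1) ⟶ F) :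
    e J Φ E η F (n + 1) ((Kc J Φ E η).d (n + 2) (n + 1) ≫ τ) =
      (CechA.K Φ E F.obj).d n (n + 1) (e J Φ E η F n τ) := by
  refine Eq.trans ?_ (Ψ_L_d Φ E F.obj n _)
  refine congrArg (CechY.Ψ Φ F.obj (E.obj (op ⦋n + 1⦌))) ?_
  refine Eq.trans ?_ ((sheafificationAdjunction J AddCommGrpCat.{u}).homEquiv_naturality_left
    ((CechA.L Φ E).d (n + 1) n) τ)
  exact congrArg (fun z => (sheafificationAdjunction J AddCommGrpCat.{u}).homEquiv _ _ (z ≫ τ))
    (Kc_d J Φ E η n)

omit η in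
/-- Sections lift along an epimorphism of sheaves whose kernel has no first cohomology. -/
lemma surjective_of_ext_one (V : C) {S : ShortComplex (Sheaf J AddCommGrpCat.{u})}
    (hS : S.ShortExact) (h₁ : ∀ x : Ext (Cartan.freeSh J V) S.X₁ 1, x = 0) :
    Function.Surjective (S.g.hom.app (op V)) := by
  intro s
  obtain ⟨y', hy'⟩ := CartanT.exists_lift (Cartan.freeSh J V) hS h₁
    ((Cartan.homEquivSections J V S.X₃).symm s)
  refine ⟨Cartan.homEquivSections J V S.X₂ y', ?_⟩
  rw [← Cartan.homEquivSections_comp, hy', Equiv.apply_symm_apply]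

omit η in
/-- The sheaf `ℤ[Σ_i h_{X_i}]^#` has no higher `Ext` into `F` if the `ℤ[h_{X_i}]^#` have none. -/
theorem acyc_sheafify_free (X : FormalCoproduct.{u} D) (F : Sheaf J AddCommGrpCat.{u})
    (hF : ∀ i : X.I, ExtAcyc.Acyc F (Cartan.freeSh J (Φ.obj (X.obj i)))) :
    ExtAcyc.Acyc F ((presheafToSheaf J AddCommGrpCat.{u}).obj
      (CechQ.freeW.obj ((CechY.sY Φ).obj X))) := by
  intro p
  refine CartanT.acyc_of_step _
    (fun G => ∀ i : X.I, ExtAcyc.Acyc G (Cartan.freeSh J (Φ.obj (X.obj i)))) ?_ p F hF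
  intro S hS hI h₁
  refine ⟨fun i => CartanT.acyc_X₃ _ hS (h₁ i), fun x => ?_⟩
  obtain ⟨σ, hσ⟩ := CechP.exists_lift_of_components Φ S.g.hom X
    ((sheafificationAdjunction J AddCommGrpCat.{u}).homEquiv _ _ x)
    (fun i => surjective_of_ext_one J _ hS (h₁ i 0) _)
  refine ⟨((sheafificationAdjunction J AddCommGrpCat.{u}).homEquiv _ _).symm σ, ?_⟩
  apply ((sheafificationAdjunction J AddCommGrpCat.{u}).homEquiv _ _).injective
  rw [Adjunction.homEquiv_naturality_right, Equiv.apply_symm_apply]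
  exact hσ

variable {Φ E η}

/-- Čech cohomology computes the `Ext` groups out of `ℤ[R]^#`, where `R` is the image of the
augmentation, as soon as the members of `E` have no higher cohomology. -/
theorem homology_addEquiv_range (hA : CechQ.SectionwiseCechLike (CechA.aug Φ E η))
    (F : Sheaf J AddCommGrpCat.{u})
    (hF : ∀ (n : ℕ) (i : (E.obj (op ⦋n⦌)).I),
      ExtAcyc.Acyc F (Cartan.freeSh J (Φ.obj ((E.obj (op ⦋n⦌)).obj i)))) (p : ℕ) :
    Nonempty ((CechA.K Φ E F.obj).homology p ≃+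
      Ext ((presheafToSheaf J AddCommGrpCat.{u}).obj (CechQ.freeW.obj
        (Subfunctor.range ((CechA.aug Φ E η).hom.app (op ⦋0⦌))).toFunctor)) F p) :=
  LerayIso.homology_addEquiv (K := Kc J Φ E η) (exactAt_Kc J hA)
    (fun n => acyc_sheafify_free J Φ (E.obj (op ⦋n⦌)) F (hF n)) (e J Φ E η F) (e_d J Φ E η F) p

omit [SmallCategory C] in
/-- `Ext` groups out of isomorphic objects. -/
lemma ext_addEquiv_of_iso {𝒜 : Type*} [Category 𝒜] [Abelian 𝒜] [HasExt.{u} 𝒜] {M N : 𝒜}
    (i : M ≅ N) (F : 𝒜) (p : ℕ) : Nonempty (Ext M F p ≃+ Ext N F p) := by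
  refine ⟨AddEquiv.ofBijective ((Ext.mk₀ i.inv).precomp F (zero_add p)) ⟨?_, ?_⟩⟩
  · rw [injective_iff_map_eq_zero]
    intro x hx
    have h2 : (Ext.mk₀ i.hom).comp ((Ext.mk₀ i.inv).comp x (zero_add _)) (zero_add _) = x := by
      rw [Ext.mk₀_comp_mk₀_assoc, i.hom_inv_id, Ext.mk₀_id_comp]
    have hx' : (Ext.mk₀ i.inv).comp x (zero_add _) = 0 := hx
    rw [← h2, hx', Ext.comp_zero]
  · intro y
    refine ⟨(Ext.mk₀ i.hom).comp y (zero_add _), ?_⟩
    change (Ext.mk₀ i.inv).comp ((Ext.mk₀ i.hom).comp y (zero_add _)) (zero_add _) = y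
    rw [Ext.mk₀_comp_mk₀_assoc, i.inv_hom_id, Ext.mk₀_id_comp]

lemma isLocallySurjective_whiskerRight_free {P Q : Cᵒᵖ ⥤ Type u} (g : P ⟶ Q)
    [Presheaf.IsLocallySurjective J g] :
    Presheaf.IsLocallySurjective J (Functor.whiskerRight g AddCommGrpCat.free.{u}) where
  imageSieve_mem {U} s := by
    induction s using FreeAbelianGroup.induction_on with
    | zero =>
      refine J.superset_covering ?_ (J.top_mem U)
      intro V i _
      exact ⟨0, (map_zero _).trans (map_zero _).symm⟩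
    | of x =>
      refine J.superset_covering ?_ (Presheaf.imageSieve_mem J g x)
      rintro V i ⟨t, ht⟩
      refine ⟨FreeAbelianGroup.of t, ?_⟩
      change FreeAbelianGroup.map _ (FreeAbelianGroup.of t) =
        FreeAbelianGroup.map _ (FreeAbelianGroup.of x)
      rw [FreeAbelianGroup.map_of_apply, FreeAbelianGroup.map_of_apply]
      exact congrArg _ ht
    | neg x hx =>
      refine J.superset_covering ?_ hx
      rintro V i ⟨t, ht⟩
      refine ⟨-t, ?_⟩
      exact (map_neg _ t).trans ((congrArg Neg.neg ht).trans (map_neg _ _).symm)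
    | add x y hx hy =>
      refine J.superset_covering ?_ (J.intersection_covering hx hy)
      rintro V i ⟨⟨t, ht⟩, ⟨t', ht'⟩⟩
      refine ⟨t + t', ?_⟩
      exact (map_add _ t t').trans ((congrArg₂ (· + ·) ht ht').trans (map_add _ _ _).symm)

variable (Φ E η)

/-- The inclusion of the image of the augmentation into the representable presheaf. -/
noncomputable def rangeToYoneda :
    (Subfunctor.range ((CechA.aug Φ E η).hom.app (op ⦋0⦌))).toFunctor ⟶ yoneda.obj U :=
  (Subfunctor.range ((CechA.aug Φ E η).hom.app (op ⦋0⦌))).ι ≫ shrinkYonedaIsoYoneda.hom.app U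

variable {Φ E η}

lemma isLocallySurjective_rangeToYoneda (hcov : CechL.imageSieve Φ E η ∈ J U) :
    Presheaf.IsLocallySurjective J (rangeToYoneda Φ E η) where
  imageSieve_mem {V} s := by
    refine J.superset_covering ?_ (J.pullback_stable s hcov)
    rintro W k ⟨z, hz⟩
    refine ⟨⟨(η.app (op ⦋0⦌)).app (op W) z, ⟨z, rfl⟩⟩, ?_⟩
    change shrinkYonedaObjObjEquiv ((η.app (op ⦋0⦌)).app (op W) z) = k ≫ s
    rw [hz, Equiv.apply_symm_apply]

lemma isIso_sheafify_free_rangeToYoneda (hcov : CechL.imageSieve Φ E η ∈ J U) :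
    IsIso ((presheafToSheaf J AddCommGrpCat.{u}).map
      (Functor.whiskerRight (rangeToYoneda Φ E η) AddCommGrpCat.free.{u})) := by
  rw [← J.W_iff]
  have h2 := isLocallySurjective_rangeToYoneda J hcov
  have h3 := isLocallySurjective_whiskerRight_free J (rangeToYoneda Φ E η)
  have h4 : Presheaf.IsLocallyInjective J
      (Functor.whiskerRight (rangeToYoneda Φ E η) AddCommGrpCat.free.{u}) := by
    apply Presheaf.isLocallyInjective_of_injective
    intro X
    have : Mono ((rangeToYoneda Φ E η).app X) := by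
      change Mono ((Subfunctor.range ((CechA.aug Φ E η).hom.app (op ⦋0⦌))).ι.app X ≫
        (shrinkYonedaIsoYoneda.hom.app U).app X)
      infer_instance
    have : Mono (AddCommGrpCat.free.{u}.map ((rangeToYoneda Φ E η).app X)) := inferInstance
    exact (AddCommGrpCat.mono_iff_injective _).1 this
  exact J.W_of_isLocallyBijective _

/-- **Leray's theorem** on a small site: Čech cohomology with respect to a covering whose members
have no higher cohomology computes the cohomology over `U`. -/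
theorem homology_addEquiv (hA : CechQ.SectionwiseCechLike (CechA.aug Φ E η))
    (hcov : CechL.imageSieve Φ E η ∈ J U) (F : Sheaf J AddCommGrpCat.{u})
    (hF : ∀ (n : ℕ) (i : (E.obj (op ⦋n⦌)).I),
      ExtAcyc.Acyc F (Cartan.freeSh J (Φ.obj ((E.obj (op ⦋n⦌)).obj i)))) (p : ℕ) :
    Nonempty ((CechA.K Φ E F.obj).homology p ≃+ Ext (Cartan.freeSh J U) F p) := by
  obtain ⟨a⟩ := homology_addEquiv_range J hA F hF p
  have := isIso_sheafify_free_rangeToYoneda J hcov
  obtain ⟨b⟩ := ext_addEquiv_of_iso (asIso ((presheafToSheaf J AddCommGrpCat.{u}).map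
      (Functor.whiskerRight (rangeToYoneda Φ E η) AddCommGrpCat.free.{u}))) F p
  exact ⟨a.trans b⟩

end Groth.Agent.Lib.Helper28.CechLeray
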