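import Groth.Agent.Lib.Helper28.CechED
import Mathlib.AlgebraicTopology.CechNerve
import Mathlib.CategoryTheory.Limits.Types.Limits
import Mathlib.CategoryTheory.Limits.Preserves.Basic

namespace Groth.Agent.Lib.Helper28.CechN

open CategoryTheory Simplicial SimplicialObject Opposite Limits
open Groth.Agent.Lib.Helper28

universe w v u

variable {𝒞 : Type u} [Category.{v} 𝒞] {B : 𝒞} {J : Type} {objs : J → 𝒞} (arrows : ∀ j, objs j ⟶ B)
  [HasWidePullback B objs arrows]
  (Γ : 𝒞 ⥤ Type w) [PreservesLimit (WidePullbackShape.wideCospan B objs arrows) Γ]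

lemma widePullback_ext [Nonempty J] (x y : Γ.obj (widePullback B objs arrows))
    (h : ∀ j, Γ.map (WidePullback.π arrows j) x = Γ.map (WidePullback.π arrows j) y) : x = y := by
  have t := isLimitOfPreserves Γ (limit.isLimit (WidePullbackShape.wideCospan B objs arrows))
  apply (Types.isLimitEquivSections t).injective
  ext j
  rcases j with _ | j
  · obtain ⟨j⟩ := ‹Nonempty J›
    have hb : WidePullback.base arrows = WidePullback.π arrows j ≫ arrows j :=
      (WidePullback.π_arrow arrows j).symm
    change Γ.map (WidePullback.base arrows) x = Γ.map (WidePullback.base arrows) y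
    rw [hb, Γ.map_comp]
    simp only [types_comp_apply, h j]
  · exact h j

lemma widePullback_exists (t : Γ.obj B) (ys : ∀ j, Γ.obj (objs j))
    (h : ∀ j, Γ.map (arrows j) (ys j) = t) :
    ∃ x : Γ.obj (widePullback B objs arrows),
      (∀ j, Γ.map (WidePullback.π arrows j) x = ys j) ∧ Γ.map (WidePullback.base arrows) x = t := by
  have tl := isLimitOfPreserves Γ (limit.isLimit (WidePullbackShape.wideCospan B objs arrows))
  let s : (WidePullbackShape.wideCospan B objs arrows ⋙ Γ).sections :=
    ⟨fun j => match j with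
      | none => t
      | some j => ys j, by
      intro j j' g
      cases g with
      | id =>
        change ((WidePullbackShape.wideCospan B objs arrows ⋙ Γ).map (𝟙 _)) _ = _
        rw [CategoryTheory.Functor.map_id]
        rfl
      | term j => exact h j⟩
  refine ⟨(Types.isLimitEquivSections tl).symm s, fun j => ?_, ?_⟩
  · exact Types.isLimitEquivSections_symm_apply tl s (some j)
  · exact Types.isLimitEquivSections_symm_apply tl s none

end Groth.Agent.Lib.Helper28.CechN

namespace Groth.Agent.Lib.Helper28.CechN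

open CategoryTheory Simplicial SimplicialObject Opposite Limits
open Groth.Agent.Lib.Helper28

universe w v u

variable {𝒞 : Type u} [Category.{v} 𝒞] (f : Arrow 𝒞)
  [∀ n : ℕ, HasWidePullback f.right (fun _ : Fin (n + 1) => f.left) fun _ => f.hom]
  (Γ : 𝒞 ⥤ Type w)
  [∀ n : ℕ, PreservesLimit (WidePullbackShape.wideCospan f.right
    (fun _ : Fin (n + 1) => f.left) fun _ => f.hom) Γ]

/-- The `j`-th projection from the `n`-th object of the Čech nerve. -/
noncomputable abbrev pr (n : ℕ) (j : Fin (n + 1)) : f.cechNerve.obj (op ⦋n⦌) ⟶ f.left :=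
  WidePullback.π (fun _ : Fin (n + 1) => f.hom) j

/-- The base map from the `n`-th object of the Čech nerve. -/
noncomputable abbrev bs (n : ℕ) : f.cechNerve.obj (op ⦋n⦌) ⟶ f.right :=
  WidePullback.base (fun _ : Fin (n + 1) => f.hom)

lemma map_pr {n m : ℕ} (g : ⦋n⦌ ⟶ ⦋m⦌) (j : Fin (n + 1)) :
    f.cechNerve.map g.op ≫ pr f n j = pr f m (g.toOrderHom j) := by
  dsimp only [pr, Arrow.cechNerve]
  exact WidePullback.lift_π _ _ _ _ _

omit [∀ n : ℕ, PreservesLimit (WidePullbackShape.wideCospan f.right
    (fun _ : Fin (n + 1) => f.left) fun _ => f.hom) Γ] in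
lemma pr_vert {n : ℕ} (i : Fin (n + 1)) (x : Γ.obj (f.cechNerve.obj (op ⦋n⦌))) :
    Γ.map (pr f 0 0) (CechED.vert (f.cechNerve ⋙ Γ) i x) = Γ.map (pr f n i) x := by
  have := map_pr f (SimplexCategory.const ⦋0⦌ ⦋n⦌ i) 0
  have h2 := congrArg (fun φ => Γ.map φ) this
  simp only [Γ.map_comp] at h2
  exact ConcreteCategory.congr_hom h2 x

theorem isCechLike_whisker_augmentedCechNerve :
    CechED.IsCechLike (((SimplicialObject.Augmented.whiskering _ _).obj Γ).obj
      f.augmentedCechNerve) where
  inj n x y h := by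
    apply widePullback_ext (fun _ : Fin (n + 1) => f.hom) Γ x y
    intro j
    have h1 := pr_vert f Γ j x
    have h2 := pr_vert f Γ j y
    have hj := h j
    change CechED.vert (f.cechNerve ⋙ Γ) j x = CechED.vert (f.cechNerve ⋙ Γ) j y at hj
    rw [hj] at h1
    exact h1.symm.trans h2
  surj n xs h := by
    let xs' : Fin (n + 1) → Γ.obj (f.cechNerve.obj (op ⦋0⦌)) := xs
    have h' : ∀ i j, Γ.map (bs f 0) (xs' i) = Γ.map (bs f 0) (xs' j) := h
    obtain ⟨x, hx, hxb⟩ := widePullback_exists (fun _ : Fin (n + 1) => f.hom) Γ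
      (Γ.map (bs f 0) (xs' 0)) (fun j => Γ.map (pr f 0 0) (xs' j)) (fun j => by
        have : pr f 0 0 ≫ f.hom = bs f 0 := WidePullback.π_arrow _ _
        have h2 := congrArg (fun φ => Γ.map φ) this
        simp only [Γ.map_comp] at h2
        have h3 := ConcreteCategory.congr_hom h2 (xs' j)
        simp only [types_comp_apply] at h3
        rw [h3]
        exact h' j 0)
    refine ⟨x, fun i => ?_⟩
    apply widePullback_ext (fun _ : Fin (0 + 1) => f.hom) Γ
    intro j
    obtain rfl : j = 0 := Fin.fin_one_eq_zero j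
    have h1 := pr_vert f Γ i x
    exact h1.trans (hx i)

end Groth.Agent.Lib.Helper28.CechN
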