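import Groth.Agent.Lib.Helper28.CechA
import Mathlib.CategoryTheory.Limits.FormalCoproducts.Cech
import Mathlib.CategoryTheory.Comma.Over.Basic
import Mathlib.CategoryTheory.Limits.Preserves.Shapes.Over
import Mathlib.CategoryTheory.Limits.Preserves.Shapes.Products

namespace Groth.Agent.Lib.Helper28.CechOG

open CategoryTheory Limits Opposite Simplicial AlgebraicTopology
open Groth.Agent.Lib.Helper28

set_option linter.unusedSectionVars false

universe w v v₀ u u₀

variable {C₀ : Type u₀} [Category.{v₀} C₀] {C : Type u} [Category.{v} C] [LocallySmall.{w} C]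
  (G : C₀ ⥤ C) {U : C₀}

/-- The functor `Over U ⥤ C`, `Z ↦ G Z.left`. -/
abbrev Φ : Over U ⥤ C := Over.forget U ⋙ G

/-- The augmentation `Σ i, Hom(-, G (X i).left) ⟶ Hom(-, G U)` for a formal coproduct in
`Over U`. -/
noncomputable def augApp (X : FormalCoproduct.{w} (Over U)) :
    (CechY.sY (Φ G (U := U))).obj X ⟶ shrinkYoneda.{w}.obj (G.obj U) where
  app V := ↾(fun x => (shrinkYoneda.{w}.map (G.map (X.obj x.1).hom)).app V x.2)
  naturality V V' f := by
    refine ConcreteCategory.hom_ext _ _ fun x => ?_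
    obtain ⟨i, x⟩ := x
    simp only [types_comp_apply, TypeCat.ofHom_apply]
    exact NatTrans.naturality_apply (shrinkYoneda.{w}.map (G.map (X.obj i).hom)) f x

@[simp]
lemma augApp_app_mk (X : FormalCoproduct.{w} (Over U)) (V : Cᵒᵖ) (i : X.I)
    (x : (shrinkYoneda.{w}.obj ((Φ G (U := U)).obj (X.obj i))).obj V) :
    (augApp G X).app V ⟨i, x⟩ = (shrinkYoneda.{w}.map (G.map (X.obj i).hom)).app V x := rfl

omit [LocallySmall.{w} C] in
lemma shrinkYoneda_map_map [LocallySmall.{w} C] {a b c : C} (f : a ⟶ b) (g : b ⟶ c) (h : a ⟶ c)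
    (hh : f ≫ g = h) (V : Cᵒᵖ) (x : (shrinkYoneda.{w}.obj a).obj V) :
    (shrinkYoneda.{w}.map g).app V ((shrinkYoneda.{w}.map f).app V x) =
      (shrinkYoneda.{w}.map h).app V x := by
  subst hh
  simp

lemma augApp_naturality {X X' : FormalCoproduct.{w} (Over U)} (g : X' ⟶ X) :
    (CechY.sY (Φ G (U := U))).map g ≫ augApp G X = augApp G X' := by
  ext V : 2
  refine ConcreteCategory.hom_ext _ _ fun x => ?_
  obtain ⟨i, x⟩ := x
  rw [NatTrans.comp_app, types_comp_apply, CechY.sYmap_app_mk, augApp_app_mk, augApp_app_mk]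
  refine shrinkYoneda_map_map _ _ _ ?_ V x
  change G.map (g.φ i).left ≫ G.map (X.obj (g.f i)).hom = G.map (X'.obj i).hom
  rw [← G.map_comp, Over.w]

variable (E : SimplicialObject (FormalCoproduct.{w} (Over U)))

/-- The augmentation of the simplicial presheaf attached to `E`. -/
noncomputable def η : E ⋙ CechY.sY (Φ G (U := U)) ⟶
    (Functor.const SimplexCategoryᵒᵖ).obj (shrinkYoneda.{w}.obj (G.obj U)) where
  app n := augApp G (E.obj n)
  naturality n m f := by
    exact (augApp_naturality G (E.map f)).trans (Category.comp_id _).symm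

section Cech

variable [HasFiniteProducts (Over U)] [PreservesFiniteLimits G] {ι : Type w} (Y : ι → Over U)

/-- The Čech simplicial object of the family `Y`. -/
noncomputable abbrev cechE : SimplicialObject (FormalCoproduct.{w} (Over U)) :=
  (FormalCoproduct.mk ι Y).cech

/-- Sections over `V` of the simplicial presheaf in degree `m`. -/
abbrev Sec (m : SimplexCategory) (V : Cᵒᵖ) : Type w :=
  ((CechY.sY (Φ G (U := U))).obj ((cechE Y).obj (op m))).obj V

/-- Construct a section from an index function and a morphism. -/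
noncomputable def mkSec (m : SimplexCategory) (V : Cᵒᵖ) (a : ToType m → ι)
    (φ : V.unop ⟶ G.obj (∏ᶜ (Y ∘ a)).left) : Sec G Y m V :=
  ⟨a, shrinkYonedaObjObjEquiv.symm φ⟩

/-- The tuple of vertices of a section. -/
noncomputable def key (m : SimplexCategory) (V : Cᵒᵖ) (z : Sec G Y m V) :
    ToType m → Σ i : ι, (V.unop ⟶ G.obj (Y i).left) :=
  fun j => ⟨z.1 j, shrinkYonedaObjObjEquiv z.2 ≫ G.map (Pi.π (Y ∘ z.1) j).left⟩

lemma key_mkSec (m : SimplexCategory) (V : Cᵒᵖ) (a : ToType m → ι)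
    (φ : V.unop ⟶ G.obj (∏ᶜ (Y ∘ a)).left) (j : ToType m) :
    key G Y m V (mkSec G Y m V a φ) j = ⟨a j, φ ≫ G.map (Pi.π (Y ∘ a) j).left⟩ := by
  exact congrArg (fun t => (⟨a j, t ≫ G.map (Pi.π (Y ∘ a) j).left⟩ :
    Σ i : ι, (V.unop ⟶ G.obj (Y i).left)))
    (Equiv.apply_symm_apply shrinkYonedaObjObjEquiv φ)

lemma mkSec_surjective (m : SimplexCategory) (V : Cᵒᵖ) (z : Sec G Y m V) :
    ∃ a φ, z = mkSec G Y m V a φ := by
  obtain ⟨a, x⟩ := z
  exact ⟨a, shrinkYonedaObjObjEquiv x,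
    congrArg (Sigma.mk a) (Equiv.symm_apply_apply shrinkYonedaObjObjEquiv x).symm⟩

/-- The image under `Over.post G` of the product fan is a limit fan. -/
noncomputable def isLimitFan (m : SimplexCategory) (a : ToType m → ι) :
    IsLimit (Fan.mk ((Over.post (X := U) G).obj (∏ᶜ (Y ∘ a)))
      fun j => (Over.post (X := U) G).map (Pi.π (Y ∘ a) j)) :=
  isLimitFanMkObjOfIsLimit (Over.post (X := U) G) (Y ∘ a) _ (productIsProduct (Y ∘ a))

omit [LocallySmall.{w} C] in
lemma left_ext (m : SimplexCategory) {W : C} (a : ToType m → ι)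
    (φ φ' : W ⟶ G.obj (∏ᶜ (Y ∘ a)).left)
    (h : ∀ j, φ ≫ G.map (Pi.π (Y ∘ a) j).left = φ' ≫ G.map (Pi.π (Y ∘ a) j).left) : φ = φ' := by
  have hw : ∀ j, G.map (Pi.π (Y ∘ a) j).left ≫ G.map (Y (a j)).hom =
      G.map (∏ᶜ (Y ∘ a)).hom := by
    intro j
    rw [← G.map_comp]
    exact congrArg G.map (Over.w (Pi.π (Y ∘ a) j))
  have hg : φ' ≫ G.map (∏ᶜ (Y ∘ a)).hom = φ ≫ G.map (∏ᶜ (Y ∘ a)).hom := by
    rw [← hw (0 : Fin (m.len + 1)), ← Category.assoc, ← Category.assoc, h]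
  have key : (Over.homMk φ rfl : Over.mk (φ ≫ G.map (∏ᶜ (Y ∘ a)).hom) ⟶
      (Over.post (X := U) G).obj (∏ᶜ (Y ∘ a))) = Over.homMk φ' hg := by
    refine Fan.IsLimit.hom_ext (isLimitFan G Y m a) _ _ fun j => ?_
    ext
    exact h j
  exact congrArg (fun t => t.left) key

lemma key_injective (m : SimplexCategory) (V : Cᵒᵖ) : Function.Injective (key G Y m V) := by
  intro z z' h
  obtain ⟨a, φ, rfl⟩ := mkSec_surjective G Y m V z
  obtain ⟨a', φ', rfl⟩ := mkSec_surjective G Y m V z'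
  have ha : a = a' := by
    funext j
    have := congrFun h j
    rw [key_mkSec, key_mkSec] at this
    exact congrArg Sigma.fst this
  subst ha
  have hφ : φ = φ' := by
    apply left_ext G Y m a
    intro j
    have := congrFun h j
    rw [key_mkSec, key_mkSec] at this
    exact eq_of_heq (Sigma.mk.inj this).2
  rw [hφ]

/-- The composite to `G U` of a vertex. -/
abbrev base {V : Cᵒᵖ} (t : Σ i : ι, (V.unop ⟶ G.obj (Y i).left)) : V.unop ⟶ G.obj U :=
  t.2 ≫ G.map (Y t.1).hom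

omit [LocallySmall.{w} C] in
lemma exists_lift (m : SimplexCategory) (V : Cᵒᵖ)
    (t : ToType m → Σ i : ι, (V.unop ⟶ G.obj (Y i).left))
    (g : V.unop ⟶ G.obj U) (ht : ∀ j, base G Y (t j) = g) :
    ∃ φ : V.unop ⟶ G.obj (∏ᶜ (Y ∘ fun j => (t j).1)).left,
      ∀ j, φ ≫ G.map (Pi.π (Y ∘ fun j => (t j).1) j).left = (t j).2 := by
  let f : ∀ j, Over.mk g ⟶ (Over.post (X := U) G).obj (Y (t j).1) := fun j =>
    Over.homMk (t j).2 (ht j)
  refine ⟨(Fan.IsLimit.lift (isLimitFan G Y m fun j => (t j).1) f).left, ?_⟩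
  intro j
  have h := Fan.IsLimit.fac (isLimitFan G Y m fun j => (t j).1) f j
  exact (Over.comp_left _ _ _ _ _).symm.trans (congrArg (fun z => z.left) h)

lemma key_surjective (m : SimplexCategory) (V : Cᵒᵖ)
    (t : ToType m → Σ i : ι, (V.unop ⟶ G.obj (Y i).left))
    (g : V.unop ⟶ G.obj U) (ht : ∀ j, base G Y (t j) = g) : ∃ z, key G Y m V z = t := by
  obtain ⟨φ, hφ⟩ := exists_lift G Y m V t g ht
  refine ⟨mkSec G Y m V (fun j => (t j).1) φ, ?_⟩
  funext j
  rw [key_mkSec]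
  exact congrArg (Sigma.mk (t j).1) (hφ j)

lemma map_mkSec {m m' : SimplexCategory} (θ : m' ⟶ m) (V : Cᵒᵖ) (a : ToType m → ι)
    (φ : V.unop ⟶ G.obj (∏ᶜ (Y ∘ a)).left) :
    ((cechE Y ⋙ CechY.sY (Φ G (U := U))).map θ.op).app V (mkSec G Y m V a φ) =
      mkSec G Y m' V (a ∘ θ.toOrderHom)
        (φ ≫ G.map (Pi.lift (fun k => Pi.π (Y ∘ a) (θ.toOrderHom k)) :
          ∏ᶜ (Y ∘ a) ⟶ ∏ᶜ (Y ∘ a ∘ θ.toOrderHom)).left) := by
  change (⟨a ∘ θ.toOrderHom, _⟩ : Sec G Y m' V) = ⟨a ∘ θ.toOrderHom, _⟩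
  refine congrArg (Sigma.mk (a ∘ θ.toOrderHom)) ?_
  exact shrinkYoneda_map_app_shrinkYonedaObjObjEquiv_symm _ _

lemma key_map {m m' : SimplexCategory} (θ : m' ⟶ m) (V : Cᵒᵖ) (z : Sec G Y m V) (j : ToType m') :
    key G Y m' V (((cechE Y ⋙ CechY.sY (Φ G (U := U))).map θ.op).app V z) j =
      key G Y m V z (θ.toOrderHom j) := by
  obtain ⟨a, φ, rfl⟩ := mkSec_surjective G Y m V z
  rw [map_mkSec, key_mkSec, key_mkSec]
  refine congrArg (Sigma.mk (a (θ.toOrderHom j))) ?_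
  rw [Category.assoc, ← G.map_comp]
  congr 2
  have h := Pi.lift_π (fun k => Pi.π (Y ∘ a) (θ.toOrderHom k)) j
  exact (Over.comp_left _ _ _ _ _).symm.trans (congrArg (fun z => z.left) h)

lemma aug_mkSec (m : SimplexCategory) (V : Cᵒᵖ) (a : ToType m → ι)
    (φ : V.unop ⟶ G.obj (∏ᶜ (Y ∘ a)).left) (j : ToType m) :
    ((η G (cechE Y)).app (op m)).app V (mkSec G Y m V a φ) =
      shrinkYonedaObjObjEquiv.symm (base G Y (key G Y m V (mkSec G Y m V a φ) j)) := by
  rw [key_mkSec]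
  change (shrinkYoneda.{w}.map (G.map (∏ᶜ (Y ∘ a)).hom)).app V
    (shrinkYonedaObjObjEquiv.symm φ) = _
  rw [shrinkYoneda_map_app_shrinkYonedaObjObjEquiv_symm]
  congr 1
  rw [← Over.w (Pi.π (Y ∘ a) j), G.map_comp]
  exact (Category.assoc _ _ _).symm

lemma aug_eq (m : SimplexCategory) (V : Cᵒᵖ) (z : Sec G Y m V) (j : ToType m) :
    ((η G (cechE Y)).app (op m)).app V z =
      shrinkYonedaObjObjEquiv.symm (base G Y (key G Y m V z j)) := by
  obtain ⟨a, φ, rfl⟩ := mkSec_surjective G Y m V z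
  exact aug_mkSec G Y m V a φ j

/-- The augmented simplicial presheaf attached to the family `Y`. -/
noncomputable abbrev A : SimplicialObject.Augmented (Cᵒᵖ ⥤ Type w) :=
  CechA.aug (Φ G (U := U)) (cechE Y) (η G (cechE Y))

lemma key_vert (V : Cᵒᵖ) (n : ℕ) (i : Fin (n + 1)) (z : Sec G Y ⦋n⦌ V) :
    key G Y ⦋0⦌ V (CechED.vert (CechQ.evalAug (A G Y) V).left i z) (0 : Fin 1) =
      key G Y ⦋n⦌ V z i :=
  key_map G Y (SimplexCategory.const ⦋0⦌ ⦋n⦌ i) V z (0 : Fin 1)

lemma sectionwiseCechLike : CechQ.SectionwiseCechLike (A G Y) := by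
  intro V
  constructor
  · intro n x y h
    apply key_injective G Y ⦋n⦌ V
    funext i
    have hx := key_vert G Y V n i x
    have hy := key_vert G Y V n i y
    rw [← hx, ← hy, h i]
  · intro n xs h
    have hbase : ∀ j : Fin (n + 1), base G Y (key G Y ⦋0⦌ V (xs j) (0 : Fin 1)) =
        base G Y (key G Y ⦋0⦌ V (xs 0) (0 : Fin 1)) := by
      intro j
      have h1 := aug_eq G Y ⦋0⦌ V (xs j) (0 : Fin 1)
      have h2 := aug_eq G Y ⦋0⦌ V (xs 0) (0 : Fin 1)
      have h3 : ((η G (cechE Y)).app (op ⦋0⦌)).app V (xs j) =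
          ((η G (cechE Y)).app (op ⦋0⦌)).app V (xs 0) := h j 0
      rw [h1, h2] at h3
      exact shrinkYonedaObjObjEquiv.symm.injective h3
    obtain ⟨z, hz⟩ := key_surjective G Y ⦋n⦌ V (fun j => key G Y ⦋0⦌ V (xs j) (0 : Fin 1)) _ hbase
    refine ⟨z, fun i => ?_⟩
    apply key_injective G Y ⦋0⦌ V
    funext k
    obtain rfl : k = (0 : Fin 1) := Subsingleton.elim (α := Fin 1) _ _
    rw [key_vert, hz]

/-- Čech cohomology of the restriction along `G` of an injective presheaf of abelian groups, with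
respect to any family of objects over `U`, vanishes in positive degrees. -/
theorem isZero_cech_homology_succ_of_injective (P : Cᵒᵖ ⥤ AddCommGrpCat.{w}) [Injective P]
    (p : ℕ) :
    IsZero (((cechComplexFunctor Y).obj ((Over.forget U ⋙ G).op ⋙ P)).homology (p + 1)) :=
  CechA.isZero_homology_succ (Φ G (U := U)) (cechE Y) P (η G (cechE Y))
    (sectionwiseCechLike G Y) p

end Cech

end Groth.Agent.Lib.Helper28.CechOG
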