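import Groth.Agent.Lib.Helper28.CechA

namespace Groth.Agent.Lib.Helper28.CechP

open CategoryTheory Limits Opposite Simplicial AlgebraicTopology
open Groth.Agent.Lib.Helper28

universe w v v' u u'

variable {C : Type u} [Category.{v} C] [LocallySmall.{w} C] {D : Type u'} [Category.{v'} D]
  (F : D ⥤ C) (E : SimplicialObject (FormalCoproduct.{w} D)) (P : Cᵒᵖ ⥤ AddCommGrpCat.{w})

/-- Exactness of the Čech complex in degree `p + 1`, in terms of morphisms of presheaves. -/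
theorem isZero_homology_succ_iff (p : ℕ) :
    IsZero ((CechA.K F E P).homology (p + 1)) ↔
      ∀ τ : (CechA.L F E).X (p + 1) ⟶ P, (CechA.L F E).d (p + 2) (p + 1) ≫ τ = 0 →
        ∃ σ : (CechA.L F E).X p ⟶ P, (CechA.L F E).d (p + 1) p ≫ σ = τ := by
  rw [← HomologicalComplex.exactAt_iff_isZero_homology,
    HomologicalComplex.exactAt_iff' _ p (p + 1) (p + 2) (by simp) (by simp),
    ShortComplex.ab_exact_iff]
  constructor
  · intro h τ hτ
    have e1 : (CechA.K F E P).d (p + 1) (p + 2) (CechY.Ψ F P (E.obj (op ⦋p + 1⦌)) τ) = 0 := by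
      refine (ConcreteCategory.congr_hom (CechA.K_d F E P (p + 1)) _).trans ?_
      refine (CechA.Ψ_d F E P (p + 1) τ).symm.trans ?_
      have : (∑ i : Fin (p + 1 + 2), (-1 : ℤ) ^ (i : ℕ) •
          CechQ.freeW.map ((CechY.sY F).map (E.δ i))) ≫ τ = 0 :=
        (congrArg (fun z => z ≫ τ) (CechA.L_d F E (p + 1)).symm).trans hτ
      rw [this, map_zero]
      rfl
    obtain ⟨y, hy⟩ := h _ e1
    obtain ⟨σ, rfl⟩ := CechY.Ψ_surjective F P (E.obj (op ⦋p⦌)) y
    refine ⟨σ, ?_⟩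
    apply CechY.Ψ_injective F P (E.obj (op ⦋p + 1⦌))
    refine Eq.trans ?_ hy
    refine Eq.trans ?_ (ConcreteCategory.congr_hom (CechA.K_d F E P p) _).symm
    refine Eq.trans ?_ (CechA.Ψ_d F E P p σ)
    exact congrArg (CechY.Ψ F P (E.obj (op ⦋p + 1⦌)))
      (congrArg (fun z => z ≫ σ) (CechA.L_d F E p))
  · intro h x hx
    change (CechA.K F E P).d (p + 1) (p + 2) x = 0 at hx
    change ∃ y, (CechA.K F E P).d p (p + 1) y = x
    obtain ⟨τ, rfl⟩ := CechY.Ψ_surjective F P (E.obj (op ⦋p + 1⦌)) x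
    have hτ : (CechA.L F E).d (p + 2) (p + 1) ≫ τ = 0 := by
      apply CechY.Ψ_injective F P (E.obj (op ⦋p + 2⦌))
      refine Eq.trans ?_ (map_zero (CechY.Ψ F P (E.obj (op ⦋p + 2⦌)))).symm
      refine (congrArg (CechY.Ψ F P (E.obj (op ⦋p + 2⦌)))
        (congrArg (fun z => z ≫ τ) (CechA.L_d F E (p + 1)))).trans ?_
      refine (CechA.Ψ_d F E P (p + 1) τ).trans ?_
      exact (ConcreteCategory.congr_hom (CechA.K_d F E P (p + 1)).symm _).trans hx
    obtain ⟨σ, hσ⟩ := h τ hτ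
    refine ⟨CechY.Ψ F P (E.obj (op ⦋p⦌)) σ, ?_⟩
    refine (ConcreteCategory.congr_hom (CechA.K_d F E P p) _).trans ?_
    refine (CechA.Ψ_d F E P p σ).symm.trans ?_
    refine congrArg (CechY.Ψ F P (E.obj (op ⦋p + 1⦌))) ?_
    exact (congrArg (fun z => z ≫ σ) (CechA.L_d F E p).symm).trans hσ

variable {P}

/-- A morphism out of `ℤ[Σ i, Hom(-, F (X i))]` lifts along `g : P ⟶ Q` as soon as its values on
the universal elements lift. -/
lemma exists_lift_of_components {Q : Cᵒᵖ ⥤ AddCommGrpCat.{w}} (g : P ⟶ Q)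
    (X : FormalCoproduct.{w} D) (τ : CechQ.freeW.obj ((CechY.sY F).obj X) ⟶ Q)
    (h : ∀ i : X.I, ∃ y : P.obj (op (F.obj (X.obj i))),
      g.app _ y = τ.app _ (CechY.gen (CechY.univ F X i))) :
    ∃ σ : CechQ.freeW.obj ((CechY.sY F).obj X) ⟶ P, σ ≫ g = τ := by
  choose y hy using h
  obtain ⟨σ, hσ⟩ := CechY.Ψ_surjective F P X
    ((Concrete.productEquiv (fun i : X.I => (F.op ⋙ P).obj (op (X.obj i)))).symm y)
  refine ⟨σ, ?_⟩
  apply CechY.Ψ_injective F Q X
  apply CechY.prod_ext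
  intro i
  rw [CechY.π_Ψ, CechY.π_Ψ, NatTrans.comp_app, ConcreteCategory.comp_apply, ← hy i]
  congr 1
  rw [← CechY.π_Ψ, hσ]
  exact Concrete.productEquiv_symm_apply_π _ _ i

end Groth.Agent.Lib.Helper28.CechP
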