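import Groth.Agent.Lib.Helper28.CechED
import Groth.Agent.Lib.Helper28.CechH
import Mathlib.Algebra.Homology.Functor
import Mathlib.CategoryTheory.Subfunctor.Image
import Mathlib.Algebra.Category.Grp.Adjunctions
import Mathlib.Algebra.Category.Grp.Abelian

namespace Groth.Agent.Lib.Helper28.CechQ

open CategoryTheory Simplicial SimplicialObject Opposite Limits AlgebraicTopology
open Groth.Agent.Lib.Helper28

universe w v₁ u₁

variable {T : Type u₁} [Category.{v₁} T]

lemma hom_app_eq (A : SimplicialObject.Augmented (T ⥤ Type w)) (n : SimplexCategoryᵒᵖ) :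
    A.hom.app n = A.left.map (SimplexCategory.const ⦋0⦌ n.unop 0).op ≫ A.hom.app (op ⦋0⦌) := by
  have := A.hom.naturality (SimplexCategory.const ⦋0⦌ n.unop 0).op
  simpa using this.symm

lemma range_hom_app_le (A : SimplicialObject.Augmented (T ⥤ Type w)) (n : SimplexCategoryᵒᵖ) :
    Subfunctor.range (A.hom.app n) ≤ Subfunctor.range (A.hom.app (op ⦋0⦌)) := by
  rw [hom_app_eq A n]
  exact Subfunctor.range_comp_le _ _

/-- The augmented simplicial functor obtained by replacing the target of the augmentation
by the range of the augmentation. -/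
noncomputable def rangeAug (A : SimplicialObject.Augmented (T ⥤ Type w)) :
    SimplicialObject.Augmented (T ⥤ Type w) where
  left := A.left
  right := (Subfunctor.range (A.hom.app (op ⦋0⦌))).toFunctor
  hom :=
    { app := fun n => Subfunctor.lift (A.hom.app n) (range_hom_app_le A n)
      naturality := fun n m f => by
        rw [← cancel_mono (Subfunctor.range (A.hom.app (op ⦋0⦌))).ι]
        have := A.hom.naturality f
        simpa using this }

/-- The canonical morphism from `rangeAug A` to `A`. -/
noncomputable def rangeAugι (A : SimplicialObject.Augmented (T ⥤ Type w)) : rangeAug A ⟶ A where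
  left := 𝟙 _
  right := (Subfunctor.range (A.hom.app (op ⦋0⦌))).ι
  w := by
    ext n : 2
    simp [rangeAug]

/-- Evaluation at `V` of an augmented simplicial functor. -/
abbrev evalAug (A : SimplicialObject.Augmented (T ⥤ Type w)) (V : T) :
    SimplicialObject.Augmented (Type w) :=
  ((SimplicialObject.Augmented.whiskering _ _).obj ((evaluation T (Type w)).obj V)).obj A

/-- An augmented simplicial functor is sectionwise Čech-like. -/
def SectionwiseCechLike (A : SimplicialObject.Augmented (T ⥤ Type w)) : Prop :=
  ∀ V : T, CechED.IsCechLike (evalAug A V)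

lemma isCechLike_evalAug_rangeAug {A : SimplicialObject.Augmented (T ⥤ Type w)}
    (hA : SectionwiseCechLike A) (V : T) : CechED.IsCechLike (evalAug (rangeAug A) V) where
  inj := (hA V).inj
  surj n xs h := by
    apply (hA V).surj n xs
    intro i j
    exact congrArg Subtype.val (h i j)

lemma surjective_evalAug_rangeAug (A : SimplicialObject.Augmented (T ⥤ Type w)) (V : T) :
    Function.Surjective ((evalAug (rangeAug A) V).hom.app (op ⦋0⦌)) := by
  rintro ⟨t, ⟨x, rfl⟩⟩
  exact ⟨x, rfl⟩

/-- The extra degeneracy of the sections over `V` of `rangeAug A`. -/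
noncomputable def extraDegeneracy {A : SimplicialObject.Augmented (T ⥤ Type w)}
    (hA : SectionwiseCechLike A) (V : T) : (evalAug (rangeAug A) V).ExtraDegeneracy :=
  CechED.extraDegeneracy (isCechLike_evalAug_rangeAug hA V)
    (Function.surjInv (surjective_evalAug_rangeAug A V))
    (Function.surjInv_eq (surjective_evalAug_rangeAug A V))

/-- The free abelian group functor applied sectionwise. -/
abbrev freeW : (T ⥤ Type w) ⥤ (T ⥤ AddCommGrpCat.{w}) :=
  (Functor.whiskeringRight T _ _).obj AddCommGrpCat.free.{w}

/-- The augmented simplicial functor to abelian groups `ℤ[A_•] → ℤ[range]`. -/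
noncomputable abbrev freeRangeAug (A : SimplicialObject.Augmented (T ⥤ Type w)) :
    SimplicialObject.Augmented (T ⥤ AddCommGrpCat.{w}) :=
  ((SimplicialObject.Augmented.whiskering _ _).obj freeW).obj (rangeAug A)

theorem quasiIso_ε_freeRangeAug {A : SimplicialObject.Augmented (T ⥤ Type w)}
    (hA : SectionwiseCechLike A) :
    QuasiIso (AlternatingFaceMapComplex.ε.app (freeRangeAug A)) := by
  rw [HomologicalComplex.quasiIso_iff_evaluation]
  intro V
  rw [CechH.quasiIso_ε_whisker_iff]
  have ed : (((SimplicialObject.Augmented.whiskering _ _).obj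
      ((evaluation T AddCommGrpCat.{w}).obj V)).obj (freeRangeAug A)).ExtraDegeneracy :=
    (extraDegeneracy hA V).map AddCommGrpCat.free.{w}
  exact ed.homotopyEquiv.quasiIso_hom

end Groth.Agent.Lib.Helper28.CechQ
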