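import Groth.Agent.Lib.Helper28.CechL

namespace Groth.Agent.Lib.Helper28.CechT

open CategoryTheory Limits Opposite Simplicial AlgebraicTopology
open Groth.Agent.Lib.Helper28

set_option linter.unusedSectionVars false

universe w v u

variable {C : Type u} [Category.{v} C] [LocallySmall.{w} C] [Quiver.IsThin C] {U : C}

instance subsingleton_shrinkYoneda (V : Cᵒᵖ) : Subsingleton ((shrinkYoneda.{w}.obj U).obj V) :=
  shrinkYonedaObjObjEquiv.subsingleton

/-- The augmentation `Σ i, Hom(-, X i) ⟶ Hom(-, U)` for a formal coproduct of objects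
mapping to `U` in a thin category. -/
noncomputable def augApp (X : FormalCoproduct.{w} C) (g : ∀ i, X.obj i ⟶ U) :
    (CechY.sY (𝟭 C)).obj X ⟶ shrinkYoneda.{w}.obj U where
  app V := ↾(fun x => (shrinkYoneda.{w}.map (g x.1)).app V x.2)
  naturality V V' f := by
    refine ConcreteCategory.hom_ext _ _ fun x => ?_
    exact Subsingleton.elim _ _

variable (E : SimplicialObject (FormalCoproduct.{w} C))
  (g : ∀ (n : SimplexCategoryᵒᵖ) (i : (E.obj n).I), (E.obj n).obj i ⟶ U)

/-- The augmentation of the simplicial presheaf attached to `E`. -/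
noncomputable def η : E ⋙ CechY.sY (𝟭 C) ⟶
    (Functor.const SimplexCategoryᵒᵖ).obj (shrinkYoneda.{w}.obj U) where
  app n := augApp (E.obj n) (g n)
  naturality n m f := by
    ext V : 2
    refine ConcreteCategory.hom_ext _ _ fun x => ?_
    exact Subsingleton.elim (α := (shrinkYoneda.{w}.obj U).obj V) _ _

section Cech

variable [HasFiniteProducts C] {ι : Type w} (W : ι → C)

/-- The Čech simplicial object of the family `W`. -/
noncomputable abbrev cechE : SimplicialObject (FormalCoproduct.{w} C) :=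
  (FormalCoproduct.mk ι W).cech

/-- Sections over `V` of the simplicial presheaf in degree `m`. -/
abbrev Sec (m : SimplexCategory) (V : Cᵒᵖ) : Type w :=
  ((CechY.sY (𝟭 C)).obj ((cechE W).obj (op m))).obj V

/-- Construct a section from an index function and a morphism. -/
noncomputable def mkSec (m : SimplexCategory) (V : Cᵒᵖ) (a : ToType m → ι)
    (φ : V.unop ⟶ ∏ᶜ (W ∘ a)) : Sec W m V :=
  ⟨a, shrinkYonedaObjObjEquiv.symm φ⟩

/-- The tuple of vertices of a section. -/
noncomputable def key (m : SimplexCategory) (V : Cᵒᵖ) (z : Sec W m V) :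
    ToType m → Σ i : ι, (V.unop ⟶ W i) :=
  fun j => ⟨z.1 j, shrinkYonedaObjObjEquiv z.2 ≫ Pi.π (W ∘ z.1) j⟩

lemma key_mkSec (m : SimplexCategory) (V : Cᵒᵖ) (a : ToType m → ι)
    (φ : V.unop ⟶ ∏ᶜ (W ∘ a)) (j : ToType m) :
    key W m V (mkSec W m V a φ) j = ⟨a j, φ ≫ Pi.π (W ∘ a) j⟩ := by
  exact congrArg (fun t => (⟨a j, t ≫ Pi.π (W ∘ a) j⟩ : Σ i : ι, (V.unop ⟶ W i)))
    (Equiv.apply_symm_apply shrinkYonedaObjObjEquiv φ)

lemma mkSec_surjective (m : SimplexCategory) (V : Cᵒᵖ) (z : Sec W m V) :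
    ∃ a φ, z = mkSec W m V a φ := by
  obtain ⟨a, x⟩ := z
  exact ⟨a, shrinkYonedaObjObjEquiv x,
    congrArg (Sigma.mk a) (Equiv.symm_apply_apply shrinkYonedaObjObjEquiv x).symm⟩

lemma key_injective (m : SimplexCategory) (V : Cᵒᵖ) : Function.Injective (key W m V) := by
  intro z z' h
  obtain ⟨a, φ, rfl⟩ := mkSec_surjective W m V z
  obtain ⟨a', φ', rfl⟩ := mkSec_surjective W m V z'
  have ha : a = a' := by
    funext j
    have := congrFun h j
    rw [key_mkSec, key_mkSec] at this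
    exact congrArg Sigma.fst this
  subst ha
  have hφ : φ = φ' := Subsingleton.elim _ _
  rw [hφ]

lemma key_surjective (m : SimplexCategory) (V : Cᵒᵖ)
    (t : ToType m → Σ i : ι, (V.unop ⟶ W i)) : ∃ z, key W m V z = t := by
  refine ⟨mkSec W m V (fun j => (t j).1) (Pi.lift (fun j => (t j).2)), ?_⟩
  funext j
  rw [key_mkSec]
  exact congrArg (Sigma.mk (t j).1) (Subsingleton.elim _ _)

lemma map_mkSec {m m' : SimplexCategory} (θ : m' ⟶ m) (V : Cᵒᵖ) (a : ToType m → ι)
    (φ : V.unop ⟶ ∏ᶜ (W ∘ a)) :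
    ((cechE W ⋙ CechY.sY (𝟭 C)).map θ.op).app V (mkSec W m V a φ) =
      mkSec W m' V (a ∘ θ.toOrderHom)
        (φ ≫ (Pi.lift (fun k => Pi.π (W ∘ a) (θ.toOrderHom k)) :
          ∏ᶜ (W ∘ a) ⟶ ∏ᶜ (W ∘ a ∘ θ.toOrderHom))) := by
  change (⟨a ∘ θ.toOrderHom, _⟩ : Sec W m' V) = ⟨a ∘ θ.toOrderHom, _⟩
  refine congrArg (Sigma.mk (a ∘ θ.toOrderHom)) ?_
  exact shrinkYoneda_map_app_shrinkYonedaObjObjEquiv_symm _ _

lemma key_map {m m' : SimplexCategory} (θ : m' ⟶ m) (V : Cᵒᵖ) (z : Sec W m V) (j : ToType m') :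
    key W m' V (((cechE W ⋙ CechY.sY (𝟭 C)).map θ.op).app V z) j =
      key W m V z (θ.toOrderHom j) := by
  obtain ⟨a, φ, rfl⟩ := mkSec_surjective W m V z
  rw [map_mkSec, key_mkSec, key_mkSec]
  exact congrArg (Sigma.mk (a (θ.toOrderHom j))) (Subsingleton.elim _ _)

variable (f : ∀ i, W i ⟶ U)

/-- The morphisms from the members of the Čech object to `U`. -/
noncomputable def toBase (n : SimplexCategoryᵒᵖ) (a : ((cechE W).obj n).I) :
    ((cechE W).obj n).obj a ⟶ U :=
  Pi.π (W ∘ a) (0 : Fin (n.unop.len + 1)) ≫ f (a (0 : Fin (n.unop.len + 1)))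

/-- The augmented simplicial presheaf attached to the family `W`. -/
noncomputable abbrev A : SimplicialObject.Augmented (Cᵒᵖ ⥤ Type w) :=
  CechA.aug (𝟭 C) (cechE W) (η (cechE W) (toBase W f))

lemma key_vert (V : Cᵒᵖ) (n : ℕ) (i : Fin (n + 1)) (z : Sec W ⦋n⦌ V) :
    key W ⦋0⦌ V (CechED.vert (CechQ.evalAug (A W f) V).left i z) (0 : Fin 1) = key W ⦋n⦌ V z i :=
  key_map W (SimplexCategory.const ⦋0⦌ ⦋n⦌ i) V z (0 : Fin 1)

lemma sectionwiseCechLike : CechQ.SectionwiseCechLike (A W f) := by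
  intro V
  constructor
  · intro n x y h
    apply key_injective W ⦋n⦌ V
    funext i
    have hx := key_vert W f V n i x
    have hy := key_vert W f V n i y
    rw [← hx, ← hy, h i]
  · intro n xs h
    obtain ⟨z, hz⟩ := key_surjective W ⦋n⦌ V (fun j => key W ⦋0⦌ V (xs j) (0 : Fin 1))
    refine ⟨z, fun i => ?_⟩
    apply key_injective W ⦋0⦌ V
    funext k
    obtain rfl : k = (0 : Fin 1) := Subsingleton.elim (α := Fin 1) _ _
    rw [key_vert, hz]

end Cech

end Groth.Agent.Lib.Helper28.CechT
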