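import Groth.Prelude.Def_CohTop
import Groth.Agent.Lib.Helper28.CechT
import Groth.Agent.Lib.Helper28.Cartan
import Mathlib.CategoryTheory.Sites.EpiMono

namespace Groth.Agent.Lib.Helper28.CechTop

open CategoryTheory Limits Opposite Simplicial TopologicalSpace
open Groth.Agent.Lib.Helper28

universe u

variable {X : TopCat.{u}}

/-- The image sieve of the Čech augmentation of a family with union `U` is covering. -/
lemma imageSieve_mem {U : Opens X} {κ : Type u} (W : κ → Opens X)
    (f : ∀ k, W k ⟶ U) (hW : iSup W = U) :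
    CechL.imageSieve (𝟭 (Opens X)) (CechT.cechE W) (CechT.η (CechT.cechE W) (CechT.toBase W f)) ∈
      Opens.grothendieckTopology X U := by
  intro x hx
  rw [← hW] at hx
  obtain ⟨k, hk⟩ := Opens.mem_iSup.1 hx
  refine ⟨W k, f k, ?_, hk⟩
  refine ⟨CechT.mkSec W ⦋0⦌ (op (W k)) (fun _ => k) (Pi.lift (fun _ => 𝟙 (W k))), ?_⟩
  exact Subsingleton.elim (α := (shrinkYoneda.{u}.obj U).obj (op (W k))) _ _

/-- The members of the Čech object of a family of opens are the intersections. -/
lemma cechE_obj_eq {κ : Type u} (W : κ → Opens X) (n : ℕ) (a : Fin (n + 1) → κ) :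
    ((CechT.cechE W).obj (op ⦋n⦌)).obj a = iInf fun k => W (a k) := by
  apply le_antisymm
  · exact le_iInf fun k => leOfHom (Pi.π (W ∘ a) k)
  · exact leOfHom (Pi.lift (fun k => homOfLE (iInf_le (fun k => W (a k)) k)) :
      (iInf fun k => W (a k)) ⟶ ∏ᶜ (W ∘ a))

/-- Čech cohomology of an injective abelian sheaf vanishes in positive degrees. -/
lemma isZero_cechH_of_injective (I : CohTop.Ab X) [Injective I] {κ : Type u} (W : κ → Opens X)
    (p : ℕ) : IsZero (CohTop.cechH I.obj W (p + 1)) := by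
  have := Cartan.injective_obj (Opens.grothendieckTopology X) I
  exact CechA.isZero_homology_succ (𝟭 (Opens X)) (CechT.cechE W) I.obj
    (CechT.η (CechT.cechE W) (CechT.toBase W (U := ⊤) fun k => homOfLE le_top))
    (CechT.sectionwiseCechLike W _) p

/-- Sections of the quotient lift over `U` provided they lift over the members of a covering of `U`
with vanishing first Čech cohomology of the kernel. -/
theorem exists_section {S : ShortComplex (CohTop.Ab X)} (hS : S.ShortExact) {U : Opens X}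
    {κ : Type u} (W : κ → Opens X) (hW : iSup W = U)
    (h1 : IsZero (CohTop.cechH S.X₁.obj W 1)) (s : S.X₃.obj.obj (op U))
    (hlift : ∀ k, ∃ (f : W k ⟶ U) (y : S.X₂.obj.obj (op (W k))),
      S.g.hom.app _ y = S.X₃.obj.map f.op s) :
    ∃ g₀ : S.X₂.obj.obj (op U), S.g.hom.app (op U) g₀ = s := by
  have hWU : ∀ k, W k ≤ U := fun k => hW ▸ le_iSup W k
  refine CechL.exists_section (CechT.sectionwiseCechLike W (fun k => homOfLE (hWU k)))
    (imageSieve_mem W _ hW) hS s ?_ h1
  intro a
  obtain ⟨f, y, hy⟩ := hlift (a 0)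
  refine ⟨S.X₂.obj.map (Pi.π (W ∘ a) (0 : Fin 1)).op y, ?_⟩
  refine (NatTrans.naturality_apply S.g.hom (Pi.π (W ∘ a) (0 : Fin 1)).op y).trans ?_
  refine (congrArg (fun t => S.X₃.obj.map (Pi.π (W ∘ a) (0 : Fin 1)).op t) hy).trans ?_
  refine (ConcreteCategory.comp_apply _ _ _).symm.trans ?_
  rw [← Functor.map_comp, ← op_comp]
  congr 3

/-- Transfer of Čech acyclicity to the quotient. -/
theorem isZero_cechH_X₃ {S : ShortComplex (CohTop.Ab X)} (hS : S.ShortExact)
    {κ : Type u} (W : κ → Opens X)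
    (hsurj : ∀ (n : ℕ) (a : Fin (n + 1) → κ),
      Function.Surjective (S.g.hom.app (op (iInf fun k => W (a k)))))
    (h₁ : ∀ p : ℕ, IsZero (CohTop.cechH S.X₁.obj W (p + 1)))
    (h₂ : ∀ p : ℕ, IsZero (CohTop.cechH S.X₂.obj W (p + 1))) (p : ℕ) :
    IsZero (CohTop.cechH S.X₃.obj W (p + 1)) := by
  refine CechL.isZero_homology_X₃ (Φ := 𝟭 (Opens X)) (E := CechT.cechE W) hS ?_ h₁ h₂ p
  intro n a
  have := hsurj n a
  rw [← cechE_obj_eq W n a] at this
  exact this

end Groth.Agent.Lib.Helper28.CechTop
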