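import Mathlib.CategoryTheory.Limits.FormalCoproducts.Basic
import Mathlib.CategoryTheory.ShrinkYoneda
import Mathlib.CategoryTheory.Limits.Shapes.ConcreteCategory
import Mathlib.Algebra.Category.Grp.Adjunctions
import Mathlib.Algebra.Category.Grp.Limits
import Mathlib.Algebra.Category.Grp.Preadditive
import Groth.Agent.Lib.Helper28.CechQ

namespace Groth.Agent.Lib.Helper28.CechY

open CategoryTheory Limits Opposite

universe w v v' u u'

variable {C : Type u} [Category.{v} C] [LocallySmall.{w} C] {D : Type u'} [Category.{v'} D]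
  (F : D ⥤ C)

/-- The presheaf of sets `V ↦ Σ i, Hom(V, F (X i))` attached to a formal coproduct. -/
noncomputable abbrev sYobj (X : FormalCoproduct.{w} D) : Cᵒᵖ ⥤ Type w where
  obj V := Σ i : X.I, (shrinkYoneda.{w}.obj (F.obj (X.obj i))).obj V
  map f := ↾(fun x => ⟨x.1, (shrinkYoneda.{w}.obj (F.obj (X.obj x.1))).map f x.2⟩)
  map_id V := by
    refine ConcreteCategory.hom_ext _ _ fun x => ?_
    obtain ⟨i, x⟩ := x
    simp only [TypeCat.ofHom_apply, types_id_apply]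
    simp
  map_comp f g := by
    refine ConcreteCategory.hom_ext _ _ fun x => ?_
    obtain ⟨i, x⟩ := x
    simp only [TypeCat.ofHom_apply, types_comp_apply]
    simp

@[simp]
lemma sYobj_map_mk (X : FormalCoproduct.{w} D) {V V' : Cᵒᵖ} (f : V ⟶ V') (i : X.I)
    (x : (shrinkYoneda.{w}.obj (F.obj (X.obj i))).obj V) :
    (sYobj F X).map f ⟨i, x⟩ = ⟨i, (shrinkYoneda.{w}.obj (F.obj (X.obj i))).map f x⟩ := rfl

/-- Functoriality of `sYobj`. -/
noncomputable abbrev sYmap {X X' : FormalCoproduct.{w} D} (g : X ⟶ X') : sYobj F X ⟶ sYobj F X' where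
  app V := ↾(fun x => ⟨g.f x.1, (shrinkYoneda.{w}.map (F.map (g.φ x.1))).app V x.2⟩)
  naturality V V' f := by
    refine ConcreteCategory.hom_ext _ _ fun x => ?_
    obtain ⟨i, x⟩ := x
    simp only [types_comp_apply, sYobj_map_mk, TypeCat.ofHom_apply]
    exact congrArg _ (NatTrans.naturality_apply (shrinkYoneda.{w}.map (F.map (g.φ i))) f x)

@[simp]
lemma sYmap_app_mk {X X' : FormalCoproduct.{w} D} (g : X ⟶ X') (V : Cᵒᵖ) (i : X.I)
    (x : (shrinkYoneda.{w}.obj (F.obj (X.obj i))).obj V) :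
    (sYmap F g).app V ⟨i, x⟩ = ⟨g.f i, (shrinkYoneda.{w}.map (F.map (g.φ i))).app V x⟩ := rfl

/-- The functor `X ↦ (V ↦ Σ i, Hom(V, F (X i)))`. -/
noncomputable abbrev sY : FormalCoproduct.{w} D ⥤ (Cᵒᵖ ⥤ Type w) where
  obj X := sYobj F X
  map g := sYmap F g
  map_id X := by
    ext V : 2
    refine ConcreteCategory.hom_ext _ _ fun x => ?_
    obtain ⟨i, x⟩ := x
    rw [sYmap_app_mk, NatTrans.id_app, types_id_apply]
    simp
  map_comp {X X' X''} g h := by
    ext V : 2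
    refine ConcreteCategory.hom_ext _ _ fun x => ?_
    obtain ⟨i, x⟩ := x
    rw [NatTrans.comp_app, types_comp_apply, sYmap_app_mk, sYmap_app_mk, sYmap_app_mk]
    simp


variable (P : Cᵒᵖ ⥤ AddCommGrpCat.{w})

omit [LocallySmall.{w} C] in
lemma prod_ext {J : Type w} (G : J → AddCommGrpCat.{w}) (x y : ↑(∏ᶜ G))
    (h : ∀ j, Pi.π G j x = Pi.π G j y) : x = y :=
  (Concrete.productEquiv G).injective (funext fun j => by
    rw [Concrete.productEquiv_apply_apply, Concrete.productEquiv_apply_apply]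
    exact h j)

/-- The generator of the free abelian presheaf attached to a section of a presheaf of sets. -/
def gen {R : Cᵒᵖ ⥤ Type w} {V : Cᵒᵖ} (r : R.obj V) : ↑((CechQ.freeW.obj R).obj V) :=
  FreeAbelianGroup.of r

omit [LocallySmall.{w} C] in
lemma freeW_map_app_gen {R R' : Cᵒᵖ ⥤ Type w} (α : R ⟶ R') {V : Cᵒᵖ} (r : R.obj V) :
    (CechQ.freeW.map α).app V (gen r) = gen (α.app V r) := by
  change FreeAbelianGroup.map _ (FreeAbelianGroup.of r) = FreeAbelianGroup.of _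
  rw [FreeAbelianGroup.map_of_apply]

omit [LocallySmall.{w} C] in
lemma freeW_obj_map_gen {R : Cᵒᵖ ⥤ Type w} {V V' : Cᵒᵖ} (f : V ⟶ V') (r : R.obj V) :
    (CechQ.freeW.obj R).map f (gen r) = gen (R.map f r) := by
  change FreeAbelianGroup.map _ (FreeAbelianGroup.of r) = FreeAbelianGroup.of _
  rw [FreeAbelianGroup.map_of_apply]

omit [LocallySmall.{w} C] in
lemma hom_ext_gen {R : Cᵒᵖ ⥤ Type w} {τ τ' : CechQ.freeW.obj R ⟶ P}
    (h : ∀ (V : Cᵒᵖ) (r : R.obj V), τ.app V (gen r) = τ'.app V (gen r)) : τ = τ' := by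
  ext V : 2
  apply AddCommGrpCat.hom_ext
  apply FreeAbelianGroup.lift_ext
  intro r
  exact h V r

/-- The morphism out of the free abelian presheaf given by a natural family of maps. -/
noncomputable def liftGen {R : Cᵒᵖ ⥤ Type w} (t : ∀ V : Cᵒᵖ, R.obj V → P.obj V)
    (ht : ∀ {V V' : Cᵒᵖ} (f : V ⟶ V') (r : R.obj V), t V' (R.map f r) = P.map f (t V r)) :
    CechQ.freeW.obj R ⟶ P where
  app V := AddCommGrpCat.ofHom (FreeAbelianGroup.lift (t V))
  naturality V V' f := by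
    apply AddCommGrpCat.hom_ext
    apply FreeAbelianGroup.lift_ext
    intro r
    change FreeAbelianGroup.lift (t V') (FreeAbelianGroup.map _ (FreeAbelianGroup.of r)) =
      P.map f (FreeAbelianGroup.lift (t V) (FreeAbelianGroup.of r))
    rw [FreeAbelianGroup.map_of_apply, FreeAbelianGroup.lift_apply_of,
      FreeAbelianGroup.lift_apply_of]
    exact ht f r

omit [LocallySmall.{w} C] in
lemma liftGen_app_gen {R : Cᵒᵖ ⥤ Type w} (t : ∀ V : Cᵒᵖ, R.obj V → P.obj V)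
    (ht : ∀ {V V' : Cᵒᵖ} (f : V ⟶ V') (r : R.obj V), t V' (R.map f r) = P.map f (t V r))
    {V : Cᵒᵖ} (r : R.obj V) : (liftGen P t ht).app V (gen r) = t V r := by
  change FreeAbelianGroup.lift (t V) (FreeAbelianGroup.of r) = _
  rw [FreeAbelianGroup.lift_apply_of]

/-- The universal element of `sYobj F X` of index `i`. -/
noncomputable def univ (X : FormalCoproduct.{w} D) (i : X.I) :
    ((sY F).obj X).obj (op (F.obj (X.obj i))) :=
  ⟨i, shrinkYonedaObjObjEquiv.symm (𝟙 _)⟩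

lemma map_univ (X : FormalCoproduct.{w} D) (i : X.I) {V : Cᵒᵖ}
    (x : (shrinkYoneda.{w}.obj (F.obj (X.obj i))).obj V) :
    ((sY F).obj X).map (shrinkYonedaObjObjEquiv x).op (univ F X i) = ⟨i, x⟩ := by
  rw [univ, sYobj_map_mk, shrinkYoneda_obj_map_shrinkYonedaObjObjEquiv_symm]
  simp

/-- Evaluation of a morphism `ℤ[Σ i, Hom(-, F (X i))] ⟶ P` at the universal elements. -/
noncomputable def Ψfun (X : FormalCoproduct.{w} D) (τ : CechQ.freeW.obj ((sY F).obj X) ⟶ P) :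
    ↑(∏ᶜ fun i : X.I => (F.op ⋙ P).obj (op (X.obj i))) :=
  (Concrete.productEquiv (fun i : X.I => (F.op ⋙ P).obj (op (X.obj i)))).symm
    (fun i => τ.app (op (F.obj (X.obj i))) (gen (univ F X i)))

lemma π_Ψfun (X : FormalCoproduct.{w} D) (τ : CechQ.freeW.obj ((sY F).obj X) ⟶ P) (i : X.I) :
    Pi.π (fun i : X.I => (F.op ⋙ P).obj (op (X.obj i))) i (Ψfun F P X τ) =
      τ.app (op (F.obj (X.obj i))) (gen (univ F X i)) :=
  Concrete.productEquiv_symm_apply_π _ _ i

/-- `Ψfun` as an additive map. -/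
noncomputable def Ψ (X : FormalCoproduct.{w} D) :
    (CechQ.freeW.obj ((sY F).obj X) ⟶ P) →+
      ↑(∏ᶜ fun i : X.I => (F.op ⋙ P).obj (op (X.obj i))) :=
  AddMonoidHom.mk' (Ψfun F P X) (by
    intro τ τ'
    apply prod_ext
    intro i
    rw [map_add, π_Ψfun, π_Ψfun, π_Ψfun]
    rfl)

lemma π_Ψ (X : FormalCoproduct.{w} D) (τ : CechQ.freeW.obj ((sY F).obj X) ⟶ P) (i : X.I) :
    Pi.π (fun i : X.I => (F.op ⋙ P).obj (op (X.obj i))) i (Ψ F P X τ) =
      τ.app (op (F.obj (X.obj i))) (gen (univ F X i)) :=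
  π_Ψfun F P X τ i


/-- The restriction map of `evalOp`, written explicitly. -/
noncomputable def evalMap {X X' : FormalCoproduct.{w} D} (g : X' ⟶ X) :
    (∏ᶜ fun i : X.I => (F.op ⋙ P).obj (op (X.obj i))) ⟶
      (∏ᶜ fun i : X'.I => (F.op ⋙ P).obj (op (X'.obj i))) :=
  Pi.lift fun i => Pi.π _ (g.f i) ≫ (F.op ⋙ P).map (g.φ i).op

omit [LocallySmall.{w} C] in
lemma evalMap_eq {X X' : FormalCoproduct.{w} D} (g : X' ⟶ X) :
    evalMap F P g = ((FormalCoproduct.evalOp D AddCommGrpCat.{w}).obj (F.op ⋙ P)).map g.op := rfl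

omit [LocallySmall.{w} C] in
lemma π_evalMap {X X' : FormalCoproduct.{w} D} (g : X' ⟶ X) (i : X'.I)
    (y : ↑(∏ᶜ fun i : X.I => (F.op ⋙ P).obj (op (X.obj i)))) :
    Pi.π (fun i : X'.I => (F.op ⋙ P).obj (op (X'.obj i))) i (evalMap F P g y) =
      P.map (F.map (g.φ i)).op (Pi.π (fun i : X.I => (F.op ⋙ P).obj (op (X.obj i))) (g.f i) y) := by
  have h : evalMap F P g ≫ Pi.π (fun i : X'.I => (F.op ⋙ P).obj (op (X'.obj i))) i =
      Pi.π _ (g.f i) ≫ (F.op ⋙ P).map (g.φ i).op := Pi.lift_π _ _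
  exact ConcreteCategory.congr_hom h y

lemma sYmap_univ {X X' : FormalCoproduct.{w} D} (g : X' ⟶ X) (i : X'.I) :
    ((sY F).map g).app _ (univ F X' i) =
      ((sY F).obj X).map (F.map (g.φ i)).op (univ F X (g.f i)) := by
  rw [univ, univ, sYmap_app_mk, sYobj_map_mk,
    shrinkYoneda_map_app_shrinkYonedaObjObjEquiv_symm,
    shrinkYoneda_obj_map_shrinkYonedaObjObjEquiv_symm]
  simp

omit [LocallySmall.{w} C] in
lemma app_gen_map {R : Cᵒᵖ ⥤ Type w} (τ : CechQ.freeW.obj R ⟶ P) {V V' : Cᵒᵖ} (f : V ⟶ V')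
    (r : R.obj V) : τ.app V' (gen (R.map f r)) = P.map f (τ.app V (gen r)) := by
  rw [← freeW_obj_map_gen]
  exact NatTrans.naturality_apply τ f (gen r)

lemma Ψ_naturality {X X' : FormalCoproduct.{w} D} (g : X' ⟶ X)
    (τ : CechQ.freeW.obj ((sY F).obj X) ⟶ P) :
    Ψ F P X' (CechQ.freeW.map ((sY F).map g) ≫ τ) = evalMap F P g (Ψ F P X τ) := by
  apply prod_ext
  intro i
  rw [π_Ψ, π_evalMap, π_Ψ, NatTrans.comp_app, ConcreteCategory.comp_apply, freeW_map_app_gen,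
    sYmap_univ, app_gen_map]

lemma Ψ_injective (X : FormalCoproduct.{w} D) : Function.Injective (Ψ F P X) := by
  intro τ τ' h
  apply hom_ext_gen
  rintro V ⟨i, x⟩
  rw [← map_univ F X i x, app_gen_map, app_gen_map, ← π_Ψ, ← π_Ψ, h]

lemma map_equiv_symm_id (c : C) (z : P.obj (op c)) :
    P.map (shrinkYonedaObjObjEquiv.{w} (shrinkYonedaObjObjEquiv.symm (𝟙 c))).op z = z := by
  rw [Equiv.apply_symm_apply, op_id, CategoryTheory.Functor.map_id]
  rfl

lemma Ψ_surjective (X : FormalCoproduct.{w} D) : Function.Surjective (Ψ F P X) := by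
  intro y
  refine ⟨liftGen P (R := (sY F).obj X) (fun V r => P.map (shrinkYonedaObjObjEquiv r.2).op
    (Pi.π (fun i : X.I => (F.op ⋙ P).obj (op (X.obj i))) r.1 y)) ?_, ?_⟩
  · rintro V V' f ⟨i, x⟩
    rw [sYobj_map_mk]
    dsimp only
    rw [shrinkYonedaObjObjEquiv_obj_map, op_comp, Functor.map_comp, ConcreteCategory.comp_apply]
    rfl
  · apply prod_ext
    intro i
    rw [π_Ψ, liftGen_app_gen]
    exact map_equiv_symm_id P _ _

end Groth.Agent.Lib.Helper28.CechY
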