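import Groth.Agent.Lib.Helper28.ConstQ
import Groth.Agent.Lib.Helper28.EtGsecPull
import Mathlib

/-!
# Constant étale sheaves: lifting sections along surjections; `H¹` with torsion-free coefficients

* `ConstLift.exists_lift_app` : sections of constant sheaves lift along a surjection of groups.
* `ConstLift.exists_lift_hom` : the same for morphisms out of `ℤ`.
* `ConstLift.eq_zero_of_comp_mono` : `H¹(X, A) → H¹(X, B)` is injective for `A ↪ B`.
* `ConstLift.eq_zero_of_nsmul` : `H¹(X, M)` is torsion-free for `M` torsion-free.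
* `ConstLift.H1_field_eq_zero` : `H¹(Spec k, M) = 0` for `M` torsion-free.
-/

set_option autoImplicit false
universe u
open CategoryTheory Limits Abelian AlgebraicGeometry Opposite

namespace Groth.Agent.Lib.Helper28.ConstLift

variable (X : Scheme.{u})

/-- The constant sheaf functor on the small étale site. -/
noncomputable abbrev cst : AddCommGrpCat.{u + 1} ⥤ EtCoh.Ab X :=
  constantSheaf X.smallEtaleTopology AddCommGrpCat.{u + 1}

/-- A set-theoretic section of the map of constant sheaves induced by a surjection. -/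
lemma exists_set_section {B' C' : AddCommGrpCat.{u + 1}} (p : B' ⟶ C')
    (hp : Function.Surjective p) :
    ∃ ρ : (sheafCompose X.smallEtaleTopology (forget AddCommGrpCat.{u + 1})).obj ((cst X).obj C') ⟶
        (sheafCompose X.smallEtaleTopology (forget AddCommGrpCat.{u + 1})).obj ((cst X).obj B'),
      ρ ≫ (sheafCompose X.smallEtaleTopology (forget AddCommGrpCat.{u + 1})).map
        ((cst X).map p) = 𝟙 _ := by
  let Fg := forget AddCommGrpCat.{u + 1}
  let κ := constantCommuteCompose X.smallEtaleTopology Fg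
  let σ : Fg.obj C' ⟶ Fg.obj B' := TypeCat.ofHom (Function.surjInv hp)
  have hσ : σ ≫ Fg.map p = 𝟙 _ := by
    ext c
    exact Function.surjInv_eq hp c
  refine ⟨κ.hom.app C' ≫ (constantSheaf X.smallEtaleTopology (Type (u + 1))).map σ ≫
    κ.inv.app B', ?_⟩
  have hnat := κ.inv.naturality p
  simp only [Functor.comp_map] at hnat
  rw [Category.assoc, Category.assoc, ← hnat,
    ← Category.assoc ((constantSheaf X.smallEtaleTopology (Type (u + 1))).map σ),
    ← Functor.map_comp, hσ, CategoryTheory.Functor.map_id, Category.id_comp]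
  exact κ.hom_inv_id_app C'

/-- Sections of constant sheaves lift along surjections. -/
lemma exists_lift_app {B' C' : AddCommGrpCat.{u + 1}} (p : B' ⟶ C')
    (hp : Function.Surjective p) (V : X.Etaleᵒᵖ) (c : ((cst X).obj C').obj.obj V) :
    ∃ b : ((cst X).obj B').obj.obj V, ((cst X).map p).hom.app V b = c := by
  obtain ⟨ρ, hρ⟩ := exists_set_section X p hp
  refine ⟨ρ.hom.app V c, ?_⟩
  have h1 := congrArg (fun φ => φ.hom.app V) hρ
  exact congrArg (fun φ => φ c) h1

/-- Morphisms from `ℤ` to constant sheaves lift along surjections. -/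
lemma exists_lift_hom {B' C' : AddCommGrpCat.{u + 1}} (p : B' ⟶ C')
    (hp : Function.Surjective p) (y : EtCoh.const X ℤ ⟶ (cst X).obj C') :
    ∃ z : EtCoh.const X ℤ ⟶ (cst X).obj B', z ≫ (cst X).map p = y := by
  obtain ⟨b, hb⟩ := exists_lift_app X p hp (op (EtCoh.top X)) (EtGsecPull.ev X _ y)
  refine ⟨(EtGsecPull.ev X _).symm b, (EtGsecPull.ev X _).injective ?_⟩
  rw [EtGsecPull.ev_comp, AddEquiv.apply_symm_apply]
  exact hb

/-- `H¹(X, A) → H¹(X, B)` is injective for an injection `A ↪ B` of abelian groups. -/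
theorem eq_zero_of_comp_mono {A' B' : AddCommGrpCat.{u + 1}} (f : A' ⟶ B') [Mono f]
    (x : Ext (EtCoh.const X ℤ) ((cst X).obj A') 1)
    (hx : x.comp (Ext.mk₀ ((cst X).map f)) (add_zero 1) = 0) : x = 0 := by
  let S : ShortComplex AddCommGrpCat.{u + 1} :=
    ShortComplex.mk f (cokernel.π f) (cokernel.condition f)
  have hS : S.ShortExact :=
    ShortComplex.ShortExact.mk' (ShortComplex.exact_cokernel f) inferInstance inferInstance
  let S' : ShortComplex (EtCoh.Ab X) :=
    ShortComplex.mk ((cst X).map f) ((cst X).map (cokernel.π f)) (by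
      rw [← Functor.map_comp, cokernel.condition, Functor.map_zero])
  have hS' : S'.ShortExact := hS.map_of_exact (cst X)
  have hsurj : Function.Surjective (cokernel.π f) :=
    (AddCommGrpCat.epi_iff_surjective _).1 inferInstance
  obtain ⟨x₃, hx₃⟩ := Ext.covariant_sequence_exact₁ (EtCoh.const X ℤ) hS' x hx (zero_add 1)
  obtain ⟨y, rfl⟩ := (Ext.mk₀_bijective _ _).2 x₃
  obtain ⟨z, rfl⟩ := exists_lift_hom X (cokernel.π f) hsurj y
  have h2 : (Ext.mk₀ S'.g).comp hS'.extClass (zero_add 1) = 0 := hS'.comp_extClass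
  rw [← hx₃]
  change (Ext.mk₀ (z ≫ S'.g)).comp hS'.extClass (zero_add 1) = 0
  rw [← Ext.mk₀_comp_mk₀, Ext.comp_assoc_of_second_deg_zero, h2, Ext.comp_zero]

/-- `H¹(X, M)` is torsion-free when `M` is. -/
theorem eq_zero_of_nsmul (M : Type) [AddCommGroup M] [IsAddTorsionFree M] (n : ℕ) (hn : 0 < n)
    (x : EtCoh.H X (EtCoh.const X M) 1) (hx : n • x = 0) : x = 0 := by
  let f : AddCommGrpCat.of (ULift.{u + 1} M) ⟶ AddCommGrpCat.of (ULift.{u + 1} M) :=
    n • 𝟙 (AddCommGrpCat.of (ULift.{u + 1} M))
  have hf : Mono f := by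
    rw [AddCommGrpCat.mono_iff_injective]
    intro (a : ULift.{u + 1} M) (b : ULift.{u + 1} M) hab
    have h1 : n • a = n • b := hab
    apply ULift.ext
    have h2 : n • a.down = n • b.down := congrArg ULift.down h1
    exact nsmul_right_injective hn.ne' h2
  apply eq_zero_of_comp_mono X f x
  have h1 : (cst X).map f = n • 𝟙 (EtCoh.const X M) := by
    change (cst X).map (n • 𝟙 _) = _
    rw [Functor.map_nsmul, CategoryTheory.Functor.map_id]
  rw [h1, ExtCd.comp_mk₀_nsmul]
  exact hx

/-- `H¹(Spec k, M) = 0` when `M` is torsion-free. -/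
theorem H1_field_eq_zero (k : Type u) [Field k] (M : Type) [AddCommGroup M] [IsAddTorsionFree M]
    (x : EtCoh.H (Spec (CommRingCat.of k)) (EtCoh.const (Spec (CommRingCat.of k)) M) 1) :
    x = 0 := by
  obtain ⟨n, hn, h⟩ := Groth.Agent.S7743.exists_nsmul_eq_zero k _ 0 x
  exact eq_zero_of_nsmul _ M n hn x h

end Groth.Agent.Lib.Helper28.ConstLift
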