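import Mathlib.Algebra.Homology.DerivedCategory.Ext.ExactSequences
import Mathlib.Algebra.Homology.DerivedCategory.Ext.EnoughInjectives
import Mathlib.CategoryTheory.Abelian.Injective.Basic
import Mathlib.Algebra.Category.Grp.Basic

/-!
# Torsion in higher `Ext` groups by dimension shifting

Let `T` be an object of an abelian category with enough injectives and `Γ ≅ Ext⁰(T, -)`. If, for
every short exact sequence `0 → F → I → Q → 0`, every element of `Γ(Q)` has a positive multiple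
which lifts to `Γ(I)`, then all the groups `Ext^i(T, F)`, `i > 0`, are torsion.
-/

namespace Groth.Agent.Lib.Helper28.ExtTors

open CategoryTheory Limits Abelian

universe w v u

variable {𝒜 : Type u} [Category.{v} 𝒜] [Abelian 𝒜] [HasExt.{w} 𝒜]
  (T : 𝒜) (Γ : 𝒜 ⥤ AddCommGrpCat.{w}) (iso : extFunctorObj T 0 ≅ Γ)

/-- Sections of a quotient lift up to torsion. -/
def LiftTors : Prop :=
  ∀ S : ShortComplex 𝒜, S.ShortExact → ∀ q : Γ.obj S.X₃,
    ∃ n : ℕ, 0 < n ∧ ∃ t : Γ.obj S.X₂, Γ.map S.g t = n • q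

include iso in
/-- Morphisms out of `T` into a quotient lift up to torsion. -/
lemma exists_lift_nsmul (h : LiftTors Γ) {S : ShortComplex 𝒜} (hS : S.ShortExact) (x : T ⟶ S.X₃) :
    ∃ n : ℕ, 0 < n ∧ ∃ y : T ⟶ S.X₂, y ≫ S.g = n • x := by
  obtain ⟨n, hn, t, ht⟩ := h S hS (iso.hom.app S.X₃ (Ext.mk₀ x))
  obtain ⟨y, hy⟩ := (Ext.mk₀_bijective T S.X₂).2 (iso.inv.app S.X₂ t)
  refine ⟨n, hn, y, (Ext.mk₀_bijective T S.X₃).1 ?_⟩
  have h1 : (extFunctorObj T 0).map S.g (iso.inv.app S.X₂ t) = iso.inv.app S.X₃ (Γ.map S.g t) :=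
    (ConcreteCategory.congr_hom (iso.inv.naturality S.g) t).symm
  have h2 : iso.inv.app S.X₃ (iso.hom.app S.X₃ (Ext.mk₀ x)) = Ext.mk₀ x :=
    ConcreteCategory.congr_hom (iso.hom_inv_id_app S.X₃) (Ext.mk₀ x)
  have h3 : (extFunctorObj T 0).map S.g (Ext.mk₀ y) = Ext.mk₀ (y ≫ S.g) := by
    change (Ext.mk₀ y).comp (Ext.mk₀ S.g) (add_zero 0) = _
    rw [Ext.mk₀_comp_mk₀]
  have h4 : iso.inv.app S.X₃ (n • iso.hom.app S.X₃ (Ext.mk₀ x)) =
      n • iso.inv.app S.X₃ (iso.hom.app S.X₃ (Ext.mk₀ x)) :=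
    map_nsmul (iso.inv.app S.X₃).hom n _
  have h5 : Ext.mk₀ (n • x) = n • Ext.mk₀ x := map_nsmul (Ext.addEquiv₀ (X := T) (Y := S.X₃)).symm n x
  rw [← h3, hy, h1, ht, h4, h2, h5]
  rfl

variable [EnoughInjectives 𝒜]

include iso in
/-- `Ext^{i+1}(T, F)` is torsion. -/
theorem ext_torsion (h : LiftTors Γ) (i : ℕ) :
    ∀ (F : 𝒜) (x : Ext T F (i + 1)), ∃ n : ℕ, 0 < n ∧ n • x = 0 := by
  induction i with
  | zero =>
    intro F x
    let S : ShortComplex 𝒜 :=
      ShortComplex.mk (Injective.ι F) (cokernel.π (Injective.ι F)) (cokernel.condition _)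
    have hS : S.ShortExact :=
      ShortComplex.ShortExact.mk' (ShortComplex.exact_cokernel _) inferInstance inferInstance
    obtain ⟨x₃, hx₃⟩ := Ext.covariant_sequence_exact₁ T hS x
      (Ext.eq_zero_of_injective _) (zero_add 1)
    obtain ⟨s, rfl⟩ := (Ext.mk₀_bijective _ _).2 x₃
    obtain ⟨n, hn, y, hy⟩ := exists_lift_nsmul T Γ iso h hS s
    refine ⟨n, hn, ?_⟩
    have h5 : Ext.mk₀ (n • s) = n • Ext.mk₀ s := map_nsmul (Ext.addEquiv₀ (X := T) (Y := S.X₃)).symm n s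
    have h6 : n • (Ext.mk₀ s).comp hS.extClass (zero_add 1) =
        (n • Ext.mk₀ s).comp hS.extClass (zero_add 1) :=
      (map_nsmul (hS.extClass.postcomp T (zero_add 1)) n (Ext.mk₀ s)).symm
    rw [← hx₃, h6, ← h5, ← hy, ← Ext.mk₀_comp_mk₀,
      Ext.comp_assoc_of_second_deg_zero, hS.comp_extClass, Ext.comp_zero]
  | succ i ih =>
    intro F x
    let S : ShortComplex 𝒜 :=
      ShortComplex.mk (Injective.ι F) (cokernel.π (Injective.ι F)) (cokernel.condition _)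
    have hS : S.ShortExact :=
      ShortComplex.ShortExact.mk' (ShortComplex.exact_cokernel _) inferInstance inferInstance
    obtain ⟨x₃, hx₃⟩ := Ext.covariant_sequence_exact₁ T hS x
      (Ext.eq_zero_of_injective _) (rfl : (i + 1) + 1 = i + 1 + 1)
    obtain ⟨n, hn, hx⟩ := ih S.X₃ x₃
    refine ⟨n, hn, ?_⟩
    have h6 : n • x₃.comp hS.extClass (rfl : (i + 1) + 1 = i + 1 + 1) =
        (n • x₃).comp hS.extClass (rfl : (i + 1) + 1 = i + 1 + 1) :=
      (map_nsmul (hS.extClass.postcomp T (rfl : (i + 1) + 1 = i + 1 + 1)) n x₃).symm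
    rw [← hx₃, h6, hx, Ext.zero_comp]

end Groth.Agent.Lib.Helper28.ExtTors
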