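import Groth.Agent.S0658
import Groth.Agent.Lib.Helper28.ExtTors
import Groth.Agent.Lib.Helper28.EtColim
import Groth.Prelude.Def_EtCore
import Mathlib.FieldTheory.Galois.Basic
import Mathlib.FieldTheory.Normal.Closure

namespace Groth.Agent.Lib.Helper28.GalTors

open CategoryTheory Limits AlgebraicGeometry Opposite

universe u

variable (k : Type u) [Field k]

/-- The base scheme. -/
noncomputable abbrev X : Scheme.{u} := Spec (CommRingCat.of k)

section Obj

variable (K : Type u) [Field K] [Algebra k K] [FiniteDimensional k K] [Algebra.IsSeparable k K]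

/-- A finite separable extension as an object of the small étale site of `Spec k`. -/
noncomputable def obj : (X k).Etale :=
  haveI := Groth.Agent.S0658.etale_spec_field k K
  Scheme.Etale.mk (Spec.map (CommRingCat.ofHom (algebraMap k K)))

lemma obj_left : (obj k K).left = Spec (CommRingCat.of K) := rfl

lemma obj_hom : (obj k K).hom = Spec.map (CommRingCat.ofHom (algebraMap k K)) := rfl

end Obj

section Hom

variable {k}
variable {K : Type u} [Field K] [Algebra k K] [FiniteDimensional k K] [Algebra.IsSeparable k K]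
  {L : Type u} [Field L] [Algebra k L] [FiniteDimensional k L] [Algebra.IsSeparable k L]
  {M : Type u} [Field M] [Algebra k M] [FiniteDimensional k M] [Algebra.IsSeparable k M]

/-- A `k`-algebra homomorphism `K → L` gives a morphism `Spec L ⟶ Spec K` of the small étale
site. -/
noncomputable def homOf (α : K →ₐ[k] L) : obj k L ⟶ obj k K :=
  MorphismProperty.Over.homMk (Spec.map (CommRingCat.ofHom α.toRingHom)) (by
    change Spec.map (CommRingCat.ofHom α.toRingHom) ≫
      Spec.map (CommRingCat.ofHom (algebraMap k K)) = Spec.map (CommRingCat.ofHom (algebraMap k L))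
    rw [← Spec.map_comp, ← CommRingCat.ofHom_comp]
    congr 2
    exact α.comp_algebraMap)

lemma homOf_left (α : K →ₐ[k] L) : (homOf α).left = Spec.map (CommRingCat.ofHom α.toRingHom) := rfl

lemma homOf_comp (α : K →ₐ[k] L) (β : L →ₐ[k] M) : homOf (β.comp α) = homOf β ≫ homOf α := by
  apply MorphismProperty.Over.Hom.ext
  change Spec.map (CommRingCat.ofHom (β.comp α).toRingHom) =
    Spec.map (CommRingCat.ofHom β.toRingHom) ≫ Spec.map (CommRingCat.ofHom α.toRingHom)
  rw [← Spec.map_comp, ← CommRingCat.ofHom_comp]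
  rfl

/-- Every morphism between such objects comes from a `k`-algebra homomorphism. -/
lemma exists_homOf (m : obj k L ⟶ obj k K) : ∃ α : K →ₐ[k] L, homOf α = m := by
  let φ : CommRingCat.of K ⟶ CommRingCat.of L := Spec.preimage m.left
  have hφ : Spec.map φ = m.left := Spec.map_preimage m.left
  have hw : m.left ≫ (obj k K).hom = (obj k L).hom := CategoryTheory.Over.w m.toCommaMorphism
  have h1 : CommRingCat.ofHom (algebraMap k K) ≫ φ = CommRingCat.ofHom (algebraMap k L) := by
    apply Spec.map_injective
    rw [Spec.map_comp, hφ]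
    exact hw
  refine ⟨{ φ.hom with commutes' := fun r => ?_ }, ?_⟩
  · exact congrArg (fun ψ : CommRingCat.of k ⟶ CommRingCat.of L => ψ.hom r) h1
  · apply MorphismProperty.Over.Hom.ext
    change Spec.map (CommRingCat.ofHom φ.hom) = m.left
    exact hφ

end Hom


section Alg

variable {k}

/-- Every finite separable extension embeds into a finite Galois extension. -/
lemma exists_galois_closure (K' : Type u) [Field K'] [Algebra k K'] [FiniteDimensional k K']
    [Algebra.IsSeparable k K'] :
    ∃ (K : Type u) (_ : Field K) (_ : Algebra k K) (_ : FiniteDimensional k K) (_ : IsGalois k K),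
      Nonempty (K' →ₐ[k] K) := by
  let f : K' →ₐ[k] SeparableClosure k := IsSepClosed.lift
  let : Algebra K' (SeparableClosure k) := f.toRingHom.toAlgebra
  have : IsScalarTower k K' (SeparableClosure k) :=
    IsScalarTower.of_algebraMap_eq (fun x => (f.commutes x).symm)
  exact ⟨IntermediateField.normalClosure k K' (SeparableClosure k), inferInstance, inferInstance,
    inferInstance, IsGalois.normalClosure k K' (SeparableClosure k),
    ⟨IsScalarTower.toAlgHom k K' _⟩⟩

/-- Two embeddings of a normal extension differ by an automorphism. -/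
lemma exists_algEquiv_comp {K : Type u} [Field K] [Algebra k K] [Normal k K]
    {L : Type u} [Field L] [Algebra k L] (α β : K →ₐ[k] L) :
    ∃ g : K ≃ₐ[k] K, β = α.comp (g : K →ₐ[k] K) := by
  let : Algebra K L := α.toRingHom.toAlgebra
  have : IsScalarTower k K L := IsScalarTower.of_algebraMap_eq (fun x => (α.commutes x).symm)
  refine ⟨β.restrictNormal' K, ?_⟩
  ext x
  exact (AlgHom.restrictNormal_commutes β K x).symm

end Alg

section Points

variable {k}

/-- Every point of an object of the small étale site of `Spec k` is the image of a morphism from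
the spectrum of a finite separable extension. -/
lemma exists_point (W : (X k).Etale) (w : W.left) :
    ∃ (L : Type u) (_ : Field L) (_ : Algebra k L) (_ : FiniteDimensional k L)
      (_ : Algebra.IsSeparable k L) (p : obj k L ⟶ W) (y : (obj k L).left), p.left y = w := by
  obtain ⟨L, hL1, hL2, hL3, hL4, ι, -, hr, hι⟩ := Groth.Agent.S0658.local_decomp k W.left W.hom w
  refine ⟨L, hL1, hL2, hL3, hL4, MorphismProperty.Over.homMk ι hι, ?_⟩
  have hw : w ∈ Set.range ι.base := by rw [hr]; rfl
  obtain ⟨y, hy⟩ := hw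
  exact ⟨y, hy⟩

/-- Sections of an étale sheaf on `Spec k` are determined by their values at points. -/
lemma eq_of_points (F : EtCoh.Ab (X k)) (W : (X k).Etale) (s s' : F.obj.obj (op W))
    (h : ∀ (L : Type u) [Field L] [Algebra k L] [FiniteDimensional k L]
      [Algebra.IsSeparable k L] (p : obj k L ⟶ W), F.obj.map p.op s = F.obj.map p.op s') :
    s = s' := by
  let T : Sieve W :=
    { arrows := fun W' f => F.obj.map f.op s = F.obj.map f.op s'
      downward_closed := by
        intro W' W'' f hf g
        rw [op_comp, Functor.map_comp, ConcreteCategory.comp_apply, ConcreteCategory.comp_apply]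
        exact congrArg _ hf }
  have hT : T ∈ (X k).smallEtaleTopology W := by
    refine (EtQc.mem_topology_iff W T).2 ?_
    intro w
    obtain ⟨L, hL1, hL2, hL3, hL4, p, y, hy⟩ := exists_point W w
    exact ⟨obj k L, p, y, h L p, hy⟩
  exact (Sheaf.isSeparated F) W T hT _ _ (fun W' f hf => hf)

end Points


section Trace

variable {k}
variable (K : Type u) [Field K] [Algebra k K] [FiniteDimensional k K] [IsGalois k K]

/-- The structure morphism to the terminal object. -/
noncomputable def π : obj k K ⟶ EtCoh.top (X k) := (EtCore.topIsTerminal (X k)).from _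

/-- The action of the Galois group. -/
noncomputable def σ (g : K ≃ₐ[k] K) : obj k K ⟶ obj k K := homOf (g : K →ₐ[k] K)

lemma σ_mul (g h : K ≃ₐ[k] K) : σ K (g * h) = σ K g ≫ σ K h :=
  homOf_comp (h : K →ₐ[k] K) (g : K →ₐ[k] K)

lemma σ_π (g : K ≃ₐ[k] K) : σ K g ≫ π K = π K := (EtCore.topIsTerminal (X k)).hom_ext _ _

lemma π_mem : Sieve.ofArrows (fun _ : PUnit.{1} => obj k K) (fun _ => π K) ∈
    (X k).smallEtaleTopology (EtCoh.top (X k)) := by
  refine (EtQc.mem_topology_iff _ _).2 ?_
  intro w
  let y : (obj k K).left := (⊥ : PrimeSpectrum K)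
  refine ⟨obj k K, π K, y, Sieve.ofArrows_mk _ _ PUnit.unit, ?_⟩
  have : Subsingleton (PrimeSpectrum k) := inferInstance
  exact Subsingleton.elim (α := PrimeSpectrum k) _ _

variable (F : EtCoh.Ab (X k))

/-- The trace of a section over `Spec K`. -/
noncomputable def tr (s : F.obj.obj (op (obj k K))) : F.obj.obj (op (obj k K)) :=
  ∑ g : K ≃ₐ[k] K, F.obj.map (σ K g).op s

lemma map_σ_tr (h : K ≃ₐ[k] K) (s : F.obj.obj (op (obj k K))) :
    F.obj.map (σ K h).op (tr K F s) = tr K F s := by
  unfold tr
  rw [map_sum]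
  have h1 : ∀ g : K ≃ₐ[k] K, F.obj.map (σ K h).op (F.obj.map (σ K g).op s) =
      F.obj.map (σ K (h * g)).op s := by
    intro g
    rw [σ_mul, op_comp, Functor.map_comp, ConcreteCategory.comp_apply]
  simp_rw [h1]
  exact Equiv.sum_comp (Equiv.mulLeft h) (fun g => F.obj.map (σ K g).op s)

/-- Restriction to `Spec K` is injective on global sections. -/
lemma map_π_injective : Function.Injective (F.obj.map (π K).op) := by
  intro a b hab
  refine (Sheaf.isSeparated F) _ _ (π_mem K) a b ?_
  rintro W f ⟨Y, g, _, ⟨_⟩, rfl⟩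
  rw [op_comp, Functor.map_comp, ConcreteCategory.comp_apply, ConcreteCategory.comp_apply]
  exact congrArg _ hab

/-- Galois descent: invariant sections over `Spec K` come from global sections. -/
lemma exists_descent (t' : F.obj.obj (op (obj k K)))
    (ht' : ∀ g : K ≃ₐ[k] K, F.obj.map (σ K g).op t' = t') :
    ∃ t : F.obj.obj (op (EtCoh.top (X k))), F.obj.map (π K).op t = t' := by
  have h1 : Presieve.IsSheaf (X k).smallEtaleTopology (F.obj ⋙ forget AddCommGrpCat.{u + 1}) :=
    (isSheaf_iff_isSheaf_of_type _ _).1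
      (GrothendieckTopology.HasSheafCompose.isSheaf F.obj F.property)
  have h2 : Presieve.IsSheafFor (F.obj ⋙ forget AddCommGrpCat.{u + 1})
      (Presieve.ofArrows (fun _ : PUnit.{1} => obj k K) (fun _ => π K)) :=
    (Presieve.isSheafFor_iff_generate _).2 (h1 _ (π_mem K))
  have hc : Presieve.Arrows.Compatible (F.obj ⋙ forget AddCommGrpCat.{u + 1})
      (fun _ : PUnit.{1} => π K) (fun _ => t') := by
    intro _ _ Z a b _
    change F.obj.map a.op t' = F.obj.map b.op t'
    refine eq_of_points F Z _ _ ?_
    intro L _ _ _ _ p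
    obtain ⟨α, hα⟩ := exists_homOf (p ≫ a)
    obtain ⟨β, hβ⟩ := exists_homOf (p ≫ b)
    obtain ⟨g, hg⟩ := exists_algEquiv_comp α β
    have h3 : p ≫ b = (p ≫ a) ≫ σ K g := by
      rw [← hα, ← hβ, hg]
      exact homOf_comp (g : K →ₐ[k] K) α
    have e1 : F.obj.map p.op (F.obj.map a.op t') = F.obj.map (p ≫ a).op t' := by
      rw [op_comp, Functor.map_comp, ConcreteCategory.comp_apply]
    have e2 : F.obj.map p.op (F.obj.map b.op t') = F.obj.map (p ≫ b).op t' := by
      rw [op_comp, Functor.map_comp, ConcreteCategory.comp_apply]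
    have e3 : F.obj.map ((p ≫ a) ≫ σ K g).op t' = F.obj.map (p ≫ a).op t' := by
      rw [op_comp, Functor.map_comp, ConcreteCategory.comp_apply, ht' g]
    rw [e1, e2, h3, e3]
  obtain ⟨t, ht, -⟩ := (Presieve.isSheafFor_arrows_iff (F.obj ⋙ forget AddCommGrpCat.{u + 1})
    (fun _ : PUnit.{1} => π K)).1 h2 (fun _ => t') hc
  exact ⟨t, ht PUnit.unit⟩

end Trace


section Main

/-- The global sections functor. -/
noncomputable abbrev Γ : EtCoh.Ab (X k) ⥤ AddCommGrpCat.{u + 1} :=
  sheafToPresheaf (X k).smallEtaleTopology AddCommGrpCat.{u + 1} ⋙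
    (evaluation (X k).Etaleᵒᵖ AddCommGrpCat.{u + 1}).obj (op (EtCoh.top (X k)))

/-- Global sections of a quotient lift up to torsion. -/
theorem liftTors : ExtTors.LiftTors (Γ k) := by
  intro S hS q
  have := hS.epi_g
  have hls : Sheaf.IsLocallySurjective S.g :=
    (Sheaf.isLocallySurjective_iff_epi' _ S.g).2 inferInstance
  have hR := Presheaf.imageSieve_mem (X k).smallEtaleTopology S.g.hom q
  obtain ⟨Y, f, y, hf, -⟩ := (EtQc.mem_topology_iff _ _).1 hR (⊥ : PrimeSpectrum k)
  obtain ⟨L, _, _, _, _, p, -, -⟩ := exists_point Y y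
  obtain ⟨K, _, _, _, _, ⟨e⟩⟩ := exists_galois_closure (k := k) L
  have hmem : (Presheaf.imageSieve S.g.hom q).arrows (π K) := by
    have h1 : π K = (homOf e ≫ p) ≫ f := (EtCore.topIsTerminal (X k)).hom_ext _ _
    rw [h1]
    exact (Presheaf.imageSieve S.g.hom q).downward_closed hf _
  obtain ⟨s, hs⟩ := hmem
  obtain ⟨t, ht⟩ := exists_descent K S.X₂ (tr K S.X₂ s) (fun g => map_σ_tr K S.X₂ g s)
  refine ⟨Fintype.card (K ≃ₐ[k] K), Fintype.card_pos, t, ?_⟩
  apply map_π_injective K S.X₃
  change S.X₃.obj.map (π K).op (S.g.hom.app (op (EtCoh.top (X k))) t) =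
    S.X₃.obj.map (π K).op (Fintype.card (K ≃ₐ[k] K) • q)
  have n1 : S.X₃.obj.map (π K).op (S.g.hom.app (op (EtCoh.top (X k))) t) =
      S.g.hom.app (op (obj k K)) (S.X₂.obj.map (π K).op t) :=
    (NatTrans.naturality_apply S.g.hom (π K).op t).symm
  have n2 : ∀ g : K ≃ₐ[k] K, S.g.hom.app (op (obj k K)) (S.X₂.obj.map (σ K g).op s) =
      S.X₃.obj.map (π K).op q := by
    intro g
    rw [NatTrans.naturality_apply S.g.hom (σ K g).op s, hs, ← ConcreteCategory.comp_apply,
      ← Functor.map_comp, ← op_comp, σ_π]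
  rw [n1, ht, map_nsmul]
  unfold tr
  rw [map_sum]
  simp_rw [n2]
  rw [Finset.sum_const, Finset.card_univ]

end Main

end Groth.Agent.Lib.Helper28.GalTors
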