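import Groth.Agent.Lib.Helper28.ExtCd
import Groth.Agent.S7743
import Mathlib

/-!
# `H^i(Spec k, ℤ) ≃ H^{i-1}(Spec k, ℚ/ℤ)` for `i ≥ 2`

* `ExtUD.eq_zero_of_nsmul_iso` : a torsion class with values in a uniquely divisible object is `0`.
* `ExtUD.deltaEquiv` : the connecting map of a short exact sequence is an isomorphism when the
  middle term is acyclic in the two relevant degrees.
* `ConstQ.shortExact` : the short exact sequence `0 → ℤ → ℚ → ℚ/ℤ → 0` of constant étale sheaves.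
-/

set_option autoImplicit false
universe w v u
open CategoryTheory Limits Abelian AlgebraicGeometry Opposite

namespace Groth.Agent.Lib.Helper28

namespace ExtUD

variable {𝒜 : Type u} [Category.{v} 𝒜] [Abelian 𝒜] [HasExt.{w} 𝒜] (T : 𝒜)

/-- A class killed by `n` with values in an object on which `n` is invertible vanishes. -/
lemma eq_zero_of_nsmul_iso {G : 𝒜} (n : ℕ) [IsIso (n • 𝟙 G)] {i : ℕ} (x : Ext T G i)
    (hx : n • x = 0) : x = 0 := by
  have h1 : x.comp (Ext.mk₀ (n • 𝟙 G)) (add_zero i) = 0 := by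
    rw [ExtCd.comp_mk₀_nsmul]; exact hx
  have h2 : (x.comp (Ext.mk₀ (n • 𝟙 G)) (add_zero i)).comp (Ext.mk₀ (inv (n • 𝟙 G)))
      (add_zero i) = x := by
    rw [Ext.comp_assoc_of_third_deg_zero, Ext.mk₀_comp_mk₀, IsIso.hom_inv_id, Ext.comp_mk₀_id]
  rw [← h2, h1, Ext.zero_comp]

/-- The connecting map is bijective when the middle term has no `Ext` in degrees `i`, `i + 1`. -/
lemma delta_bijective {S : ShortComplex 𝒜} (hS : S.ShortExact) (i : ℕ)
    (h₀ : ∀ y : Ext T S.X₂ i, y = 0) (h₁ : ∀ y : Ext T S.X₂ (i + 1), y = 0) :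
    Function.Bijective (hS.extClass.postcomp T (rfl : i + 1 = i + 1)) := by
  constructor
  · rw [injective_iff_map_eq_zero]
    intro x hx
    obtain ⟨y, hy⟩ := Ext.covariant_sequence_exact₃ T hS x rfl hx
    rw [← hy, h₀ y, Ext.zero_comp]
  · intro z
    obtain ⟨x, hx⟩ := Ext.covariant_sequence_exact₁ T hS z (h₁ _) rfl
    exact ⟨x, hx⟩

/-- The connecting isomorphism. -/
noncomputable def deltaEquiv {S : ShortComplex 𝒜} (hS : S.ShortExact) (i : ℕ)
    (h₀ : ∀ y : Ext T S.X₂ i, y = 0) (h₁ : ∀ y : Ext T S.X₂ (i + 1), y = 0) :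
    Ext T S.X₃ i ≃+ Ext T S.X₁ (i + 1) :=
  AddEquiv.ofBijective (hS.extClass.postcomp T (rfl : i + 1 = i + 1))
    (delta_bijective T hS i h₀ h₁)

end ExtUD

namespace ConstQ

instance (X : Scheme.{u}) :
    PreservesFiniteLimits (constantSheaf X.smallEtaleTopology AddCommGrpCat.{u + 1}) := by
  unfold constantSheaf; infer_instance
instance (X : Scheme.{u}) :
    PreservesFiniteColimits (constantSheaf X.smallEtaleTopology AddCommGrpCat.{u + 1}) := by
  unfold constantSheaf; infer_instance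
instance (X : Scheme.{u}) :
    (constantSheaf X.smallEtaleTopology AddCommGrpCat.{u + 1}).Additive :=
  Functor.additive_of_preserves_binary_products _

/-- `ℚ/ℤ`. -/
abbrev QZ : Type := ℚ ⧸ AddSubgroup.zmultiples (1 : ℚ)

/-- `ℤ → ℚ` on `ULift`s. -/
def fZ : ULift.{w} ℤ →+ ULift.{w} ℚ :=
  (AddEquiv.ulift.symm.toAddMonoidHom.comp (Int.castAddHom ℚ)).comp AddEquiv.ulift.toAddMonoidHom

/-- `ℚ → ℚ/ℤ` on `ULift`s. -/
def gQ : ULift.{w} ℚ →+ ULift.{w} QZ :=
  (AddEquiv.ulift.symm.toAddMonoidHom.comp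
    (QuotientAddGroup.mk' (AddSubgroup.zmultiples (1 : ℚ)))).comp AddEquiv.ulift.toAddMonoidHom

lemma fZ_apply (a : ULift.{w} ℤ) : fZ a = ULift.up (a.down : ℚ) := rfl

lemma gQ_apply (a : ULift.{w} ℚ) : gQ a = ULift.up (QuotientAddGroup.mk a.down) := rfl

/-- `ℤ → ℚ` in `AddCommGrpCat`. -/
noncomputable def fAb : AddCommGrpCat.of (ULift.{w} ℤ) ⟶ AddCommGrpCat.of (ULift.{w} ℚ) :=
  AddCommGrpCat.ofHom fZ

/-- `ℚ → ℚ/ℤ` in `AddCommGrpCat`. -/
noncomputable def gAb : AddCommGrpCat.of (ULift.{w} ℚ) ⟶ AddCommGrpCat.of (ULift.{w} QZ) :=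
  AddCommGrpCat.ofHom gQ

lemma fAb_gAb : fAb.{w} ≫ gAb.{w} = 0 := by
  apply AddCommGrpCat.hom_ext
  apply AddMonoidHom.ext
  intro a
  change gQ (fZ a) = 0
  rw [fZ_apply, gQ_apply]
  refine congrArg ULift.up ?_
  rw [QuotientAddGroup.eq_zero_iff]
  exact ⟨a.down, by simp⟩

/-- The short complex `ℤ → ℚ → ℚ/ℤ` of abelian groups. -/
noncomputable def SAb : ShortComplex AddCommGrpCat.{w} :=
  ShortComplex.mk fAb.{w} gAb.{w} fAb_gAb

lemma SAb_shortExact : (SAb.{w}).ShortExact := by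
  refine ShortComplex.ShortExact.mk' ?_ ?_ ?_
  · rw [ShortComplex.ab_exact_iff]
    intro (x : ULift.{w} ℚ) hx
    have h1 : gQ x = 0 := hx
    rw [gQ_apply] at h1
    have h2 : (QuotientAddGroup.mk x.down : QZ) = 0 := congrArg ULift.down h1
    rw [QuotientAddGroup.eq_zero_iff] at h2
    obtain ⟨m, hm⟩ := h2
    refine ⟨(ULift.up m : ULift.{w} ℤ), ?_⟩
    change fZ (ULift.up m) = x
    rw [fZ_apply]
    apply ULift.ext
    simpa using hm
  · change Mono fAb.{w}
    rw [AddCommGrpCat.mono_iff_injective]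
    intro (a : ULift.{w} ℤ) (b : ULift.{w} ℤ) hab
    have h1 : fZ a = fZ b := hab
    rw [fZ_apply, fZ_apply] at h1
    apply ULift.ext
    exact_mod_cast congrArg ULift.down h1
  · change Epi gAb.{w}
    rw [AddCommGrpCat.epi_iff_surjective]
    intro (y : ULift.{w} QZ)
    obtain ⟨q, hq⟩ := QuotientAddGroup.mk_surjective y.down
    refine ⟨(ULift.up q : ULift.{w} ℚ), ?_⟩
    change gQ (ULift.up q) = y
    rw [gQ_apply]
    apply ULift.ext
    exact hq

/-- Multiplication by `n > 0` is an isomorphism of `ULift ℚ`. -/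
lemma isIso_nsmul_Q (n : ℕ) (hn : 0 < n) :
    IsIso (n • 𝟙 (AddCommGrpCat.of (ULift.{w} ℚ))) := by
  rw [ConcreteCategory.isIso_iff_bijective]
  have hn' : (n : ℚ) ≠ 0 := by exact_mod_cast hn.ne'
  have key : ∀ a : ULift.{w} ℚ,
      (n • 𝟙 (AddCommGrpCat.of (ULift.{w} ℚ)) : _ ⟶ _) a = ULift.up ((n : ℚ) * a.down) := by
    intro a
    change n • a = _
    apply ULift.ext
    simp [nsmul_eq_mul]
  constructor
  · intro a b hab
    have h1 := (key a).symm.trans (hab.trans (key b))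
    apply ULift.ext
    exact mul_left_cancel₀ hn' (congrArg ULift.down h1)
  · intro b
    refine ⟨ULift.up (b.down / n), (key _).trans ?_⟩
    apply ULift.ext
    change (n : ℚ) * (b.down / n) = b.down
    field_simp

variable (X : Scheme.{u})

/-- The short complex `ℤ → ℚ → ℚ/ℤ` of constant étale sheaves. -/
noncomputable def S : ShortComplex (EtCoh.Ab X) :=
  ShortComplex.mk (X₁ := EtCoh.const X ℤ) (X₂ := EtCoh.const X ℚ) (X₃ := EtCoh.const X QZ)
    ((constantSheaf X.smallEtaleTopology AddCommGrpCat.{u + 1}).map fAb.{u + 1})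
    ((constantSheaf X.smallEtaleTopology AddCommGrpCat.{u + 1}).map gAb.{u + 1}) (by
      rw [← Functor.map_comp, fAb_gAb, Functor.map_zero])

lemma shortExact : (S X).ShortExact :=
  (SAb_shortExact.{u + 1}).map_of_exact (constantSheaf X.smallEtaleTopology AddCommGrpCat.{u + 1})

lemma isIso_nsmul_constQ (n : ℕ) (hn : 0 < n) : IsIso (n • 𝟙 (EtCoh.const X ℚ)) := by
  have h1 : n • 𝟙 (EtCoh.const X ℚ) =
      (constantSheaf X.smallEtaleTopology AddCommGrpCat.{u + 1}).map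
        (n • 𝟙 (AddCommGrpCat.of (ULift.{u + 1} ℚ))) := by
    rw [Functor.map_nsmul, CategoryTheory.Functor.map_id]
  rw [h1]
  have := isIso_nsmul_Q.{u + 1} n hn
  infer_instance

end ConstQ

end Groth.Agent.Lib.Helper28
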