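import Groth.Agent.S0099
import Mathlib

/-!
# Étale cohomology of a coproduct of sheaves with vanishing cohomology

On a quasi-compact quasi-separated scheme, if `H^q(X, f a) = 0` for all `a`, then
`H^q(X, ∐ f) = 0`.
-/

set_option autoImplicit false
open CategoryTheory CategoryTheory.Limits AlgebraicGeometry Opposite
universe u

namespace Groth.Agent.Lib.Helper28.CoprodH

variable (X : Scheme.{u}) [CompactSpace X] [QuasiSeparatedSpace X]

instance (q : ℕ) : (EtCoh.HF X q).Additive := by
  unfold EtCoh.HF
  infer_instance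

/-- Finite coproducts of sheaves with vanishing cohomology have vanishing cohomology. -/
lemma isZero_HF_finite {β : Type u} [Finite β] (g : β → EtCoh.Ab X) (q : ℕ)
    (hg : ∀ b, IsZero ((EtCoh.HF X q).obj (g b))) : IsZero ((EtCoh.HF X q).obj (∐ g)) := by
  have hp1 : PreservesFiniteCoproducts (EtCoh.HF X q) := inferInstance
  have hp2 : PreservesColimitsOfShape (Discrete β) (EtCoh.HF X q) := inferInstance
  have h1 : IsZero (∐ fun b => (EtCoh.HF X q).obj (g b)) := by
    rw [IsZero.iff_id_eq_zero]
    apply Sigma.hom_ext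
    intro b
    exact (hg b).eq_of_src _ _
  exact h1.of_iso (PreservesCoproduct.iso (EtCoh.HF X q) g)

/-- Coproducts (indexed by a type in the universe of the scheme) of sheaves with vanishing
cohomology have vanishing cohomology. -/
theorem isZero_HF_cofan {α : Type u} (f : α → EtCoh.Ab X) (q : ℕ)
    (hf : ∀ a, IsZero ((EtCoh.HF X q).obj (f a))) (c : Cofan f) (hc : IsColimit c) :
    IsZero ((EtCoh.HF X q).obj c.pt) := by
  have : HasCoproduct f := ⟨⟨⟨c, hc⟩⟩⟩
  let e : c.pt ≅ ∐ f := hc.coconePointUniqueUpToIso (colimit.isColimit _)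
  refine IsZero.of_iso ?_ ((EtCoh.HF X q).mapIso e)
  have hcol := CoproductsFromFiniteFiltered.isColimitFiniteSubproductsCocone f
  have := Groth.Agent.S0099.result X q (Finset (Discrete α))
  have hG := isColimitOfPreserves (EtCoh.HF X q) hcol
  rw [IsZero.iff_id_eq_zero]
  apply hG.hom_ext
  intro S
  have hz : IsZero ((EtCoh.HF X q).obj
      ((CoproductsFromFiniteFiltered.liftToFinsetObj (Discrete.functor f)).obj S)) :=
    isZero_HF_finite X (fun x : S => (Discrete.functor f).obj x) q (fun b => hf _)
  exact hz.eq_of_src _ _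

end Groth.Agent.Lib.Helper28.CoprodH
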