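import Groth.Agent.Lib.Helper28.ExtDelta
import Mathlib.CategoryTheory.Abelian.FunctorCategory
import Mathlib.Algebra.Homology.ShortComplex.ExactFunctor
import Mathlib.Algebra.Homology.ShortComplex.PreservesHomology
import Mathlib.Algebra.Homology.DerivedCategory.Ext.EnoughInjectives

/-!
# `U ↦ Ext^•(Φ U, -)` as a δ-functor with values in presheaves

Abstract setting: `𝒜` an abelian category with `Ext`, `Φ : C ⥤ 𝒜` any functor.  For the free
abelian sheaf functor `Φ` this is the δ-functor of cohomology presheaves `U ↦ H^n(U, -)`.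
-/

namespace Groth.Agent.Lib.Helper28.ExtPsh

open CategoryTheory Limits Abelian Opposite

universe w v u v₁ u₁

lemma exact_of_evaluation {D : Type*} [Category D] {M : Type*} [Category M] [Abelian M]
    (S : ShortComplex (D ⥤ M)) (h : ∀ d, (S.map ((evaluation D M).obj d)).Exact) : S.Exact := by
  rw [ShortComplex.exact_iff_isZero_homology]
  apply Functor.isZero
  intro d
  have h' := h d
  rw [ShortComplex.exact_iff_isZero_homology] at h'
  exact h'.of_iso (S.mapHomologyIso ((evaluation D M).obj d)).symm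

variable {𝒜 : Type u} [Category.{v} 𝒜] [Abelian 𝒜] [HasExt.{w} 𝒜]
  {C : Type u₁} [Category.{v₁} C] (Φ : C ⥤ 𝒜)

/-- The bifunctor `G ↦ (U ↦ Ext^n(Φ U, G))`. -/
noncomputable def extPsh (n : ℕ) : 𝒜 ⥤ Cᵒᵖ ⥤ AddCommGrpCat.{w} :=
  Functor.flip (Functor.op Φ ⋙ extFunctor n)

lemma extPsh_obj_obj (n : ℕ) (G : 𝒜) (U : Cᵒᵖ) :
    ((extPsh Φ n).obj G).obj U = (extFunctorObj (Φ.obj U.unop) n).obj G := rfl

lemma extPsh_map_app (n : ℕ) {G G' : 𝒜} (φ : G ⟶ G') (U : Cᵒᵖ) :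
    ((extPsh Φ n).map φ).app U = (extFunctorObj (Φ.obj U.unop) n).map φ := rfl

lemma extPsh_flip_obj (n : ℕ) (U : Cᵒᵖ) :
    (extPsh Φ n).flip.obj U = extFunctorObj (Φ.obj U.unop) n := rfl

instance additive_extPsh (n : ℕ) : (extPsh.{w} Φ n).Additive where
  map_add {G G' f g} := by
    ext U : 2
    rw [NatTrans.app_add, extPsh_map_app, extPsh_map_app, extPsh_map_app, Functor.map_add]
    rfl

/-- The connecting homomorphism of the presheaves `U ↦ Ext^n(Φ U, -)`. -/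
noncomputable def δ (S : ShortComplex 𝒜) (hS : S.ShortExact) (n₀ n₁ : ℕ) (h : n₀ + 1 = n₁) :
    (extPsh.{w} Φ n₀).obj S.X₃ ⟶ (extPsh.{w} Φ n₁).obj S.X₁ where
  app U := (ExtDelta.extDelta (Φ.obj U.unop)).δ S hS n₀ n₁ h
  naturality {U V} f := by
    refine AddCommGrpCat.hom_ext (AddMonoidHom.ext
      (fun (x : Ext (Φ.obj U.unop) S.X₃ n₀) => ?_))
    change ((Ext.mk₀ (Φ.map f.unop)).comp x (zero_add n₀)).comp hS.extClass h =
      (Ext.mk₀ (Φ.map f.unop)).comp (x.comp hS.extClass h) (zero_add n₁)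
    exact Ext.comp_assoc _ _ _ (zero_add n₀) h (by omega)

lemma δ_app (S : ShortComplex 𝒜) (hS : S.ShortExact) (n₀ n₁ : ℕ) (h : n₀ + 1 = n₁) (U : Cᵒᵖ) :
    (δ Φ S hS n₀ n₁ h).app U = (ExtDelta.extDelta (Φ.obj U.unop)).δ S hS n₀ n₁ h :=
  rfl

/-- The presheaves `U ↦ Ext^n(Φ U, -)` as a δ-functor with values in presheaves. -/
noncomputable def extPshDelta :
    DeltaF.CohDeltaFunctor 𝒜 (Cᵒᵖ ⥤ AddCommGrpCat.{w}) ℕ where
  F n := extPsh.{w} Φ n
  additive n := inferInstance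
  δ S hS n₀ n₁ h := δ Φ S hS n₀ n₁ h
  δ_natural {S S'} hS hS' φ n₀ n₁ h := by
    ext U : 2
    exact (ExtDelta.extDelta (Φ.obj U.unop)).δ_natural hS hS' φ n₀ n₁ h
  exact₂ S hS n := exact_of_evaluation _ (fun U =>
    (ExtDelta.extDelta (Φ.obj U.unop)).exact₂ S hS n)
  comp_δ S hS n₀ n₁ h := by
    ext U : 2
    exact (ExtDelta.extDelta (Φ.obj U.unop)).comp_δ S hS n₀ n₁ h
  exact₃ S hS n₀ n₁ h := exact_of_evaluation _ (fun U =>
    (ExtDelta.extDelta (Φ.obj U.unop)).exact₃ S hS n₀ n₁ h)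
  δ_comp S hS n₀ n₁ h := by
    ext U : 2
    exact (ExtDelta.extDelta (Φ.obj U.unop)).δ_comp S hS n₀ n₁ h
  exact₁ S hS n₀ n₁ h := exact_of_evaluation _ (fun U =>
    (ExtDelta.extDelta (Φ.obj U.unop)).exact₁ S hS n₀ n₁ h)

lemma extPshDelta_F (n : ℕ) : (extPshDelta.{w} Φ).F n = extPsh.{w} Φ n := rfl

lemma extPshDelta_δ (S : ShortComplex 𝒜) (hS : S.ShortExact) (n₀ n₁ : ℕ) (h : n₀ + 1 = n₁) :
    (extPshDelta.{w} Φ).δ S hS n₀ n₁ h = δ Φ S hS n₀ n₁ h := rfl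

/-- The δ-functor `extPshDelta` is effaceable (when `𝒜` has enough injectives). -/
lemma isEffaceable_extPshDelta [EnoughInjectives 𝒜] : (extPshDelta.{w} Φ).IsEffaceable := by
  intro n X
  refine ⟨Injective.under X, Injective.ι X, inferInstance, ?_⟩
  ext U : 2
  refine AddCommGrpCat.hom_ext (AddMonoidHom.ext
    (fun (x : Ext (Φ.obj U.unop) X (n + 1)) => ?_))
  exact Ext.eq_zero_of_injective _

end Groth.Agent.Lib.Helper28.ExtPsh

namespace Groth.Agent.Lib.Helper28.ExtPsh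

open CategoryTheory Limits Abelian Opposite

universe w v u v₁ u₁

variable {𝒜 : Type u} [Category.{v} 𝒜] [Abelian 𝒜] [HasExt.{w} 𝒜]
  {C : Type u₁} [Category.{v₁} C] (Φ : C ⥤ 𝒜)

/-- Evaluating `extPsh Φ n` at `U` gives `Ext^n(Φ U, -)`. -/
noncomputable def evalIso (n : ℕ) (U : Cᵒᵖ) :
    extPsh.{w} Φ n ⋙ (evaluation Cᵒᵖ AddCommGrpCat.{w}).obj U ≅ extFunctorObj (Φ.obj U.unop) n :=
  NatIso.ofComponents (fun _ => Iso.refl _) (fun {G G'} φ => by
    change ((extPsh.{w} Φ n).map φ).app U ≫ 𝟙 _ = 𝟙 _ ≫ (extFunctorObj (Φ.obj U.unop) n).map φ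
    rw [Category.comp_id, Category.id_comp, extPsh_map_app])

/-- The functor `G ↦ Ext^n(Φ U, G)` as `(extPsh Φ n).flip.obj U`. -/
noncomputable def flipIso (n : ℕ) (U : Cᵒᵖ) :
    (extPsh.{w} Φ n).flip.obj U ≅ extFunctorObj (Φ.obj U.unop) n :=
  NatIso.ofComponents (fun _ => Iso.refl _) (fun {G G'} φ => by
    change ((extPsh.{w} Φ n).map φ).app U ≫ 𝟙 _ = 𝟙 _ ≫ (extFunctorObj (Φ.obj U.unop) n).map φ
    rw [Category.comp_id, Category.id_comp, extPsh_map_app])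

end Groth.Agent.Lib.Helper28.ExtPsh
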