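import Groth.Agent.Lib.Helper28.ExtDelta
import Groth.Agent.Lib.Helper28.DeltaOps
import Groth.Agent.Lib.Helper28.ExtPsh

namespace Groth.Agent.Lib.Helper28.DeltaWhisker

open CategoryTheory Limits

universe w

variable {𝒜 : Type*} [Category 𝒜] [Abelian 𝒜] {ℬ : Type*} [Category ℬ] [Abelian ℬ]
  (I : Type w) [Category I] (T : DeltaF.CohDeltaFunctor 𝒜 ℬ ℕ)

instance additive_whiskeringRight (G : 𝒜 ⥤ ℬ) [G.Additive] :
    ((Functor.whiskeringRight I 𝒜 ℬ).obj G).Additive where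
  map_add {F F' f g} := by
    ext i
    simp [Functor.map_add]

/-- Evaluation at `i` of a short exact sequence of functors. -/
lemma shortExact_eval {S : ShortComplex (I ⥤ 𝒜)} (hS : S.ShortExact) (i : I) :
    (S.map ((evaluation I 𝒜).obj i)).ShortExact :=
  hS.map_of_exact _

/-- The connecting morphism of the pointwise δ-functor. -/
noncomputable def δ (S : ShortComplex (I ⥤ 𝒜)) (hS : S.ShortExact) (n₀ n₁ : ℕ) (h : n₀ + 1 = n₁) :
    ((Functor.whiskeringRight I 𝒜 ℬ).obj (T.F n₀)).obj S.X₃ ⟶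
      ((Functor.whiskeringRight I 𝒜 ℬ).obj (T.F n₁)).obj S.X₁ where
  app i := T.δ (S.map ((evaluation I 𝒜).obj i)) (shortExact_eval I hS i) n₀ n₁ h
  naturality {i j} f :=
    T.δ_natural (shortExact_eval I hS i) (shortExact_eval I hS j)
      (S.mapNatTrans ((evaluation I 𝒜).map f)) n₀ n₁ h

lemma δ_app (S : ShortComplex (I ⥤ 𝒜)) (hS : S.ShortExact) (n₀ n₁ : ℕ) (h : n₀ + 1 = n₁) (i : I) :
    (δ I T S hS n₀ n₁ h).app i =
      T.δ (S.map ((evaluation I 𝒜).obj i)) (shortExact_eval I hS i) n₀ n₁ h := rfl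

/-- A δ-functor `T` on `𝒜` induces a δ-functor on `I ⥤ 𝒜` with values in `I ⥤ ℬ`, pointwise. -/
noncomputable def whiskerDelta : DeltaF.CohDeltaFunctor (I ⥤ 𝒜) (I ⥤ ℬ) ℕ where
  F n := (Functor.whiskeringRight I 𝒜 ℬ).obj (T.F n)
  additive n := inferInstance
  δ S hS n₀ n₁ h := δ I T S hS n₀ n₁ h
  δ_natural {S S'} hS hS' φ n₀ n₁ h := by
    ext i
    exact T.δ_natural (shortExact_eval I hS i) (shortExact_eval I hS' i)
      (((evaluation I 𝒜).obj i).mapShortComplex.map φ) n₀ n₁ h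
  exact₂ S hS n := ExtPsh.exact_of_evaluation _ (fun i =>
    T.exact₂ (S.map ((evaluation I 𝒜).obj i)) (shortExact_eval I hS i) n)
  comp_δ S hS n₀ n₁ h := by
    ext i
    exact T.comp_δ (S.map ((evaluation I 𝒜).obj i)) (shortExact_eval I hS i) n₀ n₁ h
  exact₃ S hS n₀ n₁ h := ExtPsh.exact_of_evaluation _ (fun i =>
    T.exact₃ (S.map ((evaluation I 𝒜).obj i)) (shortExact_eval I hS i) n₀ n₁ h)
  δ_comp S hS n₀ n₁ h := by
    ext i
    exact T.δ_comp (S.map ((evaluation I 𝒜).obj i)) (shortExact_eval I hS i) n₀ n₁ h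
  exact₁ S hS n₀ n₁ h := ExtPsh.exact_of_evaluation _ (fun i =>
    T.exact₁ (S.map ((evaluation I 𝒜).obj i)) (shortExact_eval I hS i) n₀ n₁ h)

lemma whiskerDelta_F (n : ℕ) :
    (whiskerDelta I T).F n = (Functor.whiskeringRight I 𝒜 ℬ).obj (T.F n) := rfl

lemma whiskerDelta_δ (S : ShortComplex (I ⥤ 𝒜)) (hS : S.ShortExact) (n₀ n₁ : ℕ)
    (h : n₀ + 1 = n₁) : (whiskerDelta I T).δ S hS n₀ n₁ h = δ I T S hS n₀ n₁ h := rfl

end Groth.Agent.Lib.Helper28.DeltaWhisker
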