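import Groth.Agent.Lib.Helper28.AcycSingle
import Groth.Agent.S6658
import Groth.Agent.S0642

/-!
# Étale depth along an open immersion in terms of restriction maps on cohomology
-/

set_option autoImplicit false
set_option linter.unusedSectionVars false
open CategoryTheory CategoryTheory.Limits AlgebraicGeometry Opposite
universe u

namespace Groth.Agent.Lib.Helper28.DepthHpull
open EtCore Abelian Groth.Agent.Lib.Helper4 Groth.Agent.Lib.Helper28

section Symm
variable {X' X U : Scheme.{u}} (j : U ⟶ X) (g : X' ⟶ X) (G : EtCoh.Ab X') (q : ℕ)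
  [PreservesFiniteLimits (EtCoh.pull (pullback.snd j g))]
  [PreservesFiniteLimits (EtCoh.pull (pullback.fst g j))]

theorem hpull_symm_iff :
    (Function.Bijective (Hpull (pullback.fst g j) G q) ↔
      Function.Bijective (Hpull (pullback.snd j g) G q)) ∧
    (Function.Injective (Hpull (pullback.fst g j) G q) ↔
      Function.Injective (Hpull (pullback.snd j g) G q)) := by
  have := EtStalk.preservesFiniteLimits_pull (pullbackSymmetry g j).hom
  obtain ⟨θ, hθ, h⟩ := HpullComp.Hpull_comp (pullbackSymmetry g j).hom (pullback.snd j g)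
    (pullback.fst g j) (pullbackSymmetry_hom_comp_snd g j) G q
  have hs : Function.Bijective (Hpull (pullbackSymmetry g j).hom
      ((EtCoh.pull (pullback.snd j g)).obj G) q) :=
    Groth.Agent.S0642.result (pullbackSymmetry g j).hom _ q
  have hfun : (Hpull (pullback.fst g j) G q : EtCoh.H X' G q → _) =
      (θ ∘ (Hpull (pullbackSymmetry g j).hom ((EtCoh.pull (pullback.snd j g)).obj G) q)) ∘
        (Hpull (pullback.snd j g) G q) := funext h
  constructor
  · rw [hfun, Function.Bijective.of_comp_iff' (hθ.comp hs)]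
  · rw [hfun, Function.Injective.of_comp_iff (hθ.comp hs).1]

end Symm

section Depth
variable {X U : Scheme.{u}} (j : U ⟶ X) [IsOpenImmersion j] (F : EtCoh.Ab X)

theorem isZero_locCoh_zero_iff :
    IsZero ((EtDual.locCoh j 0).obj F) ↔ Mono (EtDual.unitApp j F) := by
  have := LocCoh.preservesFiniteLimits_secSupp j
  have e : (EtDual.locCoh j 0).obj F ≅ kernel (EtDual.unitApp j F) :=
    (EtDual.secSupp j).rightDerivedZeroIsoSelf.app F
  constructor
  · intro h
    have hz : IsZero (kernel (EtDual.unitApp j F)) := h.of_iso e.symm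
    exact Preadditive.mono_of_kernel_zero (hz.eq_of_src _ _)
  · intro h
    exact (isZero_kernel_of_mono (EtDual.unitApp j F)).of_iso e

theorem isZero_locCoh_one_iff :
    IsZero ((EtDual.locCoh j 1).obj F) ↔ Epi (EtDual.unitApp j F) := by
  obtain ⟨⟨e⟩, -⟩ := Groth.Agent.S6658.result j F
  constructor
  · intro h
    have hz : IsZero (cokernel (EtDual.unitApp j F)) := h.of_iso e
    exact Preadditive.epi_of_cokernel_zero (hz.eq_of_tgt _ _)
  · intro h
    exact (isZero_cokernel_of_epi (EtDual.unitApp j F)).of_iso e.symm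

theorem isZero_locCoh_succ_iff (p : ℕ) (hp : 1 ≤ p) :
    IsZero ((EtDual.locCoh j (p + 1)).obj F) ↔
      IsZero ((EtCoh.Rpush j p).obj ((EtCoh.pull j).obj F)) := by
  obtain ⟨-, h⟩ := Groth.Agent.S6658.result j F
  obtain ⟨e⟩ := h p hp
  exact ⟨fun hz => hz.of_iso e, fun hz => hz.of_iso e.symm⟩

end Depth
end Groth.Agent.Lib.Helper28.DepthHpull
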