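import Groth.Agent.Lib.Helper68.SecSuppAcyc
import Groth.Agent.Lib.Helper4.InjPull

/-!
# Étale depth is monotone in the closed subset

For open immersions `j : U ⟶ X`, `k : V ⟶ X` with `U ⊆ V` (so `Z = X ∖ V ⊆ Y = X ∖ U`), we have
`Γ_Z = Γ_Z ∘ Γ_Y`, `Γ_Y` sends injectives to `Γ_Z`-acyclic sheaves, and therefore the vanishing of
`H^p_Y(F)` for `p < n` implies the vanishing of `H^p_Z(F)` for `p < n`.
-/

set_option autoImplicit false
universe u

open CategoryTheory Category Limits AlgebraicGeometry Opposite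

namespace Groth.Agent.Lib.Helper28.DepthMono

open Groth.Agent.Lib.Helper68 Groth.Agent.Lib.Helper4

variable {X U V : Scheme.{u}} (j : U ⟶ X) [IsOpenImmersion j] (k : V ⟶ X) [IsOpenImmersion k]
  (hUV : Set.range j.base ⊆ Set.range k.base)

/-- The unit of `k⁻¹ ⊣ k_*` at a sheaf of the form `k_* H` is a (split) monomorphism. -/
lemma mono_unit_push_self (H : EtCoh.Ab V) :
    Mono (EtDual.unitApp k ((EtCoh.push k).obj H)) := by
  have h := (EtCoh.pullPushAdj k).right_triangle_components H
  exact mono_of_mono_fac h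

include hUV in
/-- The unit of `k⁻¹ ⊣ k_*` at `j_* G` is a monomorphism when `U ⊆ V`. -/
lemma mono_unit_push (G : EtCoh.Ab U) :
    Mono (EtDual.unitApp k ((EtCoh.push j).obj G)) := by
  let j' : U ⟶ V := IsOpenImmersion.lift k j hUV
  have w : j' ≫ k = j := IsOpenImmersion.lift_fac k j hUV
  let e : (EtCoh.push j).obj G ≅ (EtCoh.push k).obj ((EtCoh.push j').obj G) :=
    ((EtCoh.pushCongr w.symm) ≪≫ (EtCoh.pushComp k j').symm).app G
  have hnat : e.hom ≫ EtDual.unitApp k ((EtCoh.push k).obj ((EtCoh.push j').obj G)) =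
      EtDual.unitApp k ((EtCoh.push j).obj G) ≫
        (EtCoh.push k).map ((EtCoh.pull k).map e.hom) :=
    (EtCoh.pullPushAdj k).unit.naturality e.hom
  have := mono_unit_push_self k ((EtCoh.push j').obj G)
  have h2 : Mono (EtDual.unitApp k ((EtCoh.push j).obj G) ≫
      (EtCoh.push k).map ((EtCoh.pull k).map e.hom)) := by
    rw [← hnat]
    infer_instance
  exact mono_of_mono _ ((EtCoh.push k).map ((EtCoh.pull k).map e.hom))

include hUV in
/-- `Γ_Z (j_* G) = 0` when `U ⊆ V`. -/
lemma isZero_secSupp_push (G : EtCoh.Ab U) :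
    IsZero ((EtDual.secSupp k).obj ((EtCoh.push j).obj G)) := by
  have := mono_unit_push j k hUV G
  exact isZero_kernel_of_mono _

/-- The inclusion `Γ_Y F ⟶ F`, as a natural transformation. -/
noncomputable def ι : EtDual.secSupp j ⟶ 𝟭 (EtCoh.Ab X) where
  app F := kernel.ι (EtDual.unitApp j F)
  naturality _ _ f := LocCoh.secSupp_map_ι j f


/-- The short complex `0 ⟶ Γ_Y F ⟶ F ⟶ j_* j⁻¹ F`. -/
noncomputable abbrev sc (F : EtCoh.Ab X) : ShortComplex (EtCoh.Ab X) :=
  ShortComplex.mk (kernel.ι (EtDual.unitApp j F)) (EtDual.unitApp j F) (kernel.condition _)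

lemma sc_exact (F : EtCoh.Ab X) : (sc j F).Exact :=
  ShortComplex.exact_of_f_is_kernel _ (kernelIsKernel _)

include hUV in
/-- `Γ_Z (Γ_Y F) ⟶ Γ_Z F` is an isomorphism when `U ⊆ V`. -/
lemma isIso_secSupp_map_ι (F : EtCoh.Ab X) :
    IsIso ((EtDual.secSupp k).map ((ι j).app F)) := by
  have hΨ : PreservesFiniteLimits (EtDual.secSupp k) := LocCoh.preservesFiniteLimits_secSupp k
  have hm : Mono (sc j F).f := inferInstanceAs (Mono (kernel.ι (EtDual.unitApp j F)))
  have hex : ((sc j F).map (EtDual.secSupp k)).Exact :=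
    (sc_exact j F).map_of_mono_of_preservesKernel (EtDual.secSupp k) hm inferInstance
  have hz : IsZero ((sc j F).map (EtDual.secSupp k)).X₃ :=
    isZero_secSupp_push j k hUV ((EtCoh.pull j).obj F)
  have hepi : Epi ((sc j F).map (EtDual.secSupp k)).f := hex.epi_f (hz.eq_of_tgt _ _)
  have hmono : Mono ((EtDual.secSupp k).map (sc j F).f) := inferInstance
  have hepi' : Epi ((EtDual.secSupp k).map ((ι j).app F)) := hepi
  have hmono' : Mono ((EtDual.secSupp k).map ((ι j).app F)) := hmono
  exact isIso_of_mono_of_epi _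

include hUV in
/-- `Γ_Y ⋙ Γ_Z ≅ Γ_Z` when `U ⊆ V`. -/
noncomputable def compIso : EtDual.secSupp j ⋙ EtDual.secSupp k ≅ EtDual.secSupp k :=
  haveI : ∀ F, IsIso ((EtDual.secSupp k).map ((ι j).app F)) := isIso_secSupp_map_ι j k hUV
  NatIso.ofComponents (fun F => asIso ((EtDual.secSupp k).map ((ι j).app F))) (by
    intro F G f
    change (EtDual.secSupp k).map ((EtDual.secSupp j).map f) ≫
        (EtDual.secSupp k).map ((ι j).app G) =
      (EtDual.secSupp k).map ((ι j).app F) ≫ (EtDual.secSupp k).map f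
    rw [← Functor.map_comp, ← Functor.map_comp]
    exact congrArg (EtDual.secSupp k).map ((ι j).naturality f))

/-- Naturally isomorphic additive functors have isomorphic right derived functors. -/
noncomputable def rightDerivedIso {C D : Type*} [Category C] [Category D] [Abelian C] [Abelian D]
    [HasInjectiveResolutions C] {F G : C ⥤ D} [F.Additive] [G.Additive] (α : F ≅ G) (n : ℕ) :
    F.rightDerived n ≅ G.rightDerived n where
  hom := NatTrans.rightDerived α.hom n
  inv := NatTrans.rightDerived α.inv n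
  hom_inv_id := by rw [← NatTrans.rightDerived_comp, α.hom_inv_id, NatTrans.rightDerived_id]
  inv_hom_id := by rw [← NatTrans.rightDerived_comp, α.inv_hom_id, NatTrans.rightDerived_id]

include hUV in
/-- `Γ_Y` sends injective sheaves to `Γ_Z`-acyclic sheaves when `U ⊆ V`. -/
theorem acyc_secSupp_of_injective (I : EtCoh.Ab X) [Injective I] :
    EdgeOutIso.Acyc (EtDual.secSupp k) ((EtDual.secSupp j).obj I) := by
  have hΨ : PreservesFiniteLimits (EtDual.secSupp k) := LocCoh.preservesFiniteLimits_secSupp k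
  have hS : (sc j I).ShortExact :=
    { exact := sc_exact j I
      mono_f := inferInstanceAs (Mono (kernel.ι (EtDual.unitApp j I)))
      epi_g := LocCoh.epi_unitApp j I }
  have : Etale j := inferInstance
  have : Injective ((EtCoh.pull j).obj I) := InjPull.injective_pull j I
  have : Injective ((EtCoh.push j).obj ((EtCoh.pull j).obj I)) := InjPull.injective_push j _
  have h3 : ∀ p : ℕ, IsZero (((EtDual.secSupp k).rightDerived p).obj (sc j I).X₃) := by
    intro p
    cases p with
    | zero =>
      exact (isZero_secSupp_push j k hUV ((EtCoh.pull j).obj I)).of_iso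
        ((EtDual.secSupp k).rightDerivedZeroIsoSelf.app _)
    | succ p =>
      exact Functor.isZero_rightDerived_obj_injective_succ (EtDual.secSupp k) p
        ((EtCoh.push j).obj ((EtCoh.pull j).obj I))
  intro p
  exact RightDerivedLES.isZero_left (EtDual.secSupp k) hS p (h3 p)
    (Functor.isZero_rightDerived_obj_injective_succ (EtDual.secSupp k) p I)

include hUV in
/-- **Monotonicity of étale depth**: if `H^p_Y(F) = 0` for `p < n` and `Z ⊆ Y`, then
`H^p_Z(F) = 0` for `p < n`. -/
theorem depthGE_of_subset (F : EtCoh.Ab X) (n : ℕ) (h : EtDepth.DepthGE j F n) :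
    EtDepth.DepthGE k F n := by
  have hΨ : PreservesFiniteLimits (EtDual.secSupp k) := LocCoh.preservesFiniteLimits_secSupp k
  intro q hq
  have hiso : IsIso (RDer.edgeOut (EtDual.secSupp j) (EtDual.secSupp k) q F) :=
    EdgeOutIso.isIso_edgeOut_of_isZero_lt (EtDual.secSupp j) (EtDual.secSupp k) F
      (fun I hI => by
        have := hI
        exact acyc_secSupp_of_injective j k hUV I) q
      (fun i hi => h i (hi.trans hq))
  have hz : IsZero ((EtDual.secSupp k).obj (((EtDual.secSupp j).rightDerived q).obj F)) :=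
    (EtDual.secSupp k).map_isZero (h q hq)
  have hz2 : IsZero (((EtDual.secSupp j ⋙ EtDual.secSupp k).rightDerived q).obj F) :=
    hz.of_iso (asIso (RDer.edgeOut (EtDual.secSupp j) (EtDual.secSupp k) q F))
  exact hz2.of_iso ((rightDerivedIso (compIso j k hUV) q).symm.app F)

end Groth.Agent.Lib.Helper28.DepthMono
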