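import Groth.Prelude.Def_CechEdge
import Groth.Agent.Lib.Helper28.CechL2
import Groth.Agent.Lib.Helper28.CechOL
import Groth.Agent.Lib.Helper28.CechLeray

/-!
# Degree zero Čech cohomology: the canonical map from sections
-/

namespace Groth.Agent.Lib.Helper28.Edge0

open CategoryTheory Limits Opposite Simplicial
open Groth.Agent.Lib.Helper28

universe u

variable {C : Type u} [SmallCategory C] [HasPullbacks C] {U : C} {ι : Type u} (Y : ι → Over U)

lemma π_toCech₀ (P : Cᵒᵖ ⥤ AddCommGrpCat.{u}) (s : P.obj (op U)) (i : Fin 1 → ι) :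
    Pi.π (fun i : Fin 1 → ι => P.obj (op (∏ᶜ (Y ∘ i)).left)) i (CechEdge.toCech₀ P Y s) =
      P.map (∏ᶜ (Y ∘ i)).hom.op s :=
  ConcreteCategory.congr_hom (Pi.lift_π (fun (i : Fin 1 → ι) => P.map (∏ᶜ (Y ∘ i)).hom.op) i) s

lemma Ψ_ε₀_fromSection (Q : Cᵒᵖ ⥤ AddCommGrpCat.{u}) (s : Q.obj (op U)) :
    CechY.Ψ (Over.forget U) Q ((CechO.cechE Y).obj (op ⦋0⦌))
      (CechL.ε₀ (Over.forget U) (CechO.cechE Y) (CechO.η (CechO.cechE Y)) ≫
        CechL.fromSection Q s) = CechEdge.toCech₀ Q Y s := by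
  apply CechY.prod_ext
  intro i
  rw [CechY.π_Ψ, NatTrans.comp_app, ConcreteCategory.comp_apply, CechL.ε₀_app_gen,
    CechL.fromSection_app_gen]
  refine Eq.trans ?_ (π_toCech₀ Y Q s i).symm
  exact congrArg (fun f => Q.map f.op s) (CechOL.baseHom_eq Y i)

/-- Elements of `Č^0` killed by the differential are cycles. -/
lemma exists_cycle (P : Cᵒᵖ ⥤ AddCommGrpCat.{u}) (c : (CechEdge.cx P Y).X 0)
    (hc : (CechEdge.cx P Y).d 0 1 c = 0) :
    ∃ z : (CechEdge.cx P Y).cycles 0, (CechEdge.cx P Y).iCycles 0 z = c := by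
  have hex : (ShortComplex.mk ((CechEdge.cx P Y).iCycles 0) ((CechEdge.cx P Y).d 0 1)
      (by simp)).Exact :=
    ShortComplex.exact_of_f_is_kernel _ ((CechEdge.cx P Y).cyclesIsKernel 0 1 (by simp))
  exact (ShortComplex.ab_exact_iff _).1 hex c hc

lemma toCech_apply (P : Cᵒᵖ ⥤ AddCommGrpCat.{u}) (s : P.obj (op U)) :
    CechEdge.toCech Y P s = (CechEdge.cx P Y).homologyπ 0 (CechEdge.toCycles P Y s) := rfl

lemma iCycles_toCycles (P : Cᵒᵖ ⥤ AddCommGrpCat.{u}) (s : P.obj (op U)) :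
    (CechEdge.cx P Y).iCycles 0 (CechEdge.toCycles P Y s) = CechEdge.toCech₀ P Y s :=
  ConcreteCategory.congr_hom (CechEdge.toCycles_i P Y) s

/-- If the Čech class of a section vanishes, so do its restrictions to the members of the
family. -/
lemma map_hom_eq_zero_of_toCech_eq_zero (P : Cᵒᵖ ⥤ AddCommGrpCat.{u}) (s : P.obj (op U))
    (hs : CechEdge.toCech Y P s = 0) (i : ι) : P.map (Y i).hom.op s = 0 := by
  rw [toCech_apply] at hs
  have hπ : Function.Injective ((CechEdge.cx P Y).homologyπ 0) :=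
    (AddCommGrpCat.mono_iff_injective _).1 inferInstance
  have h1 : CechEdge.toCycles P Y s = 0 := hπ (hs.trans (map_zero _).symm)
  have h2 : CechEdge.toCech₀ P Y s = 0 := by
    rw [← iCycles_toCycles, h1, map_zero]
  have h3 : P.map (∏ᶜ (Y ∘ fun _ : Fin 1 => i)).hom.op s = 0 := by
    refine (π_toCech₀ Y P s (fun _ => i)).symm.trans ?_
    exact (congrArg (fun z => Pi.π (fun i : Fin 1 → ι => P.obj (op (∏ᶜ (Y ∘ i)).left))
      (fun _ => i) z) h2).trans (map_zero _)
  have hw : (Y i).hom = (Pi.lift (fun _ => 𝟙 (Y i)) : Y i ⟶ ∏ᶜ (Y ∘ fun _ : Fin 1 => i)).left ≫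
      (∏ᶜ (Y ∘ fun _ : Fin 1 => i)).hom := (Over.w _).symm
  rw [hw, op_comp, Functor.map_comp, ConcreteCategory.comp_apply, h3, map_zero]

lemma cxFunctor_map_f {P Q : Cᵒᵖ ⥤ AddCommGrpCat.{u}} (φ : P ⟶ Q) (n : ℕ) :
    ((CechEdge.cxFunctor Y).map φ).f n =
      Limits.Pi.map (fun a : Fin (n + 1) → ι => φ.app (op (∏ᶜ (Y ∘ a)).left)) := rfl

lemma toCech₀_naturality {P Q : Cᵒᵖ ⥤ AddCommGrpCat.{u}} (φ : P ⟶ Q) :
    CechEdge.toCech₀ P Y ≫ ((CechEdge.cxFunctor Y).map φ).f 0 =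
      φ.app (op U) ≫ CechEdge.toCech₀ Q Y := by
  refine Eq.trans (congrArg (fun z => CechEdge.toCech₀ P Y ≫ z) (cxFunctor_map_f Y φ 0)) ?_
  refine Limits.Pi.hom_ext _ _ (fun i => ?_)
  refine Eq.trans (Category.assoc _ _ _) ?_
  refine Eq.trans (congrArg (fun z => CechEdge.toCech₀ P Y ≫ z) (Limits.Pi.map_π _ i)) ?_
  refine Eq.trans (Category.assoc _ _ _).symm ?_
  refine Eq.trans (congrArg (fun z => z ≫ φ.app (op (∏ᶜ (Y ∘ i)).left))
    (Pi.lift_π (fun (i : Fin 1 → ι) => P.map (∏ᶜ (Y ∘ i)).hom.op) i)) ?_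
  refine Eq.trans ?_ (Category.assoc _ _ _).symm
  refine Eq.trans ?_ (congrArg (fun z => φ.app (op U) ≫ z)
    (Pi.lift_π (fun (i : Fin 1 → ι) => Q.map (∏ᶜ (Y ∘ i)).hom.op) i)).symm
  exact φ.naturality _

lemma toCycles_naturality {P Q : Cᵒᵖ ⥤ AddCommGrpCat.{u}} (φ : P ⟶ Q) :
    CechEdge.toCycles P Y ≫ HomologicalComplex.cyclesMap ((CechEdge.cxFunctor Y).map φ) 0 =
      φ.app (op U) ≫ CechEdge.toCycles Q Y := by
  rw [← cancel_mono ((CechEdge.cx Q Y).iCycles 0), Category.assoc, Category.assoc]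
  have h1 : HomologicalComplex.cyclesMap ((CechEdge.cxFunctor Y).map φ) 0 ≫
      (CechEdge.cx Q Y).iCycles 0 = (CechEdge.cx P Y).iCycles 0 ≫
        ((CechEdge.cxFunctor Y).map φ).f 0 :=
    HomologicalComplex.cyclesMap_i ((CechEdge.cxFunctor Y).map φ) 0
  rw [h1, CechEdge.toCycles_i, ← Category.assoc, CechEdge.toCycles_i]
  exact toCech₀_naturality Y φ

/-- The canonical map from sections to degree zero Čech cohomology is natural in the presheaf. -/
theorem toCech_naturality {P Q : Cᵒᵖ ⥤ AddCommGrpCat.{u}} (φ : P ⟶ Q) (s : P.obj (op U)) :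
    CechEdge.cechHMap Y φ 0 (CechEdge.toCech Y P s) = CechEdge.toCech Y Q (φ.app (op U) s) := by
  have h : (CechEdge.toCycles P Y ≫ (CechEdge.cx P Y).homologyπ 0) ≫
      HomologicalComplex.homologyMap ((CechEdge.cxFunctor Y).map φ) 0 =
      φ.app (op U) ≫ CechEdge.toCycles Q Y ≫ (CechEdge.cx Q Y).homologyπ 0 := by
    have h1 : (CechEdge.cx P Y).homologyπ 0 ≫
        HomologicalComplex.homologyMap ((CechEdge.cxFunctor Y).map φ) 0 =
        HomologicalComplex.cyclesMap ((CechEdge.cxFunctor Y).map φ) 0 ≫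
          (CechEdge.cx Q Y).homologyπ 0 :=
      HomologicalComplex.homologyπ_naturality ((CechEdge.cxFunctor Y).map φ) 0
    rw [Category.assoc, h1, ← Category.assoc, toCycles_naturality, Category.assoc]
  exact ConcreteCategory.congr_hom h s

variable {J : GrothendieckTopology C}

/-- For a sheaf and a covering family, every degree zero Čech class comes from a section. -/
theorem toCech_surjective (F : Sheaf J AddCommGrpCat.{u})
    (hY : Sieve.ofArrows (fun i => (Y i).left) (fun i => (Y i).hom) ∈ J U) :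
    Function.Surjective (CechEdge.toCech Y F.obj) := by
  intro x
  have hπ : Function.Surjective ((CechEdge.cx F.obj Y).homologyπ 0) :=
    (AddCommGrpCat.epi_iff_surjective _).1 inferInstance
  obtain ⟨z, rfl⟩ := hπ x
  obtain ⟨τ, hτ⟩ := CechY.Ψ_surjective (Over.forget U) F.obj ((CechO.cechE Y).obj (op ⦋0⦌))
    ((CechEdge.cx F.obj Y).iCycles 0 z)
  have hd : (CechA.L (Over.forget U) (CechO.cechE Y)).d 1 0 ≫ τ = 0 := by
    apply CechY.Ψ_injective (Over.forget U) F.obj ((CechO.cechE Y).obj (op ⦋0 + 1⦌))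
    rw [map_zero]
    refine (CechLeray.Ψ_L_d (Over.forget U) (CechO.cechE Y) F.obj 0 τ).trans ?_
    rw [hτ]
    exact ConcreteCategory.congr_hom ((CechEdge.cx F.obj Y).iCycles_d 0 1) z
  obtain ⟨s, hs⟩ := CechL.exists_fromSection (J := J) (CechO.sectionwiseCechLike Y)
    (J.superset_covering (CechOL.ofArrows_le_imageSieve Y) hY) F τ hd
  refine ⟨s, ?_⟩
  rw [toCech_apply]
  congr 1
  have hmono : Function.Injective ((CechEdge.cx F.obj Y).iCycles 0) :=
    (AddCommGrpCat.mono_iff_injective _).1 inferInstance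
  apply hmono
  rw [iCycles_toCycles, ← Ψ_ε₀_fromSection, hs, hτ]

/-- For a sheaf and a covering family, a section is determined by its degree zero Čech class. -/
theorem toCech_injective (F : Sheaf J AddCommGrpCat.{u})
    (hY : Sieve.ofArrows (fun i => (Y i).left) (fun i => (Y i).hom) ∈ J U) :
    Function.Injective (CechEdge.toCech Y F.obj) := by
  rw [injective_iff_map_eq_zero]
  intro s hs
  have hF := CechL.isSheaf_forget J F _ hY
  refine hF.isSeparatedFor.ext ?_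
  intro V f hf
  obtain ⟨i, g, rfl⟩ := (Sieve.mem_ofArrows_iff _ _ _).1 hf
  change F.obj.map (g ≫ (Y i).hom).op s = F.obj.map (g ≫ (Y i).hom).op 0
  rw [op_comp, Functor.map_comp, ConcreteCategory.comp_apply,
    map_hom_eq_zero_of_toCech_eq_zero Y F.obj s hs i, map_zero, map_zero]

/-- For a sheaf and a covering family, sections over `U` are the degree zero Čech classes. -/
noncomputable def toCechEquiv (F : Sheaf J AddCommGrpCat.{u})
    (hY : Sieve.ofArrows (fun i => (Y i).left) (fun i => (Y i).hom) ∈ J U) :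
    F.obj.obj (op U) ≃+ CohCx.cechH F.obj Y 0 :=
  AddEquiv.ofBijective (CechEdge.toCech Y F.obj) ⟨toCech_injective Y F hY, toCech_surjective Y F hY⟩

end Groth.Agent.Lib.Helper28.Edge0
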