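import Groth.Agent.Lib.Helper28.EdgeU

/-!
# Bridge between the prelude's `CechEdge.IsEdge` and the Ext-level form
-/

namespace Groth.Agent.Lib.Helper28.EdgeB

open CategoryTheory Limits Opposite Abelian
open Groth.Agent.Lib.Helper28

universe u

variable {C : Type u} [SmallCategory C] [HasPullbacks C] {J : GrothendieckTopology C} {U : C}
  {ι : Type u} {Y : ι → Over U}

/-- The prelude's edge families are the Ext-level edge families. -/
theorem isEdge_iff (e : ∀ (P : Cᵒᵖ ⥤ AddCommGrpCat.{u}) (p : ℕ),
    CohCx.cechH P Y p →+ CohSite.HU (CechEdge.shf J P) p U) :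
    CechEdge.IsEdge J Y e ↔ EdgeU.IsEdge' J Y e := by
  constructor
  · intro h
    exact ⟨h.cover, fun P s => h.zero P s, fun P Q φ p x => h.natural P Q φ p x,
      fun S hS p x => h.delta S hS (EdgeT.shortExact_map_cxFunctor Y S hS) p x⟩
  · intro h
    exact ⟨h.cover, fun P s => h.zero P s, fun P Q φ p x => h.natural P Q φ p x,
      fun S hS hC p x => h.delta S hS p x⟩

end Groth.Agent.Lib.Helper28.EdgeB
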