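import Groth.Agent.Lib.Helper28.EdgeF
import Groth.Agent.Lib.Helper28.CartanT

/-!
# Edge families: injectivity in degree one and Leray's theorem (Ext-level)
-/

namespace Groth.Agent.Lib.Helper28.EdgeL

open CategoryTheory Limits Opposite Abelian
open Groth.Agent.Lib.Helper28

universe u

variable {C : Type u} [SmallCategory C] [HasPullbacks C] {J : GrothendieckTopology C} {U : C}
  {ι : Type u} {Y : ι → Over U}
  {e : ∀ (P : Cᵒᵖ ⥤ AddCommGrpCat.{u}) (p : ℕ),
    CohCx.cechH P Y p →+ Ext (CohCx.freeSheaf J U) (CechEdge.shf J P) p}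

/-- The degree zero comparison map is bijective on sheaves. -/
lemma bijective_zero_of_isSheaf (he : EdgeU.IsEdge' J Y e) (P : Cᵒᵖ ⥤ AddCommGrpCat.{u})
    (hP : Presheaf.IsSheaf J P) : Function.Bijective (e P 0) := by
  have : IsIso (toSheafify J P) := isIso_toSheafify J hP
  have h1 : Function.Bijective (CechEdge.cechHMap Y (toSheafify J P) 0) :=
    EdgeF.cechHMap_bijective Y _ (fun n a => EdgeF.bijective_app_of_isIso _ _) 0
  have h : (e P 0 : CohCx.cechH P Y 0 → _) = fun x => EdgeS.sect0 J U (CechEdge.shf J P)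
      ((Edge0.toCechEquiv Y (CechEdge.shf J P) he.cover).symm
        (CechEdge.cechHMap Y (toSheafify J P) 0 x)) := by
    funext x
    exact he.zero_eq P x
  rw [h]
  exact (EdgeS.sect0 J U (CechEdge.shf J P)).bijective.comp
    ((Edge0.toCechEquiv Y (CechEdge.shf J P) he.cover).symm.bijective.comp h1)

/-- The degree zero comparison map is injective on separated presheaves. -/
lemma injective_zero_of_injective_toSheafify (he : EdgeU.IsEdge' J Y e)
    (Q : Cᵒᵖ ⥤ AddCommGrpCat.{u}) (hQ : ∀ V : Cᵒᵖ, Function.Injective ((toSheafify J Q).app V)) :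
    Function.Injective (e Q 0) := by
  have h1 : Function.Injective (CechEdge.cechHMap Y (toSheafify J Q) 0) :=
    EdgeF.cechHMap_zero_injective Y _ hQ
  have h : (e Q 0 : CohCx.cechH Q Y 0 → _) = fun x => EdgeS.sect0 J U (CechEdge.shf J Q)
      ((Edge0.toCechEquiv Y (CechEdge.shf J Q) he.cover).symm
        (CechEdge.cechHMap Y (toSheafify J Q) 0 x)) := by
    funext x
    exact he.zero_eq Q x
  rw [h]
  exact (EdgeS.sect0 J U (CechEdge.shf J Q)).injective.comp
    ((Edge0.toCechEquiv Y (CechEdge.shf J Q) he.cover).symm.injective.comp h1)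

section Sheaf

variable (F : Sheaf J AddCommGrpCat.{u})

/-- The effacing short exact sequence of presheaves `0 → F → I → I/F → 0`, `I` an injective
sheaf. -/
noncomputable def Seff : ShortComplex (Cᵒᵖ ⥤ AddCommGrpCat.{u}) :=
  ShortComplex.mk (Injective.ι F).hom (cokernel.π (Injective.ι F).hom) (cokernel.condition _)

omit [HasPullbacks C] in
lemma shortExact_Seff : (Seff F).ShortExact :=
  have : Mono (Injective.ι F).hom :=
    inferInstanceAs (Mono ((sheafToPresheaf J AddCommGrpCat.{u}).map (Injective.ι F)))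
  ShortComplex.ShortExact.mk' (ShortComplex.exact_cokernel _) this
    (inferInstanceAs (Epi (cokernel.π (Injective.ι F).hom)))

omit [HasPullbacks C] in
lemma isSheaf_Seff_X₁ : Presheaf.IsSheaf J (Seff F).X₁ := F.property

omit [HasPullbacks C] in
lemma isSheaf_Seff_X₂ : Presheaf.IsSheaf J (Seff F).X₂ := (Injective.under F).property

omit [HasPullbacks C] in
lemma injective_shf_Seff_X₂ : Injective (CechEdge.shf J (Seff F).X₂) :=
  Injective.of_iso (asIso ((sheafificationAdjunction J AddCommGrpCat.{u}).counit.app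
    (Injective.under F))).symm (show Injective (Injective.under F) from inferInstance)

omit [HasPullbacks C] in
/-- `H^{p+1}(V, I^#) = 0` for the injective sheaf `I` of the effacing sequence. -/
lemma ext_shf_Seff_X₂_eq_zero (V : C) (p : ℕ)
    (w : Ext (CohCx.freeSheaf J V) (CechEdge.shf J (Seff F).X₂) (p + 1)) : w = 0 := by
  have hI : Injective (CechEdge.shf J (Seff F).X₂) := injective_shf_Seff_X₂ F
  exact Ext.eq_zero_of_injective w

omit [HasPullbacks C] in
/-- Acyclicity passes from a sheaf to the sheafification of its underlying presheaf. -/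
lemma acyc_shf_obj (V : C) (h : ExtAcyc.Acyc F (CohCx.freeSheaf J V)) :
    ExtAcyc.Acyc (CechEdge.shf J F.obj) (CohCx.freeSheaf J V) := by
  intro q x
  apply (EdgeS.comp_mk₀_bijective (X := CohCx.freeSheaf J V)
    ((sheafificationAdjunction J AddCommGrpCat.{u}).counit.app F) (q + 1)).1
  exact (h q _).trans (h q _).symm

/-- The comparison map is injective in degree one, for every sheaf. -/
theorem injective_one (he : EdgeU.IsEdge' J Y e) : Function.Injective (e F.obj 1) := by
  refine EdgeF.injective_step he (Seff F) (shortExact_Seff F) 0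
    (Groth.Agent.S0858.result J (Injective.under F) Y he.cover 0) ?_ ?_
  · exact injective_zero_of_injective_toSheafify he _
      (EdgeF.injective_toSheafify_X₃ (shortExact_Seff F) (isSheaf_Seff_X₁ F) (isSheaf_Seff_X₂ F))
  · exact (bijective_zero_of_isSheaf he _ (isSheaf_Seff_X₂ F)).2

end Sheaf

/-- Leray's theorem for edge families: if the higher cohomology of `F` vanishes on all finite
products of members of the family, the comparison maps are bijective. -/
theorem bijective_of_acyc (he : EdgeU.IsEdge' J Y e) (p : ℕ) :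
    ∀ (F : Sheaf J AddCommGrpCat.{u}),
      (∀ (n : ℕ) (a : Fin (n + 1) → ι), ExtAcyc.Acyc F (CohCx.freeSheaf J (∏ᶜ (Y ∘ a)).left)) →
      Function.Bijective (e F.obj p) := by
  induction p with
  | zero => exact fun F _ => bijective_zero_of_isSheaf he F.obj F.property
  | succ p ih =>
    intro F hF
    have hS := shortExact_Seff F
    have hS' := EdgeG.shortExact_map (presheafToSheaf J AddCommGrpCat.{u}) hS
    have hF₁ : ∀ (n : ℕ) (a : Fin (n + 1) → ι),
        ExtAcyc.Acyc (CechEdge.shf J (Seff F).X₁) (CohCx.freeSheaf J (∏ᶜ (Y ∘ a)).left) :=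
      fun n a => acyc_shf_obj F _ (hF n a)
    have hI : Injective (CechEdge.shf J (Seff F).X₂) := injective_shf_Seff_X₂ F
    -- the quotient sheaf is again acyclic
    have hF₃ : ∀ (n : ℕ) (a : Fin (n + 1) → ι),
        ExtAcyc.Acyc (CechEdge.shf J (Seff F).X₃) (CohCx.freeSheaf J (∏ᶜ (Y ∘ a)).left) :=
      fun n a => @CartanT.acyc_X₃ _ _ _ _ (CohCx.freeSheaf J (∏ᶜ (Y ∘ a)).left) _ hS' hI (hF₁ n a)
    -- the unit of the quotient presheaf is bijective on the products
    have hη : ∀ (n : ℕ) (a : Fin (n + 1) → ι),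
        Function.Bijective ((toSheafify J (Seff F).X₃).app (op (∏ᶜ (Y ∘ a)).left)) :=
      fun n a => ⟨EdgeF.injective_toSheafify_X₃ hS (isSheaf_Seff_X₁ F) (isSheaf_Seff_X₂ F) _,
        EdgeF.surjective_toSheafify_X₃ hS (isSheaf_Seff_X₂ F) _ (hF₁ n a 0)⟩
    have hQ : Function.Bijective (e (Seff F).X₃ p) := by
      have h1 : Function.Bijective (e (CechEdge.shf J (Seff F).X₃).obj p) := ih _ hF₃
      have h2 := EdgeF.cechHMap_bijective Y (toSheafify J (Seff F).X₃) hη p
      have h3 := EdgeS.comp_mk₀_bijective (X := CohCx.freeSheaf J U)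
        (CechEdge.shfMap J (toSheafify J (Seff F).X₃)) p
      have h4 : (fun x => (e (Seff F).X₃ p x).comp
          (Ext.mk₀ (CechEdge.shfMap J (toSheafify J (Seff F).X₃))) (add_zero p)) =
          (e (CechEdge.shf J (Seff F).X₃).obj p) ∘
            (CechEdge.cechHMap Y (toSheafify J (Seff F).X₃) p) := by
        funext x
        exact (he.natural _ _ _ p x).symm
      have h5 : Function.Bijective (fun x => (e (Seff F).X₃ p x).comp
          (Ext.mk₀ (CechEdge.shfMap J (toSheafify J (Seff F).X₃))) (add_zero p)) := by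
        rw [h4]
        exact h1.comp h2
      exact (Function.Bijective.of_comp_iff' h3 _).1 h5
    have hI₂ : Function.Surjective (e (Seff F).X₂ p) :=
      (ih (Injective.under F) (fun n a q x => Ext.eq_zero_of_injective x)).2
    exact ⟨EdgeF.injective_step he (Seff F) hS p
        (Groth.Agent.S0858.result J (Injective.under F) Y he.cover p) hQ.1 hI₂,
      EdgeF.surjective_step he (Seff F) hS p (ext_shf_Seff_X₂_eq_zero F U p) hQ.2⟩

end Groth.Agent.Lib.Helper28.EdgeL
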