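import Groth.Agent.Lib.Helper28.EdgeB
import Groth.Agent.Lib.Helper28.EdgeL

/-!
# Bridge lemmas for `CechEdge.edgeSh`
-/

namespace Groth.Agent.Lib.Helper28.EdgeB2

open CategoryTheory Limits Opposite Abelian
open Groth.Agent.Lib.Helper28

universe u

variable {C : Type u} [SmallCategory C] {J : GrothendieckTopology C} {U : C}

lemma HUmap_bijective {F G : Sheaf J AddCommGrpCat.{u}} (ψ : F ⟶ G) [IsIso ψ] (p : ℕ) :
    Function.Bijective (CechEdge.HUmap ψ p U) :=
  EdgeS.comp_mk₀_bijective (X := CohCx.freeSheaf J U) ψ p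

variable [HasPullbacks C] {ι : Type u} {Y : ι → Over U}

lemma edgeSh_coe (e : ∀ (P : Cᵒᵖ ⥤ AddCommGrpCat.{u}) (p : ℕ),
    CohCx.cechH P Y p →+ CohSite.HU (CechEdge.shf J P) p U) (F : Sheaf J AddCommGrpCat.{u}) (p : ℕ) :
    ⇑(CechEdge.edgeSh e F p) =
      (CechEdge.HUmap ((sheafificationAdjunction J AddCommGrpCat.{u}).counit.app F) p U) ∘
        (e F.obj p) := rfl

end Groth.Agent.Lib.Helper28.EdgeB2
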