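import Groth.Agent.Lib.Helper28.EdgeU
import Groth.Agent.S0858

/-!
# Dimension shifting for edge families: injectivity in degree one and Leray's theorem
-/

namespace Groth.Agent.Lib.Helper28.EdgeF

open CategoryTheory Limits Opposite Abelian
open Groth.Agent.Lib.Helper28

universe u

section Steps

variable {C : Type u} [SmallCategory C] [HasPullbacks C] {J : GrothendieckTopology C} {U : C}
  {ι : Type u} {Y : ι → Over U}
  {e : ∀ (P : Cᵒᵖ ⥤ AddCommGrpCat.{u}) (p : ℕ),
    CohCx.cechH P Y p →+ Ext (CohCx.freeSheaf J U) (CechEdge.shf J P) p}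

/-- Dimension shifting: injectivity of the comparison map. -/
lemma injective_step (he : EdgeU.IsEdge' J Y e) (S : ShortComplex (Cᵒᵖ ⥤ AddCommGrpCat.{u}))
    (hS : S.ShortExact) (p : ℕ) (h₂ : IsZero (CohCx.cechH S.X₂ Y (p + 1)))
    (hinj : Function.Injective (e S.X₃ p)) (hsurj : Function.Surjective (e S.X₂ p)) :
    Function.Injective (e S.X₁ (p + 1)) := by
  rw [injective_iff_map_eq_zero]
  intro x hx
  have hsub : Subsingleton (CohCx.cechH S.X₂ Y (p + 1)) :=
    AddCommGrpCat.subsingleton_of_isZero h₂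
  have hex₁ := (ShortComplex.ab_exact_iff _).1 ((EdgeT.T Y).exact₁ S hS p (p + 1) rfl)
  obtain ⟨y, rfl⟩ := hex₁ x (Subsingleton.elim (α := CohCx.cechH S.X₂ Y (p + 1)) _ _)
  have hδ := he.delta S hS p y
  have hx' : (e S.X₃ p y).comp
      (EdgeG.shortExact_map (presheafToSheaf J AddCommGrpCat.{u}) hS).extClass rfl = 0 :=
    hδ.symm.trans hx
  obtain ⟨w, hw⟩ := Ext.covariant_sequence_exact₃ (CohCx.freeSheaf J U)
    (EdgeG.shortExact_map (presheafToSheaf J AddCommGrpCat.{u}) hS) (e S.X₃ p y) rfl hx'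
  obtain ⟨v, rfl⟩ := hsurj w
  have hy : y = CechEdge.cechHMap Y S.g p v := by
    apply hinj
    rw [he.natural]
    exact hw.symm
  rw [hy]
  exact ConcreteCategory.congr_hom ((EdgeT.T Y).comp_δ S hS p (p + 1) rfl) v

/-- Dimension shifting: surjectivity of the comparison map. -/
lemma surjective_step (he : EdgeU.IsEdge' J Y e) (S : ShortComplex (Cᵒᵖ ⥤ AddCommGrpCat.{u}))
    (hS : S.ShortExact) (p : ℕ)
    (h₂ : ∀ w : Ext (CohCx.freeSheaf J U) (CechEdge.shf J S.X₂) (p + 1), w = 0)
    (hsurj : Function.Surjective (e S.X₃ p)) :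
    Function.Surjective (e S.X₁ (p + 1)) := by
  intro w
  obtain ⟨v, hv⟩ := Ext.covariant_sequence_exact₁ (CohCx.freeSheaf J U)
    (EdgeG.shortExact_map (presheafToSheaf J AddCommGrpCat.{u}) hS) w (h₂ _) rfl
  obtain ⟨y, rfl⟩ := hsurj v
  exact ⟨_, (he.delta S hS p y).trans hv⟩

end Steps

section Unit'

variable {C : Type u} [SmallCategory C] {J : GrothendieckTopology C}

section Unit

variable {S : ShortComplex (Cᵒᵖ ⥤ AddCommGrpCat.{u})} (hS : S.ShortExact)
  (h₁ : Presheaf.IsSheaf J S.X₁) (h₂ : Presheaf.IsSheaf J S.X₂)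

include hS in
lemma pointwise (V : Cᵒᵖ) :
    Function.Injective (S.f.app V) ∧ Function.Surjective (S.g.app V) ∧
      ∀ x : S.X₂.obj V, S.g.app V x = 0 → ∃ y, S.f.app V y = x := by
  have := hS.mono_f
  have := hS.epi_g
  have h : (S.map ((evaluation _ _).obj V)).ShortExact := hS.map_of_exact _
  exact ⟨(AddCommGrpCat.mono_iff_injective _).1 h.mono_f,
    (AddCommGrpCat.epi_iff_surjective _).1 h.epi_g, (ShortComplex.ab_exact_iff _).1 h.exact⟩

include hS in
/-- Left exactness of the sections of the sheafified sequence. -/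
lemma shf_exact (V : Cᵒᵖ) (x : (CechEdge.shf J S.X₂).obj.obj V)
    (hx : (CechEdge.shfMap J S.g).hom.app V x = 0) :
    ∃ y, (CechEdge.shfMap J S.f).hom.app V y = x := by
  have hS' := EdgeG.shortExact_map (presheafToSheaf J AddCommGrpCat.{u}) hS
  have := hS'.mono_f
  have hSp : ((S.map (presheafToSheaf J AddCommGrpCat.{u})).map
      (sheafToPresheaf J AddCommGrpCat.{u})).Exact :=
    hS'.exact.map_of_mono_of_preservesKernel (sheafToPresheaf J AddCommGrpCat.{u}) inferInstance
      inferInstance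
  have h : (((S.map (presheafToSheaf J AddCommGrpCat.{u})).map
      (sheafToPresheaf J AddCommGrpCat.{u})).map ((evaluation _ _).obj V)).Exact :=
    hSp.map _
  exact (ShortComplex.ab_exact_iff _).1 h x hx

lemma toSheafify_app_comm {P Q : Cᵒᵖ ⥤ AddCommGrpCat.{u}} (φ : P ⟶ Q) (V : Cᵒᵖ) (x : P.obj V) :
    (toSheafify J Q).app V (φ.app V x) =
      (CechEdge.shfMap J φ).hom.app V ((toSheafify J P).app V x) :=
  ConcreteCategory.congr_hom (NatTrans.congr_app (EdgeZ.toSheafify_naturality J φ) V) x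

omit [SmallCategory C] in
lemma bijective_app_of_isIso {C : Type u} [SmallCategory C] {P Q : Cᵒᵖ ⥤ AddCommGrpCat.{u}}
    (φ : P ⟶ Q) [IsIso φ] (V : Cᵒᵖ) : Function.Bijective (φ.app V) := by
  have : IsIso (φ.app V) := inferInstance
  exact ConcreteCategory.bijective_of_isIso (φ.app V)

include hS h₁ h₂ in
/-- The presheaf cokernel of a monomorphism of sheaves is separated. -/
lemma injective_toSheafify_X₃ (V : Cᵒᵖ) : Function.Injective ((toSheafify J S.X₃).app V) := by
  rw [injective_iff_map_eq_zero]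
  intro q hq
  have : IsIso (toSheafify J S.X₁) := isIso_toSheafify J h₁
  have : IsIso (toSheafify J S.X₂) := isIso_toSheafify J h₂
  obtain ⟨hf, hg, hex⟩ := pointwise hS V
  obtain ⟨t, rfl⟩ := hg q
  rw [toSheafify_app_comm] at hq
  obtain ⟨a', ha'⟩ := shf_exact hS V _ hq
  obtain ⟨a, rfl⟩ := (bijective_app_of_isIso (toSheafify J S.X₁) V).2 a'
  rw [← toSheafify_app_comm] at ha'
  have ht : S.f.app V a = t := (bijective_app_of_isIso (toSheafify J S.X₂) V).1 ha'
  rw [← ht]
  exact ConcreteCategory.congr_hom (NatTrans.congr_app S.zero V) a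

include hS h₂ in
/-- Sections of the sheafified cokernel over `V` come from the presheaf cokernel when
`H^1(V, -)` of the kernel vanishes. -/
lemma surjective_toSheafify_X₃ (V : C)
    (hV : ∀ x : Ext (CohCx.freeSheaf J V) (CechEdge.shf J S.X₁) 1, x = 0) :
    Function.Surjective ((toSheafify J S.X₃).app (op V)) := by
  intro q'
  have : IsIso (toSheafify J S.X₂) := isIso_toSheafify J h₂
  have hS' := EdgeG.shortExact_map (presheafToSheaf J AddCommGrpCat.{u}) hS
  obtain ⟨t', ht'⟩ := CechLeray.surjective_of_ext_one J V hS' hV q'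
  obtain ⟨t, rfl⟩ := (bijective_app_of_isIso (toSheafify J S.X₂) (op V)).2 t'
  refine ⟨S.g.app (op V) t, ?_⟩
  rw [toSheafify_app_comm]
  exact ht'

end Unit

end Unit'

section Cech

variable {C : Type u} [SmallCategory C] [HasPullbacks C] {U : C} {ι : Type u} (Y : ι → Over U)

lemma pi_map_injective {J : Type u} {A B : J → AddCommGrpCat.{u}} (f : ∀ j, A j ⟶ B j)
    (h : ∀ j, Function.Injective (f j)) : Function.Injective (Limits.Pi.map f) := by
  intro x y hxy
  apply CechY.prod_ext
  intro j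
  apply h j
  rw [← EdgeT.π_map_apply, ← EdgeT.π_map_apply, hxy]

lemma pi_map_isIso {J : Type u} {A B : J → AddCommGrpCat.{u}} (f : ∀ j, A j ⟶ B j)
    (h : ∀ j, Function.Bijective (f j)) : IsIso (Limits.Pi.map f) := by
  have : ∀ j, IsIso (f j) := fun j => (ConcreteCategory.isIso_iff_bijective _).2 (h j)
  infer_instance

/-- A morphism of presheaves which is bijective on the finite products of members of the family
induces an isomorphism of Čech complexes. -/
lemma isIso_cxFunctor_map {P Q : Cᵒᵖ ⥤ AddCommGrpCat.{u}} (φ : P ⟶ Q)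
    (hφ : ∀ (n : ℕ) (a : Fin (n + 1) → ι),
      Function.Bijective (φ.app (op (∏ᶜ (Y ∘ a)).left))) :
    IsIso ((CechEdge.cxFunctor Y).map φ) := by
  have : ∀ n, IsIso (((CechEdge.cxFunctor Y).map φ).f n) := by
    intro n
    exact pi_map_isIso (fun a : Fin (n + 1) → ι => φ.app (op (∏ᶜ (Y ∘ a)).left)) (hφ n)
  exact HomologicalComplex.Hom.isIso_of_components _

lemma cechHMap_bijective {P Q : Cᵒᵖ ⥤ AddCommGrpCat.{u}} (φ : P ⟶ Q)
    (hφ : ∀ (n : ℕ) (a : Fin (n + 1) → ι),
      Function.Bijective (φ.app (op (∏ᶜ (Y ∘ a)).left))) (p : ℕ) :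
    Function.Bijective (CechEdge.cechHMap Y φ p) := by
  have := isIso_cxFunctor_map Y φ hφ
  have : IsIso (HomologicalComplex.homologyMap ((CechEdge.cxFunctor Y).map φ) p) := inferInstance
  exact ConcreteCategory.bijective_of_isIso
    (HomologicalComplex.homologyMap ((CechEdge.cxFunctor Y).map φ) p)

lemma cechHMap_zero_injective {P Q : Cᵒᵖ ⥤ AddCommGrpCat.{u}} (φ : P ⟶ Q)
    (hφ : ∀ V : Cᵒᵖ, Function.Injective (φ.app V)) :
    Function.Injective (CechEdge.cechHMap Y φ 0) := by
  rw [injective_iff_map_eq_zero]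
  intro x hx
  have hπP : Function.Surjective ((CechEdge.cx P Y).homologyπ 0) :=
    (AddCommGrpCat.epi_iff_surjective _).1 inferInstance
  have hπQ : Function.Injective ((CechEdge.cx Q Y).homologyπ 0) :=
    (AddCommGrpCat.mono_iff_injective _).1 inferInstance
  have hiP : Function.Injective ((CechEdge.cx P Y).iCycles 0) :=
    (AddCommGrpCat.mono_iff_injective _).1 inferInstance
  obtain ⟨z, rfl⟩ := hπP x
  have h1 : (CechEdge.cx Q Y).homologyπ 0
      (HomologicalComplex.cyclesMap ((CechEdge.cxFunctor Y).map φ) 0 z) = 0 := by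
    refine Eq.trans ?_ hx
    exact (ConcreteCategory.congr_hom
      (HomologicalComplex.homologyπ_naturality ((CechEdge.cxFunctor Y).map φ) 0) z).symm
  have h2 : HomologicalComplex.cyclesMap ((CechEdge.cxFunctor Y).map φ) 0 z = 0 :=
    hπQ (h1.trans (map_zero _).symm)
  have h3 : ((CechEdge.cxFunctor Y).map φ).f 0 ((CechEdge.cx P Y).iCycles 0 z) = 0 := by
    refine Eq.trans (ConcreteCategory.congr_hom
      (HomologicalComplex.cyclesMap_i ((CechEdge.cxFunctor Y).map φ) 0) z).symm ?_
    rw [ConcreteCategory.comp_apply, h2, map_zero]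
  have h4 : (CechEdge.cx P Y).iCycles 0 z = 0 :=
    pi_map_injective (fun a : Fin (0 + 1) → ι => φ.app (op (∏ᶜ (Y ∘ a)).left))
      (fun a => hφ _) (h3.trans (map_zero _).symm)
  have h5 : z = 0 := hiP (h4.trans (map_zero _).symm)
  rw [h5, map_zero]

end Cech

end Groth.Agent.Lib.Helper28.EdgeF
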