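import Groth.Prelude.Def_CechEdge
import Groth.Prelude.Def_DeltaF
import Mathlib.Algebra.Homology.DerivedCategory.Ext.ExactSequences

/-!
# `P ↦ Ext^•(X, L P)` as a cohomological δ-functor, for an exact functor `L`
-/

namespace Groth.Agent.Lib.Helper28.EdgeG

open CategoryTheory Limits Opposite Abelian

universe w v v' u u'

section

variable {ℬ : Type u'} [Category.{v'} ℬ] [Abelian ℬ] [HasExt.{w} ℬ] (X : ℬ)

lemma δ_natural_aux {S S' : ShortComplex ℬ} (hS : S.ShortExact) (hS' : S'.ShortExact)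
    (φ : S ⟶ S') (n₀ n₁ : ℕ) (h : n₀ + 1 = n₁) :
    (extFunctorObj X n₀).map φ.τ₃ ≫ AddCommGrpCat.ofHom (hS'.extClass.postcomp X h) =
      AddCommGrpCat.ofHom (hS.extClass.postcomp X h) ≫ (extFunctorObj X n₁).map φ.τ₁ := by
  ext (x : Ext X S.X₃ n₀)
  change ((x.comp (Ext.mk₀ φ.τ₃) (add_zero n₀)).comp hS'.extClass h) =
    ((x.comp hS.extClass h).comp (Ext.mk₀ φ.τ₁) (add_zero n₁))
  rw [Ext.comp_assoc_of_second_deg_zero, Ext.comp_assoc_of_third_deg_zero]
  exact congrArg (fun z => x.comp z h) (ShortComplex.ShortExact.extClass_naturality hS hS' φ).symm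

lemma comp_δ_aux {S : ShortComplex ℬ} (hS : S.ShortExact) (n₀ n₁ : ℕ) (h : n₀ + 1 = n₁) :
    (extFunctorObj X n₀).map S.g ≫ AddCommGrpCat.ofHom (hS.extClass.postcomp X h) = 0 := by
  ext (x : Ext X S.X₂ n₀)
  change ((x.comp (Ext.mk₀ S.g) (add_zero n₀)).comp hS.extClass h) = 0
  rw [Ext.comp_assoc_of_second_deg_zero, hS.comp_extClass, Ext.comp_zero]

lemma δ_comp_aux {S : ShortComplex ℬ} (hS : S.ShortExact) (n₀ n₁ : ℕ) (h : n₀ + 1 = n₁) :
    AddCommGrpCat.ofHom (hS.extClass.postcomp X h) ≫ (extFunctorObj X n₁).map S.f = 0 := by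
  ext (x : Ext X S.X₃ n₀)
  change ((x.comp hS.extClass h).comp (Ext.mk₀ S.f) (add_zero n₁)) = 0
  rw [Ext.comp_assoc_of_third_deg_zero, hS.extClass_comp, Ext.comp_zero]

variable {𝒜 : Type u} [Category.{v} 𝒜] [Abelian 𝒜] (L : 𝒜 ⥤ ℬ) [L.Additive]
  [PreservesFiniteLimits L] [PreservesFiniteColimits L]

omit [HasExt.{w} ℬ] in
/-- The image of a short exact sequence under an exact functor. -/
lemma shortExact_map {S : ShortComplex 𝒜} (hS : S.ShortExact) : (S.map L).ShortExact :=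
  hS.map_of_exact L

/-- `P ↦ Ext^•(X, L P)` as a cohomological δ-functor, for an exact functor `L`. -/
noncomputable def G : DeltaF.CohDeltaFunctor 𝒜 AddCommGrpCat.{w} ℕ where
  F n := L ⋙ extFunctorObj X n
  additive _ := inferInstance
  δ _ hS _ _ h := AddCommGrpCat.ofHom ((shortExact_map L hS).extClass.postcomp X h)
  δ_natural hS hS' φ n₀ n₁ h :=
    δ_natural_aux X (shortExact_map L hS) (shortExact_map L hS') (L.mapShortComplex.map φ) n₀ n₁ h
  exact₂ _ hS n := Ext.covariant_sequence_exact₂' X (shortExact_map L hS) n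
  comp_δ _ hS n₀ n₁ h := comp_δ_aux X (shortExact_map L hS) n₀ n₁ h
  exact₃ _ hS n₀ n₁ h := Ext.covariant_sequence_exact₃' X (shortExact_map L hS) n₀ n₁ h
  δ_comp _ hS n₀ n₁ h := δ_comp_aux X (shortExact_map L hS) n₀ n₁ h
  exact₁ _ hS n₀ n₁ h := Ext.covariant_sequence_exact₁' X (shortExact_map L hS) n₀ n₁ h

end

end Groth.Agent.Lib.Helper28.EdgeG
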