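import Groth.Agent.Lib.Helper28.EdgeB2

/-!
# Edge families are compatible with refinement of the covering family
-/

namespace Groth.Agent.Lib.Helper28.EdgeR

open CategoryTheory Limits Opposite Abelian
open Groth.Agent.Lib.Helper28

universe u

variable {C : Type u} [SmallCategory C] [HasPullbacks C] {J : GrothendieckTopology C} {U : C}
  {ι κ : Type u} {Y : ι → Over U} {Y' : κ → Over U}
  (f : FormalCoproduct.mk ι Y ⟶ FormalCoproduct.mk κ Y')

/-- The refinement map of cosimplicial objects. -/
noncomputable def refineCosimp (P : Cᵒᵖ ⥤ AddCommGrpCat.{u}) :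
    (FormalCoproduct.cosimplicialObjectFunctor (FormalCoproduct.mk κ Y').cech).obj
        ((Over.forget U).op ⋙ P) ⟶
      (FormalCoproduct.cosimplicialObjectFunctor (FormalCoproduct.mk ι Y).cech).obj
        ((Over.forget U).op ⋙ P) :=
  ((Functor.whiskeringLeft _ _ _).map (NatTrans.rightOp (FormalCoproduct.cechFunctor.map f))).app
    ((FormalCoproduct.evalOp.{u} (Over U) AddCommGrpCat.{u}).obj ((Over.forget U).op ⋙ P))

lemma cechRefine_eq (P : Cᵒᵖ ⥤ AddCommGrpCat.{u}) :
    CohCx.cechRefine P f =
      (AlgebraicTopology.alternatingCofaceMapComplex AddCommGrpCat.{u}).map (refineCosimp f P) :=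
  rfl

lemma refineCosimp_naturality {P Q : Cᵒᵖ ⥤ AddCommGrpCat.{u}} (φ : P ⟶ Q) :
    (FormalCoproduct.cosimplicialObjectFunctor (FormalCoproduct.mk κ Y').cech).map
        (Functor.whiskerLeft (Over.forget U).op φ) ≫ refineCosimp f Q =
      refineCosimp f P ≫
        (FormalCoproduct.cosimplicialObjectFunctor (FormalCoproduct.mk ι Y).cech).map
          (Functor.whiskerLeft (Over.forget U).op φ) :=
  (((Functor.whiskeringLeft _ _ _).map
    (NatTrans.rightOp (FormalCoproduct.cechFunctor.map f))).naturality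
      ((FormalCoproduct.evalOp.{u} (Over U) AddCommGrpCat.{u}).map
        (Functor.whiskerLeft (Over.forget U).op φ)))

/-- The refinement maps of Čech complexes, as a natural transformation in the presheaf. -/
noncomputable def refineNat : CechEdge.cxFunctor Y' ⟶ CechEdge.cxFunctor Y where
  app P := CohCx.cechRefine P f
  naturality _ _ φ :=
    ((AlgebraicTopology.alternatingCofaceMapComplex AddCommGrpCat.{u}).map_comp _ _).symm.trans
      ((congrArg (AlgebraicTopology.alternatingCofaceMapComplex AddCommGrpCat.{u}).map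
        (refineCosimp_naturality f φ)).trans
        ((AlgebraicTopology.alternatingCofaceMapComplex AddCommGrpCat.{u}).map_comp _ _))

lemma refineNat_app (P : Cᵒᵖ ⥤ AddCommGrpCat.{u}) : (refineNat f).app P = CohCx.cechRefine P f :=
  rfl

omit [HasPullbacks C] in
lemma map_map_apply (P : Cᵒᵖ ⥤ AddCommGrpCat.{u}) {V W X : C} (a : V ⟶ W) (b : W ⟶ X) (c : V ⟶ X)
    (h : a ≫ b = c) (s : P.obj (op X)) : P.map a.op (P.map b.op s) = P.map c.op s := by
  subst h
  rw [op_comp, Functor.map_comp]
  rfl

/-- The degree zero part of the refinement map. -/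
lemma cechRefine_f_zero (P : Cᵒᵖ ⥤ AddCommGrpCat.{u}) :
    (CohCx.cechRefine P f).f 0 = CechY.evalMap (Over.forget U) P
      ((FormalCoproduct.cechFunctor.map f).app (op (SimplexCategory.mk 0))) :=
  rfl

lemma toCech₀_refine (P : Cᵒᵖ ⥤ AddCommGrpCat.{u}) (s : P.obj (op U)) :
    (CohCx.cechRefine P f).f 0 (CechEdge.toCech₀ P Y' s) = CechEdge.toCech₀ P Y s := by
  apply CechY.prod_ext
  intro i
  refine Eq.trans (congrArg
    (fun z => (Pi.π (fun i : Fin 1 → ι => P.obj (op (∏ᶜ (Y ∘ i)).left)) i) z)
    (ConcreteCategory.congr_hom (cechRefine_f_zero f P) (CechEdge.toCech₀ P Y' s))) ?_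
  refine Eq.trans (CechY.π_evalMap (Over.forget U) P
    ((FormalCoproduct.cechFunctor.map f).app (op (SimplexCategory.mk 0))) i _) ?_
  refine Eq.trans (congrArg (fun z => P.map ((Over.forget U).map
    (((FormalCoproduct.cechFunctor.map f).app (op (SimplexCategory.mk 0))).φ i)).op z)
    (Edge0.π_toCech₀ Y' P s _)) ?_
  refine Eq.trans ?_ (Edge0.π_toCech₀ Y P s i).symm
  exact map_map_apply P _ _ _
    (Over.w (((FormalCoproduct.cechFunctor.map f).app (op (SimplexCategory.mk 0))).φ i)) s

lemma refineNat_f_zero_toCech₀ (P : Cᵒᵖ ⥤ AddCommGrpCat.{u}) (s : P.obj (op U)) :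
    ((refineNat f).app P).f 0 (CechEdge.toCech₀ P Y' s) = CechEdge.toCech₀ P Y s :=
  toCech₀_refine f P s

/-- Refinement is compatible with the canonical maps from sections. -/
lemma refine_toCech (P : Cᵒᵖ ⥤ AddCommGrpCat.{u}) (s : P.obj (op U)) :
    (HomologicalComplex.homologyMap ((refineNat f).app P) 0).hom (CechEdge.toCech Y' P s) =
      CechEdge.toCech Y P s := by
  have h1 : HomologicalComplex.cyclesMap ((refineNat f).app P) 0 (CechEdge.toCycles P Y' s) =
      CechEdge.toCycles P Y s := by
    have hmono : Function.Injective ((CechEdge.cx P Y).iCycles 0) :=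
      (AddCommGrpCat.mono_iff_injective _).1 inferInstance
    apply hmono
    have h2 : HomologicalComplex.cyclesMap ((refineNat f).app P) 0 ≫ (CechEdge.cx P Y).iCycles 0 =
        (CechEdge.cx P Y').iCycles 0 ≫ ((refineNat f).app P).f 0 :=
      HomologicalComplex.cyclesMap_i ((refineNat f).app P) 0
    refine Eq.trans (ConcreteCategory.congr_hom h2 (CechEdge.toCycles P Y' s)) ?_
    rw [Edge0.iCycles_toCycles, ConcreteCategory.comp_apply, Edge0.iCycles_toCycles]
    exact refineNat_f_zero_toCech₀ f P s
  have h3 : (CechEdge.cx P Y').homologyπ 0 ≫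
      HomologicalComplex.homologyMap ((refineNat f).app P) 0 =
      HomologicalComplex.cyclesMap ((refineNat f).app P) 0 ≫ (CechEdge.cx P Y).homologyπ 0 :=
    HomologicalComplex.homologyπ_naturality ((refineNat f).app P) 0
  rw [Edge0.toCech_apply, Edge0.toCech_apply, ← h1]
  exact ConcreteCategory.congr_hom h3 (CechEdge.toCycles P Y' s)

/-- Refinement is compatible with the maps induced by morphisms of presheaves. -/
lemma refine_cechHMap {P Q : Cᵒᵖ ⥤ AddCommGrpCat.{u}} (φ : P ⟶ Q) (p : ℕ)
    (x : CohCx.cechH P Y' p) :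
    (HomologicalComplex.homologyMap ((refineNat f).app Q) p).hom (CechEdge.cechHMap Y' φ p x) =
      CechEdge.cechHMap Y φ p
        ((HomologicalComplex.homologyMap ((refineNat f).app P) p).hom x) := by
  have h : HomologicalComplex.homologyMap ((CechEdge.cxFunctor Y').map φ) p ≫
      HomologicalComplex.homologyMap ((refineNat f).app Q) p =
      HomologicalComplex.homologyMap ((refineNat f).app P) p ≫
        HomologicalComplex.homologyMap ((CechEdge.cxFunctor Y).map φ) p := by
    rw [← HomologicalComplex.homologyMap_comp, ← HomologicalComplex.homologyMap_comp]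
    exact congrArg (fun z => HomologicalComplex.homologyMap z p) ((refineNat f).naturality φ)
  exact ConcreteCategory.congr_hom h x

/-- Refinement is compatible with the connecting homomorphisms. -/
lemma refine_δ (S : ShortComplex (Cᵒᵖ ⥤ AddCommGrpCat.{u})) (hS : S.ShortExact) (p : ℕ)
    (x : CohCx.cechH S.X₃ Y' p) :
    (HomologicalComplex.homologyMap ((refineNat f).app S.X₁) (p + 1)).hom
        (((EdgeT.shortExact_map_cxFunctor Y' S hS).δ p (p + 1) rfl).hom x) =
      ((EdgeT.shortExact_map_cxFunctor Y S hS).δ p (p + 1) rfl).hom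
        ((HomologicalComplex.homologyMap ((refineNat f).app S.X₃) p).hom x) :=
  ConcreteCategory.congr_hom (HomologicalComplex.HomologySequence.δ_naturality
    (S.mapNatTrans (refineNat f)) (EdgeT.shortExact_map_cxFunctor Y' S hS)
    (EdgeT.shortExact_map_cxFunctor Y S hS) p (p + 1) rfl) x

variable {e : ∀ (P : Cᵒᵖ ⥤ AddCommGrpCat.{u}) (p : ℕ),
    CohCx.cechH P Y p →+ Ext (CohCx.freeSheaf J U) (CechEdge.shf J P) p}

/-- Precomposing an edge family with the refinement maps gives an edge family. -/
theorem isEdge'_refine (he : EdgeU.IsEdge' J Y e)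
    (hY' : Sieve.ofArrows (fun i => (Y' i).left) (fun i => (Y' i).hom) ∈ J U) :
    EdgeU.IsEdge' J Y' (fun P p =>
      (e P p).comp (HomologicalComplex.homologyMap ((refineNat f).app P) p).hom) where
  cover := hY'
  zero P s := by
    change e P 0 ((HomologicalComplex.homologyMap ((refineNat f).app P) 0).hom
      (CechEdge.toCech Y' P s)) = _
    rw [refine_toCech]
    exact he.zero P s
  natural P Q φ p x := by
    change e Q p ((HomologicalComplex.homologyMap ((refineNat f).app Q) p).hom
      (CechEdge.cechHMap Y' φ p x)) = _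
    rw [refine_cechHMap]
    exact he.natural P Q φ p _
  delta S hS p x := by
    change e S.X₁ (p + 1) ((HomologicalComplex.homologyMap ((refineNat f).app S.X₁) (p + 1)).hom
      (((EdgeT.shortExact_map_cxFunctor Y' S hS).δ p (p + 1) rfl).hom x)) = _
    rw [refine_δ f S hS]
    exact he.delta S hS p _

/-- The comparison maps are compatible with refinement. -/
theorem edge_refine {e' : ∀ (P : Cᵒᵖ ⥤ AddCommGrpCat.{u}) (p : ℕ),
    CohCx.cechH P Y' p →+ Ext (CohCx.freeSheaf J U) (CechEdge.shf J P) p}
    (he : EdgeU.IsEdge' J Y e) (he' : EdgeU.IsEdge' J Y' e') (P : Cᵒᵖ ⥤ AddCommGrpCat.{u}) (p : ℕ)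
    (x : CohCx.cechH P Y' p) :
    e P p ((HomologicalComplex.homologyMap (CohCx.cechRefine P f) p).hom x) = e' P p x := by
  have h := (isEdge'_refine f he he'.cover).unique he'
  exact congrArg (fun (g : ∀ (P : Cᵒᵖ ⥤ AddCommGrpCat.{u}) (p : ℕ),
    CohCx.cechH P Y' p →+ Ext (CohCx.freeSheaf J U) (CechEdge.shf J P) p) => g P p x) h

end Groth.Agent.Lib.Helper28.EdgeR
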