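import Groth.Agent.Lib.Helper28.EdgeT
import Groth.Agent.Lib.Helper28.EdgeG
import Groth.Agent.Lib.Helper28.Edge0

/-!
# Sections as `Ext^0` out of the free sheaf, and sheafification of the unit
-/

namespace Groth.Agent.Lib.Helper28.EdgeS

open CategoryTheory Limits Opposite Abelian
open Groth.Agent.Lib.Helper28

universe u

variable {C : Type u} [SmallCategory C] (J : GrothendieckTopology C) (U : C)

/-- Sections over `U` as `Ext^0` out of the free sheaf (the prelude's `CechEdge.sectH0`, typed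
with `Ext`). -/
noncomputable def sect0 (F : Sheaf J AddCommGrpCat.{u}) :
    F.obj.obj (op U) ≃+ Ext (CohCx.freeSheaf J U) F 0 :=
  ((Abelian.Ext.addEquiv₀).trans (CohFree.homEquivSect J U F)).symm

lemma sect0_apply (F : Sheaf J AddCommGrpCat.{u}) (s : F.obj.obj (op U)) :
    sect0 J U F s = Ext.mk₀ (CohFree.ofSect J U F s) :=
  rfl

variable {J U}

lemma ofSect_comp {F G : Sheaf J AddCommGrpCat.{u}} (ψ : F ⟶ G) (s : F.obj.obj (op U)) :
    CohFree.ofSect J U F s ≫ ψ = CohFree.ofSect J U G (ψ.hom.app (op U) s) := by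
  apply (CohFree.homEquivSect J U G).injective
  rw [CohFree.homEquivSect_apply, CohFree.homEquivSect_apply, CohFree.evalGen_ofSect]
  change (ψ.hom.app (op U)) (CohFree.evalGen J U F (CohFree.ofSect J U F s)) = _
  rw [CohFree.evalGen_ofSect]

lemma sect0_naturality {F G : Sheaf J AddCommGrpCat.{u}} (ψ : F ⟶ G) (s : F.obj.obj (op U)) :
    (sect0 J U F s).comp (Ext.mk₀ ψ) (add_zero 0) = sect0 J U G (ψ.hom.app (op U) s) := by
  refine Eq.trans (congrArg (fun z => Ext.comp z (Ext.mk₀ ψ) (add_zero 0)) (sect0_apply J U F s)) ?_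
  refine Eq.trans ?_ (sect0_apply J U G _).symm
  rw [Ext.mk₀_comp_mk₀, ofSect_comp]

/-- Postcomposition with an isomorphism is bijective on `Ext`. -/
lemma comp_mk₀_bijective {𝒜 : Type*} [Category 𝒜] [Abelian 𝒜] [HasExt.{u} 𝒜] {X F G : 𝒜}
    (ψ : F ⟶ G) [IsIso ψ] (p : ℕ) :
    Function.Bijective (fun x : Ext X F p => x.comp (Ext.mk₀ ψ) (add_zero p)) := by
  refine Function.bijective_iff_has_inverse.2
    ⟨fun x => x.comp (Ext.mk₀ (inv ψ)) (add_zero p), ?_, ?_⟩
  · intro x
    dsimp only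
    rw [Ext.comp_assoc_of_third_deg_zero, Ext.mk₀_comp_mk₀, IsIso.hom_inv_id, Ext.comp_mk₀_id]
  · intro x
    dsimp only
    rw [Ext.comp_assoc_of_third_deg_zero, Ext.mk₀_comp_mk₀, IsIso.inv_hom_id, Ext.comp_mk₀_id]

variable (J)

/-- The sheafification of the unit `P ⟶ P^#` is an isomorphism. -/
instance isIso_shfMap_toSheafify (P : Cᵒᵖ ⥤ AddCommGrpCat.{u}) :
    IsIso (CechEdge.shfMap J (toSheafify J P)) := by
  have h : CechEdge.shfMap J (toSheafify J P) ≫
      (sheafificationAdjunction J AddCommGrpCat.{u}).counit.app (CechEdge.shf J P) = 𝟙 _ :=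
    (sheafificationAdjunction J AddCommGrpCat.{u}).left_triangle_components P
  have h' : CechEdge.shfMap J (toSheafify J P) =
      inv ((sheafificationAdjunction J AddCommGrpCat.{u}).counit.app (CechEdge.shf J P)) := by
    rw [← cancel_mono ((sheafificationAdjunction J AddCommGrpCat.{u}).counit.app
      (CechEdge.shf J P)), h, IsIso.inv_hom_id]
  rw [h']
  infer_instance

end Groth.Agent.Lib.Helper28.EdgeS
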