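import Groth.Agent.Lib.Helper28.EdgeZ

/-!
# Edge families (Ext-level form): existence and uniqueness via universality of Čech cohomology
-/

namespace Groth.Agent.Lib.Helper28.EdgeU

open CategoryTheory Limits Opposite Abelian
open Groth.Agent.Lib.Helper28

universe u

variable {C : Type u} [SmallCategory C] [HasPullbacks C] (J : GrothendieckTopology C) {U : C}
  {ι : Type u} (Y : ι → Over U)

/-- `P ↦ H^•(U, P^#)` as a δ-functor on presheaves. -/
noncomputable abbrev Gsh (U : C) : DeltaF.CohDeltaFunctor (Cᵒᵖ ⥤ AddCommGrpCat.{u}) AddCommGrpCat.{u} ℕ :=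
  EdgeG.G (CohCx.freeSheaf J U) (presheafToSheaf J AddCommGrpCat.{u})

/-- The Ext-level form of `CechEdge.IsEdge`. -/
structure IsEdge' (e : ∀ (P : Cᵒᵖ ⥤ AddCommGrpCat.{u}) (p : ℕ),
    CohCx.cechH P Y p →+ Ext (CohCx.freeSheaf J U) (CechEdge.shf J P) p) : Prop where
  cover : Sieve.ofArrows (fun i => (Y i).left) (fun i => (Y i).hom) ∈ J U
  zero : ∀ (P : Cᵒᵖ ⥤ AddCommGrpCat.{u}) (s : P.obj (op U)),
    e P 0 (CechEdge.toCech Y P s) =
      EdgeS.sect0 J U (CechEdge.shf J P) (((toSheafify J P).app (op U)).hom s)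
  natural : ∀ (P Q : Cᵒᵖ ⥤ AddCommGrpCat.{u}) (φ : P ⟶ Q) (p : ℕ) (x : CohCx.cechH P Y p),
    e Q p (CechEdge.cechHMap Y φ p x) =
      (e P p x).comp (Ext.mk₀ (CechEdge.shfMap J φ)) (add_zero p)
  delta : ∀ (S : ShortComplex (Cᵒᵖ ⥤ AddCommGrpCat.{u})) (hS : S.ShortExact) (p : ℕ)
    (x : CohCx.cechH S.X₃ Y p),
    e S.X₁ (p + 1) (((EdgeT.shortExact_map_cxFunctor Y S hS).δ p (p + 1) rfl).hom x) =
      (e S.X₃ p x).comp (EdgeG.shortExact_map (presheafToSheaf J AddCommGrpCat.{u}) hS).extClass rfl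

variable (hY : Sieve.ofArrows (fun i => (Y i).left) (fun i => (Y i).hom) ∈ J U)

/-- The degree zero comparison as a natural transformation. -/
noncomputable def t0 : (EdgeT.T Y).F 0 ⟶ (Gsh J U).F 0 where
  app P := AddCommGrpCat.ofHom (EdgeZ.t0app J Y hY P)
  naturality P Q φ := by
    ext x
    exact EdgeZ.t0app_naturality J Y hY φ x

variable {J Y}

/-- A morphism of δ-functors extending the degree zero comparison is an edge family. -/
lemma isEdge'_of_hom (τ : EdgeT.T Y ⟶ Gsh J U) (h0 : τ.app 0 = t0 J Y hY) :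
    IsEdge' J Y (fun P p => ((τ.app p).app P).hom) where
  cover := hY
  zero P s := by
    have h : ((τ.app 0).app P).hom = EdgeZ.t0app J Y hY P := by rw [h0]; rfl
    exact (congrArg (fun f => f (CechEdge.toCech Y P s)) h).trans (EdgeZ.t0app_toCech J Y hY P s)
  natural P Q φ p x := ConcreteCategory.congr_hom ((τ.app p).naturality φ) x
  delta S hS p x := ConcreteCategory.congr_hom (τ.comm S hS p (p + 1) rfl) x

include hY in
theorem exists_isEdge' : ∃ e, IsEdge' J Y e := by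
  obtain ⟨τ, h0, -⟩ := EdgeT.isUniversal_T Y (Gsh J U) (t0 J Y hY)
  exact ⟨_, isEdge'_of_hom hY τ h0⟩

/-- An edge family as a morphism of δ-functors. -/
noncomputable def IsEdge'.toHom {e : ∀ (P : Cᵒᵖ ⥤ AddCommGrpCat.{u}) (p : ℕ),
    CohCx.cechH P Y p →+ Ext (CohCx.freeSheaf J U) (CechEdge.shf J P) p} (he : IsEdge' J Y e) :
    EdgeT.T Y ⟶ Gsh J U where
  app p :=
    { app := fun P => AddCommGrpCat.ofHom (e P p)
      naturality := fun P Q φ => by
        ext x
        exact he.natural P Q φ p x }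
  comm S hS n₀ n₁ h := by
    subst h
    ext x
    exact he.delta S hS n₀ x

variable {e : ∀ (P : Cᵒᵖ ⥤ AddCommGrpCat.{u}) (p : ℕ),
    CohCx.cechH P Y p →+ Ext (CohCx.freeSheaf J U) (CechEdge.shf J P) p}

lemma IsEdge'.zero_eq_aux (he : IsEdge' J Y e) (Q : Cᵒᵖ ⥤ AddCommGrpCat.{u}) (s : Q.obj (op U)) :
    e Q 0 (CechEdge.toCech Y Q s) = EdgeZ.t0app J Y he.cover Q (CechEdge.toCech Y Q s) :=
  (he.zero Q s).trans (EdgeZ.t0app_toCech J Y he.cover Q s).symm

/-- The degree zero part of an edge family is the canonical comparison map. -/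
lemma IsEdge'.zero_eq (he : IsEdge' J Y e) (P : Cᵒᵖ ⥤ AddCommGrpCat.{u})
    (x : CohCx.cechH P Y 0) : e P 0 x = EdgeZ.t0app J Y he.cover P x := by
  apply (EdgeS.comp_mk₀_bijective (X := CohCx.freeSheaf J U)
    (CechEdge.shfMap J (toSheafify J P)) 0).1
  dsimp only
  rw [← he.natural, ← EdgeZ.t0app_naturality]
  obtain ⟨s, hs⟩ := Edge0.toCech_surjective Y (CechEdge.shf J P) he.cover
    (CechEdge.cechHMap Y (toSheafify J P) 0 x)
  rw [← hs]
  exact he.zero_eq_aux _ s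

lemma IsEdge'.toHom_app_zero (he : IsEdge' J Y e) : he.toHom.app 0 = t0 J Y he.cover := by
  ext P x
  exact he.zero_eq P x

theorem IsEdge'.unique {e' : ∀ (P : Cᵒᵖ ⥤ AddCommGrpCat.{u}) (p : ℕ),
    CohCx.cechH P Y p →+ Ext (CohCx.freeSheaf J U) (CechEdge.shf J P) p}
    (he : IsEdge' J Y e) (he' : IsEdge' J Y e') : e = e' := by
  have h : he.toHom = he'.toHom :=
    (EdgeT.isUniversal_T Y (Gsh J U) (t0 J Y he.cover)).unique he.toHom_app_zero
      he'.toHom_app_zero
  funext P p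
  exact congrArg (fun τ : EdgeT.T Y ⟶ Gsh J U => ((τ.app p).app P).hom) h

end Groth.Agent.Lib.Helper28.EdgeU
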