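import Groth.Agent.Lib.Helper28.EdgeS

/-!
# The degree zero comparison map from Čech cohomology to cohomology
-/

namespace Groth.Agent.Lib.Helper28.EdgeZ

open CategoryTheory Limits Opposite Abelian
open Groth.Agent.Lib.Helper28

universe u

variable {C : Type u} [SmallCategory C] [HasPullbacks C] (J : GrothendieckTopology C) {U : C}
  {ι : Type u} (Y : ι → Over U)

omit [HasPullbacks C] in
lemma toSheafify_naturality {P Q : Cᵒᵖ ⥤ AddCommGrpCat.{u}} (φ : P ⟶ Q) :
    φ ≫ toSheafify J Q = toSheafify J P ≫ (CechEdge.shfMap J φ).hom :=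
  (sheafificationAdjunction J AddCommGrpCat.{u}).unit.naturality φ

lemma cechHMap_comp {P Q R : Cᵒᵖ ⥤ AddCommGrpCat.{u}} (φ : P ⟶ Q) (ψ : Q ⟶ R) (p : ℕ)
    (x : CohCx.cechH P Y p) :
    CechEdge.cechHMap Y (φ ≫ ψ) p x = CechEdge.cechHMap Y ψ p (CechEdge.cechHMap Y φ p x) := by
  have h : HomologicalComplex.homologyMap ((CechEdge.cxFunctor Y).map (φ ≫ ψ)) p =
      HomologicalComplex.homologyMap ((CechEdge.cxFunctor Y).map φ) p ≫
        HomologicalComplex.homologyMap ((CechEdge.cxFunctor Y).map ψ) p := by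
    rw [Functor.map_comp, HomologicalComplex.homologyMap_comp]
  exact ConcreteCategory.congr_hom h x

variable (hY : Sieve.ofArrows (fun i => (Y i).left) (fun i => (Y i).hom) ∈ J U)

/-- The degree zero comparison map `Ȟ^0(Y, P) → H^0(U, P^#)`. -/
noncomputable def t0app (P : Cᵒᵖ ⥤ AddCommGrpCat.{u}) :
    CohCx.cechH P Y 0 →+ Ext (CohCx.freeSheaf J U) (CechEdge.shf J P) 0 :=
  (EdgeS.sect0 J U (CechEdge.shf J P)).toAddMonoidHom.comp
    ((Edge0.toCechEquiv Y (CechEdge.shf J P) hY).symm.toAddMonoidHom.comp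
      (CechEdge.cechHMap Y (toSheafify J P) 0))

lemma t0app_apply (P : Cᵒᵖ ⥤ AddCommGrpCat.{u}) (x : CohCx.cechH P Y 0) :
    t0app J Y hY P x = EdgeS.sect0 J U (CechEdge.shf J P)
      ((Edge0.toCechEquiv Y (CechEdge.shf J P) hY).symm
        (CechEdge.cechHMap Y (toSheafify J P) 0 x)) := rfl

lemma toCechEquiv_apply (F : Sheaf J AddCommGrpCat.{u}) (s : F.obj.obj (op U)) :
    Edge0.toCechEquiv Y F hY s = CechEdge.toCech Y F.obj s := rfl

lemma t0app_toCech (P : Cᵒᵖ ⥤ AddCommGrpCat.{u}) (s : P.obj (op U)) :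
    t0app J Y hY P (CechEdge.toCech Y P s) =
      EdgeS.sect0 J U (CechEdge.shf J P) (((toSheafify J P).app (op U)).hom s) := by
  rw [t0app_apply, Edge0.toCech_naturality]
  congr 1
  exact (Edge0.toCechEquiv Y (CechEdge.shf J P) hY).symm_apply_apply _

lemma t0app_naturality {P Q : Cᵒᵖ ⥤ AddCommGrpCat.{u}} (φ : P ⟶ Q) (x : CohCx.cechH P Y 0) :
    t0app J Y hY Q (CechEdge.cechHMap Y φ 0 x) =
      (t0app J Y hY P x).comp (Ext.mk₀ (CechEdge.shfMap J φ)) (add_zero 0) := by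
  rw [t0app_apply, t0app_apply, EdgeS.sect0_naturality]
  congr 1
  apply (Edge0.toCechEquiv Y (CechEdge.shf J Q) hY).injective
  rw [AddEquiv.apply_symm_apply, toCechEquiv_apply, ← Edge0.toCech_naturality Y
    (CechEdge.shfMap J φ).hom, ← toCechEquiv_apply J Y hY, AddEquiv.apply_symm_apply,
    ← cechHMap_comp, ← cechHMap_comp, toSheafify_naturality]

end Groth.Agent.Lib.Helper28.EdgeZ
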