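import Groth.Agent.Lib.Helper4.ExtZeroBC
import Groth.Agent.Lib.Helper4.LocCoh
import Groth.Agent.Lib.Helper28.BCMate

/-!
# Étale base change in degree zero

For a cartesian square with `j : V ⟶ X` étale, the base change map
`j⁻¹ f_* G ⟶ f'_* j'⁻¹ G` (`EtCoh.baseChange0`) is an isomorphism.  Proof: in the restriction model
(`EtShriek.restrAlong`) it is the explicit site-level isomorphism `ExtZeroBC.rightIso`.
-/

set_option autoImplicit false
open CategoryTheory CategoryTheory.Limits AlgebraicGeometry Opposite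
universe u

namespace Groth.Agent.Lib.Helper28.EtBCEtale
open Groth.Agent.Lib.Helper4

section Site
variable {X Y Z : Scheme.{u}} (g : Z ⟶ Y) (f : Y ⟶ X)

lemma pbComp_hom_left (T : X.Etale) :
    ((MorphismProperty.Over.pullbackComp (P := EtCoh.etaleMP.{u}) (Q := ⊤) g f).hom.app T).left =
      (pullbackLeftPullbackSndIso T.hom f g).inv := by
  change (pullback.congrHom rfl rfl ≪≫ (pullbackLeftPullbackSndIso T.hom f g).symm).hom = _
  rw [Iso.trans_hom, pullback.congrHom_hom, pullback.map_id, Category.id_comp]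
  rfl

lemma pbComp_inv_left (T : X.Etale) :
    ((MorphismProperty.Over.pullbackComp (P := EtCoh.etaleMP.{u}) (Q := ⊤) g f).inv.app T).left =
      (pullbackLeftPullbackSndIso T.hom f g).hom := by
  change (pullback.congrHom rfl rfl ≪≫ (pullbackLeftPullbackSndIso T.hom f g).symm).inv = _
  rw [Iso.trans_inv, pullback.congrHom_inv, pullback.map_id, Category.comp_id]
  rfl

lemma pbCongr_inv_left {a b : Y ⟶ X} (e : a = b) (T : X.Etale) :
    ((MorphismProperty.Over.pullbackCongr (P := EtCoh.etaleMP.{u}) (Q := ⊤) e).inv.app T).left =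
      (pullback.congrHom rfl e).inv := rfl

end Site
end Groth.Agent.Lib.Helper28.EtBCEtale

namespace Groth.Agent.Lib.Helper28.EtBCEtale
open Groth.Agent.Lib.Helper4

section Sq
variable {V' V Y X : Scheme.{u}} (j : V ⟶ X) [Etale j]
    (f : Y ⟶ X) (j' : V' ⟶ Y) [Etale j'] (f' : V' ⟶ V)
    (h : IsPullback j' f' f j)

lemma adjSite_counit_left (T : X.Etale) :
    ((EtRestr.adjSite j).counit.app T).left = pullback.fst T.hom j := by
  simp [EtRestr.adjSite, MorphismProperty.Over.mapPullbackAdj] <;> rfl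

lemma siteIso_hom_left_fst (W : V.Etale) :
    ((ExtZeroBC.siteIso j f j' f' h).hom.app W).left ≫ pullback.fst (W.hom ≫ j) f =
      pullback.fst W.hom f' :=
  (ExtZeroBC.isPullback_paste j f j' f' h W).isoPullback_hom_fst

lemma siteIso_hom_left_snd (W : V.Etale) :
    ((ExtZeroBC.siteIso j f j' f' h).hom.app W).left ≫ pullback.snd (W.hom ≫ j) f =
      pullback.snd W.hom f' ≫ j' :=
  (ExtZeroBC.isPullback_paste j f j' f' h W).isoPullback_hom_snd

lemma site_eq (T : X.Etale) :
    (EtShriek.compEtale j').map ((MorphismProperty.Over.pullbackComp (P := EtCoh.etaleMP.{u}) (Q := ⊤) f' j).inv.app T ≫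
        (MorphismProperty.Over.pullbackCongr (P := EtCoh.etaleMP.{u}) (Q := ⊤) h.w).inv.app T ≫
        (MorphismProperty.Over.pullbackComp (P := EtCoh.etaleMP.{u}) (Q := ⊤) j' f).hom.app T) ≫
      (EtRestr.adjSite j').counit.app ((EtCoh.bc f).obj T) =
    (ExtZeroBC.siteIso j f j' f' h).hom.app ((EtCoh.bc j).obj T) ≫
      (EtCoh.bc f).map ((EtRestr.adjSite j).counit.app T) := by
  apply MorphismProperty.Over.Hom.ext
  have hL : ((EtShriek.compEtale j').map ((MorphismProperty.Over.pullbackComp (P := EtCoh.etaleMP.{u}) (Q := ⊤) f' j).inv.app T ≫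
        (MorphismProperty.Over.pullbackCongr (P := EtCoh.etaleMP.{u}) (Q := ⊤) h.w).inv.app T ≫
        (MorphismProperty.Over.pullbackComp (P := EtCoh.etaleMP.{u}) (Q := ⊤) j' f).hom.app T) ≫
      (EtRestr.adjSite j').counit.app ((EtCoh.bc f).obj T)).left =
      ((pullbackLeftPullbackSndIso T.hom j f').hom ≫ (pullback.congrHom rfl h.w).inv ≫
        (pullbackLeftPullbackSndIso T.hom f j').inv) ≫ pullback.fst (pullback.snd T.hom f) j' := by
    change (((MorphismProperty.Over.pullbackComp (P := EtCoh.etaleMP.{u}) (Q := ⊤) f' j).inv.app T).left ≫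
        ((MorphismProperty.Over.pullbackCongr (P := EtCoh.etaleMP.{u}) (Q := ⊤) h.w).inv.app T).left ≫
        ((MorphismProperty.Over.pullbackComp (P := EtCoh.etaleMP.{u}) (Q := ⊤) j' f).hom.app T).left) ≫
      ((EtRestr.adjSite j').counit.app ((EtCoh.bc f).obj T)).left = _
    rw [pbComp_inv_left, pbCongr_inv_left, pbComp_hom_left, adjSite_counit_left]
    rfl
  have hR : ((ExtZeroBC.siteIso j f j' f' h).hom.app ((EtCoh.bc j).obj T) ≫
      (EtCoh.bc f).map ((EtRestr.adjSite j).counit.app T)).left =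
      ((ExtZeroBC.siteIso j f j' f' h).hom.app ((EtCoh.bc j).obj T)).left ≫
        ((EtCoh.bc f).map ((EtRestr.adjSite j).counit.app T)).left := rfl
  rw [hL, hR]
  apply pullback.hom_ext
  · have hl : (((pullbackLeftPullbackSndIso T.hom j f').hom ≫ (pullback.congrHom rfl h.w).inv ≫
        (pullbackLeftPullbackSndIso T.hom f j').inv) ≫ pullback.fst (pullback.snd T.hom f) j') ≫
        pullback.fst T.hom f = pullback.fst (pullback.snd T.hom j) f' ≫ pullback.fst T.hom j := by
      simp only [Category.assoc]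
      rw [pullbackLeftPullbackSndIso_inv_fst, pullback.congrHom_inv, pullback.lift_fst,
        Category.comp_id, pullbackLeftPullbackSndIso_hom_fst]
    have hr : (((ExtZeroBC.siteIso j f j' f' h).hom.app ((EtCoh.bc j).obj T)).left ≫
        ((EtCoh.bc f).map ((EtRestr.adjSite j).counit.app T)).left) ≫ pullback.fst T.hom f =
        pullback.fst (pullback.snd T.hom j) f' ≫ pullback.fst T.hom j := by
      have b1 : ((EtCoh.bc f).map ((EtRestr.adjSite j).counit.app T)).left ≫ pullback.fst T.hom f =
          pullback.fst (pullback.snd T.hom j ≫ j) f ≫ pullback.fst T.hom j :=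
        (ExtZeroBC.bc_map_fst f ((EtRestr.adjSite j).counit.app T)).trans
          (congrArg (pullback.fst (pullback.snd T.hom j ≫ j) f ≫ ·) (adjSite_counit_left j T))
      have s1 : ((ExtZeroBC.siteIso j f j' f' h).hom.app ((EtCoh.bc j).obj T)).left ≫
          pullback.fst (pullback.snd T.hom j ≫ j) f = pullback.fst (pullback.snd T.hom j) f' :=
        siteIso_hom_left_fst j f j' f' h ((EtCoh.bc j).obj T)
      exact (Category.assoc _ _ _).trans ((congrArg
        (((ExtZeroBC.siteIso j f j' f' h).hom.app ((EtCoh.bc j).obj T)).left ≫ ·) b1).trans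
        ((Category.assoc _ _ _).symm.trans (congrArg (· ≫ pullback.fst T.hom j) s1)))
    exact hl.trans hr.symm
  · have hl : (((pullbackLeftPullbackSndIso T.hom j f').hom ≫ (pullback.congrHom rfl h.w).inv ≫
        (pullbackLeftPullbackSndIso T.hom f j').inv) ≫ pullback.fst (pullback.snd T.hom f) j') ≫
        pullback.snd T.hom f = pullback.snd (pullback.snd T.hom j) f' ≫ j' := by
      simp only [Category.assoc]
      rw [pullbackLeftPullbackSndIso_inv_fst_snd, pullback.congrHom_inv, pullback.lift_snd_assoc,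
        Category.comp_id, pullbackLeftPullbackSndIso_hom_snd_assoc]
    have hr : (((ExtZeroBC.siteIso j f j' f' h).hom.app ((EtCoh.bc j).obj T)).left ≫
        ((EtCoh.bc f).map ((EtRestr.adjSite j).counit.app T)).left) ≫ pullback.snd T.hom f =
        pullback.snd (pullback.snd T.hom j) f' ≫ j' := by
      have b1 : ((EtCoh.bc f).map ((EtRestr.adjSite j).counit.app T)).left ≫ pullback.snd T.hom f =
          pullback.snd (pullback.snd T.hom j ≫ j) f :=
        ExtZeroBC.bc_map_snd f ((EtRestr.adjSite j).counit.app T)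
      have s1 : ((ExtZeroBC.siteIso j f j' f' h).hom.app ((EtCoh.bc j).obj T)).left ≫
          pullback.snd (pullback.snd T.hom j ≫ j) f = pullback.snd (pullback.snd T.hom j) f' ≫ j' :=
        siteIso_hom_left_snd j f j' f' h ((EtCoh.bc j).obj T)
      exact (Category.assoc _ _ _).trans ((congrArg
        (((ExtZeroBC.siteIso j f j' f' h).hom.app ((EtCoh.bc j).obj T)).left ≫ ·) b1).trans s1)
    exact hl.trans hr.symm


lemma restr_unit_app (F : EtCoh.Ab X) (T : X.Etaleᵒᵖ) :
    ((EtRestr.restrPushAdj j).unit.app F).hom.app T =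
      F.obj.map ((EtRestr.adjSite j).counit.app T.unop).op := by
  simp [EtRestr.restrPushAdj] <;> rfl

omit [Etale j] [Etale j'] in
lemma map4 {C D : Type*} [Category C] [Category D] (G : Cᵒᵖ ⥤ D) {x0 x1 x2 x3 x4 : C}
    (a : x1 ⟶ x0) (b : x2 ⟶ x1) (c : x3 ⟶ x2) (d : x4 ⟶ x3) :
    G.map a.op ≫ G.map b.op ≫ G.map c.op ≫ G.map d.op = G.map (d ≫ c ≫ b ≫ a).op := by
  simp

omit [Etale j] [Etale j'] in
lemma map2 {C D : Type*} [Category C] [Category D] (G : Cᵒᵖ ⥤ D) {x0 x1 x2 : C}
    (a : x1 ⟶ x0) (b : x2 ⟶ x1) :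
    G.map a.op ≫ G.map b.op = G.map (b ≫ a).op := by
  simp

omit [Etale j] [Etale j'] in
lemma comp3 {C D : Type*} [Category C] [Category D] (F : C ⥤ D) {x0 x1 x2 x3 : C} {y : D}
    (a : x0 ⟶ x1) (b : x1 ⟶ x2) (c : x2 ⟶ x3) (k : F.obj x3 ⟶ y) :
    F.map a ≫ F.map b ≫ F.map c ≫ k = F.map (a ≫ b ≫ c) ≫ k := by
  simp

theorem unit_compat (G : EtCoh.Ab Y) :
    (EtCoh.push f).map ((EtRestr.restrPushAdj j').unit.app G) ≫
        (EtCoh.pushComp f j').hom.app _ ≫ (EtCoh.pushCongr h.w).hom.app _ ≫
          (EtCoh.pushComp j f').inv.app _ =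
      (EtRestr.restrPushAdj j).unit.app ((EtCoh.push f).obj G) ≫
        (EtCoh.push j).map ((ExtZeroBC.rightIso j f j' f' h).inv.app G) := by
  apply Sheaf.hom_ext
  ext T : 2
  have eL : ((EtCoh.push f).map ((EtRestr.restrPushAdj j').unit.app G) ≫
        (EtCoh.pushComp f j').hom.app _ ≫ (EtCoh.pushCongr h.w).hom.app _ ≫
          (EtCoh.pushComp j f').inv.app _).hom.app T =
      G.obj.map ((EtRestr.adjSite j').counit.app ((EtCoh.bc f).obj T.unop)).op ≫
        G.obj.map ((EtShriek.compEtale j').map ((MorphismProperty.Over.pullbackComp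
          (P := EtCoh.etaleMP.{u}) (Q := ⊤) j' f).hom.app T.unop)).op ≫
        G.obj.map ((EtShriek.compEtale j').map ((MorphismProperty.Over.pullbackCongr
          (P := EtCoh.etaleMP.{u}) (Q := ⊤) h.w).inv.app T.unop)).op ≫
        G.obj.map ((EtShriek.compEtale j').map ((MorphismProperty.Over.pullbackComp
          (P := EtCoh.etaleMP.{u}) (Q := ⊤) f' j).inv.app T.unop)).op := by
    have e1 : ((EtCoh.push f).map ((EtRestr.restrPushAdj j').unit.app G)).hom.app T =
        G.obj.map ((EtRestr.adjSite j').counit.app ((EtCoh.bc f).obj T.unop)).op :=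
      restr_unit_app j' G (op ((EtCoh.bc f).obj T.unop))
    exact congrArg (· ≫ _) e1
  have eR : ((EtRestr.restrPushAdj j).unit.app ((EtCoh.push f).obj G) ≫
        (EtCoh.push j).map ((ExtZeroBC.rightIso j f j' f' h).inv.app G)).hom.app T =
      G.obj.map ((EtCoh.bc f).map ((EtRestr.adjSite j).counit.app T.unop)).op ≫
        G.obj.map ((ExtZeroBC.siteIso j f j' f' h).hom.app ((EtCoh.bc j).obj T.unop)).op := by
    have e1 : ((EtRestr.restrPushAdj j).unit.app ((EtCoh.push f).obj G)).hom.app T =
        G.obj.map ((EtCoh.bc f).map ((EtRestr.adjSite j).counit.app T.unop)).op :=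
      restr_unit_app j ((EtCoh.push f).obj G) T
    exact congrArg (· ≫ _) e1
  refine eL.trans (Eq.trans ?_ eR.symm)
  refine (map4 G.obj _ _ _ _).trans (Eq.trans ?_ (map2 G.obj _ _).symm)
  refine congrArg (fun m => G.obj.map (Quiver.Hom.op m)) ?_
  exact (comp3 (EtShriek.compEtale j') _ _ _ _).trans (site_eq j f j' f' h T.unop)


/-- The degree zero base change map along an étale morphism, in the restriction model. -/
theorem baseChange0_eq_restr (G : EtCoh.Ab Y) :
    (EtRestr.restrPullIso j).hom.app ((EtCoh.push f).obj G) ≫ EtCoh.baseChange0 f j f' j' h.w G =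
      (ExtZeroBC.rightIso j f j' f' h).inv.app G ≫
        (EtCoh.push f').map ((EtRestr.restrPullIso j').hom.app G) := by
  apply ((EtRestr.restrPushAdj j).homEquiv _ _).injective
  rw [Adjunction.homEquiv_unit, Adjunction.homEquiv_unit, Functor.map_comp, Functor.map_comp]
  have hu := Adjunction.unit_leftAdjointUniq_hom_app (EtRestr.restrPushAdj j)
    (EtCoh.pullPushAdj j) ((EtCoh.push f).obj G)
  have hu' := Adjunction.unit_leftAdjointUniq_hom_app (EtRestr.restrPushAdj j')
    (EtCoh.pullPushAdj j') G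
  have hβ := BCMate.unit_baseChange0 f j f' j' h.w G
  have hc := unit_compat j f j' f' h G
  have n1 := (EtCoh.pushComp f j').hom.naturality ((EtRestr.restrPullIso j').hom.app G)
  have n2 := (EtCoh.pushCongr h.w).hom.naturality ((EtRestr.restrPullIso j').hom.app G)
  have n3 := (EtCoh.pushComp j f').inv.naturality ((EtRestr.restrPullIso j').hom.app G)
  have hL : (EtRestr.restrPushAdj j).unit.app ((EtCoh.push f).obj G) ≫
      (EtCoh.push j).map ((EtRestr.restrPullIso j).hom.app ((EtCoh.push f).obj G)) ≫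
        (EtCoh.push j).map (EtCoh.baseChange0 f j f' j' h.w G) = BCMate.β f j f' j' h.w G := by
    rw [← Category.assoc]
    exact (congrArg (· ≫ _) hu).trans hβ
  have hR : (EtRestr.restrPushAdj j).unit.app ((EtCoh.push f).obj G) ≫
      (EtCoh.push j).map ((ExtZeroBC.rightIso j f j' f' h).inv.app G) ≫
        (EtCoh.push j).map ((EtCoh.push f').map ((EtRestr.restrPullIso j').hom.app G)) =
      BCMate.β f j f' j' h.w G := by
    rw [← Category.assoc, ← hc]
    unfold BCMate.β
    rw [← hu', Functor.map_comp]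
    simp only [Category.assoc]
    congr 1
    simp only [Functor.comp_map] at n1 n2 n3
    rw [← n3, ← reassoc_of% n2, ← reassoc_of% n1]
    rfl
  exact hL.trans hR.symm

theorem isIso_baseChange0 (G : EtCoh.Ab Y) : IsIso (EtCoh.baseChange0 f j f' j' h.w G) := by
  have e := baseChange0_eq_restr j f j' f' h G
  have h1 : IsIso ((EtRestr.restrPullIso j).hom.app ((EtCoh.push f).obj G) ≫
      EtCoh.baseChange0 f j f' j' h.w G) := by
    rw [e]
    infer_instance
  exact IsIso.of_isIso_comp_left ((EtRestr.restrPullIso j).hom.app ((EtCoh.push f).obj G)) _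

end Sq
end Groth.Agent.Lib.Helper28.EtBCEtale
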