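import Groth.Agent.Lib.Helper4.EtExtShriek

set_option autoImplicit false
open CategoryTheory CategoryTheory.Limits AlgebraicGeometry Opposite
universe u

namespace Groth.Agent.Lib.Helper28.EtHpullTrans
open EtCore Abelian Groth.Agent.Lib.Helper4 Groth.Agent.Lib.Helper4.EtExtShriek

section One
variable {U X : Scheme.{u}} (j : U ⟶ X) [Etale j] [PreservesFiniteLimits (EtCoh.pull j)]

lemma Hpull_eq_zero_iff (F : EtCoh.Ab X) (n : ℕ) (α : EtCoh.H X F n) :
    Hpull j F n α = 0 ↔ (Ext.mk₀ (cU j)).comp α (zero_add n) = 0 := by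
  rw [Hpull_eq]
  exact (ΘE j F n).map_eq_zero_iff

end One

section Two
variable {W U X : Scheme.{u}} (k : W ⟶ U) (j : U ⟶ X) (j₀ : W ⟶ X) (w : k ≫ j = j₀)
  [Etale j] [Etale j₀]
  [PreservesFiniteLimits (EtCoh.pull j)] [PreservesFiniteLimits (EtCoh.pull j₀)]

include w in
/-- A class killed by `U` is killed by every `W` over `U`. -/
lemma Hpull_eq_zero_of_factor (F : EtCoh.Ab X) (n : ℕ) (α : EtCoh.H X F n)
    (hα : Hpull j F n α = 0) : Hpull j₀ F n α = 0 := by
  rw [Hpull_eq_zero_iff] at hα ⊢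
  rw [← aU_cU k j j₀ w, ← Ext.mk₀_comp_mk₀, Ext.comp_assoc_of_second_deg_zero, hα, Ext.comp_zero]

variable [PreservesFiniteLimits (EtCoh.pull k)]

include w in
/-- Transitivity of pullbacks, in the form needed: if `α` dies on `W` then the pullback of
`α` to `U` dies on `W`. -/
lemma Hpull_Hpull_eq_zero (F : EtCoh.Ab X) (n : ℕ) (α : EtCoh.H X F n)
    (hα : Hpull j₀ F n α = 0) : Hpull k ((EtCoh.pull j).obj F) n (Hpull j F n α) = 0 := by
  have h1 := HpullVia_eq k j j₀ w F n ((Ext.mk₀ (cU j)).comp α (zero_add n))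
  rw [← Hpull_eq, ← Ext.comp_assoc_of_second_deg_zero, Ext.mk₀_comp_mk₀, aU_cU, ← Hpull_eq, hα] at h1
  -- `HpullVia` is `Hpull k` followed by an isomorphism
  let φ := ((pullComp k j).symm ≪≫ pullCongr w).app F
  have h2 : HpullVia k j j₀ w F n (Hpull j F n α) =
      ((EtCoh.HF W n).map φ.hom) (Hpull k ((EtCoh.pull j).obj F) n (Hpull j F n α)) := rfl
  rw [h2] at h1
  have h4 : (EtCoh.HF W n).map φ.hom ≫ (EtCoh.HF W n).map φ.inv = 𝟙 _ := by
    rw [← Functor.map_comp, Iso.hom_inv_id, CategoryTheory.Functor.map_id]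
  let y : ((EtCoh.HF W n).obj ((EtCoh.pull j ⋙ EtCoh.pull k).obj F)) :=
    Hpull k ((EtCoh.pull j).obj F) n (Hpull j F n α)
  have h1' : ((EtCoh.HF W n).map φ.hom) y = 0 := h1
  have h5 : ((EtCoh.HF W n).map φ.inv) (((EtCoh.HF W n).map φ.hom) y) = y := by
    rw [← ConcreteCategory.comp_apply, h4]
    rfl
  rw [h1', map_zero] at h5
  exact h5.symm

end Two

end Groth.Agent.Lib.Helper28.EtHpullTrans
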