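import Mathlib.Algebra.Homology.DerivedCategory.Ext.ExactSequences
import Mathlib.Algebra.Homology.ShortComplex.HomologicalComplex
import Mathlib.Algebra.Homology.ShortComplex.ShortExact

namespace Groth.Agent.Lib.Helper28.ExtAcyc

open CategoryTheory Limits Abelian

universe w v u

variable {𝒜 : Type u} [Category.{v} 𝒜] [Abelian 𝒜] [HasExt.{w} 𝒜] (F : 𝒜)

/-- `M` has no higher `Ext` into `F`. -/
def Acyc (M : 𝒜) : Prop := ∀ (q : ℕ) (x : Ext M F (q + 1)), x = 0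

variable {F}

lemma acyc_of_iso {M N : 𝒜} (e : M ≅ N) (h : Acyc F M) : Acyc F N := by
  intro q x
  have h1 : (Ext.mk₀ e.hom).comp x (zero_add _) = 0 := h q _
  have h2 : (Ext.mk₀ e.inv).comp ((Ext.mk₀ e.hom).comp x (zero_add _)) (zero_add _) = x := by
    rw [Ext.mk₀_comp_mk₀_assoc, e.inv_hom_id, Ext.mk₀_id_comp]
  rw [← h2, h1, Ext.comp_zero]

lemma acyc_X₁ {S : ShortComplex 𝒜} (hS : S.ShortExact) (h₂ : Acyc F S.X₂) (h₃ : Acyc F S.X₃) :
    Acyc F S.X₁ := by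
  intro q x₁
  obtain ⟨x₂, hx₂⟩ := Ext.contravariant_sequence_exact₁ hS F x₁
    (show 1 + (q + 1) = (q + 1) + 1 by omega) (h₃ (q + 1) _)
  rw [← hx₂, h₂ q x₂, Ext.comp_zero]

lemma exists_extension {S : ShortComplex 𝒜} (hS : S.ShortExact)
    (h₃ : ∀ x : Ext S.X₃ F 1, x = 0) (φ : S.X₁ ⟶ F) : ∃ ψ : S.X₂ ⟶ F, S.f ≫ ψ = φ := by
  obtain ⟨x₂, hx₂⟩ := Ext.contravariant_sequence_exact₁ hS F (Ext.mk₀ φ)
    (show 1 + 0 = 1 by omega) (h₃ _)
  obtain ⟨ψ, rfl⟩ := (Ext.mk₀_bijective S.X₂ F).2 x₂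
  refine ⟨ψ, ?_⟩
  rw [Ext.mk₀_comp_mk₀] at hx₂
  exact (Ext.mk₀_bijective S.X₁ F).1 hx₂

section Complex

variable (K : ChainComplex 𝒜 ℕ)

omit [HasExt.{w} 𝒜] [Abelian 𝒜] in
lemma epi_of_comp_iso {X Y Z : 𝒜} (f : X ⟶ Y) (e : Y ≅ Z) (g : X ⟶ Z) (h : f ≫ e.hom = g)
    (hg : Epi g) : Epi f := by
  have : f = g ≫ e.inv := by rw [← h, Category.assoc, Iso.hom_inv_id, Category.comp_id]
  rw [this]
  infer_instance

omit [HasExt.{w} 𝒜] in
lemma epi_toCycles (n : ℕ) (h : K.ExactAt n) : Epi (K.toCycles (n + 1) n) := by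
  by_cases hn : n = 0
  · subst hn
    rw [HomologicalComplex.exactAt_iff' K 1 0 0 (by simp) (by simp)] at h
    exact epi_of_comp_iso _ _ _ (K.toCycles_cyclesIsoSc'_hom 1 0 0 (by simp) (by simp))
      h.epi_toCycles
  · obtain ⟨m, rfl⟩ := Nat.exists_eq_succ_of_ne_zero hn
    rw [HomologicalComplex.exactAt_iff' K (m + 2) (m + 1) m (by simp) (by simp)] at h
    exact epi_of_comp_iso _ _ _
      (K.toCycles_cyclesIsoSc'_hom (m + 2) (m + 1) m (by simp) (by simp)) h.epi_toCycles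

/-- The short complex `0 → Z_{n+1} → K_{n+1} → Z_n → 0`. -/
noncomputable def cyclesSC (n : ℕ) : ShortComplex 𝒜 :=
  ShortComplex.mk (K.iCycles (n + 1)) (K.toCycles (n + 1) n) (by
    rw [← cancel_mono (K.iCycles n), Category.assoc, K.toCycles_i, K.iCycles_d, zero_comp])

omit [HasExt.{w} 𝒜] in
lemma cyclesSC_shortExact (n : ℕ) (h : K.ExactAt n) : (cyclesSC K n).ShortExact := by
  have : Mono (cyclesSC K n).f := by dsimp [cyclesSC]; infer_instance
  have : Epi (cyclesSC K n).g := epi_toCycles K n h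
  refine ShortComplex.ShortExact.mk' ?_ inferInstance inferInstance
  apply ShortComplex.exact_of_f_is_kernel
  exact isKernelOfComp (K.iCycles n) (K.d (n + 1) n)
    (K.cyclesIsKernel (n + 1) n (by simp)) (cyclesSC K n).zero (K.toCycles_i (n + 1) n)

lemma acyc_cycles (hex : ∀ n, K.ExactAt n) (hac : ∀ n, Acyc F (K.X n)) (n : ℕ) :
    Acyc F (K.cycles n) := by
  induction n with
  | zero => exact acyc_of_iso (asIso (K.iCycles 0)).symm (hac 0)
  | succ n ih => exact acyc_X₁ (cyclesSC_shortExact K n (hex n)) (hac (n + 1)) ih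

/-- If `K` is an exact chain complex all of whose terms have no higher `Ext` into `F`, then
`Hom(K, F)` is exact in degrees `≥ 1`. -/
theorem exists_desc (hex : ∀ n, K.ExactAt n) (hac : ∀ n, Acyc F (K.X n)) (n : ℕ)
    (τ : K.X (n + 2) ⟶ F) (hτ : K.d (n + 3) (n + 2) ≫ τ = 0) :
    ∃ σ : K.X (n + 1) ⟶ F, K.d (n + 2) (n + 1) ≫ σ = τ := by
  have hS1 := cyclesSC_shortExact K (n + 1) (hex (n + 1))
  have hS0 := cyclesSC_shortExact K n (hex n)
  have : Epi (K.toCycles (n + 3) (n + 2)) := epi_toCycles K (n + 2) (hex (n + 2))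
  have h1 : K.iCycles (n + 2) ≫ τ = 0 := by
    rw [← cancel_epi (K.toCycles (n + 3) (n + 2)), ← Category.assoc, K.toCycles_i, hτ, comp_zero]
  have : Epi (cyclesSC K (n + 1)).g := hS1.epi_g
  let τ' : K.cycles (n + 1) ⟶ F := hS1.exact.desc τ h1
  have hτ' : K.toCycles (n + 2) (n + 1) ≫ τ' = τ := hS1.exact.g_desc τ h1
  obtain ⟨σ, hσ⟩ : ∃ σ : K.X (n + 1) ⟶ F, K.iCycles (n + 1) ≫ σ = τ' :=
    exists_extension hS0 (acyc_cycles K hex hac n 0) τ'
  refine ⟨σ, ?_⟩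
  rw [← K.toCycles_i (n + 2) (n + 1), Category.assoc, hσ, hτ']

end Complex

end Groth.Agent.Lib.Helper28.ExtAcyc
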