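import Groth.Agent.Lib.Helper28.ExtColim
import Groth.Agent.Lib.Helper28.AbFilt
import Mathlib.Algebra.Homology.DerivedCategory.Ext.ExactSequences

/-!
# `Ext^n(coker i, -)` and filtered colimits

If `A` and `B` are compact objects of an abelian category for which `Ext^{n+1}(A, -)` and
`Ext^{n+1}(B, -)` vanish on filtered colimits of injectives, then `Ext^n(coker i, -)` commutes with
filtered colimits for every monomorphism `i : A ⟶ B`.
-/

namespace Groth.Agent.Lib.Helper28.ExtCoker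

open CategoryTheory Limits Abelian

universe w v u

variable {𝒜 : Type u} [Category.{v} 𝒜] [Abelian 𝒜] [HasExt.{w} 𝒜]
  (I : Type w) [SmallCategory I] [IsFiltered I] [HasColimitsOfShape I 𝒜]

/-- `Hom(A, -)` commutes with `I`-indexed colimits, in elementwise form. -/
structure Compact (A : 𝒜) : Prop where
  surj : ∀ (F : I ⥤ 𝒜) (f : A ⟶ colimit F), ∃ (k : I) (g : A ⟶ F.obj k), g ≫ colimit.ι F k = f
  inj : ∀ (F : I ⥤ 𝒜) (k : I) (g : A ⟶ F.obj k), g ≫ colimit.ι F k = 0 →
    ∃ (k' : I) (a : k ⟶ k'), g ≫ F.map a = 0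

/-- `Ext^{n+1}(A, -)` vanishes on `I`-indexed colimits of injectives. -/
def Van (A : 𝒜) : Prop :=
  ∀ M : I ⥤ 𝒜, (∀ i, Injective (M.obj i)) → ∀ (n : ℕ) (x : Ext.{w} A (colimit M) (n + 1)), x = 0

variable {I}

lemma Compact.preservesColimit_ext_zero {A : 𝒜} (hA : Compact I A) (F : I ⥤ 𝒜) :
    PreservesColimit F (extFunctorObj.{w} A 0) := by
  refine preservesColimit_of_preserves_colimit_cocone (colimit.isColimit F) ?_
  refine (AbFilt.nonempty_isColimit _ ?_ ?_).some
  · intro (x : Ext.{w} A (colimit F) 0)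
    obtain ⟨f, rfl⟩ := (Ext.mk₀_bijective A (colimit F)).2 x
    obtain ⟨k, g, hg⟩ := hA.surj F f
    refine ⟨k, Ext.mk₀ g, ?_⟩
    change (Ext.mk₀ g).comp (Ext.mk₀ (colimit.ι F k)) (add_zero 0) = _
    rw [Ext.mk₀_comp_mk₀, hg]
  · intro k (y : Ext.{w} A (F.obj k) 0) hy
    obtain ⟨g, rfl⟩ := (Ext.mk₀_bijective A (F.obj k)).2 y
    have hy' : (Ext.mk₀ g).comp (Ext.mk₀ (colimit.ι F k)) (add_zero 0) = 0 := hy
    rw [Ext.mk₀_comp_mk₀, Ext.mk₀_eq_zero_iff] at hy'
    obtain ⟨k', a, ha⟩ := hA.inj F k g hy'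
    refine ⟨k', a, ?_⟩
    change (Ext.mk₀ g).comp (Ext.mk₀ (F.map a)) (add_zero 0) = 0
    rw [Ext.mk₀_comp_mk₀, ha, Ext.mk₀_zero]

lemma compact_cokernel {A B : 𝒜} (i : A ⟶ B) (hA : Compact I A) (hB : Compact I B) :
    Compact I (cokernel i) where
  surj F x := by
    obtain ⟨k, g, hg⟩ := hB.surj F (cokernel.π i ≫ x)
    have h0 : (i ≫ g) ≫ colimit.ι F k = 0 := by
      rw [Category.assoc, hg, cokernel.condition_assoc, zero_comp]
    obtain ⟨k', a, ha⟩ := hA.inj F k (i ≫ g) h0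
    refine ⟨k', cokernel.desc i (g ≫ F.map a) (by rw [← Category.assoc]; exact ha), ?_⟩
    rw [← cancel_epi (cokernel.π i), cokernel.π_desc_assoc, Category.assoc, colimit.w, hg]
  inj F k y hy := by
    have h0 : (cokernel.π i ≫ y) ≫ colimit.ι F k = 0 := by
      rw [Category.assoc, hy, comp_zero]
    obtain ⟨k', a, ha⟩ := hB.inj F k (cokernel.π i ≫ y) h0
    refine ⟨k', a, ?_⟩
    rw [← cancel_epi (cokernel.π i), comp_zero, ← Category.assoc]
    exact ha

/-- The short exact sequence `0 ⟶ A ⟶ B ⟶ coker i ⟶ 0`. -/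
lemma shortExact_cokernel {A B : 𝒜} (i : A ⟶ B) [Mono i] :
    (ShortComplex.mk i (cokernel.π i) (cokernel.condition i)).ShortExact where
  exact := ShortComplex.exact_cokernel i

lemma van_cokernel {A B : 𝒜} (i : A ⟶ B) [Mono i] (hA : Compact I A) (hAv : Van I A)
    (hBv : Van I B) : Van I (cokernel i) := by
  intro M hM n x
  have hS := shortExact_cokernel i
  obtain ⟨y, rfl⟩ := Ext.contravariant_sequence_exact₃ hS (colimit M) x (hBv M hM n _)
    (Nat.add_comm 1 n)
  obtain _ | n := n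
  · obtain ⟨f, rfl⟩ := (Ext.mk₀_bijective A (colimit M)).2 y
    obtain ⟨k, g, rfl⟩ := hA.surj M f
    have := hM k
    have e : Ext.mk₀ (g ≫ colimit.ι M k) =
        (Ext.mk₀ i).comp (Ext.mk₀ (Injective.factorThru g i ≫ colimit.ι M k)) (zero_add 0) := by
      rw [Ext.mk₀_comp_mk₀, ← Category.assoc, Injective.comp_factorThru]
    rw [e]
    exact hS.extClass_comp_assoc _
  · rw [hAv M hM n y, Ext.comp_zero]

variable [HasExactColimitsOfShape I 𝒜] [EnoughInjectives 𝒜] [HasProducts.{w} 𝒜]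

/-- `Ext^n(coker i, -)` commutes with filtered colimits. -/
theorem preservesColimit_ext_cokernel {A B : 𝒜} (i : A ⟶ B) [Mono i] (hA : Compact I A)
    (hB : Compact I B) (hAv : Van I A) (hBv : Van I B) (F : I ⥤ 𝒜) (n : ℕ) :
    PreservesColimit F (extFunctorObj.{w} (cokernel i) n) :=
  ExtColim.preservesColimit_extFunctorObj (cokernel i) I
    (fun F' => (compact_cokernel i hA hB).preservesColimit_ext_zero F')
    (van_cokernel i hA hAv hBv) F n

end Groth.Agent.Lib.Helper28.ExtCoker
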