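import Groth.Prelude.Def_DeltaF
import Mathlib.Algebra.Homology.DerivedCategory.Ext.ExactSequences

/-!
# `Ext^•(X, -)` as a cohomological δ-functor
-/

namespace Groth.Agent.Lib.Helper28.ExtDelta

open CategoryTheory Limits Abelian

universe w v u

variable {A : Type u} [Category.{v} A] [Abelian A] [HasExt.{w} A]

lemma comp_δ_elt (X : A) (S : ShortComplex A) (hS : S.ShortExact) (n₀ n₁ : ℕ) (h : n₀ + 1 = n₁)
    (x : Ext X S.X₂ n₀) : (x.comp (Ext.mk₀ S.g) (add_zero n₀)).comp hS.extClass h = 0 := by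
  rw [Ext.comp_assoc (a₁ := n₀) (a₂ := 0) (a₃ := 1) (a₂₃ := 1) x (Ext.mk₀ S.g) hS.extClass
      (add_zero n₀) (zero_add 1) (by omega), ShortComplex.ShortExact.comp_extClass, Ext.comp_zero]

lemma δ_comp_elt (X : A) (S : ShortComplex A) (hS : S.ShortExact) (n₀ n₁ : ℕ) (h : n₀ + 1 = n₁)
    (x : Ext X S.X₃ n₀) : (x.comp hS.extClass h).comp (Ext.mk₀ S.f) (add_zero n₁) = 0 := by
  rw [Ext.comp_assoc (a₁ := n₀) (a₂ := 1) (a₃ := 0) (a₂₃ := 1) x hS.extClass (Ext.mk₀ S.f)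
      h (add_zero 1) (by omega), ShortComplex.ShortExact.extClass_comp, Ext.comp_zero]

lemma δ_natural_elt (X : A) {S S' : ShortComplex A} (hS : S.ShortExact) (hS' : S'.ShortExact)
    (φ : S ⟶ S') (n₀ n₁ : ℕ) (h : n₀ + 1 = n₁) (x : Ext X S.X₃ n₀) :
    ((x.comp (Ext.mk₀ φ.τ₃) (add_zero n₀)).comp hS'.extClass h) =
      (x.comp hS.extClass h).comp (Ext.mk₀ φ.τ₁) (add_zero n₁) := by
  rw [Ext.comp_assoc (a₁ := n₀) (a₂ := 0) (a₃ := 1) (a₂₃ := 1) x (Ext.mk₀ φ.τ₃) hS'.extClass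
      (add_zero n₀) (zero_add 1) (by omega),
      Ext.comp_assoc (a₁ := n₀) (a₂ := 1) (a₃ := 0) (a₂₃ := 1) x hS.extClass (Ext.mk₀ φ.τ₁)
      h (add_zero 1) (by omega),
      ShortComplex.ShortExact.extClass_naturality hS hS' φ]

lemma comp_δ_aux (X : A) (S : ShortComplex A) (hS : S.ShortExact) (n₀ n₁ : ℕ) (h : n₀ + 1 = n₁) :
    (extFunctorObj X n₀).map S.g ≫ AddCommGrpCat.ofHom (hS.extClass.postcomp X h) = 0 :=
  AddCommGrpCat.hom_ext (AddMonoidHom.ext (fun x => comp_δ_elt X S hS n₀ n₁ h x))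

lemma δ_comp_aux (X : A) (S : ShortComplex A) (hS : S.ShortExact) (n₀ n₁ : ℕ) (h : n₀ + 1 = n₁) :
    AddCommGrpCat.ofHom (hS.extClass.postcomp X h) ≫ (extFunctorObj X n₁).map S.f = 0 :=
  AddCommGrpCat.hom_ext (AddMonoidHom.ext (fun x => δ_comp_elt X S hS n₀ n₁ h x))

/-- `Ext^•(X, -)` as a cohomological δ-functor with values in abelian groups. -/
noncomputable def extDelta (X : A) : DeltaF.CohDeltaFunctor A AddCommGrpCat.{w} ℕ where
  F n := extFunctorObj X n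
  additive n := inferInstance
  δ S hS n₀ n₁ h := AddCommGrpCat.ofHom (hS.extClass.postcomp X h)
  δ_natural {S S'} hS hS' φ n₀ n₁ h :=
    AddCommGrpCat.hom_ext (AddMonoidHom.ext (fun x => δ_natural_elt X hS hS' φ n₀ n₁ h x))
  exact₂ S hS n := Ext.covariant_sequence_exact₂' X hS n
  comp_δ S hS n₀ n₁ h := comp_δ_aux X S hS n₀ n₁ h
  exact₃ S hS n₀ n₁ h := Ext.covariant_sequence_exact₃' X hS n₀ n₁ h
  δ_comp S hS n₀ n₁ h := δ_comp_aux X S hS n₀ n₁ h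
  exact₁ S hS n₀ n₁ h := Ext.covariant_sequence_exact₁' X hS n₀ n₁ h

lemma extDelta_F (X : A) (n : ℕ) : (extDelta X).F n = extFunctorObj X n := rfl

lemma extDelta_δ (X : A) (S : ShortComplex A) (hS : S.ShortExact) (n₀ n₁ : ℕ)
    (h : n₀ + 1 = n₁) :
    (extDelta X).δ S hS n₀ n₁ h = AddCommGrpCat.ofHom (hS.extClass.postcomp X h) := rfl

end Groth.Agent.Lib.Helper28.ExtDelta
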