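import Mathlib.Algebra.Homology.DerivedCategory.Ext.ExactSequences
import Mathlib.Algebra.Homology.DerivedCategory.Ext.EnoughInjectives
import Mathlib.CategoryTheory.Abelian.Injective.Basic

/-!
# Torsion in higher `Ext` groups by dimension shifting (hom-lifting form)

If, for every short exact sequence `0 → F → I → Q → 0`, every morphism `T ⟶ Q` has a positive
multiple which lifts to `T ⟶ I`, then all the groups `Ext^i(T, F)`, `i > 0`, are torsion.
-/

namespace Groth.Agent.Lib.Helper28.ExtTorsLift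

open CategoryTheory Limits Abelian

universe w v u

variable {𝒜 : Type u} [Category.{v} 𝒜] [Abelian 𝒜] [HasExt.{w} 𝒜] (T : 𝒜)

/-- Morphisms out of `T` into a quotient lift up to torsion. -/
def HomLiftTors : Prop :=
  ∀ S : ShortComplex 𝒜, S.ShortExact → ∀ x : T ⟶ S.X₃,
    ∃ n : ℕ, 0 < n ∧ ∃ y : T ⟶ S.X₂, y ≫ S.g = n • x

variable [EnoughInjectives 𝒜]

/-- `Ext^{i+1}(T, F)` is torsion. -/
theorem ext_torsion (h : HomLiftTors T) (i : ℕ) :
    ∀ (F : 𝒜) (x : Ext T F (i + 1)), ∃ n : ℕ, 0 < n ∧ n • x = 0 := by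
  induction i with
  | zero =>
    intro F x
    let S : ShortComplex 𝒜 :=
      ShortComplex.mk (Injective.ι F) (cokernel.π (Injective.ι F)) (cokernel.condition _)
    have hS : S.ShortExact :=
      ShortComplex.ShortExact.mk' (ShortComplex.exact_cokernel _) inferInstance inferInstance
    obtain ⟨x₃, hx₃⟩ := Ext.covariant_sequence_exact₁ T hS x
      (Ext.eq_zero_of_injective _) (zero_add 1)
    obtain ⟨s, rfl⟩ := (Ext.mk₀_bijective _ _).2 x₃
    obtain ⟨n, hn, y, hy⟩ := h S hS s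
    refine ⟨n, hn, ?_⟩
    have h5 : Ext.mk₀ (n • s) = n • Ext.mk₀ s :=
      map_nsmul (Ext.addEquiv₀ (X := T) (Y := S.X₃)).symm n s
    have h6 : n • (Ext.mk₀ s).comp hS.extClass (zero_add 1) =
        (n • Ext.mk₀ s).comp hS.extClass (zero_add 1) :=
      (map_nsmul (hS.extClass.postcomp T (zero_add 1)) n (Ext.mk₀ s)).symm
    rw [← hx₃, h6, ← h5, ← hy, ← Ext.mk₀_comp_mk₀,
      Ext.comp_assoc_of_second_deg_zero, hS.comp_extClass, Ext.comp_zero]
  | succ i ih =>
    intro F x
    let S : ShortComplex 𝒜 :=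
      ShortComplex.mk (Injective.ι F) (cokernel.π (Injective.ι F)) (cokernel.condition _)
    have hS : S.ShortExact :=
      ShortComplex.ShortExact.mk' (ShortComplex.exact_cokernel _) inferInstance inferInstance
    obtain ⟨x₃, hx₃⟩ := Ext.covariant_sequence_exact₁ T hS x
      (Ext.eq_zero_of_injective _) (rfl : (i + 1) + 1 = i + 1 + 1)
    obtain ⟨n, hn, hx⟩ := ih S.X₃ x₃
    refine ⟨n, hn, ?_⟩
    have h6 : n • x₃.comp hS.extClass (rfl : (i + 1) + 1 = i + 1 + 1) =
        (n • x₃).comp hS.extClass (rfl : (i + 1) + 1 = i + 1 + 1) :=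
      (map_nsmul (hS.extClass.postcomp T (rfl : (i + 1) + 1 = i + 1 + 1)) n x₃).symm
    rw [← hx₃, h6, hx, Ext.zero_comp]

end Groth.Agent.Lib.Helper28.ExtTorsLift
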