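import Mathlib.Algebra.Homology.DerivedCategory.Ext.ExactSequences
import Mathlib.Algebra.Homology.DerivedCategory.Ext.EnoughInjectives

/-!
# Comparing `Ext` along a natural transformation `𝟭 ⟶ Φ` into an exact endofunctor

Let `Φ` be an exact endofunctor of an abelian category with enough injectives and `u : 𝟭 ⟶ Φ`.
If composition with `u` is bijective on `Ext⁰(T, -)` and `Ext^{n+1}(T, Φ I) = 0` for injective `I`,
then composition with `u` is bijective on all `Ext^q(T, -)`.
-/

namespace Groth.Agent.Lib.Helper28.ExtUnit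

open CategoryTheory Limits Abelian

universe w v u

variable {A : Type u} [Category.{v} A] [Abelian A] [HasExt.{w} A] [EnoughInjectives A]

noncomputable def injSC (F : A) : ShortComplex A :=
  ShortComplex.mk (Injective.ι F) (cokernel.π (Injective.ι F)) (cokernel.condition _)

omit [HasExt.{w} A] in
theorem injSC_shortExact (F : A) : (injSC F).ShortExact := by
  have : Mono (injSC F).f := inferInstanceAs (Mono (Injective.ι F))
  have : Epi (injSC F).g := inferInstanceAs (Epi (cokernel.π (Injective.ι F)))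
  exact ShortComplex.ShortExact.mk (ShortComplex.exact_of_g_is_cokernel _ (cokernelIsCokernel _))

instance (F : A) : Injective (injSC F).X₂ := inferInstanceAs (Injective (Injective.under F))

variable (T : A) (Φ : A ⥤ A) [Φ.Additive] [PreservesFiniteLimits Φ] [PreservesFiniteColimits Φ]
  (u : 𝟭 A ⟶ Φ)

@[simps]
def unitSC (S : ShortComplex A) : S ⟶ S.map Φ where
  τ₁ := u.app S.X₁
  τ₂ := u.app S.X₂
  τ₃ := u.app S.X₃
  comm₁₂ := (u.naturality S.f).symm
  comm₂₃ := (u.naturality S.g).symm

omit [EnoughInjectives A] [PreservesFiniteLimits Φ] [PreservesFiniteColimits Φ] [Φ.Additive] in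
theorem comp_unit_natural {F G : A} (φ : F ⟶ G) (n : ℕ) (x : Ext T F n) :
    (x.comp (Ext.mk₀ φ) (add_zero n)).comp (Ext.mk₀ (u.app G)) (add_zero n) =
      (x.comp (Ext.mk₀ (u.app F)) (add_zero n)).comp (Ext.mk₀ (Φ.map φ)) (add_zero n) := by
  rw [Ext.comp_assoc_of_third_deg_zero, Ext.comp_assoc_of_third_deg_zero,
    Ext.mk₀_comp_mk₀, Ext.mk₀_comp_mk₀]
  congr 2
  exact u.naturality φ

omit [EnoughInjectives A] [PreservesFiniteLimits Φ] [PreservesFiniteColimits Φ] in
theorem comp_unit_delta (S : ShortComplex A) (hS : S.ShortExact) (hS' : (S.map Φ).ShortExact)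
    (n : ℕ) (x : Ext T S.X₃ n) :
    (x.comp hS.extClass rfl).comp (Ext.mk₀ (u.app S.X₁)) (add_zero (n + 1)) =
      (x.comp (Ext.mk₀ (u.app S.X₃)) (add_zero n)).comp hS'.extClass rfl := by
  have h1 := ShortComplex.ShortExact.extClass_naturality hS hS' (unitSC Φ u S)
  change (x.comp hS.extClass rfl).comp (Ext.mk₀ (unitSC Φ u S).τ₁) (add_zero (n + 1)) =
      (x.comp (Ext.mk₀ (unitSC Φ u S).τ₃) (add_zero n)).comp hS'.extClass rfl
  rw [Ext.comp_assoc_of_third_deg_zero, h1, Ext.comp_assoc_of_second_deg_zero]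

theorem comp_unit_bijective
    (h0 : ∀ F : A, Function.Bijective
      (fun x : Ext.{w} T F 0 => x.comp (Ext.mk₀ (u.app F)) (add_zero 0)))
    (hI : ∀ (I : A) [Injective I] (n : ℕ) (x : Ext.{w} T (Φ.obj I) (n + 1)), x = 0)
    (q : ℕ) (F : A) :
    Function.Bijective (fun x : Ext.{w} T F q => x.comp (Ext.mk₀ (u.app F)) (add_zero q)) := by
  induction q generalizing F with
  | zero => exact h0 F
  | succ n IH =>
    let S := injSC F
    have hS : S.ShortExact := injSC_shortExact F
    have hS' : (S.map Φ).ShortExact := hS.map_of_exact Φ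
    have hIb := IH S.X₂
    have hQ := IH S.X₃
    constructor
    · intro x₁ x₂ h
      have h' : (x₁ - x₂).comp (Ext.mk₀ (u.app F)) (add_zero (n + 1)) = 0 := by
        rw [sub_eq_add_neg, Ext.add_comp, Ext.neg_comp, ← sub_eq_add_neg]
        exact sub_eq_zero.2 h
      suffices hx : x₁ - x₂ = 0 from sub_eq_zero.1 hx
      generalize x₁ - x₂ = x at h'
      have hx0 : x.comp (Ext.mk₀ S.f) (add_zero (n + 1)) = 0 := Ext.eq_zero_of_injective _
      obtain ⟨z, hz⟩ := Ext.covariant_sequence_exact₁ _ hS x hx0 rfl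
      have h1 : (z.comp (Ext.mk₀ (u.app S.X₃)) (add_zero n)).comp hS'.extClass rfl = 0 := by
        rw [← comp_unit_delta T Φ u S hS hS' n z, hz]
        exact h'
      obtain ⟨w', hw'⟩ := Ext.covariant_sequence_exact₃ _ hS' _ rfl h1
      obtain ⟨w, rfl⟩ := hIb.2 w'
      have h2 : z = w.comp (Ext.mk₀ S.g) (add_zero n) := by
        apply hQ.1
        change z.comp (Ext.mk₀ (u.app S.X₃)) (add_zero n) =
          (w.comp (Ext.mk₀ S.g) (add_zero n)).comp (Ext.mk₀ (u.app S.X₃)) (add_zero n)
        rw [← hw']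
        exact (comp_unit_natural T Φ u S.g n w).symm
      rw [← hz, h2, Ext.comp_assoc_of_second_deg_zero]
      exact (congrArg (fun e => Ext.comp w e rfl) hS.comp_extClass).trans
        (Ext.comp_zero _ _ _ _ _)
    · intro y
      have hy0 : y.comp (Ext.mk₀ (S.map Φ).f) (add_zero (n + 1)) = 0 :=
        hI S.X₂ n _
      obtain ⟨z', hz'⟩ := Ext.covariant_sequence_exact₁ _ hS' y hy0 rfl
      obtain ⟨z, rfl⟩ := hQ.2 z'
      exact ⟨z.comp hS.extClass rfl, (comp_unit_delta T Φ u S hS hS' n z).trans hz'⟩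

end Groth.Agent.Lib.Helper28.ExtUnit
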