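import Mathlib.RingTheory.Flat.Basic
import Mathlib.RingTheory.Ideal.Quotient.Operations
import Mathlib.RingTheory.Ideal.Maps
import Mathlib.LinearAlgebra.TensorProduct.RightExactness
import Mathlib.Algebra.Module.Torsion.Basic
import Mathlib.Tactic.Ring
import Mathlib.Tactic.LinearCombination
import Mathlib.Tactic.Abel

set_option autoImplicit false

universe u v

open TensorProduct

namespace Groth.Agent.Lib.Helper28.FG

variable {R S : Type u} [CommRing R] [CommRing S] [Algebra R S] {I : Ideal R}

theorem QI1 (hq : Function.Bijective (Ideal.quotientMap (I.map (algebraMap R S)) (algebraMap R S)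
    Ideal.le_comap_map)) (s : S) : ∃ r : R, s - algebraMap R S r ∈ I.map (algebraMap R S) := by
  obtain ⟨y, hy⟩ := hq.2 (Ideal.Quotient.mk _ s)
  obtain ⟨r, rfl⟩ := Ideal.Quotient.mk_surjective y
  rw [Ideal.quotientMap_mk, Ideal.Quotient.eq] at hy
  refine ⟨r, ?_⟩
  have := (I.map (algebraMap R S)).neg_mem hy
  rwa [neg_sub] at this

theorem QI2 (hq : Function.Bijective (Ideal.quotientMap (I.map (algebraMap R S)) (algebraMap R S)
    Ideal.le_comap_map)) (r : R) (h : algebraMap R S r ∈ I.map (algebraMap R S)) : r ∈ I := by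
  have h0 : Ideal.quotientMap (I.map (algebraMap R S)) (algebraMap R S)
      Ideal.le_comap_map (Ideal.Quotient.mk _ r) = 0 := by
    rw [Ideal.quotientMap_mk, Ideal.Quotient.eq_zero_iff_mem]
    exact h
  have h1 := hq.1 (h0.trans (map_zero _).symm)
  rwa [Ideal.Quotient.eq_zero_iff_mem] at h1

section Killed

variable {M : Type v} [AddCommGroup M] [Module R M]

theorem tmul_eq_zero_of_mem_map (hM : ∀ a ∈ I, ∀ m : M, a • m = 0) (x : S)
    (hx : x ∈ I.map (algebraMap R S)) (m : M) : x ⊗ₜ[R] m = 0 := by
  unfold Ideal.map at hx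
  induction hx using Submodule.span_induction with
  | mem x hx =>
    obtain ⟨a, ha, rfl⟩ := hx
    rw [Algebra.algebraMap_eq_smul_one, smul_tmul, hM a ha, tmul_zero]
  | zero => rw [zero_tmul]
  | add x y _ _ hx hy => rw [add_tmul, hx, hy, add_zero]
  | smul c x _ hx =>
    have : ∀ y : S, y ⊗ₜ[R] m = 0 → (c • y) ⊗ₜ[R] m = 0 := by
      intro y hy
      have h1 := congrArg (fun z => c • z) hy
      simp only [smul_zero] at h1
      rw [TensorProduct.smul_tmul'] at h1
      exact h1
    exact this x hx

variable (hq : Function.Bijective (Ideal.quotientMap (I.map (algebraMap R S)) (algebraMap R S)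
    Ideal.le_comap_map)) (hM : ∀ a ∈ I, ∀ m : M, a • m = 0)

noncomputable def actFun (s : S) (m : M) : M := (Classical.choose (QI1 hq s)) • m

include hM in
theorem actFun_eq (s : S) (m : M) (r : R) (hr : s - algebraMap R S r ∈ I.map (algebraMap R S)) :
    actFun hq s m = r • m := by
  unfold actFun
  have h0 := Classical.choose_spec (QI1 hq s)
  set r0 := Classical.choose (QI1 hq s)
  have h1 : algebraMap R S (r0 - r) ∈ I.map (algebraMap R S) := by
    have := (I.map (algebraMap R S)).sub_mem hr h0
    rw [map_sub]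
    convert this using 1
    ring
  have h2 := QI2 hq _ h1
  rw [← sub_eq_zero, ← sub_smul]
  exact hM _ h2 m

noncomputable def actBil : S →ₗ[R] M →ₗ[R] M :=
  LinearMap.mk₂ R (actFun hq)
    (by
      intro x1 x2 m
      obtain ⟨r1, h1⟩ := QI1 hq x1
      obtain ⟨r2, h2⟩ := QI1 hq x2
      rw [actFun_eq hq hM x1 m r1 h1, actFun_eq hq hM x2 m r2 h2,
        actFun_eq hq hM (x1 + x2) m (r1 + r2) (by
          have := (I.map (algebraMap R S)).add_mem h1 h2
          rw [map_add]
          convert this using 1
          ring), add_smul])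
    (by
      intro c x m
      obtain ⟨r1, h1⟩ := QI1 hq x
      rw [actFun_eq hq hM x m r1 h1, actFun_eq hq hM (c • x) m (c * r1) (by
          have := (I.map (algebraMap R S)).mul_mem_left (algebraMap R S c) h1
          rw [map_mul, Algebra.smul_def]
          convert this using 1
          ring), mul_smul])
    (by
      intro x m1 m2
      obtain ⟨r, h⟩ := QI1 hq x
      rw [actFun_eq hq hM x m1 r h, actFun_eq hq hM x m2 r h, actFun_eq hq hM x (m1 + m2) r h,
        smul_add])
    (by
      intro c x m
      obtain ⟨r, h⟩ := QI1 hq x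
      rw [actFun_eq hq hM x m r h, actFun_eq hq hM x (c • m) r h, smul_comm])

noncomputable def actLin : S ⊗[R] M →ₗ[R] M := TensorProduct.lift (actBil hq hM)

theorem actLin_one_tmul (m : M) : actLin hq hM ((1 : S) ⊗ₜ[R] m) = m := by
  simp only [actLin, actBil, lift.tmul, LinearMap.mk₂_apply]
  rw [actFun_eq hq hM 1 m 1 (by simp), one_smul]

include hq hM in
theorem bijective_of_killed : Function.Bijective (TensorProduct.mk R S M 1) := by
  constructor
  · intro m1 m2 h
    have := congrArg (actLin hq hM) h
    simpa [actLin_one_tmul] using this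
  · intro x
    induction x using TensorProduct.induction_on with
    | zero => exact ⟨0, by simp⟩
    | tmul s m =>
      obtain ⟨r, hr⟩ := QI1 hq s
      refine ⟨r • m, ?_⟩
      have h0 := tmul_eq_zero_of_mem_map hM _ hr m
      rw [sub_tmul, sub_eq_zero] at h0
      rw [h0, TensorProduct.mk_apply, Algebra.algebraMap_eq_smul_one, smul_tmul]
    | add a b ha hb =>
      obtain ⟨t1, h1⟩ := ha
      obtain ⟨t2, h2⟩ := hb
      exact ⟨t1 + t2, by rw [map_add, h1, h2]⟩

end Killed

section Flat

variable [Module.Flat R S]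
  (hq : Function.Bijective (Ideal.quotientMap (I.map (algebraMap R S)) (algebraMap R S)
    Ideal.le_comap_map))

include hq in
theorem bijective_of_pow_killed (n : ℕ) : ∀ (M : Type u) [AddCommGroup M] [Module R M],
    (∀ a ∈ I ^ n, ∀ m : M, a • m = 0) → Function.Bijective (TensorProduct.mk R S M 1) := by
  induction n with
  | zero =>
    intro M _ _ hM
    have hsub : Subsingleton M := ⟨fun a b => by
      have ha := hM 1 (by simp) a
      have hb := hM 1 (by simp) b
      rw [one_smul] at ha hb
      rw [ha, hb]⟩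
    have : Subsingleton (S ⊗[R] M) := inferInstance
    exact ⟨fun a b _ => Subsingleton.elim a b, fun y => ⟨0, Subsingleton.elim _ _⟩⟩
  | succ n ih =>
    intro M _ _ hM
    let N : Submodule R M := Submodule.torsionBySet R M (I : Set R)
    have hN : ∀ a ∈ I, ∀ x : N, a • x = 0 := by
      intro a ha x
      apply Subtype.ext
      have := (Submodule.mem_torsionBySet_iff (I : Set R) x.1).mp x.2 ⟨a, ha⟩
      simpa using this
    have hQ : ∀ a ∈ I ^ n, ∀ q : M ⧸ N, a • q = 0 := by
      intro a ha q
      obtain ⟨m, rfl⟩ := N.mkQ_surjective q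
      rw [← map_smul, Submodule.mkQ_apply, Submodule.Quotient.mk_eq_zero,
        Submodule.mem_torsionBySet_iff]
      rintro ⟨b, hb⟩
      rw [← mul_smul]
      apply hM
      rw [pow_succ']
      exact Ideal.mul_mem_mul hb ha
    have bN := bijective_of_killed hq hN
    have bQ := ih (M ⧸ N) hQ
    have hinjN : Function.Injective (N.subtype.lTensor S) :=
      Module.Flat.lTensor_preserves_injective_linearMap _ N.injective_subtype
    have hex : Function.Exact (N.subtype.lTensor S) (N.mkQ.lTensor S) :=
      lTensor_exact S (LinearMap.exact_subtype_mkQ N) N.mkQ_surjective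
    constructor
    · rw [injective_iff_map_eq_zero]
      intro m hm
      have h1 : TensorProduct.mk R S (M ⧸ N) 1 (N.mkQ m) = 0 := by
        have := congrArg (N.mkQ.lTensor S) hm
        simpa using this
      have h2 : N.mkQ m = 0 := bQ.1 (h1.trans (map_zero _).symm)
      rw [Submodule.mkQ_apply, Submodule.Quotient.mk_eq_zero] at h2
      have h3 : (N.subtype.lTensor S) (TensorProduct.mk R S N 1 ⟨m, h2⟩) = 0 := by
        simpa using hm
      have h4 := hinjN (h3.trans (map_zero _).symm)
      have h5 := bN.1 (h4.trans (map_zero _).symm)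
      exact congrArg Subtype.val h5
    · intro x
      obtain ⟨q, hq'⟩ := bQ.2 (N.mkQ.lTensor S x)
      obtain ⟨m0, rfl⟩ := N.mkQ_surjective q
      have h1 : (N.mkQ.lTensor S) (x - TensorProduct.mk R S M 1 m0) = 0 := by
        rw [map_sub, ← hq']
        simp
      obtain ⟨y, hy⟩ := (hex _).mp h1
      obtain ⟨n0, rfl⟩ := bN.2 y
      refine ⟨m0 + n0.1, ?_⟩
      rw [map_add]
      have : TensorProduct.mk R S M 1 n0.1 = (N.subtype.lTensor S) (TensorProduct.mk R S N 1 n0) := by
        simp
      rw [this, hy]
      abel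

include hq in
theorem bijective_of_torsion (M : Type u) [AddCommGroup M] [Module R M]
    (hM : ∀ m : M, ∃ n : ℕ, ∀ a ∈ I ^ n, a • m = 0) :
    Function.Bijective (TensorProduct.mk R S M 1) := by
  have key : ∀ n : ℕ, Function.Bijective
      (TensorProduct.mk R S (Submodule.torsionBySet R M ((I ^ n : Ideal R) : Set R)) 1) := by
    intro n
    apply bijective_of_pow_killed hq n
    intro a ha x
    apply Subtype.ext
    have := (Submodule.mem_torsionBySet_iff ((I ^ n : Ideal R) : Set R) x.1).mp x.2 ⟨a, ha⟩
    simpa using this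
  have hinj : ∀ n : ℕ, Function.Injective
      ((Submodule.torsionBySet R M ((I ^ n : Ideal R) : Set R)).subtype.lTensor S) := fun n =>
    Module.Flat.lTensor_preserves_injective_linearMap _ (Submodule.injective_subtype _)
  have hmem : ∀ m : M, ∃ n : ℕ, m ∈ Submodule.torsionBySet R M ((I ^ n : Ideal R) : Set R) := by
    intro m
    obtain ⟨n, hn⟩ := hM m
    refine ⟨n, ?_⟩
    rw [Submodule.mem_torsionBySet_iff]
    rintro ⟨a, ha⟩
    exact hn a ha
  constructor
  · rw [injective_iff_map_eq_zero]
    intro m hm
    obtain ⟨n, hn⟩ := hmem m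
    have h3 : ((Submodule.torsionBySet R M ((I ^ n : Ideal R) : Set R)).subtype.lTensor S)
        (TensorProduct.mk R S _ 1 ⟨m, hn⟩) = 0 := by
      simpa using hm
    have h4 := hinj n (h3.trans (map_zero _).symm)
    have h5 := (key n).1 (h4.trans (map_zero _).symm)
    exact congrArg Subtype.val h5
  · intro x
    induction x using TensorProduct.induction_on with
    | zero => exact ⟨0, by simp⟩
    | tmul s m =>
      obtain ⟨n, hn⟩ := hmem m
      obtain ⟨m', hm'⟩ := (key n).2 (s ⊗ₜ[R] ⟨m, hn⟩)
      refine ⟨m'.1, ?_⟩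
      have := congrArg ((Submodule.torsionBySet R M ((I ^ n : Ideal R) : Set R)).subtype.lTensor S) hm'
      simpa using this
    | add a b ha hb =>
      obtain ⟨t1, h1⟩ := ha
      obtain ⟨t2, h2⟩ := hb
      exact ⟨t1 + t2, by rw [map_add, h1, h2]⟩

end Flat

end Groth.Agent.Lib.Helper28.FG
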