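import Groth.Agent.Lib.Helper28.AbHom
import Groth.Agent.Lib.Helper28.AbFilt

/-!
# Homology of complexes of abelian groups commutes with filtered colimits (elementwise form)
-/

namespace Groth.Agent.Lib.Helper28.FiltHom

open CategoryTheory Limits

universe w

variable {ι : Type*} {c : ComplexShape ι} {I : Type w} [SmallCategory I] [IsFiltered I]
  {G : I ⥤ HomologicalComplex AddCommGrpCat.{w} c} (t : Cocone G)

/-- The legs of the cocone, with target written as `t.pt`. -/
abbrev leg (k : I) : G.obj k ⟶ t.pt := t.ι.app k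

omit [IsFiltered I] in
lemma ι_map_f {k k' : I} (g : k ⟶ k') (n : ι) (x : (G.obj k).X n) :
    (leg t k').f n ((G.map g).f n x) = (leg t k).f n x := by
  have h : G.map g ≫ leg t k' = leg t k := t.w g
  exact ConcreteCategory.congr_hom (congrArg (fun φ => φ.f n) h) x

omit [IsFiltered I] in
lemma map_comp_f {k k' k'' : I} (g : k ⟶ k') (g' : k' ⟶ k'') (n : ι) (x : (G.obj k).X n) :
    (G.map (g ≫ g')).f n x = (G.map g').f n ((G.map g).f n x) := by
  rw [G.map_comp]
  rfl

/-- If a cocone of complexes of abelian groups over a filtered category is degreewise jointly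
surjective and degreewise "eventually injective", then it induces a colimit cocone on homology. -/
theorem nonempty_isColimit_homology (i' i j : ι) (hi : c.prev i = i') (hj : c.next i = j)
    (hs : ∀ n : ι, ∀ x : t.pt.X n, ∃ (k : I) (x' : (G.obj k).X n), (leg t k).f n x' = x)
    (hz : ∀ n : ι, ∀ (k : I) (x' : (G.obj k).X n), (leg t k).f n x' = 0 →
      ∃ (k' : I) (g : k ⟶ k'), (G.map g).f n x' = 0) :
    Nonempty (IsColimit ((HomologicalComplex.homologyFunctor AddCommGrpCat.{w} c i).mapCocone t)) := by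
  refine AbFilt.nonempty_isColimit _ ?_ ?_
  · intro (z : t.pt.homology i)
    obtain ⟨c₀, rfl⟩ := AbHom.homologyπ_surjective t.pt i z
    obtain ⟨k, y', hy'⟩ := hs i (t.pt.iCycles i c₀)
    have h1 : (leg t k).f j ((G.obj k).d i j y') = 0 := by
      rw [← AbHom.d_f, hy', AbHom.d_iCycles]
    obtain ⟨k', g, hg⟩ := hz j k _ h1
    have h2 : (G.obj k').d i j ((G.map g).f i y') = 0 := by
      rw [AbHom.d_f, hg]
    obtain ⟨c'', hc''⟩ := AbHom.exists_cycle (G.obj k') i j hj _ h2
    refine ⟨k', (G.obj k').homologyπ i c'', ?_⟩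
    change HomologicalComplex.homologyMap (leg t k') i ((G.obj k').homologyπ i c'') = _
    rw [AbHom.homologyMap_homologyπ]
    congr 1
    apply AbHom.iCycles_injective
    rw [AbHom.iCycles_cyclesMap, hc'', ι_map_f, hy']
  · intro k (z' : (G.obj k).homology i) hz'
    obtain ⟨c', rfl⟩ := AbHom.homologyπ_surjective (G.obj k) i z'
    have h0 : t.pt.homologyπ i (HomologicalComplex.cyclesMap (leg t k) i c') = 0 := by
      rw [← AbHom.homologyMap_homologyπ]
      exact hz'
    obtain ⟨w, hw⟩ := (AbHom.homologyπ_eq_zero_iff t.pt i' i hi _).1 h0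
    rw [AbHom.iCycles_cyclesMap] at hw
    obtain ⟨k₁, w', hw'⟩ := hs i' w
    let k₂ := IsFiltered.max k k₁
    let g : k ⟶ k₂ := IsFiltered.leftToMax k k₁
    let g₁ : k₁ ⟶ k₂ := IsFiltered.rightToMax k k₁
    have h1 : (leg t k₂).f i ((G.map g).f i ((G.obj k).iCycles i c') -
        (G.obj k₂).d i' i ((G.map g₁).f i' w')) = 0 := by
      rw [map_sub, ι_map_f, ← AbHom.d_f, ι_map_f, hw', hw, sub_self]
    obtain ⟨k₃, g₂, hg₂⟩ := hz i k₂ _ h1
    refine ⟨k₃, g ≫ g₂, ?_⟩
    change HomologicalComplex.homologyMap (G.map (g ≫ g₂)) i ((G.obj k).homologyπ i c') = 0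
    rw [AbHom.homologyMap_homologyπ, AbHom.homologyπ_eq_zero_iff (G.obj k₃) i' i hi]
    refine ⟨(G.map (g₁ ≫ g₂)).f i' w', ?_⟩
    rw [AbHom.iCycles_cyclesMap, map_comp_f, map_comp_f, AbHom.d_f]
    rw [map_sub] at hg₂
    have := sub_eq_zero.1 hg₂
    rw [this, AbHom.d_f]

end Groth.Agent.Lib.Helper28.FiltHom
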