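import Groth.Agent.Lib.Helper28.FiltCech
import Groth.Agent.Lib.Helper28.FiltHom

/-!
# Čech cohomology of a finite family commutes with filtered colimits
-/

namespace Groth.Agent.Lib.Helper28.FiltCech

open CategoryTheory Limits Opposite

universe w v u

variable {C : Type u} [Category.{v} C] {U : C} [HasFiniteProducts (Over U)] {ι : Type w}
  [Finite ι] (Y : ι → Over U)
  {I : Type w} [SmallCategory I] [IsFiltered I]
  {G : I ⥤ Cᵒᵖ ⥤ AddCommGrpCat.{w}} {c : Cocone G}
  (hc : ∀ (n : ℕ) (a : Fin (n + 1) → ι),
    IsColimit (FiltColim.evalCocone G c (op (∏ᶜ (Y ∘ a)).left)))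

include hc in
/-- Čech cohomology of a finite family commutes with those filtered colimits of presheaves which
are computed sectionwise on the iterated fibre products of the family. -/
theorem nonempty_isColimit_cechH (q : ℕ) :
    Nonempty (IsColimit ((EtCech.cechHFunctor Y q).mapCocone c)) := by
  have h := FiltHom.nonempty_isColimit_homology ((CechDelta.cxF Y).mapCocone c)
    ((ComplexShape.up ℕ).prev q) q (q + 1) rfl (by simp)
    (fun n x => exists_rep Y hc n x)
    (fun n k x' hx' => exists_zero_stage Y hc n k x' hx')
  exact h

end Groth.Agent.Lib.Helper28.FiltCech
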