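import Mathlib.CategoryTheory.Filtered.Final
import Mathlib.CategoryTheory.Limits.ConcreteCategory.Basic
import Mathlib.CategoryTheory.Limits.FunctorCategory.Basic
import Mathlib.Algebra.Category.Grp.FilteredColimits
import Mathlib.Algebra.Category.Grp.Limits

/-!
# Filtered colimits of abelian presheaves: elementwise API
-/

namespace Groth.Agent.Lib.Helper28.FiltColim

open CategoryTheory Limits Opposite

universe w v u

section FinStage

variable {𝒦 : Type*} [Category 𝒦] [IsFiltered 𝒦]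

/-- Finitely many upward closed conditions on a filtered category that hold somewhere hold
simultaneously somewhere. -/
lemma fin_stage {T : Type*} [Finite T] (Q : T → 𝒦 → Prop)
    (hQ : ∀ (t : T) (k k' : 𝒦) (_ : k ⟶ k'), Q t k → Q t k') (h : ∀ t, ∃ k, Q t k) :
    ∃ k, ∀ t, Q t k := by
  classical
  obtain ⟨_⟩ := nonempty_fintype T
  choose k hk using h
  obtain ⟨S, hS⟩ := IsFiltered.sup_objs_exists (Finset.univ.image k)
  refine ⟨S, fun t => ?_⟩
  obtain ⟨f⟩ := hS (Finset.mem_image_of_mem k (Finset.mem_univ t))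
  exact hQ t _ _ f (hk t)

/-- Version of `fin_stage` under a fixed object. -/
lemma fin_stage_under (k₀ : 𝒦) {T : Type*} [Finite T] (Q : T → ∀ k : 𝒦, (k₀ ⟶ k) → Prop)
    (hQ : ∀ (t : T) (k k' : 𝒦) (f : k₀ ⟶ k) (g : k ⟶ k'), Q t k f → Q t k' (f ≫ g))
    (h : ∀ t, ∃ (k : 𝒦) (f : k₀ ⟶ k), Q t k f) :
    ∃ (k : 𝒦) (f : k₀ ⟶ k), ∀ t, Q t k f := by
  obtain ⟨A, hA⟩ := fin_stage (𝒦 := Under k₀) (fun t A => Q t A.right A.hom)
    (fun t A A' g hq => by
      have := hQ t A.right A'.right A.hom g.right hq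
      rwa [Under.w g] at this)
    (fun t => by
      obtain ⟨k, f, hf⟩ := h t
      exact ⟨Under.mk f, hf⟩)
  exact ⟨A.right, A.hom, hA⟩

end FinStage

variable {C : Type u} [Category.{v} C] {I : Type w} [SmallCategory I] [IsFiltered I]
  (G : I ⥤ Cᵒᵖ ⥤ AddCommGrpCat.{w}) (c : Cocone G)

/-- The cocone `c` evaluated at `W`. -/
abbrev evalCocone (W : Cᵒᵖ) : Cocone (G ⋙ (evaluation Cᵒᵖ AddCommGrpCat.{w}).obj W) :=
  ((evaluation Cᵒᵖ AddCommGrpCat.{w}).obj W).mapCocone c

variable {G c}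

lemma exists_rep {W : Cᵒᵖ} (hW : IsColimit (evalCocone G c W)) (x : c.pt.obj W) :
    ∃ (k : I) (x' : (G.obj k).obj W), (c.ι.app k).app W x' = x :=
  Concrete.isColimit_exists_rep _ hW x

lemma exists_eq_stage {W : Cᵒᵖ} (hW : IsColimit (evalCocone G c W)) {k : I}
    (x' y' : (G.obj k).obj W) (h : (c.ι.app k).app W x' = (c.ι.app k).app W y') :
    ∃ (k' : I) (f : k ⟶ k'), (G.map f).app W x' = (G.map f).app W y' := by
  obtain ⟨k₁, f, g, hfg⟩ := Concrete.isColimit_exists_of_rep_eq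
    (G ⋙ (evaluation Cᵒᵖ AddCommGrpCat.{w}).obj W) hW x' y' h
  refine ⟨IsFiltered.coeq f g, f ≫ IsFiltered.coeqHom f g, ?_⟩
  have h1 : (G.map (f ≫ IsFiltered.coeqHom f g)).app W x' =
      (G.map (IsFiltered.coeqHom f g)).app W ((G.map f).app W x') := by
    rw [G.map_comp]; rfl
  have h2 : (G.map (f ≫ IsFiltered.coeqHom f g)).app W y' =
      (G.map (IsFiltered.coeqHom f g)).app W ((G.map g).app W y') := by
    rw [IsFiltered.coeq_condition, G.map_comp]; rfl
  rw [h1, h2]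
  exact congrArg _ hfg

omit [IsFiltered I] in
lemma ι_map {W : Cᵒᵖ} {k k' : I} (f : k ⟶ k') (x : (G.obj k).obj W) :
    (c.ι.app k').app W ((G.map f).app W x) = (c.ι.app k).app W x := by
  have h := c.w f
  have h2 : (G.map f ≫ c.ι.app k').app W = (c.ι.app k).app W := by rw [h]
  exact ConcreteCategory.congr_hom h2 x

omit [IsFiltered I] in
lemma ι_res {W W' : Cᵒᵖ} (g : W ⟶ W') {k : I} (x : (G.obj k).obj W) :
    (c.ι.app k).app W' ((G.obj k).map g x) = c.pt.map g ((c.ι.app k).app W x) :=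
  NatTrans.naturality_apply (c.ι.app k) g x

omit [IsFiltered I] in
lemma map_res {W W' : Cᵒᵖ} (g : W ⟶ W') {k k' : I} (f : k ⟶ k') (x : (G.obj k).obj W) :
    (G.map f).app W' ((G.obj k).map g x) = (G.obj k').map g ((G.map f).app W x) :=
  NatTrans.naturality_apply (G.map f) g x

end Groth.Agent.Lib.Helper28.FiltColim
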