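import Groth.Agent.Lib.Helper28.FiltColim
import Mathlib.CategoryTheory.Limits.Types.Filtered

/-!
# Filtered colimits of presheaves of sets: elementwise API
-/

namespace Groth.Agent.Lib.Helper28.FiltColimT

open CategoryTheory Limits Opposite

universe w v u

variable {C : Type u} [Category.{v} C] {I : Type w} [SmallCategory I] [IsFiltered I]
  (G : I ⥤ Cᵒᵖ ⥤ (Type w)) (c : Cocone G)

/-- The cocone `c` evaluated at `W`. -/
abbrev evalCocone (W : Cᵒᵖ) : Cocone (G ⋙ (evaluation Cᵒᵖ (Type w)).obj W) :=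
  ((evaluation Cᵒᵖ (Type w)).obj W).mapCocone c

variable {G c}

omit [IsFiltered I] in
lemma exists_rep {W : Cᵒᵖ} (hW : IsColimit (evalCocone G c W)) (x : c.pt.obj W) :
    ∃ (k : I) (x' : (G.obj k).obj W), (c.ι.app k).app W x' = x := by
  obtain ⟨k, x', hx'⟩ := Concrete.isColimit_exists_rep _ hW x
  exact ⟨k, x', hx'⟩

lemma exists_eq_stage {W : Cᵒᵖ} (hW : IsColimit (evalCocone G c W)) {k : I}
    (x' y' : (G.obj k).obj W) (h : (c.ι.app k).app W x' = (c.ι.app k).app W y') :
    ∃ (k' : I) (f : k ⟶ k'), (G.map f).app W x' = (G.map f).app W y' := by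
  obtain ⟨k₁, f, g, hfg⟩ := Concrete.isColimit_exists_of_rep_eq
    (G ⋙ (evaluation Cᵒᵖ (Type w)).obj W) hW x' y' h
  refine ⟨IsFiltered.coeq f g, f ≫ IsFiltered.coeqHom f g, ?_⟩
  have h1 : (G.map (f ≫ IsFiltered.coeqHom f g)).app W x' =
      (G.map (IsFiltered.coeqHom f g)).app W ((G.map f).app W x') := by
    rw [G.map_comp]; rfl
  have h2 : (G.map (f ≫ IsFiltered.coeqHom f g)).app W y' =
      (G.map (IsFiltered.coeqHom f g)).app W ((G.map g).app W y') := by
    rw [IsFiltered.coeq_condition, G.map_comp]; rfl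
  rw [h1, h2]
  exact congrArg _ hfg

omit [IsFiltered I] in
lemma ι_map {W : Cᵒᵖ} {k k' : I} (f : k ⟶ k') (x : (G.obj k).obj W) :
    (c.ι.app k').app W ((G.map f).app W x) = (c.ι.app k).app W x := by
  have h := c.w f
  have h2 : (G.map f ≫ c.ι.app k').app W = (c.ι.app k).app W := by rw [h]
  exact ConcreteCategory.congr_hom h2 x

omit [IsFiltered I] in
lemma ι_res {W W' : Cᵒᵖ} (g : W ⟶ W') {k : I} (x : (G.obj k).obj W) :
    (c.ι.app k).app W' ((G.obj k).map g x) = c.pt.map g ((c.ι.app k).app W x) :=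
  NatTrans.naturality_apply (c.ι.app k) g x

omit [IsFiltered I] in
lemma map_res {W W' : Cᵒᵖ} (g : W ⟶ W') {k k' : I} (f : k ⟶ k') (x : (G.obj k).obj W) :
    (G.map f).app W' ((G.obj k).map g x) = (G.obj k').map g ((G.map f).app W x) :=
  NatTrans.naturality_apply (G.map f) g x

end Groth.Agent.Lib.Helper28.FiltColimT
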