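import Groth.Agent.Lib.Helper28.FiltColimT
import Mathlib.Data.Finite.Prod

/-!
# Gluing in a filtered colimit of presheaves of sets along a finite family
-/

namespace Groth.Agent.Lib.Helper28.FiltColimT

open CategoryTheory Limits Opposite

universe w v u

variable {C : Type u} [Category.{v} C] {I : Type w} [SmallCategory I] [IsFiltered I]
  {G : I ⥤ Cᵒᵖ ⥤ (Type w)} {c : Cocone G}
  {V : C} {ι : Type*} [Finite ι] {Y : ι → C} (f : ∀ i, Y i ⟶ V)
  {Z : ι → ι → C} (p₁ : ∀ i j, Z i j ⟶ Y i) (p₂ : ∀ i j, Z i j ⟶ Y j)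
  (w : ∀ i j, p₁ i j ≫ f i = p₂ i j ≫ f j)
  (hV : IsColimit (evalCocone G c (op V)))
  (hY : ∀ i, IsColimit (evalCocone G c (op (Y i))))
  (hZ : ∀ i j, IsColimit (evalCocone G c (op (Z i j))))
  (hglue : ∀ (k : I) (x : ∀ i, (G.obj k).obj (op (Y i))),
    (∀ i j, (G.obj k).map (p₁ i j).op (x i) = (G.obj k).map (p₂ i j).op (x j)) →
      ∃! s : (G.obj k).obj (op V), ∀ i, (G.obj k).map (f i).op s = x i)

include w hV hY hglue in
/-- Uniqueness of gluing in the colimit presheaf. -/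
lemma glue_unique (s s' : c.pt.obj (op V))
    (h : ∀ i, c.pt.map (f i).op s = c.pt.map (f i).op s') : s = s' := by
  obtain ⟨ka, ta, hta⟩ := exists_rep hV s
  obtain ⟨kb, tb, htb⟩ := exists_rep hV s'
  obtain ⟨k, t₁, t₂, ht₁, ht₂⟩ : ∃ (k : I) (t₁ t₂ : (G.obj k).obj (op V)),
      (c.ι.app k).app (op V) t₁ = s ∧ (c.ι.app k).app (op V) t₂ = s' :=
    ⟨IsFiltered.max ka kb, (G.map (IsFiltered.leftToMax ka kb)).app (op V) ta,
      (G.map (IsFiltered.rightToMax ka kb)).app (op V) tb,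
      (ι_map (IsFiltered.leftToMax ka kb) ta).trans hta,
      (ι_map (IsFiltered.rightToMax ka kb) tb).trans htb⟩
  obtain ⟨k', g, hg⟩ := FiltColim.fin_stage_under k
    (fun (i : ι) k' (g : k ⟶ k') => (G.map g).app (op (Y i)) ((G.obj k).map (f i).op t₁) =
      (G.map g).app (op (Y i)) ((G.obj k).map (f i).op t₂))
    (fun i k' k'' g g' hq => by
      have e : ∀ y : (G.obj k).obj (op (Y i)), (G.map (g ≫ g')).app (op (Y i)) y =
          (G.map g').app (op (Y i)) ((G.map g).app (op (Y i)) y) := fun y => by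
        rw [G.map_comp]; rfl
      rw [e, e, hq])
    (fun i => by
      apply exists_eq_stage (hY i)
      rw [ι_res, ι_res, ht₁, ht₂]
      exact h i)
  have hg' : ∀ i, (G.obj k').map (f i).op ((G.map g).app (op V) t₁) =
      (G.obj k').map (f i).op ((G.map g).app (op V) t₂) := fun i => by
    rw [← map_res, ← map_res]
    exact hg i
  have hcompat : ∀ i j, (G.obj k').map (p₁ i j).op
      ((G.obj k').map (f i).op ((G.map g).app (op V) t₁)) =
      (G.obj k').map (p₂ i j).op ((G.obj k').map (f j).op ((G.map g).app (op V) t₁)) := by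
    intro i j
    have e1 : (G.obj k').map (f i).op ≫ (G.obj k').map (p₁ i j).op =
        (G.obj k').map (f j).op ≫ (G.obj k').map (p₂ i j).op := by
      rw [← Functor.map_comp, ← Functor.map_comp, ← op_comp, ← op_comp, w i j]
    exact ConcreteCategory.congr_hom e1 _
  obtain ⟨u, _, hu⟩ := hglue k' _ hcompat
  have e1 : (G.map g).app (op V) t₁ = u := hu _ (fun i => rfl)
  have e2 : (G.map g).app (op V) t₂ = u := hu _ (fun i => (hg' i).symm)
  rw [← ht₁, ← ht₂, ← ι_map g t₁, ← ι_map g t₂, e1, e2]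

include w hV hY hZ hglue in
/-- Existence and uniqueness of gluing in the colimit presheaf. -/
theorem glue_colim (x : ∀ i, c.pt.obj (op (Y i)))
    (hx : ∀ i j, c.pt.map (p₁ i j).op (x i) = c.pt.map (p₂ i j).op (x j)) :
    ∃! s : c.pt.obj (op V), ∀ i, c.pt.map (f i).op s = x i := by
  -- Step 1: common stage for the `x i`
  obtain ⟨k₁, hk₁⟩ := FiltColim.fin_stage
    (fun (i : ι) (k : I) => ∃ x' : (G.obj k).obj (op (Y i)), (c.ι.app k).app (op (Y i)) x' = x i)
    (fun i k k' g ⟨x', hx'⟩ => ⟨(G.map g).app (op (Y i)) x', (ι_map g x').trans hx'⟩)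
    (fun i => exists_rep (hY i) (x i))
  choose x₁ hx₁ using hk₁
  -- Step 2: common later stage for compatibility
  obtain ⟨k₂, g, hg⟩ := FiltColim.fin_stage_under k₁
    (fun (q : ι × ι) k' (g : k₁ ⟶ k') =>
      (G.map g).app (op (Z q.1 q.2)) ((G.obj k₁).map (p₁ q.1 q.2).op (x₁ q.1)) =
      (G.map g).app (op (Z q.1 q.2)) ((G.obj k₁).map (p₂ q.1 q.2).op (x₁ q.2)))
    (fun q k' k'' g g' hq => by
      have e : ∀ y : (G.obj k₁).obj (op (Z q.1 q.2)), (G.map (g ≫ g')).app (op (Z q.1 q.2)) y =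
          (G.map g').app (op (Z q.1 q.2)) ((G.map g).app (op (Z q.1 q.2)) y) := fun y => by
        rw [G.map_comp]; rfl
      rw [e, e, hq])
    (fun q => by
      apply exists_eq_stage (hZ q.1 q.2)
      rw [ι_res, ι_res, hx₁, hx₁]
      exact hx q.1 q.2)
  -- Step 3: glue at stage `k₂`
  have hcompat : ∀ i j, (G.obj k₂).map (p₁ i j).op ((G.map g).app (op (Y i)) (x₁ i)) =
      (G.obj k₂).map (p₂ i j).op ((G.map g).app (op (Y j)) (x₁ j)) := fun i j => by
    rw [← map_res, ← map_res]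
    exact hg (i, j)
  obtain ⟨u, hu, _⟩ := hglue k₂ _ hcompat
  have hs : ∀ i, c.pt.map (f i).op ((c.ι.app k₂).app (op V) u) = x i := fun i => by
    rw [← ι_res, hu i, ι_map, hx₁]
  refine ⟨(c.ι.app k₂).app (op V) u, hs, fun s' hs' => ?_⟩
  exact glue_unique f p₁ p₂ w hV hY hglue s' _ (fun i => (hs' i).trans (hs i).symm)

end Groth.Agent.Lib.Helper28.FiltColimT
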