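import Groth.Agent.Lib.Helper28.GalH90
import Groth.Agent.Lib.Helper28.GalResCores

set_option autoImplicit false
open CategoryTheory CategoryTheory.Limits AlgebraicGeometry Opposite
universe u

namespace Groth.Agent.Lib.Helper28.GalH90W
open GalTors Groth.Agent.Lib.Helper4

section Restr
variable {U X : Scheme.{u}} (j : U ⟶ X) [Etale j]

instance restrAlong_additive : (EtShriek.restrAlong j).Additive :=
  (EtRestr.restrPushAdj j).left_adjoint_additive

instance restrAlong_pfl : PreservesFiniteLimits (EtShriek.restrAlong j) :=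
  have : PreservesLimitsOfSize.{0, 0} (EtShriek.restrAlong j) :=
    (EtShriek.extZeroAdj j).rightAdjoint_preservesLimits
  PreservesLimitsOfSize.preservesFiniteLimits _

instance restrAlong_pfc : PreservesFiniteColimits (EtShriek.restrAlong j) :=
  have : PreservesColimitsOfSize.{0, 0} (EtShriek.restrAlong j) :=
    (EtRestr.restrPushAdj j).leftAdjoint_preservesColimits
  PreservesColimitsOfSize.preservesFiniteColimits _

end Restr

variable (k : Type u) [Field k]

section Step1
variable (L : Type u) [Field L] [Algebra k L] [FiniteDimensional k L] [Algebra.IsSeparable k L]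

/-- The inverse of `GalResCores.ι`. -/
noncomputable def ι' : (EtShriek.compEtale (GalResCores.j k L)).obj (EtCoh.top _) ⟶ obj k L :=
  MorphismProperty.Over.homMk (𝟙 _) (by
    change 𝟙 _ ≫ GalResCores.j k L = 𝟙 _ ≫ GalResCores.j k L
    rfl)

lemma ι_ι' : GalResCores.ι k L ≫ ι' k L = 𝟙 _ := by
  apply MorphismProperty.Over.Hom.ext
  exact Category.id_comp _

/-- Sections of the quotient over `Spec L` lift. -/
theorem exists_lift_obj {X₂ X₃ : EtCoh.Ab (X k)} (f : EtCoh.Gm (X k) ⟶ X₂) (g : X₂ ⟶ X₃)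
    (w : f ≫ g = 0) (hS : (ShortComplex.mk f g w).ShortExact)
    (q : X₃.obj.obj (op (obj k L))) :
    ∃ t : X₂.obj.obj (op (obj k L)), g.hom.app (op (obj k L)) t = q := by
  let R := EtShriek.restrAlong (GalResCores.j k L)
  have hS' := hS.map_of_exact R
  let f' : EtCoh.Gm (X L) ⟶ R.obj X₂ := R.map f
  obtain ⟨t', ht'⟩ := GalH90.exists_lift L f' (R.map g) ((ShortComplex.mk f g w).map R).zero hS'
    (X₃.obj.map (ι' k L).op q)
  let t'' : X₂.obj.obj (op ((EtShriek.compEtale (GalResCores.j k L)).obj (EtCoh.top _))) := t'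
  refine ⟨X₂.obj.map (GalResCores.ι k L).op t'', ?_⟩
  have h1 : g.hom.app (op (obj k L)) (X₂.obj.map (GalResCores.ι k L).op t'') =
      X₃.obj.map (GalResCores.ι k L).op (g.hom.app _ t'') :=
    NatTrans.naturality_apply g.hom (GalResCores.ι k L).op t''
  have h2 : g.hom.app _ t'' = X₃.obj.map (ι' k L).op q := ht'
  have h3 : X₃.obj.map (GalResCores.ι k L).op (X₃.obj.map (ι' k L).op q) = q := by
    rw [← ConcreteCategory.comp_apply, ← Functor.map_comp, ← op_comp, ι_ι']
    simp
  exact h1.trans ((congrArg (X₃.obj.map (GalResCores.ι k L).op) h2).trans h3)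

end Step1

section Step2

/-- Sections of the quotient over any object of the small étale site of `Spec k` lift. -/
theorem exists_lift_W {X₂ X₃ : EtCoh.Ab (X k)} (f : EtCoh.Gm (X k) ⟶ X₂) (g : X₂ ⟶ X₃)
    (w : f ≫ g = 0) (hS : (ShortComplex.mk f g w).ShortExact)
    (W : (X k).Etale) (q : X₃.obj.obj (op W)) :
    ∃ t : X₂.obj.obj (op W), g.hom.app (op W) t = q := by
  have : Etale W.hom := W.prop
  choose K hK1 hK2 hK3 hK4 ι hι1 hι2 hι3 using
    fun x : W.left => Groth.Agent.S0658.local_decomp k W.left W.hom x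
  let P : W.left → (X k).Etale := fun x => @obj k _ (K x) (hK1 x) (hK2 x) (hK3 x) (hK4 x)
  let p : ∀ x, P x ⟶ W := fun x => MorphismProperty.Over.homMk (ι x) (hι3 x)
  -- local lifts
  choose t ht using fun x : W.left =>
    @exists_lift_obj k _ (K x) (hK1 x) (hK2 x) (hK3 x) (hK4 x) X₂ X₃ f g w hS
      (X₃.obj.map (p x).op q)
  -- the covering
  have hcov : Sieve.ofArrows P p ∈ (X k).smallEtaleTopology W := by
    refine (EtQc.mem_topology_iff _ _).2 ?_
    intro x
    have hx : x ∈ Set.range (ι x).base := by rw [hι2 x]; rfl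
    obtain ⟨y, hy⟩ := hx
    exact ⟨P x, p x, y, Sieve.ofArrows_mk _ _ x, hy⟩
  -- two arrows through the cover agree only on the same component
  have key : ∀ (x x' : W.left) (Z : (X k).Etale) (a : Z ⟶ P x) (b : Z ⟶ P x')
      (_ : a ≫ p x = b ≫ p x') (z : Z.left), x = x' := by
    intro x x' Z a b hab z
    have h1 : (a ≫ p x).left.base z = (b ≫ p x').left.base z := by rw [hab]
    have h2 : (ι x).base (a.left.base z) = (ι x').base (b.left.base z) := h1
    have h3 : (ι x).base (a.left.base z) ∈ Set.range (ι x).base := ⟨_, rfl⟩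
    have h4 : (ι x').base (b.left.base z) ∈ Set.range (ι x').base := ⟨_, rfl⟩
    rw [hι2 x] at h3
    rw [hι2 x'] at h4
    exact (h3.symm.trans h2).trans h4
  have hmono : ∀ (x : W.left) (Z : (X k).Etale) (a b : Z ⟶ P x), a ≫ p x = b ≫ p x → a = b := by
    intro x Z a b hab
    apply MorphismProperty.Over.Hom.ext
    have h1 : (a ≫ p x).left = (b ≫ p x).left := by rw [hab]
    have h2 : a.left ≫ ι x = b.left ≫ ι x := h1
    have := hι1 x
    exact (cancel_mono (ι x)).1 h2
  have hI : Presieve.IsSheaf (X k).smallEtaleTopology (X₂.obj ⋙ forget AddCommGrpCat.{u + 1}) :=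
    (isSheaf_iff_isSheaf_of_type _ _).1
      (GrothendieckTopology.HasSheafCompose.isSheaf X₂.obj X₂.property)
  have hIs : Presieve.IsSheafFor (X₂.obj ⋙ forget AddCommGrpCat.{u + 1}) (Presieve.ofArrows P p) :=
    (Presieve.isSheafFor_iff_generate _).2 (hI _ hcov)
  have hc : Presieve.Arrows.Compatible (X₂.obj ⋙ forget AddCommGrpCat.{u + 1}) p t := by
    intro x x' Z a b hab
    change X₂.obj.map a.op (t x) = X₂.obj.map b.op (t x')
    refine eq_of_points X₂ Z _ _ ?_
    intro N _ _ _ _ pt
    have z : Z.left := pt.left.base (⊥ : PrimeSpectrum N)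
    obtain rfl := key x x' Z a b hab z
    rw [hmono x Z a b hab]
  obtain ⟨s, hs, -⟩ := (Presieve.isSheafFor_arrows_iff (X₂.obj ⋙ forget AddCommGrpCat.{u + 1})
    p).1 hIs t hc
  refine ⟨s, ?_⟩
  refine (Sheaf.isSeparated X₃) W _ hcov _ _ ?_
  rintro Z h ⟨Y, h', _, ⟨x⟩, rfl⟩
  have e1 : X₂.obj.map (p x).op s = t x := hs x
  rw [op_comp, Functor.map_comp, ConcreteCategory.comp_apply, ConcreteCategory.comp_apply]
  congr 1
  rw [← NatTrans.naturality_apply g.hom (p x).op s, e1, ht x]

end Step2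

end Groth.Agent.Lib.Helper28.GalH90W
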