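import Groth.Agent.Lib.Helper28.GalH90W
import Groth.Agent.Lib.Helper28.EtFree

/-!
# Sections of quotient sheaves on `Spec k` lift up to torsion, over any compact étale object

* `exists_lift_nsmul_obj` : over `Spec L`, `L/k` finite separable.
* `exists_lift_nsmul_W` : over any compact `W` étale over `Spec k`.
* `exists_hom_lift_nsmul` : the same for morphisms out of the free sheaf `ℤ_W`.
-/

set_option autoImplicit false
open CategoryTheory CategoryTheory.Limits AlgebraicGeometry Opposite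
universe u

namespace Groth.Agent.Lib.Helper28.GalTorsW
open GalTors Groth.Agent.Lib.Helper4

variable (k : Type u) [Field k]

section Step1
variable (L : Type u) [Field L] [Algebra k L] [FiniteDimensional k L] [Algebra.IsSeparable k L]

/-- Sections of the quotient over `Spec L` lift up to torsion. -/
theorem exists_lift_nsmul_obj {X₁ X₂ X₃ : EtCoh.Ab (X k)} (f : X₁ ⟶ X₂) (g : X₂ ⟶ X₃)
    (w : f ≫ g = 0) (hS : (ShortComplex.mk f g w).ShortExact)
    (q : X₃.obj.obj (op (obj k L))) :
    ∃ n : ℕ, 0 < n ∧ ∃ t : X₂.obj.obj (op (obj k L)), g.hom.app (op (obj k L)) t = n • q := by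
  let R := EtShriek.restrAlong (GalResCores.j k L)
  have hS' := hS.map_of_exact R
  obtain ⟨n, hn, t', ht'⟩ := GalTors.liftTors L ((ShortComplex.mk f g w).map R) hS'
    (X₃.obj.map (GalH90W.ι' k L).op q)
  let t'' : X₂.obj.obj (op ((EtShriek.compEtale (GalResCores.j k L)).obj (EtCoh.top _))) := t'
  refine ⟨n, hn, X₂.obj.map (GalResCores.ι k L).op t'', ?_⟩
  have h1 : g.hom.app (op (obj k L)) (X₂.obj.map (GalResCores.ι k L).op t'') =
      X₃.obj.map (GalResCores.ι k L).op (g.hom.app _ t'') :=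
    NatTrans.naturality_apply g.hom (GalResCores.ι k L).op t''
  have h2 : g.hom.app _ t'' = n • X₃.obj.map (GalH90W.ι' k L).op q := ht'
  have h3 : X₃.obj.map (GalResCores.ι k L).op (X₃.obj.map (GalH90W.ι' k L).op q) = q := by
    rw [← ConcreteCategory.comp_apply, ← Functor.map_comp, ← op_comp, GalH90W.ι_ι']
    simp
  rw [h1, h2, map_nsmul, h3]

end Step1

section Step2

/-- Sections of the quotient over a compact object of the small étale site of `Spec k` lift up
to torsion. -/
theorem exists_lift_nsmul_W {X₁ X₂ X₃ : EtCoh.Ab (X k)} (f : X₁ ⟶ X₂) (g : X₂ ⟶ X₃)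
    (w : f ≫ g = 0) (hS : (ShortComplex.mk f g w).ShortExact)
    (W : (X k).Etale) [CompactSpace W.left] (q : X₃.obj.obj (op W)) :
    ∃ n : ℕ, 0 < n ∧ ∃ t : X₂.obj.obj (op W), g.hom.app (op W) t = n • q := by
  have : Etale W.hom := W.prop
  choose K hK1 hK2 hK3 hK4 ι hι1 hι2 hι3 using
    fun x : W.left => Groth.Agent.S0658.local_decomp k W.left W.hom x
  let P : W.left → (X k).Etale := fun x => @obj k _ (K x) (hK1 x) (hK2 x) (hK3 x) (hK4 x)
  let p : ∀ x, P x ⟶ W := fun x => MorphismProperty.Over.homMk (ι x) (hι3 x)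
  -- finiteness
  have hopen : ∀ x : W.left, IsOpen ({x} : Set W.left) := by
    intro x
    rw [← hι2 x]
    have := hι1 x
    exact (ι x).isOpenEmbedding.isOpen_range
  have hdisc : DiscreteTopology W.left := discreteTopology_iff_isOpen_singleton.2 hopen
  have hfin : Finite W.left := finite_of_compact_of_discrete
  have := Fintype.ofFinite W.left
  -- local lifts
  choose n hn t ht using fun x : W.left =>
    @exists_lift_nsmul_obj k _ (K x) (hK1 x) (hK2 x) (hK3 x) (hK4 x) X₁ X₂ X₃ f g w hS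
      (X₃.obj.map (p x).op q)
  let N : ℕ := ∏ x, n x
  have hN : 0 < N := Finset.prod_pos (fun x _ => hn x)
  have hdvd : ∀ x, n x ∣ N := fun x => Finset.dvd_prod_of_mem n (Finset.mem_univ x)
  let t' : ∀ x, X₂.obj.obj (op (P x)) := fun x => (N / n x) • t x
  have ht' : ∀ x, g.hom.app (op (P x)) (t' x) = N • X₃.obj.map (p x).op q := by
    intro x
    change g.hom.app (op (P x)) ((N / n x) • t x) = _
    rw [map_nsmul, ht x, ← mul_nsmul, Nat.mul_div_cancel' (hdvd x)]
  -- the covering
  have hcov : Sieve.ofArrows P p ∈ (X k).smallEtaleTopology W := by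
    refine (EtQc.mem_topology_iff _ _).2 ?_
    intro x
    have hx : x ∈ Set.range (ι x).base := by rw [hι2 x]; rfl
    obtain ⟨y, hy⟩ := hx
    exact ⟨P x, p x, y, Sieve.ofArrows_mk _ _ x, hy⟩
  have key : ∀ (x x' : W.left) (Z : (X k).Etale) (a : Z ⟶ P x) (b : Z ⟶ P x')
      (_ : a ≫ p x = b ≫ p x') (z : Z.left), x = x' := by
    intro x x' Z a b hab z
    have h1 : (a ≫ p x).left.base z = (b ≫ p x').left.base z := by rw [hab]
    have h2 : (ι x).base (a.left.base z) = (ι x').base (b.left.base z) := h1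
    have h3 : (ι x).base (a.left.base z) ∈ Set.range (ι x).base := ⟨_, rfl⟩
    have h4 : (ι x').base (b.left.base z) ∈ Set.range (ι x').base := ⟨_, rfl⟩
    rw [hι2 x] at h3
    rw [hι2 x'] at h4
    exact (h3.symm.trans h2).trans h4
  have hmono : ∀ (x : W.left) (Z : (X k).Etale) (a b : Z ⟶ P x), a ≫ p x = b ≫ p x → a = b := by
    intro x Z a b hab
    apply MorphismProperty.Over.Hom.ext
    have h1 : (a ≫ p x).left = (b ≫ p x).left := by rw [hab]
    have h2 : a.left ≫ ι x = b.left ≫ ι x := h1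
    have := hι1 x
    exact (cancel_mono (ι x)).1 h2
  have hI : Presieve.IsSheaf (X k).smallEtaleTopology (X₂.obj ⋙ forget AddCommGrpCat.{u + 1}) :=
    (isSheaf_iff_isSheaf_of_type _ _).1
      (GrothendieckTopology.HasSheafCompose.isSheaf X₂.obj X₂.property)
  have hIs : Presieve.IsSheafFor (X₂.obj ⋙ forget AddCommGrpCat.{u + 1}) (Presieve.ofArrows P p) :=
    (Presieve.isSheafFor_iff_generate _).2 (hI _ hcov)
  have hc : Presieve.Arrows.Compatible (X₂.obj ⋙ forget AddCommGrpCat.{u + 1}) p t' := by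
    intro x x' Z a b hab
    change X₂.obj.map a.op (t' x) = X₂.obj.map b.op (t' x')
    refine eq_of_points X₂ Z _ _ ?_
    intro M _ _ _ _ pt
    have z : Z.left := pt.left.base (⊥ : PrimeSpectrum M)
    obtain rfl := key x x' Z a b hab z
    rw [hmono x Z a b hab]
  obtain ⟨s, hs, -⟩ := (Presieve.isSheafFor_arrows_iff (X₂.obj ⋙ forget AddCommGrpCat.{u + 1})
    p).1 hIs t' hc
  refine ⟨N, hN, s, ?_⟩
  refine (Sheaf.isSeparated X₃) W _ hcov _ _ ?_
  rintro Z h ⟨Y, h', _, ⟨x⟩, rfl⟩
  have e1 : X₂.obj.map (p x).op s = t' x := hs x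
  rw [op_comp, Functor.map_comp, ConcreteCategory.comp_apply, ConcreteCategory.comp_apply]
  congr 1
  rw [← NatTrans.naturality_apply g.hom (p x).op s, e1, ht' x, map_nsmul]

end Step2

section Step3

/-- Morphisms from `ℤ_W` to a quotient lift up to torsion. -/
theorem exists_hom_lift_nsmul (S : ShortComplex (EtCoh.Ab (X k))) (hS : S.ShortExact)
    (W : (X k).Etale) [CompactSpace W.left] (x : (EtFree.Zf (X k)).obj W ⟶ S.X₃) :
    ∃ n : ℕ, 0 < n ∧ ∃ y : (EtFree.Zf (X k)).obj W ⟶ S.X₂, y ≫ S.g = n • x := by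
  let σ := FreeShG.σ.{u + 1} (X k).smallEtaleTopology W
  obtain ⟨n, hn, t, ht⟩ := exists_lift_nsmul_W k S.f S.g S.zero hS W (σ S.X₃ x)
  refine ⟨n, hn, (σ S.X₂).symm t, (σ S.X₃).injective ?_⟩
  rw [FreeShG.σ_right, map_nsmul]
  change S.g.hom.app (op W) ((σ S.X₂) ((σ S.X₂).symm t)) = _
  rw [AddEquiv.apply_symm_apply]
  exact ht

end Step3

end Groth.Agent.Lib.Helper28.GalTorsW
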