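import Groth.Agent.Lib.Helper41.HensQF
import Groth.Agent.Lib.Helper4.EtStalk
import Groth.Agent.Lib.Helper28.EtQc

/-!
# Sheaves on a local scheme with vanishing stalks at the closed point

Let `R` be a local ring and `M` an abelian sheaf on the small étale site of `Spec R` whose stalks at
all geometric points over the closed point vanish.  Then `M(W) = 0` for every étale `W` finite over
`Spec R`.
-/

namespace Groth.Agent.Lib.Helper28.HensLoc

open CategoryTheory Limits AlgebraicGeometry Opposite IsLocalRing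
open Groth.Agent.Lib.Helper28

universe u

/-- If the stalk of `M` at the geometric point `ξ` vanishes, every section of `M` over an étale
neighbourhood of `ξ` vanishes on a smaller étale neighbourhood. -/
lemma exists_map_eq_zero {X : Scheme.{u}} {Ω : Type u} [Field Ω] [IsSepClosed Ω]
    (ξ : Spec (CommRingCat.of Ω) ⟶ X) (M : EtCoh.Ab X) (hM : IsZero ((EtCoh.stalk ξ).obj M))
    (W : X.Etale) (w : W.left) (hw : W.hom w = ξ default) (m : M.obj.obj (op W)) :
    ∃ (V : X.Etale) (g : V ⟶ W) (v : V.left), g.left v = w ∧ M.obj.map g.op m = 0 := by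
  obtain ⟨l, hl1, hl2⟩ := Scheme.exists_fac_of_etale_of_isSepClosed W.hom ξ w hw
  have hpf : PreservesFilteredColimitsOfSize.{u, u} (forget AddCommGrpCat.{u + 1}) :=
    preservesFilteredColimitsOfSize_shrink.{u, u + 1, u, u + 1} _
  let Φ := Scheme.pointSmallEtale ξ
  let x : Φ.fiber.obj W := Over.homMk l hl1
  have hsub : Subsingleton (ToType (Φ.presheafFiber.obj M.obj)) :=
    AddCommGrpCat.subsingleton_of_isZero hM
  have h := (Φ.toPresheafFiber_eq_iff' (P := M.obj) W x m 0).1 (Subsingleton.elim _ _)
  obtain ⟨V, g, y, hy, hm⟩ := h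
  let yl : Spec (CommRingCat.of Ω) ⟶ V.left := y.left
  refine ⟨V, g, yl default, ?_, ?_⟩
  · have h1 : yl ≫ g.left = l := congrArg (fun k => k.left) hy
    rw [← hl2, ← h1]
    rfl
  · rw [hm, map_zero]

lemma geomPtAt_default (X : Scheme.{u}) (s : X) :
    (Groth.Agent.Lib.Helper4.EtStalk.geomPtAt X s) default = s := by
  unfold Groth.Agent.Lib.Helper4.EtStalk.geomPtAt
  simp [Scheme.SpecToEquivOfField]

variable {R : Type u} [CommRing R] [IsLocalRing R]

/-- A sheaf on `Spec R`, `R` local, whose stalks over the closed point vanish has no nonzero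
sections over étale schemes finite over `Spec R`. -/
theorem eq_zero_of_isZero_stalk (M : EtCoh.Ab (Spec (CommRingCat.of R)))
    (hM : ∀ (Ω : Type u) [Field Ω] [IsSepClosed Ω]
      (ξ : Spec (CommRingCat.of Ω) ⟶ Spec (CommRingCat.of R)),
      ξ default = closedPoint R → IsZero ((EtCoh.stalk ξ).obj M))
    (W : (Spec (CommRingCat.of R)).Etale) (hW : IsFinite W.hom) (m : M.obj.obj (op W)) :
    m = 0 := by
  let ξ := Groth.Agent.Lib.Helper4.EtStalk.geomPtAt (Spec (CommRingCat.of R)) (closedPoint R)
  have hξ : ξ default = closedPoint R := geomPtAt_default _ _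
  have hMξ := hM _ ξ hξ
  let T : Sieve W :=
    { arrows := fun W' h => M.obj.map h.op m = 0
      downward_closed := by
        intro W' W'' h hh k
        rw [op_comp, Functor.map_comp, ConcreteCategory.comp_apply, hh, map_zero] }
  have hiso : IsIso (⊤ : W.left.Opens).ι := (W.left.topIso).isIso_hom
  have hfin0 : IsFinite (⊤ : W.left.Opens).ι := inferInstance
  have hfin : IsFinite ((⊤ : W.left.Opens).ι ≫ W.hom) := inferInstance
  have hT : T ∈ (Spec (CommRingCat.of R)).smallEtaleTopology W := by
    refine (EtQc.mem_topology_iff W T).2 ?_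
    intro w
    obtain ⟨w', -, hsp, hw'⟩ :=
      Groth.Agent.Lib.Helper41.HensQF.exists_specializes_closedFibre W.hom ⊤ hfin w trivial
    obtain ⟨V, g, v, hv, hm⟩ := exists_map_eq_zero ξ M hMξ W w' (by rw [hξ]; exact hw') m
    have hopen : IsOpen (Set.range g.left) := g.left.isOpenMap.isOpen_range
    obtain ⟨v₀, hv₀⟩ := hsp.mem_open hopen ⟨v, hv⟩
    exact ⟨V, g, v₀, hm, hv₀⟩
  refine (Sheaf.isSeparated M) W T hT _ _ ?_
  intro W' h hh
  rw [map_zero]
  exact hh

end Groth.Agent.Lib.Helper28.HensLoc
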