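import Groth.Agent.Lib.Helper28.HensLoc1
import Groth.Agent.Lib.Helper57.LS1

/-!
# Finite étale refinements of coverings over a henselian local ring

Let `R` be a henselian local ring.  The étale `Spec R`-schemes which are finite over `Spec R` are
stable under fibre products, and every covering sieve of such an object contains a covering family
consisting of such objects.
-/

namespace Groth.Agent.Lib.Helper28.HensLoc

open CategoryTheory Limits AlgebraicGeometry Opposite IsLocalRing
open Groth.Agent.Lib.Helper28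

universe u

/-- The étale schemes finite over the base. -/
def B (X : Scheme.{u}) : Set X.Etale := {W | IsFinite W.hom}

lemma B_of_isPullback {X : Scheme.{u}} {P Z₁ Z₂ W : X.Etale} {fst : P ⟶ Z₁} {snd : P ⟶ Z₂}
    {f : Z₁ ⟶ W} {g : Z₂ ⟶ W} (h : IsPullback fst snd f g) (h₁ : Z₁ ∈ B X) (h₂ : Z₂ ∈ B X)
    (hW : W ∈ B X) : P ∈ B X := by
  have hp : IsPullback fst.left snd.left f.left g.left :=
    h.map (Scheme.Etale.forget X ⋙ Over.forget X)
  have hW' : IsFinite W.hom := hW
  have hZ₂ : IsFinite (g.left ≫ W.hom) := by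
    have e : g.left ≫ W.hom = Z₂.hom := MorphismProperty.Over.w g
    rw [e]
    exact h₂
  have hg : IsFinite g.left := IsFinite.of_comp g.left W.hom
  have hfst : IsFinite fst.left := MorphismProperty.of_isPullback (P := @IsFinite) hp.flip hg
  have hZ₁ : IsFinite Z₁.hom := h₁
  have e : fst.left ≫ Z₁.hom = P.hom := MorphismProperty.Over.w fst
  change IsFinite P.hom
  rw [← e]
  infer_instance

/-- The class of covering families of finite étale schemes by finite étale schemes. -/
def Cov (X : Scheme.{u}) (U : X.Etale) (ι : Type (u + 1)) (Y : ι → Over U) : Prop :=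
  U ∈ B X ∧
    Sieve.ofArrows (fun i => (Y i).left) (fun i => (Y i).hom) ∈ X.smallEtaleTopology U ∧
    ∀ i, (Y i).left ∈ B X

lemma prod_mem {X : Scheme.{u}} {U : X.Etale} (hU : U ∈ B X) {ι : Type (u + 1)} (Y : ι → Over U)
    (hY : ∀ i, (Y i).left ∈ B X) (p : ℕ) (a : Fin (p + 1) → ι) :
    (∏ᶜ fun k => Y (a k)).left ∈ B X :=
  OverProd.prod_left_mem (B X) (fun h h₁ h₂ hW => B_of_isPullback h h₁ h₂ hW) hU p
    (fun k => Y (a k)) (fun k => hY (a k))

lemma cov_h1 {X : Scheme.{u}} (U : X.Etale) (ι : Type (u + 1)) (Y : ι → Over U)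
    (h : Cov X U ι Y) :
    U ∈ B X ∧ Sieve.ofArrows (fun i => (Y i).left) (fun i => (Y i).hom) ∈ X.smallEtaleTopology U ∧
      ∀ (p : ℕ) (a : Fin (p + 1) → ι), (∏ᶜ fun k => Y (a k)).left ∈ B X :=
  ⟨h.1, h.2.1, fun p a => prod_mem h.1 Y h.2.2 p a⟩

variable {R : Type u} [CommRing R] [HenselianLocalRing R]

/-- Around a point of the closed fibre, every étale `Spec R`-scheme contains an open subscheme
finite over `Spec R`. -/
lemma exists_finite_nbhd (V : (Spec (CommRingCat.of R)).Etale) (v : V.left)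
    (hv : V.hom v = closedPoint R) :
    ∃ (Z : (Spec (CommRingCat.of R)).Etale) (j : Z ⟶ V) (z : Z.left),
      Z ∈ B (Spec (CommRingCat.of R)) ∧ j.left z = v := by
  obtain ⟨A, hA, hvA, -⟩ := exists_isAffineOpen_mem_and_subset (x := v) (U := ⊤) trivial
  have : IsAffine A.toScheme := hA
  let f : A.toScheme ⟶ Spec (CommRingCat.of R) := A.ι ≫ V.hom
  have hVet : Etale V.hom := V.prop
  have hfet : Etale f := inferInstance
  have hqf : LocallyQuasiFinite f := Groth.Agent.Lib.Helper57.LS.locallyQuasiFinite_of_etale f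
  have hsep : IsSeparated f := inferInstance
  let x : A.toScheme := ⟨v, hvA⟩
  have hx : f.base x = closedPoint R := hv
  obtain ⟨W', hxW', -, -, hW'fin, -, -⟩ :=
    Groth.Agent.Lib.Helper41.HensQF.exists_clopen_finite_nhd R f x hx (f.quasiFiniteAt x)
  have hZet : Etale (W'.ι ≫ f) := inferInstance
  let Z : (Spec (CommRingCat.of R)).Etale := Scheme.Etale.mk (W'.ι ≫ f)
  let j : Z ⟶ V := MorphismProperty.Over.homMk (W'.ι ≫ A.ι) (Category.assoc _ _ _)
  exact ⟨Z, j, ⟨x, hxW'⟩, hW'fin, rfl⟩

/-- Every covering sieve of an étale scheme finite over `Spec R` contains a covering family of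
étale schemes finite over `Spec R`. -/
theorem exists_cov (U : (Spec (CommRingCat.of R)).Etale) (hU : U ∈ B (Spec (CommRingCat.of R)))
    (T : Sieve U) (hT : T ∈ (Spec (CommRingCat.of R)).smallEtaleTopology U) :
    ∃ (ι : Type (u + 1)) (Y : ι → Over U), Cov (Spec (CommRingCat.of R)) U ι Y ∧
      ∀ i, T.arrows (Y i).hom := by
  have hUfin : IsFinite U.hom := hU
  have key : ∀ w : U.left, U.hom w = closedPoint R →
      ∃ (Z : (Spec (CommRingCat.of R)).Etale) (k : Z ⟶ U) (z : Z.left),
        Z ∈ B (Spec (CommRingCat.of R)) ∧ T.arrows k ∧ k.left z = w := by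
    intro w hw
    obtain ⟨V, g, v, hg, hv⟩ := (EtQc.mem_topology_iff U T).1 hT w
    have hVv : V.hom v = closedPoint R := by
      have e : g.left ≫ U.hom = V.hom := MorphismProperty.Over.w g
      rw [← e]
      change U.hom (g.left v) = _
      rw [hv, hw]
    obtain ⟨Z, j, z, hZ, hz⟩ := exists_finite_nbhd V v hVv
    refine ⟨Z, j ≫ g, z, hZ, T.downward_closed hg j, ?_⟩
    change g.left (j.left z) = w
    rw [hz, hv]
  choose Z k z hZ hk hz using key
  let ι : Type (u + 1) := ULift.{u + 1} {w : U.left // U.hom w = closedPoint R}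
  let Y : ι → Over U := fun i => Over.mk (k i.down.1 i.down.2)
  refine ⟨ι, Y, ⟨hU, ?_, fun i => hZ _ _⟩, fun i => hk _ _⟩
  refine (EtQc.mem_topology_iff U _).2 ?_
  intro w
  have hiso : IsIso (⊤ : U.left.Opens).ι := (U.left.topIso).isIso_hom
  have hfin0 : IsFinite (⊤ : U.left.Opens).ι := inferInstance
  have hfin : IsFinite ((⊤ : U.left.Opens).ι ≫ U.hom) := inferInstance
  obtain ⟨w', -, hsp, hw'⟩ :=
    Groth.Agent.Lib.Helper41.HensQF.exists_specializes_closedFibre U.hom ⊤ hfin w trivial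
  let i : ι := ⟨⟨w', hw'⟩⟩
  have hopen : IsOpen (Set.range (k w' hw').left) := (k w' hw').left.isOpenMap.isOpen_range
  obtain ⟨z₀, hz₀⟩ := hsp.mem_open hopen ⟨z w' hw', hz w' hw'⟩
  exact ⟨Z w' hw', k w' hw', z₀, Sieve.ofArrows_mk _ _ i, hz₀⟩

end Groth.Agent.Lib.Helper28.HensLoc
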