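import Groth.Agent.Lib.Helper28.HensLoc2
import Groth.Agent.Lib.Helper28.CechIso
import Groth.Agent.Lib.Helper28.SheafSES

/-!
# Morphisms of sheaves on a henselian local scheme which are isomorphisms at the closed point

Let `R` be a henselian local ring and `u : F ⟶ G` a morphism of abelian sheaves on the small étale
site of `Spec R` which induces isomorphisms on the stalks at all geometric points over the closed
point.  Then `u` is bijective on sections over every étale scheme finite over `Spec R`.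
-/

namespace Groth.Agent.Lib.Helper28.HensLoc

open CategoryTheory Limits AlgebraicGeometry Opposite IsLocalRing
open Groth.Agent.Lib.Helper28

universe u

variable {R : Type u} [CommRing R] [HenselianLocalRing R]

theorem bijective_app_of_isIso_stalk {F G : EtCoh.Ab (Spec (CommRingCat.of R))} (φ : F ⟶ G)
    (hφ : ∀ (Ω : Type u) [Field Ω] [IsSepClosed Ω]
      (ξ : Spec (CommRingCat.of Ω) ⟶ Spec (CommRingCat.of R)),
      ξ default = closedPoint R → IsIso ((EtCoh.stalk ξ).map φ))
    (W : (Spec (CommRingCat.of R)).Etale) (hW : W ∈ B (Spec (CommRingCat.of R))) :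
    Function.Bijective (φ.hom.app (op W)) := by
  let e : F ⟶ Abelian.image φ := Abelian.factorThruImage φ
  let ιC : Abelian.image φ ⟶ G := Abelian.image.ι φ
  have fac : e ≫ ιC = φ := Abelian.image.fac φ
  let S₁ : ShortComplex (EtCoh.Ab (Spec (CommRingCat.of R))) :=
    ShortComplex.mk (kernel.ι e) e (kernel.condition e)
  have hS₁ : S₁.ShortExact :=
    ShortComplex.ShortExact.mk' (S₁.exact_of_f_is_kernel (kernelIsKernel e))
      (inferInstanceAs (Mono (kernel.ι e))) (inferInstanceAs (Epi (Abelian.factorThruImage φ)))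
  let S₂ : ShortComplex (EtCoh.Ab (Spec (CommRingCat.of R))) :=
    ShortComplex.mk (kernel.ι (cokernel.π φ)) (cokernel.π φ) (kernel.condition _)
  have hS₂ : S₂.ShortExact :=
    ShortComplex.ShortExact.mk' (S₂.exact_of_f_is_kernel (kernelIsKernel _))
      (inferInstanceAs (Mono (kernel.ι (cokernel.π φ)))) (inferInstanceAs (Epi (cokernel.π φ)))
  -- vanishing of the stalks of kernel and cokernel
  have hK : ∀ (Ω : Type u) [Field Ω] [IsSepClosed Ω]
      (ξ : Spec (CommRingCat.of Ω) ⟶ Spec (CommRingCat.of R)),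
      ξ default = closedPoint R → IsZero ((EtCoh.stalk ξ).obj (kernel e)) := by
    intro Ω _ _ ξ hξ
    have hiso := hφ Ω ξ hξ
    have h : (EtCoh.stalk ξ).map e ≫ (EtCoh.stalk ξ).map ιC = (EtCoh.stalk ξ).map φ := by
      rw [← Functor.map_comp, fac]
    have hmono : Mono ((EtCoh.stalk ξ).map e) := mono_of_mono_fac h
    exact (isZero_kernel_of_mono ((EtCoh.stalk ξ).map e)).of_iso
      (PreservesKernel.iso (EtCoh.stalk ξ) e)
  have hQ : ∀ (Ω : Type u) [Field Ω] [IsSepClosed Ω]
      (ξ : Spec (CommRingCat.of Ω) ⟶ Spec (CommRingCat.of R)),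
      ξ default = closedPoint R → IsZero ((EtCoh.stalk ξ).obj (cokernel φ)) := by
    intro Ω _ _ ξ hξ
    have hiso := hφ Ω ξ hξ
    exact (isZero_cokernel_of_epi ((EtCoh.stalk ξ).map φ)).of_iso
      (PreservesCokernel.iso (EtCoh.stalk ξ) φ)
  have hK0 : ∀ (W' : (Spec (CommRingCat.of R)).Etale), W' ∈ B (Spec (CommRingCat.of R)) →
      ∀ m : (kernel e).obj.obj (op W'), m = 0 :=
    fun W' hW' m => eq_zero_of_isZero_stalk (kernel e) hK W' hW' m
  have hQ0 : ∀ m : (cokernel φ).obj.obj (op W), m = 0 :=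
    fun m => eq_zero_of_isZero_stalk (cokernel φ) hQ W hW m
  have hfac : ∀ s : F.obj.obj (op W),
      φ.hom.app (op W) s = ιC.hom.app (op W) (e.hom.app (op W) s) := by
    intro s
    have h2 := congrArg (fun ψ : F ⟶ G => ψ.hom.app (op W) s) fac
    exact h2.symm
  constructor
  · intro s₁ s₂ h
    have h0 : φ.hom.app (op W) (s₁ - s₂) = 0 := by rw [map_sub, h, sub_self]
    rw [hfac] at h0
    have h1 : e.hom.app (op W) (s₁ - s₂) = 0 := by
      apply SheafSES.app_f_injective hS₂ W
      rw [h0, map_zero]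
    obtain ⟨k, hk⟩ := SheafSES.exists_of_app_g_eq_zero hS₁ W (s₁ - s₂) h1
    rw [hK0 W hW k, map_zero] at hk
    exact sub_eq_zero.1 hk.symm
  · intro t
    obtain ⟨c, hc⟩ := SheafSES.exists_of_app_g_eq_zero hS₂ W t (hQ0 _)
    have hsurj : Function.Surjective (S₁.g.hom.app (op W)) := by
      apply CartanG.surjective_sections S₁ hS₁ W
      intro T hT
      obtain ⟨ι, Y, hCov, hYT⟩ := exists_cov W hW T hT
      obtain ⟨-, hcov, hprod⟩ := cov_h1 W ι Y hCov
      refine ⟨ι, Y, hYT, hcov, ?_⟩
      apply CechIso.isZero_cechH_of_isZero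
      intro n a
      have : Subsingleton ((kernel e).obj.obj (op (∏ᶜ fun k => Y (a k)).left)) :=
        ⟨fun x y => by rw [hK0 _ (hprod n a) x, hK0 _ (hprod n a) y]⟩
      exact AddCommGrpCat.isZero_of_subsingleton _
    obtain ⟨s, hs⟩ := hsurj c
    refine ⟨s, ?_⟩
    rw [hfac]
    change ιC.hom.app (op W) (S₁.g.hom.app (op W) s) = t
    rw [hs]
    exact hc

end Groth.Agent.Lib.Helper28.HensLoc
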