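import Groth.Agent.Lib.Helper28.HensLoc3
import Groth.Agent.Lib.Helper4.ClosedRecoll
import Groth.Agent.Lib.Helper57.EtPushExact
import Groth.Agent.Lib.Helper28.ExtUnit
import Groth.Agent.Lib.Helper28.ExtLift
import Groth.Agent.Lib.Helper28.ConstZero
import Groth.Agent.Lib.Helper28.CechO

/-!
# Cohomology of a henselian local ring: restriction to the closed point

Let `R` be a henselian local ring with residue field `k`, `i : Spec k ⟶ Spec R`.  For every abelian
sheaf `F` on the small étale site of `Spec R`, the unit `F ⟶ i_* i^* F` induces isomorphisms on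
cohomology.
-/

namespace Groth.Agent.Lib.Helper28.HensLoc

open CategoryTheory Limits AlgebraicGeometry Opposite IsLocalRing Abelian
open Groth.Agent.Lib.Helper28

universe u

variable (R : Type u) [CommRing R] [HenselianLocalRing R]

/-- The closed immersion of the closed point. -/
noncomputable abbrev clI : Spec (CommRingCat.of (ResidueField R)) ⟶ Spec (CommRingCat.of R) :=
  Spec.map (CommRingCat.ofHom (residue R))

instance : IsClosedImmersion (clI R) :=
  IsClosedImmersion.spec_of_surjective _ (residue_surjective)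

variable {R}

theorem isIso_stalk_unit' (F : EtCoh.Ab (Spec (CommRingCat.of R))) (Ω : Type u) [Field Ω]
    [IsSepClosed Ω] (ξ : Spec (CommRingCat.of Ω) ⟶ Spec (CommRingCat.of R))
    (hξ : ξ default = closedPoint R) :
    IsIso ((EtCoh.stalk ξ).map ((EtCoh.pullPushAdj (clI R)).unit.app F)) := by
  have h : Set.range ξ.base ⊆ Set.range (clI R).base := by
    rintro _ ⟨a, rfl⟩
    have ha : a = default := Subsingleton.elim _ _
    refine ⟨default, ?_⟩
    rw [ha]
    rw [hξ]
    exact IsLocalRing.PrimeSpectrum.comap_residue R _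
  obtain ⟨ζ, rfl⟩ := Groth.Agent.Lib.Helper4.ClosedRecoll.exists_lift_geomPt (clI R) ξ h
  exact Groth.Agent.Lib.Helper4.ClosedRecoll.isIso_stalk_unit (clI R) F ζ

theorem bijective_unit_app (F : EtCoh.Ab (Spec (CommRingCat.of R)))
    (W : (Spec (CommRingCat.of R)).Etale) (hW : W ∈ B (Spec (CommRingCat.of R))) :
    Function.Bijective (((EtCoh.pullPushAdj (clI R)).unit.app F).hom.app (op W)) :=
  bijective_app_of_isIso_stalk _ (fun Ω _ _ ξ hξ => isIso_stalk_unit' F Ω ξ hξ) W hW

/-- `i_* i^* I` has no higher cohomology for `I` injective. -/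
theorem H_push_pull_eq_zero (I : EtCoh.Ab (Spec (CommRingCat.of R))) [Injective I] (n : ℕ)
    (x : EtCoh.H (Spec (CommRingCat.of R))
      ((EtCoh.push (clI R)).obj ((EtCoh.pull (clI R)).obj I)) (n + 1)) : x = 0 := by
  let Y := Spec (CommRingCat.of R)
  let z := ConstZero.zeroIso.{u + 1} Y.smallEtaleTopology (EtCore.topIsTerminal Y)
  have htop : EtCoh.top Y ∈ B Y := by
    change IsFinite (𝟙 Y)
    infer_instance
  refine CartanG.cartan (B Y) (Cov Y) cov_h1 (fun U hU T hT => exists_cov U hU T hT) _
    (EtCoh.top Y) htop ?_ _ ?_ n x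
  · intro G H g hg y
    exact ExtLift.exists_lift_of_iso _ _ z g hg y
  · intro U ι Yf hCov p
    obtain ⟨-, -, hprod⟩ := cov_h1 U ι Yf hCov
    have := CartanG.injective_obj I
    refine (CechIso.isZero_cechH_iff Yf ((EtCoh.pullPushAdj (clI R)).unit.app I).hom ?_ (p + 1)).1
      (CechO.isZero_cech_homology_succ_of_injective Yf I.obj p)
    intro m a
    rw [ConcreteCategory.isIso_iff_bijective]
    exact bijective_unit_app I _ (hprod m a)

/-- The unit `F ⟶ i_* i^* F` induces bijections on cohomology over a henselian local ring. -/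
theorem comp_unit_bijective [PreservesFiniteLimits (EtCoh.pull (clI R))]
    (F : EtCoh.Ab (Spec (CommRingCat.of R))) (q : ℕ) :
    Function.Bijective (fun x : EtCoh.H (Spec (CommRingCat.of R)) F q =>
      x.comp (Ext.mk₀ ((EtCoh.pullPushAdj (clI R)).unit.app F)) (add_zero q)) := by
  let Y := Spec (CommRingCat.of R)
  have hpushL : PreservesFiniteLimits (EtCoh.push (clI R)) :=
    have : PreservesLimitsOfSize.{0, 0} (EtCoh.push (clI R)) :=
      (EtCoh.pullPushAdj (clI R)).rightAdjoint_preservesLimits
    PreservesLimitsOfSize.preservesFiniteLimits _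
  have hpushC : PreservesFiniteColimits (EtCoh.push (clI R)) :=
    Groth.Agent.Lib.Helper57.EtPushExact.push_preservesFiniteColimits (clI R)
  have hpullC : PreservesFiniteColimits (EtCoh.pull (clI R)) :=
    have : PreservesColimitsOfSize.{0, 0} (EtCoh.pull (clI R)) :=
      (EtCoh.pullPushAdj (clI R)).leftAdjoint_preservesColimits
    PreservesColimitsOfSize.preservesFiniteColimits _
  refine ExtUnit.comp_unit_bijective (ConstZero.Zc.{u + 1} Y.smallEtaleTopology)
    (EtCoh.pull (clI R) ⋙ EtCoh.push (clI R)) (EtCoh.pullPushAdj (clI R)).unit ?_ ?_ q F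
  · intro G
    have htop : EtCoh.top Y ∈ B Y := by
      change IsFinite (𝟙 Y)
      infer_instance
    have hb := bijective_unit_app G (EtCoh.top Y) htop
    have hT := EtCore.topIsTerminal Y
    let e₁ := Sheaf.H.equiv₀ G hT
    let e₂ := Sheaf.H.equiv₀ ((EtCoh.pull (clI R) ⋙ EtCoh.push (clI R)).obj G) hT
    have hnat : ∀ x : Sheaf.H G 0,
        ((EtCoh.pullPushAdj (clI R)).unit.app G).hom.app (op (EtCoh.top Y)) (e₁ x) =
          e₂ (x.comp (Ext.mk₀ ((EtCoh.pullPushAdj (clI R)).unit.app G)) (add_zero 0)) :=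
      fun x => Sheaf.H.equiv₀_naturality hT ((EtCoh.pullPushAdj (clI R)).unit.app G) x
    constructor
    · intro x₁ x₂ h
      apply e₁.injective
      apply hb.1
      rw [hnat, hnat]
      exact congrArg e₂ h
    · intro y
      obtain ⟨s, hs⟩ := hb.2 (e₂ y)
      refine ⟨e₁.symm s, ?_⟩
      apply e₂.injective
      rw [← hs]
      have := hnat (e₁.symm s)
      rw [AddEquiv.apply_symm_apply] at this
      exact this.symm
  · intro I _ n x
    exact H_push_pull_eq_zero I n x

end Groth.Agent.Lib.Helper28.HensLoc
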