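import Groth.Prelude.Def_LefMon
import Groth.Agent.Lib.Helper28.HofPushBC

/-!
# Functoriality of the pullback maps on `H^i(-, ℤ/ℓ^ν)`
-/

set_option autoImplicit false
set_option linter.unusedSectionVars false
universe u
open CategoryTheory CategoryTheory.Limits AlgebraicGeometry Opposite

namespace Groth.Agent.Lib.Helper28.HmapComp
open EtCore Abelian Groth.Agent.Lib.Helper4 Groth.Agent.Lib.Helper28
  Groth.Agent.Lib.Helper28.ExtSand

variable (ℓ : ℕ)

theorem Hmap_apply {X Y : Scheme.{u}} (f : Y ⟶ X) (hf : PreservesFiniteLimits (EtCoh.pull f))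
    (i ν : ℕ) (x : EtAdic.Hmod X ℓ i ν) :
    EtAdic.Hmap ℓ f hf i ν x =
      sand (pullConst f ℤ).inv (x.mapExactFunctor (EtCoh.pull f))
        (pullConst f (ZMod (ℓ ^ ν))).hom := by
  have h1 : EtAdic.Hmap ℓ f hf i ν x =
      ((EtCoh.HF Y i).map (pullConst f (ZMod (ℓ ^ ν))).hom).hom
        (Hpull f (EtCoh.const X (ZMod (ℓ ^ ν))) i x) := rfl
  rw [h1, HofPushBC.HF_map_apply, HofPushBC.Hpull_apply, sand_sand, Category.id_comp,
    Category.id_comp]

theorem pullConst_hom_via {X Y Z : Scheme.{u}} (a : Z ⟶ Y) (b : Y ⟶ X) (c : Z ⟶ X)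
    (w : a ≫ b = c) (M : Type) [AddCommGroup M] :
    ((pullComp a b).symm ≪≫ pullCongr w).inv.app (EtCoh.const X M) ≫
        (EtCoh.pull a).map (pullConst b M).hom ≫ (pullConst a M).hom =
      (pullConst c M).hom := by
  have h := PullConstComp.pullConst_inv_via a b w M
  have key : (((pullComp a b).symm ≪≫ pullCongr w).inv.app (EtCoh.const X M) ≫
      (EtCoh.pull a).map (pullConst b M).hom ≫ (pullConst a M).hom) ≫ (pullConst c M).inv =
      𝟙 _ := by
    have h' : (pullConst a M).inv ≫ (EtCoh.pull a).map (pullConst b M).inv ≫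
        ((pullComp a b).symm ≪≫ pullCongr w).hom.app (EtCoh.const X M) = (pullConst c M).inv := h
    rw [← h']
    simp only [Category.assoc]
    rw [Iso.hom_inv_id_assoc, ← Functor.map_comp_assoc, Iso.hom_inv_id,
      CategoryTheory.Functor.map_id, Category.id_comp]
    exact Iso.inv_hom_id_app _ _
  have h3 := (Iso.comp_inv_eq (pullConst c M)).1 key
  rw [Category.id_comp] at h3
  exact h3

theorem Hmap_comp {X Y Z : Scheme.{u}} (a : Z ⟶ Y) (b : Y ⟶ X) (c : Z ⟶ X) (w : a ≫ b = c)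
    (ha : PreservesFiniteLimits (EtCoh.pull a)) (hb : PreservesFiniteLimits (EtCoh.pull b))
    (hc : PreservesFiniteLimits (EtCoh.pull c)) (i ν : ℕ) (x : EtAdic.Hmod X ℓ i ν) :
    EtAdic.Hmap ℓ c hc i ν x = EtAdic.Hmap ℓ a ha i ν (EtAdic.Hmap ℓ b hb i ν x) := by
  rw [Hmap_apply, Hmap_apply, Hmap_apply]
  rw [HofPushBC.Hpull_Hpull_sand a b c w _ i x _ _, pullConst_hom_via a b c w]

end Groth.Agent.Lib.Helper28.HmapComp
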