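import Groth.Agent.Lib.Helper28.ExtAcyc

namespace Groth.Agent.Lib.Helper28.LerayExt

open CategoryTheory Limits Abelian
open Groth.Agent.Lib.Helper28 ExtAcyc

universe w v u

variable {𝒜 : Type u} [Category.{v} 𝒜] [Abelian 𝒜] [HasExt.{w} 𝒜]
  (K : ChainComplex 𝒜 ℕ) (F : 𝒜)

/-- Precomposition with the differential `K_{n+1} ⟶ K_n`. -/
def dHom (n : ℕ) : (K.X n ⟶ F) →+ (K.X (n + 1) ⟶ F) := Preadditive.leftComp F (K.d (n + 1) n)

omit [HasExt.{w} 𝒜] in
@[simp] lemma dHom_apply (n : ℕ) (σ : K.X n ⟶ F) :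
    dHom K F n σ = K.d (n + 1) n ≫ σ := rfl

variable {K F}

/-- The connecting homomorphism of the short exact sequence `0 → Z_{n+1} → K_{n+1} → Z_n → 0`. -/
noncomputable def δ (n : ℕ) (h : K.ExactAt n) (q : ℕ) :
    Ext (K.cycles (n + 1)) F q →+ Ext (K.cycles n) F (q + 1) :=
  (cyclesSC_shortExact K n h).extClass.precomp F (add_comm 1 q)

lemma δ_apply (n : ℕ) (h : K.ExactAt n) (q : ℕ) (x : Ext (K.cycles (n + 1)) F q) :
    δ n h q x = (cyclesSC_shortExact K n h).extClass.comp x (add_comm 1 q) := rfl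

lemma δ_injective (n : ℕ) (h : K.ExactAt n) (q : ℕ) (hac : Acyc F (K.X (n + 1))) :
    Function.Injective (δ (F := F) n h (q + 1)) := by
  rw [injective_iff_map_eq_zero]
  intro x hx
  obtain ⟨x₂, hx₂⟩ := Ext.contravariant_sequence_exact₁ (cyclesSC_shortExact K n h) F x
    (add_comm 1 (q + 1)) hx
  have : x₂ = 0 := hac q x₂
  rw [← hx₂, this, Ext.comp_zero]
  rfl

lemma δ_surjective (n : ℕ) (h : K.ExactAt n) (q : ℕ) (hac : Acyc F (K.X (n + 1))) :
    Function.Surjective (δ (F := F) n h q) := by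
  intro y
  exact Ext.contravariant_sequence_exact₃ (cyclesSC_shortExact K n h) F y (hac q _) (add_comm 1 q)

lemma δ_zero_eq_zero_iff (n : ℕ) (h : K.ExactAt n) (ψ : K.cycles (n + 1) ⟶ F) :
    δ n h 0 (Ext.mk₀ ψ) = 0 ↔ ∃ σ : K.X (n + 1) ⟶ F, K.iCycles (n + 1) ≫ σ = ψ := by
  constructor
  · intro hx
    obtain ⟨x₂, hx₂⟩ := Ext.contravariant_sequence_exact₁ (cyclesSC_shortExact K n h) F
      (Ext.mk₀ ψ) (add_comm 1 0) hx
    obtain ⟨σ, rfl⟩ := (Ext.mk₀_bijective _ _).2 x₂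
    refine ⟨σ, ?_⟩
    rw [Ext.mk₀_comp_mk₀] at hx₂
    exact (Ext.mk₀_bijective _ _).1 hx₂
  · rintro ⟨σ, rfl⟩
    have h0 : (cyclesSC_shortExact K n h).extClass.comp (Ext.mk₀ (cyclesSC K n).f) (add_zero 1) =
        0 := (cyclesSC_shortExact K n h).extClass_comp
    have e : Ext.mk₀ (K.iCycles (n + 1) ≫ σ) =
        (Ext.mk₀ (cyclesSC K n).f).comp (Ext.mk₀ σ) (zero_add 0) := (Ext.mk₀_comp_mk₀ _ _).symm
    rw [δ_apply, e, ← Ext.comp_assoc_of_second_deg_zero, h0, Ext.zero_comp]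
    rfl

/-- Morphisms out of the cycles are the cocycles of `Hom(K, F)`. -/
noncomputable def cocycEquiv (m : ℕ) (hm : K.ExactAt m) (hm1 : K.ExactAt (m + 1)) :
    (K.cycles m ⟶ F) ≃+ (dHom K F (m + 1)).ker := by
  refine AddEquiv.ofBijective
    (AddMonoidHom.codRestrict (Preadditive.leftComp F (K.toCycles (m + 1) m)) _ ?_) ⟨?_, ?_⟩
  · intro ψ
    rw [AddMonoidHom.mem_ker, dHom_apply]
    change K.d (m + 1 + 1) (m + 1) ≫ K.toCycles (m + 1) m ≫ ψ = 0
    rw [← Category.assoc, K.d_toCycles, zero_comp]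
  · have : Epi (K.toCycles (m + 1) m) := epi_toCycles K m hm
    intro ψ ψ' hψ
    have := congrArg Subtype.val hψ
    change K.toCycles (m + 1) m ≫ ψ = K.toCycles (m + 1) m ≫ ψ' at this
    exact (cancel_epi _).1 this
  · rintro ⟨τ, hτ⟩
    rw [AddMonoidHom.mem_ker, dHom_apply] at hτ
    have hS1 := cyclesSC_shortExact K m hm
    have : Epi (K.toCycles (m + 2) (m + 1)) := epi_toCycles K (m + 1) hm1
    have h1 : K.iCycles (m + 1) ≫ τ = 0 := by
      rw [← cancel_epi (K.toCycles (m + 2) (m + 1)), ← Category.assoc, K.toCycles_i, hτ, comp_zero]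
    have : Epi (cyclesSC K m).g := hS1.epi_g
    refine ⟨hS1.exact.desc τ h1, Subtype.ext ?_⟩
    exact hS1.exact.g_desc τ h1

omit [HasExt.{w} 𝒜] in
lemma cocycEquiv_apply_coe (m : ℕ) (hm : K.ExactAt m) (hm1 : K.ExactAt (m + 1))
    (ψ : K.cycles m ⟶ F) : (cocycEquiv m hm hm1 ψ : K.X (m + 1) ⟶ F) = K.toCycles (m + 1) m ≫ ψ :=
  rfl

variable (hex : ∀ n, K.ExactAt n) (hac : ∀ n, Acyc F (K.X (n + 1)))

include hex hac

/-- Dimension shifting along an acyclic resolution. -/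
theorem exists_hom_cycles (q : ℕ) : ∀ n m : ℕ, m = n + q + 1 →
    ∃ φ : (dHom K F (m + 1)).ker →+ Ext (K.cycles n) F (q + 1), Function.Surjective φ ∧
      ∀ τ, φ τ = 0 ↔ ∃ σ : K.X m ⟶ F, K.d (m + 1) m ≫ σ = τ.1 := by
  induction q with
  | zero =>
    intro n m hm
    obtain rfl : m = n + 1 := by omega
    refine ⟨((δ n (hex n) 0).comp (Ext.addEquiv₀ (X := K.cycles (n + 1)) (Y := F)).symm.toAddMonoidHom).comp
      (cocycEquiv (n + 1) (hex (n + 1)) (hex (n + 2))).symm.toAddMonoidHom, ?_, ?_⟩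
    · intro y
      obtain ⟨x, rfl⟩ := δ_surjective n (hex n) 0 (hac n) y
      obtain ⟨ψ, rfl⟩ := (Ext.mk₀_bijective _ _).2 x
      refine ⟨cocycEquiv (n + 1) (hex (n + 1)) (hex (n + 2)) ψ, ?_⟩
      simp only [AddMonoidHom.coe_comp, AddEquiv.coe_toAddMonoidHom, Function.comp_apply,
        AddEquiv.symm_apply_apply]
      rfl
    · intro τ
      obtain ⟨ψ, rfl⟩ := (cocycEquiv (n + 1) (hex (n + 1)) (hex (n + 2))).surjective τ
      have e : (((δ n (hex n) 0).comp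
          (Ext.addEquiv₀ (X := K.cycles (n + 1)) (Y := F)).symm.toAddMonoidHom).comp
          (cocycEquiv (n + 1) (hex (n + 1)) (hex (n + 2))).symm.toAddMonoidHom)
          (cocycEquiv (n + 1) (hex (n + 1)) (hex (n + 2)) ψ) = δ n (hex n) 0 (Ext.mk₀ ψ) := by
        simp only [AddMonoidHom.coe_comp, AddEquiv.coe_toAddMonoidHom, Function.comp_apply,
          AddEquiv.symm_apply_apply]
        rfl
      rw [e, δ_zero_eq_zero_iff, cocycEquiv_apply_coe]
      have : Epi (K.toCycles (n + 1 + 1) (n + 1)) := epi_toCycles K (n + 1) (hex (n + 1))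
      constructor
      · rintro ⟨σ, rfl⟩
        exact ⟨σ, by rw [← Category.assoc, K.toCycles_i]⟩
      · rintro ⟨σ, hσ⟩
        refine ⟨σ, ?_⟩
        rw [← cancel_epi (K.toCycles (n + 1 + 1) (n + 1)), ← hσ, ← Category.assoc, K.toCycles_i]
  | succ q ih =>
    intro n m hm
    obtain ⟨φ, hφs, hφk⟩ := ih (n + 1) m (by omega)
    refine ⟨(δ n (hex n) (q + 1)).comp φ, ?_, ?_⟩
    · exact (δ_surjective n (hex n) (q + 1) (hac n)).comp hφs
    · intro τ
      rw [← hφk τ, AddMonoidHom.comp_apply]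
      exact (injective_iff_map_eq_zero' _).1 (δ_injective n (hex n) q (hac n)) _

/-- Cocycles of degree `q + 1` of `Hom(K_{•+1}, F)` surject onto `Ext^{q+1}(K_0, F)`, with kernel
the coboundaries. -/
theorem exists_hom (q : ℕ) :
    ∃ φ : (dHom K F (q + 2)).ker →+ Ext (K.X 0) F (q + 1), Function.Surjective φ ∧
      ∀ τ, φ τ = 0 ↔ ∃ σ : K.X (q + 1) ⟶ F, K.d (q + 2) (q + 1) ≫ σ = τ.1 := by
  obtain ⟨φ, hφs, hφk⟩ := exists_hom_cycles hex hac q 0 (q + 1) (by omega)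
  let e : K.cycles 0 ≅ K.X 0 := asIso (K.iCycles 0)
  let ψ : Ext (K.cycles 0) F (q + 1) →+ Ext (K.X 0) F (q + 1) :=
    (Ext.mk₀ e.inv).precomp F (zero_add (q + 1))
  have hψ : Function.Bijective ψ := by
    constructor
    · rw [injective_iff_map_eq_zero]
      intro x hx
      have h2 : (Ext.mk₀ e.hom).comp ((Ext.mk₀ e.inv).comp x (zero_add _)) (zero_add _) = x := by
        rw [Ext.mk₀_comp_mk₀_assoc, e.hom_inv_id, Ext.mk₀_id_comp]
      have hx' : (Ext.mk₀ e.inv).comp x (zero_add _) = 0 := hx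
      rw [← h2, hx', Ext.comp_zero]
    · intro y
      refine ⟨(Ext.mk₀ e.hom).comp y (zero_add _), ?_⟩
      change (Ext.mk₀ e.inv).comp ((Ext.mk₀ e.hom).comp y (zero_add _)) (zero_add _) = y
      rw [Ext.mk₀_comp_mk₀_assoc, e.inv_hom_id, Ext.mk₀_id_comp]
  refine ⟨ψ.comp φ, hψ.2.comp hφs, fun τ => ?_⟩
  rw [← hφk τ, AddMonoidHom.comp_apply]
  exact (injective_iff_map_eq_zero' _).1 hψ.1 _

omit hac in
/-- Cocycles of degree `0` of `Hom(K_{•+1}, F)` are the morphisms `K_0 ⟶ F`. -/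
theorem exists_equiv_zero : ∃ φ : (dHom K F 1).ker ≃+ Ext (K.X 0) F 0,
    ∀ g : K.X 0 ⟶ F, ∀ τ, φ τ = Ext.mk₀ g ↔ K.d 1 0 ≫ g = τ.1 := by
  let e : K.cycles 0 ≅ K.X 0 := asIso (K.iCycles 0)
  let e' : (K.X 0 ⟶ F) ≃+ (K.cycles 0 ⟶ F) :=
    { toFun := fun g => e.hom ≫ g
      invFun := fun g => e.inv ≫ g
      left_inv := fun g => by simp
      right_inv := fun g => by simp
      map_add' := fun g g' => Preadditive.comp_add _ _ _ _ _ _ }
  refine ⟨(cocycEquiv 0 (hex 0) (hex 1)).symm.trans (e'.symm.trans Ext.addEquiv₀.symm), ?_⟩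
  intro g τ
  obtain ⟨ψ, rfl⟩ := (cocycEquiv 0 (hex 0) (hex 1)).surjective τ
  simp only [AddEquiv.trans_apply, AddEquiv.symm_apply_apply]
  rw [cocycEquiv_apply_coe]
  change Ext.mk₀ (e.inv ≫ ψ) = Ext.mk₀ g ↔ _
  rw [(Ext.mk₀_bijective _ _).1.eq_iff]
  have h1 : K.toCycles 1 0 ≫ e.hom = K.d 1 0 := K.toCycles_i 1 0
  constructor
  · rintro rfl
    rw [← h1, Category.assoc, e.hom_inv_id_assoc]
  · intro h
    have : Epi (K.toCycles 1 0) := epi_toCycles K 0 (hex 0)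
    rw [← cancel_epi e.hom, ← cancel_epi (K.toCycles 1 0), e.hom_inv_id_assoc, ← h,
      ← Category.assoc, h1]

end Groth.Agent.Lib.Helper28.LerayExt
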