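import Mathlib
import Groth.Prelude.Def_Hensel
import Groth.Agent.Lib.Helper87.HensStrictProps

/-!
# Strict henselizations: extending and interpolating compatible local maps

* `exists_extension`: for a local hom `f : A → B` and a strict henselization `RA` of `A`, there is a
  local hom `RA → Hsh B` over `f` (`Hsh B` = helper87's constructed strict henselization).
* `exists_interpolation`: for local homs `A → B → C`, strict henselizations `RA`, `RC` and a local hom
  `φ : RA → RC` over the composite, `φ` factors as `RA → Hsh B → RC` compatibly.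
-/

set_option autoImplicit false
set_option linter.style.haveILetI false
universe u

namespace Groth.Agent.Lib.Helper28.StrictHensFactor

open IsLocalRing Groth.Agent.Lib.Helper87.Hens

/-- A ring hom between local rings inducing a map `τ` on residue fields is local. -/
theorem isLocalHom_of_residue {S T : Type u} [CommRing S] [IsLocalRing S] [CommRing T] [IsLocalRing T]
    (g : S →+* T) (τ : ResidueField S →+* ResidueField T)
    (h : ∀ x : S, residue T (g x) = τ (residue S x)) : IsLocalHom g where
  map_nonunit x hx := by
    by_contra hnu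
    have h0 : residue S x = 0 := (residue_eq_zero_iff x).mpr hnu
    have h1 : residue T (g x) = 0 := by rw [h, h0, map_zero]
    exact ((residue_eq_zero_iff (g x)).mp h1) hx

section Ext

variable (A B : Type u) [CommRing A] [IsLocalRing A] [CommRing B] [IsLocalRing B]
  (f : A →+* B) [IsLocalHom f]
  (RA : Type u) [CommRing RA] [IsLocalRing RA] [Algebra A RA] [IsLocalHom (algebraMap A RA)]
  [Hensel.IsStrictHenselization A RA]

/-- General form: a local hom from `A` to a henselian local ring `T` with separably closed residue
field extends to `RA`. -/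
theorem exists_extension_gen (T : Type u) [CommRing T] [IsLocalRing T] (hT : HenselianLocalRing T)
    (hsc : IsSepClosed (ResidueField T)) (f' : A →+* T) [IsLocalHom f'] :
    ∃ ψ : RA →+* T, IsLocalHom ψ ∧ ψ.comp (algebraMap A RA) = f' := by
  have hc : IsSepClosure (ResidueField A) (ResidueField RA) :=
    Hensel.IsStrictHenselization.isSepClosure
  letI : Algebra (ResidueField A) (ResidueField T) := (ResidueField.map f').toAlgebra
  haveI : Algebra.IsSeparable (ResidueField A) (ResidueField RA) := hc.separable
  let σ : ResidueField RA →ₐ[ResidueField A] ResidueField T := IsSepClosed.lift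
  have hσ : (σ : ResidueField RA →+* ResidueField T).comp
      (ResidueField.map (algebraMap A RA)) = ResidueField.map f' := by
    ext x
    rw [RingHom.comp_apply, residueField_map_eq_algebraMap]
    exact σ.commutes x
  obtain ⟨g, ⟨hg1, hg2⟩, -⟩ := Hensel.IsStrictHenselization.universal (R := A) (S := RA) T f'
    (σ : ResidueField RA →+* ResidueField T) hσ
  exact ⟨g, isLocalHom_of_residue g _ hg2, hg1⟩

theorem exists_extension :
    ∃ ψ : RA →+* Hsh B, IsLocalHom ψ ∧ ψ.comp (algebraMap A RA) = (algebraMap B (Hsh B)).comp f := by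
  have hB := isStrictHenselization_Hsh B
  have hT : HenselianLocalRing (Hsh B) := Hensel.IsStrictHenselization.henselian B
  have hc : IsSepClosure (ResidueField B) (ResidueField (Hsh B)) :=
    Hensel.IsStrictHenselization.isSepClosure
  haveI : IsLocalHom ((algebraMap B (Hsh B)).comp f) := RingHom.isLocalHom_comp _ _
  exact exists_extension_gen A RA (Hsh B) hT hc.sep_closed ((algebraMap B (Hsh B)).comp f)

end Ext

section Interp

variable (A B C : Type u) [CommRing A] [IsLocalRing A] [CommRing B] [IsLocalRing B]
  [CommRing C] [IsLocalRing C]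
  (f : A →+* B) (g : B →+* C) [IsLocalHom f] [IsLocalHom g]
  (RA : Type u) [CommRing RA] [IsLocalRing RA] [Algebra A RA] [IsLocalHom (algebraMap A RA)]
  [Hensel.IsStrictHenselization A RA]
  (RC : Type u) [CommRing RC] [IsLocalRing RC] [Algebra C RC] [IsLocalHom (algebraMap C RC)]
  [Hensel.IsStrictHenselization C RC]
  (φ : RA →+* RC) [IsLocalHom φ]

theorem exists_interpolation
    (hφ : φ.comp (algebraMap A RA) = (algebraMap C RC).comp (g.comp f)) :
    ∃ (ψ₁ : RA →+* Hsh B) (ψ₂ : Hsh B →+* RC), IsLocalHom ψ₁ ∧ IsLocalHom ψ₂ ∧ ψ₂.comp ψ₁ = φ ∧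
      ψ₁.comp (algebraMap A RA) = (algebraMap B (Hsh B)).comp f ∧
      ψ₂.comp (algebraMap B (Hsh B)) = (algebraMap C RC).comp g := by
  have hB := isStrictHenselization_Hsh B
  have hRBh : HenselianLocalRing (Hsh B) := Hensel.IsStrictHenselization.henselian B
  have hRCh : HenselianLocalRing RC := Hensel.IsStrictHenselization.henselian C
  have hcA : IsSepClosure (ResidueField A) (ResidueField RA) :=
    Hensel.IsStrictHenselization.isSepClosure
  have hcB : IsSepClosure (ResidueField B) (ResidueField (Hsh B)) :=
    Hensel.IsStrictHenselization.isSepClosure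
  have hcC : IsSepClosure (ResidueField C) (ResidueField RC) :=
    Hensel.IsStrictHenselization.isSepClosure
  haveI : IsSepClosed (ResidueField RC) := hcC.sep_closed
  -- the map `B → RC`
  let f₂ : B →+* RC := (algebraMap C RC).comp g
  haveI : IsLocalHom f₂ := RingHom.isLocalHom_comp _ _
  letI algBM : Algebra (ResidueField B) (ResidueField RC) := (ResidueField.map f₂).toAlgebra
  -- separable closure of `κ(B)` inside `κ(RC)`
  let Sc : IntermediateField (ResidueField B) (ResidueField RC) :=
    separableClosure (ResidueField B) (ResidueField RC)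
  haveI : IsSepClosure (ResidueField B) Sc := separableClosure.isSepClosure _ _
  let e : ResidueField (Hsh B) ≃ₐ[ResidueField B] Sc :=
    IsSepClosure.equiv (ResidueField B) (ResidueField (Hsh B)) Sc
  let τ₂ : ResidueField (Hsh B) →+* ResidueField RC :=
    (Sc.val : Sc →+* ResidueField RC).comp (e : ResidueField (Hsh B) →+* Sc)
  have hτ₂ : τ₂.comp (ResidueField.map (algebraMap B (Hsh B))) = ResidueField.map f₂ := by
    ext x
    rw [RingHom.comp_apply, residueField_map_eq_algebraMap]
    show Sc.val (e (algebraMap _ _ x)) = _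
    rw [e.commutes]
    rfl
  obtain ⟨ψ₂, ⟨hψ₂1, hψ₂2⟩, -⟩ := Hensel.IsStrictHenselization.universal (R := B) (S := Hsh B) RC f₂
    τ₂ hτ₂
  haveI hψ₂loc : IsLocalHom ψ₂ := isLocalHom_of_residue ψ₂ _ hψ₂2
  -- the residue map of `φ` lands in `Sc`
  let φbar : ResidueField RA →+* ResidueField RC := ResidueField.map φ
  letI algAB : Algebra (ResidueField A) (ResidueField B) := (ResidueField.map f).toAlgebra
  letI algAM : Algebra (ResidueField A) (ResidueField RC) :=
    ((ResidueField.map f₂).comp (ResidueField.map f)).toAlgebra
  haveI : IsScalarTower (ResidueField A) (ResidueField B) (ResidueField RC) :=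
    IsScalarTower.of_algebraMap_eq (fun x => rfl)
  have hφbar : ∀ x : ResidueField A, φbar (algebraMap (ResidueField A) (ResidueField RA) x) =
      algebraMap (ResidueField A) (ResidueField RC) x := by
    intro x
    obtain ⟨a, rfl⟩ := residue_surjective x
    show ResidueField.map φ (ResidueField.map (algebraMap A RA) (residue A a)) =
      ResidueField.map f₂ (ResidueField.map f (residue A a))
    rw [ResidueField.map_residue, ResidueField.map_residue, ResidueField.map_residue,
      ResidueField.map_residue]
    have := congr($hφ a)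
    simp only [RingHom.comp_apply] at this
    rw [this]
    rfl
  let φalg : ResidueField RA →ₐ[ResidueField A] ResidueField RC :=
    { φbar with commutes' := hφbar }
  haveI : Algebra.IsSeparable (ResidueField A) (ResidueField RA) := hcA.separable
  have hmem : ∀ x : ResidueField RA, φbar x ∈ Sc := by
    intro x
    have h1 : IsSeparable (ResidueField A) x := Algebra.IsSeparable.isSeparable _ x
    have h2 : IsSeparable (ResidueField A) (φalg x) := h1.map φalg φalg.injective
    have h3 : IsSeparable (ResidueField B) (φalg x) := IsSeparable.tower_top _ h2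
    exact mem_separableClosure_iff.mpr h3
  let φres : ResidueField RA →+* Sc := φbar.codRestrict Sc.toSubfield.toSubring hmem
  let τ₁ : ResidueField RA →+* ResidueField (Hsh B) :=
    ((e.symm : Sc ≃ₐ[ResidueField B] ResidueField (Hsh B)) : Sc →+* ResidueField (Hsh B)).comp φres
  have hτ₂τ₁ : ∀ x, τ₂ (τ₁ x) = φbar x := by
    intro x
    show Sc.val (e (e.symm (φres x))) = _
    rw [e.apply_symm_apply]
    rfl
  let f₁ : A →+* Hsh B := (algebraMap B (Hsh B)).comp f
  haveI : IsLocalHom f₁ := RingHom.isLocalHom_comp _ _
  have hτ₁ : τ₁.comp (ResidueField.map (algebraMap A RA)) = ResidueField.map f₁ := by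
    ext x
    refine τ₂.injective ?_
    show τ₂ (τ₁ (ResidueField.map (algebraMap A RA) x)) = τ₂ (ResidueField.map f₁ x)
    rw [hτ₂τ₁, residueField_map_eq_algebraMap, hφbar]
    obtain ⟨a, rfl⟩ := residue_surjective x
    show ResidueField.map f₂ (ResidueField.map f (residue A a)) = τ₂ (ResidueField.map f₁ (residue A a))
    rw [ResidueField.map_residue, ResidueField.map_residue, ResidueField.map_residue]
    have := congr($hτ₂ (residue B (f a)))
    rw [RingHom.comp_apply, ResidueField.map_residue, ResidueField.map_residue] at this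
    exact this.symm
  obtain ⟨ψ₁, ⟨hψ₁1, hψ₁2⟩, -⟩ := Hensel.IsStrictHenselization.universal (R := A) (S := RA) (Hsh B) f₁
    τ₁ hτ₁
  haveI hψ₁loc : IsLocalHom ψ₁ := isLocalHom_of_residue ψ₁ _ hψ₁2
  refine ⟨ψ₁, ψ₂, hψ₁loc, hψ₂loc, ?_, hψ₁1, hψ₂1⟩
  -- uniqueness
  let f₃ : A →+* RC := (algebraMap C RC).comp (g.comp f)
  haveI : IsLocalHom (g.comp f) := RingHom.isLocalHom_comp _ _
  haveI : IsLocalHom f₃ := RingHom.isLocalHom_comp _ _
  have hτ₃ : φbar.comp (ResidueField.map (algebraMap A RA)) = ResidueField.map f₃ := by
    ext x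
    obtain ⟨a, rfl⟩ := residue_surjective x
    rw [RingHom.comp_apply, ResidueField.map_residue, ResidueField.map_residue]
    show ResidueField.map φ (residue RA _) = _
    rw [ResidueField.map_residue]
    exact congrArg _ congr($hφ a)
  refine (Hensel.IsStrictHenselization.universal (R := A) (S := RA) RC f₃ φbar hτ₃).unique
    ⟨?_, ?_⟩ ⟨hφ, fun x => ?_⟩
  · rw [RingHom.comp_assoc, hψ₁1, ← RingHom.comp_assoc, hψ₂1]
    rfl
  · intro x
    rw [RingHom.comp_apply, hψ₂2, hψ₁2, hτ₂τ₁]
  · show _ = ResidueField.map φ (residue RA x)
    rw [ResidueField.map_residue]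

end Interp

end Groth.Agent.Lib.Helper28.StrictHensFactor
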