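import Mathlib
import Groth.Prelude.Def_EtAcyc
import Groth.Agent.Lib.Helper28.StrictHensFactor

/-!
# Composition for properties tested on strict localizations
-/

set_option autoImplicit false
set_option linter.style.haveILetI false
universe u

open CategoryTheory CategoryTheory.Limits AlgebraicGeometry Opposite

namespace Groth.Agent.Lib.Helper28.LocAcycComp

open Groth.Agent.Lib.Helper87.Hens Groth.Agent.Lib.Helper28.StrictHensFactor

variable (P : ∀ ⦃X' Y' : Scheme.{u}⦄, (X' ⟶ Y') → Prop)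

theorem onStrict_comp_of
    (hP : ∀ {A B C : Scheme.{u}} (a : A ⟶ B) (b : B ⟶ C), P a → P b → P (a ≫ b))
    {X Y Z : Scheme.{u}} (g : X ⟶ Y) (h : Y ⟶ Z)
    (hg : EtAcyc.OnStrictLocalizations g P) (hh : EtAcyc.OnStrictLocalizations h P) :
    EtAcyc.OnStrictLocalizations (g ≫ h) P := by
  intro x RZ RX _ _ _ _ algZ locZ shZ algX locX shX algZX locZX hcompat
  have hl1 : IsLocalHom (h.stalkMap (g.base x)).hom := inferInstance
  have hl2 : IsLocalHom (g.stalkMap x).hom := inferInstance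
  obtain ⟨ψ₁, ψ₂, hψ₁loc, hψ₂loc, hcomp, hψ₁, hψ₂⟩ :=
    @exists_interpolation (Z.presheaf.stalk ((g ≫ h).base x)) (Y.presheaf.stalk (g.base x))
      (X.presheaf.stalk x) _ _ _ _ _ _ (h.stalkMap (g.base x)).hom (g.stalkMap x).hom hl1 hl2
      RZ _ _ _ _ _ RX _ _ _ _ _ (algebraMap RZ RX) _
      (by
        rw [hcompat, Scheme.Hom.stalkMap_comp]
        rfl)
  haveI := isStrictHenselization_Hsh (Y.presheaf.stalk (g.base x))
  have h1 : P (Spec.map (CommRingCat.ofHom ψ₂)) := by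
    letI : Algebra (Hsh (Y.presheaf.stalk (g.base x))) RX := ψ₂.toAlgebra
    exact hg x (Hsh (Y.presheaf.stalk (g.base x))) RX hψ₂
  have h2 : P (Spec.map (CommRingCat.ofHom ψ₁)) := by
    letI : Algebra RZ (Hsh (Y.presheaf.stalk (g.base x))) := ψ₁.toAlgebra
    exact @hh (g.base x) RZ (Hsh (Y.presheaf.stalk (g.base x))) _ _ _ _ algZ locZ shZ _ _ _ _
      hψ₁loc hψ₁
  have h3 := hP _ _ h1 h2
  rw [← Spec.map_comp, ← CommRingCat.ofHom_comp, hcomp] at h3
  exact h3

theorem onStrict_of_comp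
    (hP : ∀ {A B C : Scheme.{u}} (a : A ⟶ B) (b : B ⟶ C), P a → P (a ≫ b) → P b)
    {X Y Z : Scheme.{u}} (g : X ⟶ Y) (h : Y ⟶ Z) (hsurj : Function.Surjective g.base)
    (hg : EtAcyc.OnStrictLocalizations g P) (hgh : EtAcyc.OnStrictLocalizations (g ≫ h) P) :
    EtAcyc.OnStrictLocalizations h P := by
  intro y RZ RY _ _ _ _ algZ locZ shZ algY locY shY algZY locZY hcompat
  obtain ⟨x, rfl⟩ := hsurj y
  have hl2 : IsLocalHom (g.stalkMap x).hom := inferInstance
  obtain ⟨ψ, hψloc, hψ⟩ := exists_extension (Y.presheaf.stalk (g.base x)) (X.presheaf.stalk x)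
    (g.stalkMap x).hom RY
  haveI := isStrictHenselization_Hsh (X.presheaf.stalk x)
  have h1 : P (Spec.map (CommRingCat.ofHom ψ)) := by
    letI : Algebra RY (Hsh (X.presheaf.stalk x)) := ψ.toAlgebra
    exact hg x RY (Hsh (X.presheaf.stalk x)) hψ
  have h2 : P (Spec.map (CommRingCat.ofHom (ψ.comp (algebraMap RZ RY)))) := by
    letI : Algebra RZ (Hsh (X.presheaf.stalk x)) := (ψ.comp (algebraMap RZ RY)).toAlgebra
    haveI : IsLocalHom (algebraMap RZ (Hsh (X.presheaf.stalk x))) :=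
      RingHom.isLocalHom_comp ψ (algebraMap RZ RY)
    refine @hgh x RZ (Hsh (X.presheaf.stalk x)) _ _ _ _ algZ locZ shZ _ _ _ _ this ?_
    have e1 : ((g ≫ h).stalkMap x).hom =
        (g.stalkMap x).hom.comp (h.stalkMap (g.base x)).hom := by
      rw [Scheme.Hom.stalkMap_comp]
      rfl
    have e2 : ψ.comp ((algebraMap RZ RY).comp
          (algebraMap (Z.presheaf.stalk (h.base (g.base x))) RZ)) =
        (algebraMap (X.presheaf.stalk x) (Hsh (X.presheaf.stalk x))).comp
          ((g.stalkMap x).hom.comp (h.stalkMap (g.base x)).hom) := by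
      rw [hcompat, ← RingHom.comp_assoc, hψ, RingHom.comp_assoc]
    rw [e1]
    exact e2
  rw [CommRingCat.ofHom_comp, Spec.map_comp] at h2
  exact hP _ _ h1 h2

end Groth.Agent.Lib.Helper28.LocAcycComp
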