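import Mathlib.CategoryTheory.Sites.LocallyBijective
import Mathlib.CategoryTheory.Sites.Localization
import Mathlib.CategoryTheory.Sites.Limits
import Mathlib.CategoryTheory.Sites.ConcreteSheafification
import Mathlib.CategoryTheory.Sites.LeftExact
import Mathlib.CategoryTheory.Sites.Abelian
import Mathlib.Algebra.Category.Grp.Abelian
import Mathlib.Algebra.Category.Grp.FilteredColimits
import Mathlib.Algebra.Category.Grp.Colimits
import Mathlib.Algebra.Category.Grp.Limits
import Mathlib.CategoryTheory.Limits.FunctorCategory.Basic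

/-!
# Sheafification and colimits: a local criterion

Let `P : 𝒮 ⥤ (Dᵒᵖ ⥤ Ab)` be a functor and `F : ι ⥤ 𝒮` a diagram.  If every object `V` of the site
`D` has a covering by objects `Y` such that `G ↦ P(G)(Y)` preserves the colimit of `F`, then
`G ↦ P(G)^#` preserves the colimit of `F`.
-/

namespace Groth.Agent.Lib.Helper28.LocalColim

open CategoryTheory Limits Opposite

universe u

variable {D : Type u} [SmallCategory D] (K : GrothendieckTopology D)
  {𝒮 : Type*} [Category 𝒮] (P : 𝒮 ⥤ Dᵒᵖ ⥤ AddCommGrpCat.{u})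
  {ι : Type u} [SmallCategory ι] (F : ι ⥤ 𝒮)

/-- The comparison map from the colimit of the presheaves `P(F i)` to `P` of a cocone point. -/
noncomputable abbrev θ (c : Cocone F) : colimit (F ⋙ P) ⟶ P.obj c.pt :=
  colimit.desc (F ⋙ P) (P.mapCocone c)

lemma isIso_θ_app {c : Cocone F} (hc : IsColimit c) (Y : D)
    [PreservesColimit F (P.flip.obj (op Y))] : IsIso ((θ P F c).app (op Y)) := by
  let evY := (evaluation Dᵒᵖ AddCommGrpCat.{u}).obj (op Y)
  have h1 : IsColimit (evY.mapCocone (colimit.cocone (F ⋙ P))) :=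
    isColimitOfPreserves evY (colimit.isColimit (F ⋙ P))
  have h2 : IsColimit ((P.flip.obj (op Y)).mapCocone c) :=
    isColimitOfPreserves (P.flip.obj (op Y)) hc
  have e : (θ P F c).app (op Y) = (IsColimit.coconePointUniqueUpToIso h1 h2).hom := by
    apply h1.hom_ext
    intro j
    rw [IsColimit.comp_coconePointUniqueUpToIso_hom]
    change ((colimit.cocone (F ⋙ P)).ι.app j ≫ θ P F c).app (op Y) = _
    rw [colimit.cocone_ι, colimit.ι_desc]
    rfl
  rw [e]
  infer_instance

variable (h : ∀ V : D, ∃ (κ : Type u) (Y : κ → D) (g : ∀ k, Y k ⟶ V),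
    Sieve.ofArrows Y g ∈ K V ∧ ∀ k, PreservesColimit F (P.flip.obj (op (Y k))))

include h in
lemma isLocallyInjective_θ {c : Cocone F} (hc : IsColimit c) :
    Presheaf.IsLocallyInjective K (θ P F c) where
  equalizerSieve_mem {X} x y hxy := by
    obtain ⟨κ, W, g, hcov, hpres⟩ := h X.unop
    refine K.superset_covering ?_ hcov
    rw [Sieve.ofArrows, Sieve.generate_le_iff]
    intro Z f hf
    obtain ⟨k⟩ := hf
    have := hpres k
    have hiso := isIso_θ_app P F hc (W k)
    have hinj : Function.Injective (ConcreteCategory.hom ((θ P F c).app (op (W k)))) :=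
      (ConcreteCategory.bijective_of_isIso _).1
    apply hinj
    have n1 := NatTrans.naturality_apply (θ P F c) (g k).op x
    have n2 := NatTrans.naturality_apply (θ P F c) (g k).op y
    exact n1.trans ((congrArg _ hxy).trans n2.symm)

include h in
lemma isLocallySurjective_θ {c : Cocone F} (hc : IsColimit c) :
    Presheaf.IsLocallySurjective K (θ P F c) where
  imageSieve_mem {U} s := by
    obtain ⟨κ, W, g, hcov, hpres⟩ := h U
    refine K.superset_covering ?_ hcov
    rw [Sieve.ofArrows, Sieve.generate_le_iff]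
    intro Z f hf
    obtain ⟨k⟩ := hf
    have := hpres k
    have hiso := isIso_θ_app P F hc (W k)
    have hsurj : Function.Surjective (ConcreteCategory.hom ((θ P F c).app (op (W k)))) :=
      (ConcreteCategory.bijective_of_isIso _).2
    obtain ⟨t, ht⟩ := hsurj ((P.obj c.pt).map (g k).op s)
    exact ⟨t, ht⟩

include h in
theorem preservesColimit_comp_presheafToSheaf :
    PreservesColimit F (P ⋙ presheafToSheaf K AddCommGrpCat.{u}) := by
  constructor
  intro c hc
  have := isLocallyInjective_θ K P F h hc
  have := isLocallySurjective_θ K P F h hc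
  have hW : K.W (θ P F c) := K.W_of_isLocallyBijective _
  have hiso : IsIso ((presheafToSheaf K AddCommGrpCat.{u}).map (θ P F c)) := (K.W_iff _).1 hW
  have h1 : IsColimit ((presheafToSheaf K AddCommGrpCat.{u}).mapCocone
      (colimit.cocone (F ⋙ P))) :=
    isColimitOfPreserves _ (colimit.isColimit (F ⋙ P))
  refine ⟨IsColimit.ofIsoColimit h1 (Cocone.ext
    (asIso ((presheafToSheaf K AddCommGrpCat.{u}).map (θ P F c))) ?_)⟩
  intro j
  change (presheafToSheaf K AddCommGrpCat.{u}).map ((colimit.cocone (F ⋙ P)).ι.app j) ≫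
    (presheafToSheaf K AddCommGrpCat.{u}).map (θ P F c) =
      (presheafToSheaf K AddCommGrpCat.{u}).map (P.map (c.ι.app j))
  rw [← Functor.map_comp, colimit.cocone_ι, colimit.ι_desc]
  rfl

end Groth.Agent.Lib.Helper28.LocalColim
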