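import Groth.Prelude.Def_AlgSpRep
import Mathlib.CategoryTheory.Limits.Types.Filtered
import Mathlib.CategoryTheory.Limits.Types.Pullbacks
import Mathlib.CategoryTheory.Filtered.Final

set_option autoImplicit false

open CategoryTheory CategoryTheory.Limits Opposite

namespace Groth.Agent.Lib.Helper28.RelLim

universe w v u₂ v₁ u₁

section General

variable {𝒞 : Type u₁} [Category.{v₁} 𝒞] {I : Type v} [Category.{w} I]
  {F G : 𝒞ᵒᵖ ⥤ Type u₂} (a : F ⟶ G) (D : I ⥤ 𝒞) (c : Cone D)

/-- elementwise injectivity condition for the comparison square -/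
def RInj : Prop := ∀ (i : I) (x x' : F.obj (op (D.obj i))),
  F.map (c.π.app i).op x = F.map (c.π.app i).op x' → a.app _ x = a.app _ x' →
  ∃ (k : I) (f : k ⟶ i), F.map (D.map f).op x = F.map (D.map f).op x'

/-- elementwise surjectivity condition for the comparison square -/
def RSurj : Prop := ∀ (i : I) (y : G.obj (op (D.obj i))) (ξ : F.obj (op c.pt)),
  a.app _ ξ = G.map (c.π.app i).op y →
  ∃ (k : I) (f : k ⟶ i) (x : F.obj (op (D.obj k))),
    F.map (c.π.app k).op x = ξ ∧ a.app _ x = G.map (D.map f).op y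

lemma map_π (P : 𝒞ᵒᵖ ⥤ Type u₂) {k i : I} (f : k ⟶ i) (x : P.obj (op (D.obj i))) :
    P.map (c.π.app k).op (P.map (D.map f).op x) = P.map (c.π.app i).op x := by
  rw [← Functor.map_comp_apply, ← op_comp, c.w]

variable [HasColimitsOfShape Iᵒᵖ (Type u₂)]

lemma colimMap_ι_apply (j : Iᵒᵖ) (x : (D.op ⋙ F).obj j) :
    colimMap (Functor.whiskerLeft D.op a) (colimit.ι (D.op ⋙ F) j x) =
      colimit.ι (D.op ⋙ G) j (a.app _ x) :=
  ConcreteCategory.congr_hom (ι_colimMap (Functor.whiskerLeft D.op a) j) x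

lemma desc_ι_apply (P : 𝒞ᵒᵖ ⥤ Type u₂) (j : Iᵒᵖ) (x : (D.op ⋙ P).obj j) :
    colimit.desc (D.op ⋙ P) (P.mapCocone c.op) (colimit.ι (D.op ⋙ P) j x) =
      P.map (c.π.app j.unop).op x :=
  ConcreteCategory.congr_hom (colimit.ι_desc (P.mapCocone c.op) j) x

variable [IsCofiltered I]

theorem isPullback_colimit_iff :
    IsPullback (colimMap (Functor.whiskerLeft D.op a))
      (colimit.desc (D.op ⋙ F) (F.mapCocone c.op))
      (colimit.desc (D.op ⋙ G) (G.mapCocone c.op)) (a.app (op c.pt)) ↔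
      RInj a D c ∧ RSurj a D c := by
  rw [Types.isPullback_iff]
  constructor
  · rintro ⟨-, hinj, hsurj⟩
    refine ⟨?_, ?_⟩
    · intro i x x' h1 h2
      have := hinj (colimit.ι (D.op ⋙ F) (op i) x) (colimit.ι (D.op ⋙ F) (op i) x') ⟨?_, ?_⟩
      · obtain ⟨j, f, hf⟩ := (Types.FilteredColimit.isColimit_eq_iff'
          (colimit.isColimit (D.op ⋙ F)) (i := op i) x x').mp this
        exact ⟨j.unop, f.unop, hf⟩
      · rw [colimMap_ι_apply, colimMap_ι_apply]
        exact congrArg _ h2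
      · rw [desc_ι_apply, desc_ι_apply]
        exact h1
    · intro i y ξ h
      obtain ⟨p, hp1, hp2⟩ := hsurj (colimit.ι (D.op ⋙ G) (op i) y) ξ (by
        rw [desc_ι_apply]; exact h.symm)
      obtain ⟨k', x₀, rfl⟩ := Types.jointly_surjective' p
      rw [colimMap_ι_apply] at hp1
      rw [desc_ι_apply] at hp2
      obtain ⟨j, f, g, hfg⟩ := (Types.FilteredColimit.colimit_eq_iff (D.op ⋙ G)).mp hp1
      refine ⟨j.unop, g.unop, F.map (D.map f.unop).op x₀, ?_, ?_⟩
      · rw [map_π]
        exact hp2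
      · rw [NatTrans.naturality_apply]
        exact hfg
  · rintro ⟨hinj, hsurj⟩
    refine ⟨?_, ?_, ?_⟩
    · apply colimit.hom_ext
      intro j
      ext x
      change colimit.desc (D.op ⋙ G) (G.mapCocone c.op)
          (colimMap (Functor.whiskerLeft D.op a) (colimit.ι (D.op ⋙ F) j x)) =
        a.app (op c.pt) (colimit.desc (D.op ⋙ F) (F.mapCocone c.op) (colimit.ι (D.op ⋙ F) j x))
      rw [colimMap_ι_apply, desc_ι_apply, desc_ι_apply, NatTrans.naturality_apply]
      rfl
    · rintro p q ⟨h1, h2⟩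
      obtain ⟨j, x, x', rfl, rfl⟩ :=
        Types.FilteredColimit.jointly_surjective_of_isColimit₂ (colimit.isColimit (D.op ⋙ F)) p q
      change colimMap (Functor.whiskerLeft D.op a) (colimit.ι (D.op ⋙ F) j x) =
        colimMap (Functor.whiskerLeft D.op a) (colimit.ι (D.op ⋙ F) j x') at h1
      change colimit.desc (D.op ⋙ F) (F.mapCocone c.op) (colimit.ι (D.op ⋙ F) j x) =
        colimit.desc (D.op ⋙ F) (F.mapCocone c.op) (colimit.ι (D.op ⋙ F) j x') at h2
      change colimit.ι (D.op ⋙ F) j x = colimit.ι (D.op ⋙ F) j x'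
      rw [colimMap_ι_apply, colimMap_ι_apply] at h1
      rw [desc_ι_apply, desc_ι_apply] at h2
      obtain ⟨j', f, hf⟩ := (Types.FilteredColimit.isColimit_eq_iff'
        (colimit.isColimit (D.op ⋙ G)) (i := j) _ _).mp h1
      obtain ⟨l, g, hg⟩ := hinj j'.unop (F.map (D.map f.unop).op x) (F.map (D.map f.unop).op x')
        (by rw [map_π, map_π]; exact h2)
        (by rw [NatTrans.naturality_apply, NatTrans.naturality_apply]; exact hf)
      rw [← colimit.w_apply (D.op ⋙ F) (f ≫ g.op) (x := x),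
        ← colimit.w_apply (D.op ⋙ F) (f ≫ g.op) (x := x')]
      congr 1
      simpa using hg
    · intro q ξ h
      obtain ⟨j, y, rfl⟩ := Types.jointly_surjective' q
      rw [desc_ι_apply] at h
      obtain ⟨k, f, x, hx1, hx2⟩ := hsurj j.unop y ξ h.symm
      refine ⟨colimit.ι (D.op ⋙ F) (op k) x, ?_, ?_⟩
      · rw [colimMap_ι_apply]
        have := colimit.w_apply (D.op ⋙ G) (f.op : j ⟶ op k) (x := y)
        rw [← this]
        exact congrArg _ hx2
      · rw [desc_ι_apply]
        exact hx1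

end General

section Fibre

universe u
open AlgebraicGeometry

variable {S : Scheme.{u}} {F G : AlgSp.PSp S} (a : F ⟶ G) (T₀ : Over S) (y₀ : G.obj (op T₀))
  {I : Type u} [SmallCategory I] (D' : I ⥤ Over T₀.left) (c' : Cone D')

/-- elementwise injectivity for the fibre presheaf -/
def KInj : Prop := ∀ (i : I) (x x' : F.obj (op ((Over.map T₀.hom).obj (D'.obj i)))),
  a.app _ x = G.map (AlgSp.overHom T₀ (D'.obj i)).op y₀ →
  a.app _ x' = G.map (AlgSp.overHom T₀ (D'.obj i)).op y₀ →
  F.map ((Over.map T₀.hom).map (c'.π.app i)).op x = F.map ((Over.map T₀.hom).map (c'.π.app i)).op x' →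
  ∃ (k : I) (f : k ⟶ i), F.map ((Over.map T₀.hom).map (D'.map f)).op x =
    F.map ((Over.map T₀.hom).map (D'.map f)).op x'

/-- elementwise surjectivity for the fibre presheaf -/
def KSurj : Prop := ∀ (ξ : F.obj (op ((Over.map T₀.hom).obj c'.pt))),
  a.app _ ξ = G.map (AlgSp.overHom T₀ c'.pt).op y₀ →
  ∃ (i : I) (x : F.obj (op ((Over.map T₀.hom).obj (D'.obj i)))),
    a.app _ x = G.map (AlgSp.overHom T₀ (D'.obj i)).op y₀ ∧
    F.map ((Over.map T₀.hom).map (c'.π.app i)).op x = ξ

theorem isColimit_fiberFun_iff [IsCofiltered I] :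
    Nonempty (IsColimit ((AlgSp.fiberFun a T₀ y₀).mapCocone c'.op)) ↔
      KInj a T₀ y₀ D' c' ∧ KSurj a T₀ y₀ D' c' := by
  constructor
  · rintro ⟨h⟩
    refine ⟨?_, ?_⟩
    · intro i x x' hx hx' heq
      obtain ⟨j, f, hf⟩ := (Types.FilteredColimit.isColimit_eq_iff' h (i := op i)
        (⟨x, hx⟩ : (AlgSp.fiberFun a T₀ y₀).obj (op (D'.obj i))) ⟨x', hx'⟩).mp (Subtype.ext heq)
      exact ⟨j.unop, f.unop, congrArg Subtype.val hf⟩
    · intro ξ hξ
      obtain ⟨j, y, hy⟩ := Types.jointly_surjective_of_isColimit h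
        (⟨ξ, hξ⟩ : (AlgSp.fiberFun a T₀ y₀).obj (op c'.pt))
      exact ⟨j.unop, y.1, y.2, congrArg Subtype.val hy⟩
  · rintro ⟨hinj, hsurj⟩
    refine ⟨Types.FilteredColimit.isColimitOf' _ _ ?_ ?_⟩
    · rintro ⟨ξ, hξ⟩
      obtain ⟨i, x, hx, hx'⟩ := hsurj ξ hξ
      exact ⟨op i, ⟨x, hx⟩, Subtype.ext hx'.symm⟩
    · rintro ⟨i⟩ ⟨x, hx⟩ ⟨x', hx'⟩ h
      obtain ⟨k, f, hf⟩ := hinj i x x' hx hx' (congrArg Subtype.val h)
      exact ⟨op k, f.op, Subtype.ext hf⟩

lemma map_overHom {X X' : Over T₀.left} (g : X' ⟶ X) :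
    G.map ((Over.map T₀.hom).map g).op (G.map (AlgSp.overHom T₀ X).op y₀) =
      G.map (AlgSp.overHom T₀ X').op y₀ := by
  rw [← Functor.map_comp_apply, ← op_comp, AlgSp.map_comp_overHom]

theorem K_of_R [IsCofiltered I]
    (hI : RInj a (D' ⋙ Over.map T₀.hom) ((Over.map T₀.hom).mapCone c'))
    (hS : RSurj a (D' ⋙ Over.map T₀.hom) ((Over.map T₀.hom).mapCone c')) :
    KInj a T₀ y₀ D' c' ∧ KSurj a T₀ y₀ D' c' := by
  refine ⟨?_, ?_⟩
  · intro i x x' hx hx' heq
    exact hI i x x' heq (hx.trans hx'.symm)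
  · intro ξ hξ
    obtain ⟨i₀⟩ := IsCofiltered.nonempty (C := I)
    obtain ⟨k, f, x, hx1, hx2⟩ := hS i₀ (G.map (AlgSp.overHom T₀ (D'.obj i₀)).op y₀) ξ
      (hξ.trans (map_overHom T₀ y₀ (c'.π.app i₀)).symm)
    exact ⟨k, x, hx2.trans (map_overHom T₀ y₀ (D'.map f)), hx1⟩

end Fibre

section Restrict

universe u
open AlgebraicGeometry

variable {S : Scheme.{u}} {F G : AlgSp.PSp S} (a : F ⟶ G)
  {I : Type u} [SmallCategory I] (D : I ⥤ Over S) (c : Cone D) (i : I)

/-- the system restricted to indices over `i`, viewed over `(D.obj i).left` -/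
def resD : Over i ⥤ Over (D.obj i).left := Over.post D ⋙ (D.obj i).iteratedSliceForward

@[simp] lemma resD_obj_left (o : Over i) : ((resD D i).obj o).left = (D.obj o.left).left := rfl
@[simp] lemma resD_obj_hom (o : Over i) : ((resD D i).obj o).hom = (D.map o.hom).left := rfl
@[simp] lemma resD_map_left {o o' : Over i} (g : o ⟶ o') :
    ((resD D i).map g).left = (D.map g.left).left := rfl

/-- the restricted cone -/
def resC : Cone (resD D i) where
  pt := Over.mk (c.π.app i).left
  π :=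
    { app := fun o => Over.homMk (c.π.app o.left).left
        (congrArg (fun f => Over.Hom.left f) (c.w o.hom))
      naturality := by
        intro o o' g
        ext
        have h := congrArg (fun f => Over.Hom.left f) (c.w g.left)
        simp only [Functor.const_obj_obj, Functor.const_obj_map, Category.id_comp]
        exact h.symm }

@[simp] lemma resC_pt_left : (resC D c i).pt.left = c.pt.left := rfl
@[simp] lemma resC_pt_hom : (resC D c i).pt.hom = (c.π.app i).left := rfl
@[simp] lemma resC_π_app_left (o : Over i) :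
    ((resC D c i).π.app o).left = (c.π.app o.left).left := rfl

/-- the restricted cone is again a limit cone of schemes -/
noncomputable def resIsLimit [IsCofiltered I] (hc : IsLimit ((Over.forget S).mapCone c)) :
    IsLimit ((Over.forget (D.obj i).left).mapCone (resC D c i)) :=
  (Functor.Initial.isLimitWhiskerEquiv (Over.forget i) ((Over.forget S).mapCone c)).symm hc

/-- comparison iso between the two ways of viewing `D.obj o.left` over `S` -/
def eIso (o : Over i) : (Over.map (D.obj i).hom).obj ((resD D i).obj o) ≅ D.obj o.left :=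
  Over.isoMk (Iso.refl _) (by
    have := Over.w (D.map o.hom)
    simpa using this)

/-- comparison iso at the vertex -/
def eIsoPt : (Over.map (D.obj i).hom).obj (resC D c i).pt ≅ c.pt :=
  Over.isoMk (Iso.refl _) (by
    have := Over.w (c.π.app i)
    simpa using this)

lemma eIso_hom_left (o : Over i) : (eIso D i o).hom.left = 𝟙 (D.obj o.left).left := rfl

lemma eIsoPt_hom_left : (eIsoPt D c i).hom.left = 𝟙 c.pt.left := rfl

lemma overHom_eq (o : Over i) :
    AlgSp.overHom (D.obj i) ((resD D i).obj o) = (eIso D i o).hom ≫ D.map o.hom := by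
  ext
  exact (Category.id_comp (D.map o.hom).left).symm

lemma overHom_pt_eq :
    AlgSp.overHom (D.obj i) (resC D c i).pt = (eIsoPt D c i).hom ≫ c.π.app i := by
  ext
  exact (Category.id_comp (c.π.app i).left).symm

lemma map_resD_eIso {o o' : Over i} (g : o ⟶ o') :
    (Over.map (D.obj i).hom).map ((resD D i).map g) ≫ (eIso D i o').hom =
      (eIso D i o).hom ≫ D.map g.left := by
  ext
  exact (Category.comp_id (D.map g.left).left).trans (Category.id_comp (D.map g.left).left).symm

lemma map_resC_eIso (o : Over i) :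
    (Over.map (D.obj i).hom).map ((resC D c i).π.app o) ≫ (eIso D i o).hom =
      (eIsoPt D c i).hom ≫ c.π.app o.left := by
  ext
  exact (Category.comp_id (c.π.app o.left).left).trans
    (Category.id_comp (c.π.app o.left).left).symm

lemma map_inv_map_hom {𝒞 : Type*} [Category 𝒞] (P : 𝒞ᵒᵖ ⥤ Type*) {A B : 𝒞} (e : A ≅ B)
    (z : P.obj (op B)) : P.map e.inv.op (P.map e.hom.op z) = z := by
  rw [← Functor.map_comp_apply, ← op_comp, e.inv_hom_id]
  simp

lemma map_hom_map_inv {𝒞 : Type*} [Category 𝒞] (P : 𝒞ᵒᵖ ⥤ Type*) {A B : 𝒞} (e : A ≅ B)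
    (z : P.obj (op A)) : P.map e.hom.op (P.map e.inv.op z) = z := by
  rw [← Functor.map_comp_apply, ← op_comp, e.hom_inv_id]
  simp

lemma map_hom_injective {𝒞 : Type*} [Category 𝒞] (P : 𝒞ᵒᵖ ⥤ Type*) {A B : 𝒞} (e : A ≅ B)
    {z z' : P.obj (op B)} (h : P.map e.hom.op z = P.map e.hom.op z') : z = z' := by
  rw [← map_inv_map_hom P e z, h, map_inv_map_hom]

theorem rInj_of_K
    (hK : ∀ y : G.obj (op (D.obj i)), KInj a (D.obj i) y (resD D i) (resC D c i))
    (x x' : F.obj (op (D.obj i))) (h1 : F.map (c.π.app i).op x = F.map (c.π.app i).op x')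
    (h2 : a.app _ x = a.app _ x') :
    ∃ (k : I) (f : k ⟶ i), F.map (D.map f).op x = F.map (D.map f).op x' := by
  let o : Over i := Over.mk (𝟙 i)
  have key : ∀ z : F.obj (op (D.obj i)), a.app _ (F.map (eIso D i o).hom.op z) =
      G.map (AlgSp.overHom (D.obj i) ((resD D i).obj o)).op (a.app _ z) := by
    intro z
    have hid : (eIso D i o).hom ≫ D.map o.hom = (eIso D i o).hom := by
      rw [show D.map o.hom = 𝟙 _ from D.map_id i]
      exact Category.comp_id _
    rw [overHom_eq, hid, NatTrans.naturality_apply]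
    rfl
  have key2 : ∀ z : F.obj (op (D.obj i)),
      F.map ((Over.map (D.obj i).hom).map ((resC D c i).π.app o)).op (F.map (eIso D i o).hom.op z) =
        F.map (eIsoPt D c i).hom.op (F.map (c.π.app i).op z) := by
    intro z
    rw [← Functor.map_comp_apply, ← op_comp, map_resC_eIso, op_comp, Functor.map_comp_apply]
    rfl
  obtain ⟨o', g, hg⟩ := hK (a.app _ x) o (F.map (eIso D i o).hom.op x) (F.map (eIso D i o).hom.op x')
    (key x) ((key x').trans (by rw [h2])) (by rw [key2, key2, h1])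
  refine ⟨o'.left, g.left, ?_⟩
  apply map_hom_injective F (eIso D i o')
  rw [← Functor.map_comp_apply, ← Functor.map_comp_apply, ← op_comp, ← map_resD_eIso, op_comp,
    Functor.map_comp_apply, Functor.map_comp_apply]
  exact hg

theorem rSurj_of_K
    (hK : ∀ y : G.obj (op (D.obj i)), KSurj a (D.obj i) y (resD D i) (resC D c i))
    (y : G.obj (op (D.obj i))) (ξ : F.obj (op c.pt)) (h : a.app _ ξ = G.map (c.π.app i).op y) :
    ∃ (k : I) (f : k ⟶ i) (x : F.obj (op (D.obj k))),
      F.map (c.π.app k).op x = ξ ∧ a.app _ x = G.map (D.map f).op y := by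
  obtain ⟨o, xt, hx1, hx2⟩ := hK y (F.map (eIsoPt D c i).hom.op ξ) (by
    rw [overHom_pt_eq, op_comp, Functor.map_comp_apply, NatTrans.naturality_apply, h])
  refine ⟨o.left, o.hom, F.map (eIso D i o).inv.op xt, ?_, ?_⟩
  · apply map_hom_injective F (eIsoPt D c i)
    rw [← hx2, ← Functor.map_comp_apply, ← op_comp, ← map_resC_eIso, op_comp,
      Functor.map_comp_apply, map_hom_map_inv]
  · rw [NatTrans.naturality_apply, hx1, overHom_eq, op_comp, Functor.map_comp_apply,
      map_inv_map_hom]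

end Restrict

end Groth.Agent.Lib.Helper28.RelLim
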