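import Groth.Agent.Lib.Helper28.CechL
import Groth.Agent.Lib.Helper28.CartanT
import Groth.Agent.Lib.Helper28.Cartan
import Mathlib.CategoryTheory.Sites.EpiMono
import Mathlib.Algebra.Homology.ShortComplex.ExactFunctor

namespace Groth.Agent.Lib.Helper28.SieveExt

open CategoryTheory Limits Opposite Abelian
open Groth.Agent.Lib.Helper28

universe u

variable {C : Type u} [SmallCategory C]

section Abelian

variable {𝒜 : Type*} [Category 𝒜] [Abelian 𝒜] [HasExt.{u} 𝒜]

/-- Lifting along a left exact sequence: if `0 → X₁ → X₂ → X₃` is exact, `Ext¹(T, X₁) = 0`, and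
`σ : T ⟶ X₃` lifts to `X₂` after precomposition with an epimorphism `π : T' ⟶ T`, then `σ` lifts
to `X₂`. -/
lemma exists_lift_of_epi {S : ShortComplex 𝒜} (hS : S.Exact) [Mono S.f] {T T' : 𝒜}
    (h₁ : ∀ x : Ext T S.X₁ 1, x = 0) (π : T' ⟶ T) [Epi π] (σ : T ⟶ S.X₃) (τ' : T' ⟶ S.X₂)
    (hτ' : τ' ≫ S.g = π ≫ σ) : ∃ τ : T ⟶ S.X₂, τ ≫ S.g = σ := by
  let Sk : ShortComplex 𝒜 := ShortComplex.mk (kernel.ι π) π (kernel.condition π)
  have hSk : Sk.ShortExact :=
    ShortComplex.ShortExact.mk' (ShortComplex.exact_kernel π) inferInstance inferInstance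
  have h0 : (kernel.ι π ≫ τ') ≫ S.g = 0 := by
    rw [Category.assoc, hτ', ← Category.assoc, kernel.condition, zero_comp]
  obtain ⟨ν', hν'⟩ := ExtAcyc.exists_extension hSk h₁ (hS.lift _ h0)
  have h1 : kernel.ι π ≫ (τ' - ν' ≫ S.f) = 0 := by
    have e : kernel.ι π ≫ ν' = hS.lift _ h0 := hν'
    rw [Preadditive.comp_sub, ← Category.assoc, e, hS.lift_f, sub_self]
  refine ⟨hSk.exact.desc _ h1, ?_⟩
  have : Epi Sk.g := hSk.epi_g
  rw [← cancel_epi Sk.g, ← Category.assoc, hSk.exact.g_desc, Preadditive.sub_comp, Category.assoc,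
    S.zero, comp_zero, sub_zero]
  exact hτ'

end Abelian

variable (J : GrothendieckTopology C)

/-- The underlying presheaf of a sheaf, as a sheaf for the trivial topology. -/
abbrev ι (G : Sheaf J AddCommGrpCat.{u}) : Sheaf (⊥ : GrothendieckTopology C) AddCommGrpCat.{u} :=
  ⟨G.obj, Presheaf.isSheaf_bot _⟩

variable {J}

/-- The action of `ι` on morphisms. -/
abbrev ιmap {G G' : Sheaf J AddCommGrpCat.{u}} (f : G ⟶ G') : ι J G ⟶ ι J G' := ⟨f.hom⟩

variable (J)

lemma injective_ι (I : Sheaf J AddCommGrpCat.{u}) [Injective I] : Injective (ι J I) := by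
  have := Cartan.injective_obj J I
  constructor
  intro A B g m hm
  have : Mono m.hom := inferInstanceAs (Mono ((sheafToPresheaf _ _).map m))
  exact ⟨⟨Injective.factorThru g.hom m.hom⟩, by
    ext1
    exact Injective.comp_factorThru g.hom m.hom⟩

variable {J}

/-- The short complex of underlying presheaves. -/
abbrev ιS (S : ShortComplex (Sheaf J AddCommGrpCat.{u})) :
    ShortComplex (Sheaf (⊥ : GrothendieckTopology C) AddCommGrpCat.{u}) :=
  ShortComplex.mk (ιmap S.f) (ιmap S.g) (by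
    ext1
    exact congrArg (fun k => k.hom) S.zero)

lemma mono_ιS_f {S : ShortComplex (Sheaf J AddCommGrpCat.{u})} (hS : S.ShortExact) :
    Mono (ιS S).f := by
  have := hS.mono_f
  have h : Mono S.f.hom := inferInstanceAs (Mono ((sheafToPresheaf J AddCommGrpCat.{u}).map S.f))
  have h' : Mono ((sheafToPresheaf (⊥ : GrothendieckTopology C) AddCommGrpCat.{u}).map (ιS S).f) := h
  exact Functor.mono_of_mono_map (sheafToPresheaf (⊥ : GrothendieckTopology C) AddCommGrpCat.{u}) h'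

lemma exact_ιS {S : ShortComplex (Sheaf J AddCommGrpCat.{u})} (hS : S.ShortExact) :
    (ιS S).Exact := by
  have := hS.mono_f
  have hSp : (S.map (sheafToPresheaf J AddCommGrpCat.{u})).Exact :=
    hS.exact.map_of_mono_of_preservesKernel (sheafToPresheaf J AddCommGrpCat.{u}) inferInstance
      inferInstance
  have hmono : Mono (S.map (sheafToPresheaf J AddCommGrpCat.{u})).f :=
    inferInstanceAs (Mono ((sheafToPresheaf J AddCommGrpCat.{u}).map S.f))
  rw [ShortComplex.exact_iff_exact_up_to_refinements]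
  intro A x₂ hx₂
  have h0 : x₂.hom ≫ (S.map (sheafToPresheaf J AddCommGrpCat.{u})).g = 0 :=
    congrArg (fun k => k.hom) hx₂
  refine ⟨A, 𝟙 A, inferInstance, ⟨hSp.lift x₂.hom h0⟩, ?_⟩
  ext1
  exact (Category.id_comp _).trans (hSp.lift_f x₂.hom h0).symm

lemma shortExact_ιS {S : ShortComplex (Sheaf J AddCommGrpCat.{u})} (hS : S.ShortExact)
    (hsurj : ∀ V : C, Function.Surjective (S.g.hom.app (op V))) : (ιS S).ShortExact := by
  have := mono_ιS_f hS
  have hepi : Epi (ιS S).g := by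
    have h : Epi S.g.hom := by
      have : ∀ V : Cᵒᵖ, Epi (S.g.hom.app V) := fun V =>
        (AddCommGrpCat.epi_iff_surjective _).2 (hsurj V.unop)
      exact NatTrans.epi_of_epi_app _
    have h' : Epi ((sheafToPresheaf (⊥ : GrothendieckTopology C) AddCommGrpCat.{u}).map
        (ιS S).g) := h
    exact Functor.epi_of_epi_map
      (sheafToPresheaf (⊥ : GrothendieckTopology C) AddCommGrpCat.{u}) h'
  exact ShortComplex.ShortExact.mk' (exact_ιS hS) inferInstance inferInstance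

/-- The free abelian sheaf for the trivial topology on a presheaf of sets. -/
noncomputable abbrev Z (R : Cᵒᵖ ⥤ Type u) :
    Sheaf (⊥ : GrothendieckTopology C) AddCommGrpCat.{u} :=
  (presheafToSheaf (⊥ : GrothendieckTopology C) AddCommGrpCat.{u}).obj (CechQ.freeW.obj R)

/-- Morphisms out of `Z R`. -/
noncomputable def hb (R : Cᵒᵖ ⥤ Type u)
    (P : Sheaf (⊥ : GrothendieckTopology C) AddCommGrpCat.{u}) :
    (Z R ⟶ P) ≃ (CechQ.freeW.obj R ⟶ P.obj) :=
  (sheafificationAdjunction (⊥ : GrothendieckTopology C) AddCommGrpCat.{u}).homEquiv _ P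

lemma hb_comp {R : Cᵒᵖ ⥤ Type u}
    {P P' : Sheaf (⊥ : GrothendieckTopology C) AddCommGrpCat.{u}} (x : Z R ⟶ P) (g : P ⟶ P') :
    hb R P' (x ≫ g) = hb R P x ≫ g.hom :=
  (sheafificationAdjunction (⊥ : GrothendieckTopology C)
    AddCommGrpCat.{u}).homEquiv_naturality_right x g

lemma hb_map_comp {R R' : Cᵒᵖ ⥤ Type u} (α : R ⟶ R')
    {P : Sheaf (⊥ : GrothendieckTopology C) AddCommGrpCat.{u}} (x : Z R' ⟶ P) :
    hb R P ((presheafToSheaf (⊥ : GrothendieckTopology C) AddCommGrpCat.{u}).map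
      (CechQ.freeW.map α) ≫ x) = CechQ.freeW.map α ≫ hb R' P x :=
  (sheafificationAdjunction (⊥ : GrothendieckTopology C)
    AddCommGrpCat.{u}).homEquiv_naturality_left (CechQ.freeW.map α) x

section Sieve

variable {X : C} (R : Sieve X)

lemma secMap_aux (P : Cᵒᵖ ⥤ AddCommGrpCat.{u}) (t : P.obj (op X)) {V V' : Cᵒᵖ} (f : V ⟶ V')
    (r : R.functor.obj V) :
    P.map (R.functor.map f r).1.op t = P.map f (P.map r.1.op t) := by
  change P.map (f.unop ≫ r.1).op t = _
  rw [op_comp, Functor.map_comp, ConcreteCategory.comp_apply]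
  rfl

/-- The morphism `ℤ[R] ⟶ P` given by the restrictions of a section over `X`. -/
noncomputable def secMap (P : Cᵒᵖ ⥤ AddCommGrpCat.{u}) (t : P.obj (op X)) :
    CechQ.freeW.obj R.functor ⟶ P :=
  CechY.liftGen (R := R.functor) P (fun _ (r : R.functor.obj _) => P.map r.1.op t)
    (fun f r => secMap_aux R P t f r)

lemma secMap_app_gen (P : Cᵒᵖ ⥤ AddCommGrpCat.{u}) (t : P.obj (op X)) {V : Cᵒᵖ}
    (r : R.functor.obj V) : (secMap R P t).app V (CechY.gen r) = P.map r.1.op t :=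
  CechY.liftGen_app_gen (R := R.functor) P (fun _ (r : R.functor.obj _) => P.map r.1.op t)
    (fun f r => secMap_aux R P t f r) r

lemma secMap_comp {P P' : Cᵒᵖ ⥤ AddCommGrpCat.{u}} (g : P ⟶ P') (t : P.obj (op X)) :
    secMap R P t ≫ g = secMap R P' (g.app _ t) := by
  apply CechY.hom_ext_gen
  intro V r
  rw [NatTrans.comp_app, ConcreteCategory.comp_apply, secMap_app_gen, secMap_app_gen]
  exact NatTrans.naturality_apply g _ t

variable {R}

/-- Gluing: a morphism `ℤ[R] ⟶ G` with `R` covering and `G` a sheaf comes from a section. -/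
lemma exists_secMap_eq (hR : R ∈ J X) (G : Sheaf J AddCommGrpCat.{u})
    (σ : CechQ.freeW.obj R.functor ⟶ G.obj) :
    ∃ s : G.obj.obj (op X), secMap R G.obj s = σ := by
  let x : Presieve.FamilyOfElements (G.obj ⋙ forget AddCommGrpCat.{u}) R.arrows := fun V f hf =>
    σ.app (op V) (CechY.gen (R := R.functor) ⟨f, hf⟩)
  have hx : x.Compatible := by
    rw [Presieve.compatible_iff_sieveCompatible]
    intro V W f k hf
    exact CechY.app_gen_map G.obj σ k.op (R := R.functor) ⟨f, hf⟩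
  have hG := CechL.isSheaf_forget J G _ hR
  refine ⟨hG.amalgamate x hx, ?_⟩
  apply CechY.hom_ext_gen
  intro V r
  rw [secMap_app_gen]
  exact hG.valid_glue hx r.1 r.2

/-- Morphisms `ℤ[R] ⟶ H` lift along `G ⟶ H` when `R` is covering and sections over `X` lift. -/
lemma exists_lift_of_surjective (hR : R ∈ J X) {S : ShortComplex (Sheaf J AddCommGrpCat.{u})}
    (hsurj : Function.Surjective (S.g.hom.app (op X))) (σ : Z R.functor ⟶ ι J S.X₃) :
    ∃ τ : Z R.functor ⟶ ι J S.X₂, τ ≫ (ιS S).g = σ := by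
  obtain ⟨s, hs⟩ := exists_secMap_eq hR S.X₃ (hb _ _ σ)
  obtain ⟨t, ht⟩ := hsurj s
  refine ⟨(hb _ _).symm (secMap R S.X₂.obj t), ?_⟩
  apply (hb _ _).injective
  rw [hb_comp, Equiv.apply_symm_apply]
  refine (secMap_comp R S.g.hom t).trans ?_
  rw [ht, hs]

end Sieve

section Lift

variable {X : C} {S : ShortComplex (Sheaf J AddCommGrpCat.{u})} (hS : S.ShortExact)
  (s : S.X₃.obj.obj (op X))

/-- The formal coproduct of all members of the image sieve of `s`. -/
abbrev X₀ : FormalCoproduct.{u} C :=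
  ⟨Σ V : C, {f : V ⟶ X // (Presheaf.imageSieve S.g.hom s).arrows f}, fun i => i.1⟩

/-- The canonical epimorphism onto the image sieve. -/
noncomputable def p : (CechY.sY (𝟭 C)).obj (X₀ s) ⟶ (Presheaf.imageSieve S.g.hom s).functor where
  app V := ↾(fun z => ⟨shrinkYonedaObjObjEquiv z.2 ≫ z.1.2.1,
    (Presheaf.imageSieve S.g.hom s).downward_closed z.1.2.2 _⟩)
  naturality V V' k := by
    refine ConcreteCategory.hom_ext _ _ fun z => ?_
    obtain ⟨i, x⟩ := z
    apply Subtype.ext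
    change shrinkYonedaObjObjEquiv ((shrinkYoneda.{u}.obj i.1).map k x) ≫ i.2.1 =
      k.unop ≫ shrinkYonedaObjObjEquiv x ≫ i.2.1
    rw [shrinkYonedaObjObjEquiv_obj_map, Category.assoc]

lemma p_univ (i : (X₀ s).I) :
    ((p s).app _ (CechY.univ (𝟭 C) (X₀ s) i)).1 = i.2.1 := by
  change shrinkYonedaObjObjEquiv (X := i.1) (Y := op i.1)
    (shrinkYonedaObjObjEquiv.symm (𝟙 i.1)) ≫ i.2.1 = i.2.1
  rw [Equiv.apply_symm_apply]
  exact Category.id_comp _

instance epi_p : Epi (p s) := by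
  have : ∀ V, Epi ((p s).app V) := by
    intro V
    rw [epi_iff_surjective]
    rintro ⟨f, hf⟩
    refine ⟨(⟨⟨V.unop, ⟨f, hf⟩⟩, shrinkYonedaObjObjEquiv.symm (𝟙 V.unop)⟩ :
      ((CechY.sY (𝟭 C)).obj (X₀ s)).obj V), Subtype.ext ?_⟩
    change shrinkYonedaObjObjEquiv (shrinkYonedaObjObjEquiv.symm (𝟙 V.unop)) ≫ f = f
    rw [Equiv.apply_symm_apply]
    exact Category.id_comp _
  exact NatTrans.epi_of_epi_app _

include hS in
/-- A section of the quotient lifts as soon as the first `Ext` group out of `ℤ[R]` into the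
kernel vanishes, where `R` is the covering sieve on which the section lifts. -/
theorem exists_section_of_ext_one
    (h₁ : ∀ x : Ext (Z (Presheaf.imageSieve S.g.hom s).functor) (ι J S.X₁) 1, x = 0) :
    ∃ t : S.X₂.obj.obj (op X), S.g.hom.app (op X) t = s := by
  have := hS.epi_g
  have hls : Sheaf.IsLocallySurjective S.g := (Sheaf.isLocallySurjective_iff_epi' _ S.g).2 inferInstance
  have hR := Presheaf.imageSieve_mem J S.g.hom s
  -- the morphism `ℤ[R] ⟶ S.X₃` attached to `s`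
  let σ : Z (Presheaf.imageSieve S.g.hom s).functor ⟶ ι J S.X₃ :=
    (hb _ _).symm (secMap _ S.X₃.obj s)
  -- its lift on the generators
  obtain ⟨τ'b, hτ'b⟩ : ∃ τ'b : CechQ.freeW.obj ((CechY.sY (𝟭 C)).obj (X₀ s)) ⟶ S.X₂.obj,
      τ'b ≫ S.g.hom = CechQ.freeW.map (p s) ≫ secMap _ S.X₃.obj s := by
    apply CechP.exists_lift_of_components (𝟭 C) S.g.hom (X₀ s)
    intro i
    obtain ⟨y, hy⟩ := i.2.2
    refine ⟨y, hy.trans ?_⟩
    rw [NatTrans.comp_app, ConcreteCategory.comp_apply, CechY.freeW_map_app_gen, secMap_app_gen,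
      p_univ]
  have hmono := mono_ιS_f hS
  have : (CechQ.freeW (T := Cᵒᵖ)).PreservesEpimorphisms :=
    Functor.preservesEpimorphisms_of_adjunction (AddCommGrpCat.adj.{u}.whiskerRight Cᵒᵖ)
  have hepi : Epi ((presheafToSheaf (⊥ : GrothendieckTopology C) AddCommGrpCat.{u}).map
      (CechQ.freeW.map (p s))) := inferInstance
  obtain ⟨τ, hτ⟩ := exists_lift_of_epi (S := ιS S) (exact_ιS hS) h₁
    ((presheafToSheaf (⊥ : GrothendieckTopology C) AddCommGrpCat.{u}).map
      (CechQ.freeW.map (p s))) σ ((hb _ _).symm τ'b) (by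
      apply (hb _ _).injective
      rw [hb_comp, Equiv.apply_symm_apply, hb_map_comp, Equiv.apply_symm_apply]
      exact hτ'b)
  obtain ⟨t, ht⟩ := exists_secMap_eq hR S.X₂ (hb _ _ τ)
  refine ⟨t, ?_⟩
  have e : secMap (Presheaf.imageSieve S.g.hom s) S.X₃.obj (S.g.hom.app (op X) t) =
      secMap (Presheaf.imageSieve S.g.hom s) S.X₃.obj s := by
    rw [← secMap_comp, ht]
    refine (hb_comp τ (ιmap S.g)).symm.trans ?_
    have hτ' : τ ≫ ιmap S.g = σ := hτ
    rw [hτ', Equiv.apply_symm_apply]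
  have hH := (CechL.isSheaf_forget J S.X₃ _ hR).isSeparatedFor
  apply hH.ext
  intro V f hf
  have := congrArg (fun z => z.app (op V)
    (CechY.gen (R := (Presheaf.imageSieve S.g.hom s).functor) ⟨f, hf⟩)) e
  exact (secMap_app_gen (Presheaf.imageSieve S.g.hom s) S.X₃.obj _ ⟨f, hf⟩).symm.trans
    (this.trans (secMap_app_gen (Presheaf.imageSieve S.g.hom s) S.X₃.obj _ ⟨f, hf⟩))

end Lift

end Groth.Agent.Lib.Helper28.SieveExt
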