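import Groth.Agent.Lib.Helper28.GalH90Push
import Groth.Agent.Lib.Helper28.EtGsecPull

/-!
# Sheaves on the spectrum of a separably closed field

For `k` separably closed, every epimorphism of abelian sheaves on the small étale site of `Spec k`
is surjective on sections over every object.  Consequently, for `i : Spec k ⟶ Y`, the direct image
`i_*` is exact and `H^{q+1}(Y, i_* F) = 0`.
-/

set_option autoImplicit false
open CategoryTheory CategoryTheory.Limits AlgebraicGeometry Opposite Abelian
universe u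

namespace Groth.Agent.Lib.Helper28.SkySC
open GalTors

variable (k : Type u) [Field k]

section Obj
variable (K : Type u) [Field K] [Algebra k K] [FiniteDimensional k K] [Algebra.IsSeparable k K]

lemma homOf_id : homOf (AlgHom.id k K) = 𝟙 (obj k K) := by
  apply MorphismProperty.Over.Hom.ext
  change Spec.map (CommRingCat.ofHom (RingHom.id K)) = 𝟙 _
  exact Spec.map_id _

variable [IsSepClosed k]

/-- Morphisms between finite separable extensions of a separably closed field are bijective. -/
lemma bijective_algHom (L : Type u) [Field L] [Algebra k L] [Algebra.IsSeparable k L]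
    (φ : K →ₐ[k] L) : Function.Bijective φ := by
  refine ⟨φ.toRingHom.injective, fun y => ?_⟩
  obtain ⟨c, rfl⟩ := IsSepClosed.algebraMap_surjective k L y
  exact ⟨algebraMap k K c, φ.commutes c⟩

/-- Sections of a quotient over `Spec K` lift. -/
theorem exists_lift_obj {X₂ X₃ : EtCoh.Ab (X k)} (g : X₂ ⟶ X₃) [Epi g]
    (q : X₃.obj.obj (op (obj k K))) :
    ∃ t : X₂.obj.obj (op (obj k K)), g.hom.app (op (obj k K)) t = q := by
  have hls : Sheaf.IsLocallySurjective g :=
    (Sheaf.isLocallySurjective_iff_epi' _ g).2 inferInstance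
  have hR := Presheaf.imageSieve_mem (X k).smallEtaleTopology g.hom q
  obtain ⟨Y', f', y', hf', -⟩ := (EtQc.mem_topology_iff _ _).1 hR
    ((⊥ : PrimeSpectrum K) : (obj k K).left)
  obtain ⟨L, _, _, _, _, p, -, -⟩ := exists_point Y' y'
  obtain ⟨α, hα⟩ := exists_homOf (p ≫ f')
  let e : K ≃ₐ[k] L := AlgEquiv.ofBijective α (bijective_algHom k K L α)
  let β : L →ₐ[k] K := (e.symm : L →ₐ[k] K)
  have hβ : β.comp α = AlgHom.id k K := by
    ext x
    exact e.symm_apply_apply x
  have hsec : homOf β ≫ (p ≫ f') = 𝟙 (obj k K) := by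
    rw [← hα, ← homOf_comp, hβ, homOf_id]
  have hmem : (Presheaf.imageSieve g.hom q).arrows (𝟙 (obj k K)) := by
    rw [← hsec, ← Category.assoc]
    exact (Presheaf.imageSieve g.hom q).downward_closed hf' _
  obtain ⟨t, ht⟩ := hmem
  refine ⟨t, ht.trans ?_⟩
  simp

end Obj

section W
variable [IsSepClosed k]

/-- Sections of a quotient over any object of the small étale site of `Spec k` lift. -/
theorem exists_lift_W {X₂ X₃ : EtCoh.Ab (X k)} (g : X₂ ⟶ X₃) [Epi g]
    (W : (X k).Etale) (q : X₃.obj.obj (op W)) :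
    ∃ t : X₂.obj.obj (op W), g.hom.app (op W) t = q := by
  have : Etale W.hom := W.prop
  choose K hK1 hK2 hK3 hK4 ι hι1 hι2 hι3 using
    fun x : W.left => Groth.Agent.S0658.local_decomp k W.left W.hom x
  let P : W.left → (X k).Etale := fun x => @obj k _ (K x) (hK1 x) (hK2 x) (hK3 x) (hK4 x)
  let p : ∀ x, P x ⟶ W := fun x => MorphismProperty.Over.homMk (ι x) (hι3 x)
  choose t ht using fun x : W.left =>
    @exists_lift_obj k _ (K x) (hK1 x) (hK2 x) (hK3 x) (hK4 x) _ X₂ X₃ g _
      (X₃.obj.map (p x).op q)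
  have hcov : Sieve.ofArrows P p ∈ (X k).smallEtaleTopology W := by
    refine (EtQc.mem_topology_iff _ _).2 ?_
    intro x
    have hx : x ∈ Set.range (ι x).base := by rw [hι2 x]; rfl
    obtain ⟨y, hy⟩ := hx
    exact ⟨P x, p x, y, Sieve.ofArrows_mk _ _ x, hy⟩
  have key : ∀ (x x' : W.left) (Z : (X k).Etale) (a : Z ⟶ P x) (b : Z ⟶ P x')
      (_ : a ≫ p x = b ≫ p x') (z : Z.left), x = x' := by
    intro x x' Z a b hab z
    have h1 : (a ≫ p x).left.base z = (b ≫ p x').left.base z := by rw [hab]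
    have h2 : (ι x).base (a.left.base z) = (ι x').base (b.left.base z) := h1
    have h3 : (ι x).base (a.left.base z) ∈ Set.range (ι x).base := ⟨_, rfl⟩
    have h4 : (ι x').base (b.left.base z) ∈ Set.range (ι x').base := ⟨_, rfl⟩
    rw [hι2 x] at h3
    rw [hι2 x'] at h4
    exact (h3.symm.trans h2).trans h4
  have hmono : ∀ (x : W.left) (Z : (X k).Etale) (a b : Z ⟶ P x), a ≫ p x = b ≫ p x → a = b := by
    intro x Z a b hab
    apply MorphismProperty.Over.Hom.ext
    have h1 : (a ≫ p x).left = (b ≫ p x).left := by rw [hab]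
    have h2 : a.left ≫ ι x = b.left ≫ ι x := h1
    have := hι1 x
    exact (cancel_mono (ι x)).1 h2
  have hI : Presieve.IsSheaf (X k).smallEtaleTopology (X₂.obj ⋙ forget AddCommGrpCat.{u + 1}) :=
    (isSheaf_iff_isSheaf_of_type _ _).1
      (GrothendieckTopology.HasSheafCompose.isSheaf X₂.obj X₂.property)
  have hIs : Presieve.IsSheafFor (X₂.obj ⋙ forget AddCommGrpCat.{u + 1}) (Presieve.ofArrows P p) :=
    (Presieve.isSheafFor_iff_generate _).2 (hI _ hcov)
  have hc : Presieve.Arrows.Compatible (X₂.obj ⋙ forget AddCommGrpCat.{u + 1}) p t := by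
    intro x x' Z a b hab
    change X₂.obj.map a.op (t x) = X₂.obj.map b.op (t x')
    refine eq_of_points X₂ Z _ _ ?_
    intro N _ _ _ _ pt
    have z : Z.left := pt.left.base (⊥ : PrimeSpectrum N)
    obtain rfl := key x x' Z a b hab z
    rw [hmono x Z a b hab]
  obtain ⟨s, hs, -⟩ := (Presieve.isSheafFor_arrows_iff (X₂.obj ⋙ forget AddCommGrpCat.{u + 1})
    p).1 hIs t hc
  refine ⟨s, ?_⟩
  refine (Sheaf.isSeparated X₃) W _ hcov _ _ ?_
  rintro Z h ⟨Y, h', _, ⟨x⟩, rfl⟩
  have e1 : X₂.obj.map (p x).op s = t x := hs x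
  rw [op_comp, Functor.map_comp, ConcreteCategory.comp_apply, ConcreteCategory.comp_apply]
  congr 1
  rw [← NatTrans.naturality_apply g.hom (p x).op s, e1, ht x]

end W

section Push
variable [IsSepClosed k] {Y : Scheme.{u}} (i : X k ⟶ Y)

/-- `i_*` preserves epimorphisms. -/
theorem epi_push {X₂ X₃ : EtCoh.Ab (X k)} (g : X₂ ⟶ X₃) [Epi g] :
    Epi ((EtCoh.push i).map g) := by
  refine (Sheaf.isLocallySurjective_iff_epi' _ ((EtCoh.push i).map g)).1 ?_
  refine Presheaf.isLocallySurjective_of_surjective _ _ ?_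
  intro V q
  exact exists_lift_W k g ((EtCoh.bc i).obj V.unop) q

/-- Morphisms `ℤ_Y ⟶ i_* X₃` lift along `i_*` of an epimorphism. -/
lemma exists_hom_lift_const {X₂ X₃ : EtCoh.Ab (X k)} (g : X₂ ⟶ X₃) [Epi g]
    (x : EtCoh.const Y ℤ ⟶ (EtCoh.push i).obj X₃) :
    ∃ y : EtCoh.const Y ℤ ⟶ (EtCoh.push i).obj X₂, y ≫ (EtCoh.push i).map g = x := by
  let s : X₃.obj.obj (op ((EtCoh.bc i).obj (EtCoh.top Y))) := EtGsecPull.ev Y _ x
  obtain ⟨t, ht⟩ := exists_lift_W k g _ s
  let t' : ((EtCoh.push i).obj X₂).obj.obj (op (EtCoh.top Y)) := t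
  refine ⟨(EtGsecPull.ev Y _).symm t', (EtGsecPull.ev Y _).injective ?_⟩
  rw [EtGsecPull.ev_comp, AddEquiv.apply_symm_apply]
  exact ht

variable [PreservesFiniteLimits (EtCoh.pull i)]

/-- `H^{q+1}(Y, i_* F) = 0`. -/
theorem eq_zero_H (q : ℕ) :
    ∀ (F : EtCoh.Ab (X k)) (x : EtCoh.H Y ((EtCoh.push i).obj F) (q + 1)), x = 0 := by
  have hRl : PreservesFiniteLimits (EtCoh.push i) := ExtAdjEdge.R_pfl (EtCoh.pullPushAdj i)
  induction q with
  | zero =>
    intro F x
    let T := EtCoh.const Y ℤ
    let R := EtCoh.push i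
    let S : ShortComplex (EtCoh.Ab (X k)) :=
      ShortComplex.mk (Injective.ι F) (cokernel.π (Injective.ι F)) (cokernel.condition _)
    have hS : S.ShortExact :=
      ShortComplex.ShortExact.mk' (ShortComplex.exact_cokernel _) inferInstance inferInstance
    have hI : Injective (R.obj S.X₂) :=
      ExtAdjEdge.injective_R (EtCoh.pullPushAdj i) (Injective.under F)
    have hSf := hS.mono_f
    have hSg := hS.epi_g
    have hmono : Mono (R.map S.f) := inferInstance
    have hepi : Epi (R.map S.g) := epi_push k i S.g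
    have hex : (S.map R).Exact :=
      hS.exact.map_of_mono_of_preservesKernel R inferInstance inferInstance
    let A : ShortComplex (EtCoh.Ab Y) := ShortComplex.mk (R.map S.f) (R.map S.g) (S.map R).zero
    have hA : A.ShortExact := ShortComplex.ShortExact.mk' hex hmono hepi
    have hIA : Injective A.X₂ := hI
    obtain ⟨x₃, hx₃⟩ := Ext.covariant_sequence_exact₁ T hA x
      (Ext.eq_zero_of_injective _) (zero_add 1)
    obtain ⟨c, rfl⟩ := (Ext.mk₀_bijective _ _).2 x₃
    obtain ⟨y, hy⟩ := exists_hom_lift_const k i S.g c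
    have h7 : (Ext.mk₀ A.g).comp hA.extClass (zero_add 1) = 0 := hA.comp_extClass
    rw [← hx₃, ← hy]
    change (Ext.mk₀ (y ≫ A.g)).comp hA.extClass (zero_add 1) = 0
    rw [← Ext.mk₀_comp_mk₀, Ext.comp_assoc_of_second_deg_zero, h7, Ext.comp_zero]
  | succ q ih =>
    intro F x
    let T := EtCoh.const Y ℤ
    let R := EtCoh.push i
    let S : ShortComplex (EtCoh.Ab (X k)) :=
      ShortComplex.mk (Injective.ι F) (cokernel.π (Injective.ι F)) (cokernel.condition _)
    have hS : S.ShortExact :=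
      ShortComplex.ShortExact.mk' (ShortComplex.exact_cokernel _) inferInstance inferInstance
    have hI : Injective (R.obj S.X₂) :=
      ExtAdjEdge.injective_R (EtCoh.pullPushAdj i) (Injective.under F)
    have hSf := hS.mono_f
    have hSg := hS.epi_g
    have hmono : Mono (R.map S.f) := inferInstance
    have hepi : Epi (R.map S.g) := epi_push k i S.g
    have hex : (S.map R).Exact :=
      hS.exact.map_of_mono_of_preservesKernel R inferInstance inferInstance
    let A : ShortComplex (EtCoh.Ab Y) := ShortComplex.mk (R.map S.f) (R.map S.g) (S.map R).zero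
    have hA : A.ShortExact := ShortComplex.ShortExact.mk' hex hmono hepi
    have hIA : Injective A.X₂ := hI
    obtain ⟨x₃, hx₃⟩ := Ext.covariant_sequence_exact₁ T hA x
      (Ext.eq_zero_of_injective _) (rfl : (q + 1) + 1 = q + 1 + 1)
    rw [← hx₃, ih S.X₃ x₃, Ext.zero_comp]

end Push

end Groth.Agent.Lib.Helper28.SkySC
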