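import Groth.Agent.Lib.Helper28.GalTorsW
import Groth.Agent.Lib.Helper28.ExtTorsLift
import Groth.Agent.Lib.Helper28.EtTorsPush
import Groth.Agent.Lib.Helper28.ExtAdjEdge
import Groth.Agent.Lib.Helper28.EtGsecPull
import Groth.Agent.S0124

/-!
# Direct images from the spectrum of a field: torsion statements

For `i : Spec k ⟶ Y` quasi-compact and quasi-separated and any abelian sheaf `F` on `Spec k`:
* `isTorsion_Rpush` : `R^{q+1} i_* F` is a torsion sheaf;
* `exists_nsmul_eq_zero_H` : `H^{q+1}(Y, i_* F)` is torsion when `Y` is quasi-compact and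
  quasi-separated.
-/

set_option autoImplicit false
open CategoryTheory CategoryTheory.Limits AlgebraicGeometry Opposite Abelian
universe u

namespace Groth.Agent.Lib.Helper28.SkyTors
open GalTors

variable (k : Type u) [Field k] {Y : Scheme.{u}} (i : X k ⟶ Y)

section Part1
variable [QuasiCompact i] [QuasiSeparated i]

/-- `R^{q+1} i_* F` is a torsion sheaf. -/
theorem isTorsion_Rpush (F : EtCoh.Ab (X k)) (q : ℕ) :
    EtCoh.IsTorsion ((EtCoh.Rpush i (q + 1)).obj F) := by
  obtain ⟨e⟩ := EtRpush.nonempty_natIso i (q + 1)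
  let P : Y.Etaleᵒᵖ ⥤ AddCommGrpCat.{u + 1} :=
    (ExtPsh.extPsh.{u + 1} (EtRpush.Φ i) (q + 1)).obj F
  let R : EtCoh.Ab Y := (EtCoh.Rpush i (q + 1)).obj F
  let eF : (presheafToSheaf Y.smallEtaleTopology AddCommGrpCat.{u + 1}).obj P ≅ R := e.app F
  let ψ : P ⟶ R.obj := toSheafify Y.smallEtaleTopology P ≫ eF.hom.hom
  intro U (s : R.obj.obj (op U)) y
  let t : (sheafify Y.smallEtaleTopology P).obj (op U) := eF.inv.hom.app (op U) s
  have hts : eF.hom.hom.app (op U) t = s := by
    have h : eF.inv ≫ eF.hom = 𝟙 R := eF.inv_hom_id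
    have h2 := congrArg (fun φ : R ⟶ R => φ.hom.app (op U) s) h
    exact h2
  have hT := Presheaf.imageSieve_mem Y.smallEtaleTopology (toSheafify Y.smallEtaleTopology P)
    (U := op U) t
  obtain ⟨V, g, v, ⟨p, hp⟩, hv⟩ := (EtQc.mem_topology_iff U _).1 hT y
  have hψ : ψ.app (op V) p = R.obj.map g.op s := by
    change eF.hom.hom.app (op V) ((toSheafify Y.smallEtaleTopology P).app (op V) p) = _
    rw [hp, ← hts]
    exact NatTrans.naturality_apply eF.hom.hom g.op t
  obtain ⟨A, hA, hvA, -⟩ := exists_isAffineOpen_mem_and_subset (x := v) (U := ⊤) trivial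
  let V' : Y.Etale := Scheme.Etale.mk (A.ι ≫ V.hom)
  let j : V' ⟶ V := MorphismProperty.Over.homMk A.ι rfl
  have hV' : IsAffine V'.left := hA
  have hB : (EtCoh.bc i).obj V' ∈ EtQc.B (X k) := EtTorsPush.bc_mem_B i V'
  have hc : CompactSpace ((EtCoh.bc i).obj V').left := hB.1
  let p' : P.obj (op V') := P.map j.op p
  obtain ⟨n, hn, hnp⟩ := ExtTorsLift.ext_torsion
    ((EtFree.Zf (X k)).obj ((EtCoh.bc i).obj V'))
    (fun S hS x => GalTorsW.exists_hom_lift_nsmul k S hS _ x) q F p'
  refine ⟨V', j ≫ g, ⟨⟨v, hvA⟩, hv⟩, isOfFinAddOrder_iff_nsmul_eq_zero.2 ⟨n, hn, ?_⟩⟩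
  have h1 : R.obj.map (j ≫ g).op s = ψ.app (op V') p' := by
    rw [op_comp, Functor.map_comp, ConcreteCategory.comp_apply, ← hψ]
    exact (NatTrans.naturality_apply ψ j.op p).symm
  rw [h1, ← map_nsmul]
  have hnp' : n • p' = 0 := hnp
  rw [hnp', map_zero]

end Part1

section Part2
variable [QuasiCompact i] [QuasiSeparated i]

/-- Hom-lifting for `ℤ_Y ⟶ i_* Q`. -/
lemma exists_hom_lift_const [CompactSpace Y] (S : ShortComplex (EtCoh.Ab (X k))) (hS : S.ShortExact)
    (x : EtCoh.const Y ℤ ⟶ (EtCoh.push i).obj S.X₃) :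
    ∃ n : ℕ, 0 < n ∧ ∃ y : EtCoh.const Y ℤ ⟶ (EtCoh.push i).obj S.X₂,
      y ≫ (EtCoh.push i).map S.g = n • x := by
  have hc : CompactSpace ((EtCoh.bc i).obj (EtCoh.top Y)).left := by
    have h : QuasiCompact (pullback.fst (𝟙 Y) i) := inferInstance
    have h1 : CompactSpace ↥(pullback (𝟙 Y) i) :=
      QuasiCompact.compactSpace_of_compactSpace (pullback.fst (𝟙 Y) i)
    exact h1
  let s : S.X₃.obj.obj (op ((EtCoh.bc i).obj (EtCoh.top Y))) := EtGsecPull.ev Y _ x
  obtain ⟨n, hn, t, ht⟩ := GalTorsW.exists_lift_nsmul_W k S.f S.g S.zero hS _ s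
  let t' : ((EtCoh.push i).obj S.X₂).obj.obj (op (EtCoh.top Y)) := t
  refine ⟨n, hn, (EtGsecPull.ev Y _).symm t', (EtGsecPull.ev Y _).injective ?_⟩
  rw [EtGsecPull.ev_comp, AddEquiv.apply_symm_apply, map_nsmul]
  exact ht

/-- The cokernel of a monomorphism into `i_* Q` through which `i_* I → i_* Q` factors is a
torsion sheaf. -/
lemma isTorsion_cokernel (S : ShortComplex (EtCoh.Ab (X k))) (hS : S.ShortExact)
    {C : EtCoh.Ab Y} (π : (EtCoh.push i).obj S.X₂ ⟶ C) (m : C ⟶ (EtCoh.push i).obj S.X₃)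
    (hm : π ≫ m = (EtCoh.push i).map S.g) : EtCoh.IsTorsion (cokernel m) := by
  intro U d y
  have hls : Sheaf.IsLocallySurjective (cokernel.π m) :=
    (Sheaf.isLocallySurjective_iff_epi' _ (cokernel.π m)).2 inferInstance
  have hT := Presheaf.imageSieve_mem Y.smallEtaleTopology (cokernel.π m).hom d
  obtain ⟨V, g, v, ⟨r, hr⟩, hv⟩ := (EtQc.mem_topology_iff U _).1 hT y
  obtain ⟨A, hA, hvA, -⟩ := exists_isAffineOpen_mem_and_subset (x := v) (U := ⊤) trivial
  let V' : Y.Etale := Scheme.Etale.mk (A.ι ≫ V.hom)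
  let j : V' ⟶ V := MorphismProperty.Over.homMk A.ι rfl
  have hV' : IsAffine V'.left := hA
  have hc : CompactSpace ((EtCoh.bc i).obj V').left := (EtTorsPush.bc_mem_B i V').1
  let r' : S.X₃.obj.obj (op ((EtCoh.bc i).obj V')) := ((EtCoh.push i).obj S.X₃).obj.map j.op r
  obtain ⟨n, hn, t, ht⟩ := GalTorsW.exists_lift_nsmul_W k S.f S.g S.zero hS _ r'
  let t' : ((EtCoh.push i).obj S.X₂).obj.obj (op V') := t
  refine ⟨V', j ≫ g, ⟨⟨v, hvA⟩, hv⟩, isOfFinAddOrder_iff_nsmul_eq_zero.2 ⟨n, hn, ?_⟩⟩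
  have h1 : (cokernel m).obj.map (j ≫ g).op d =
      (cokernel.π m).hom.app (op V') (((EtCoh.push i).obj S.X₃).obj.map j.op r) := by
    rw [op_comp, Functor.map_comp, ConcreteCategory.comp_apply]
    have hr' : (cokernel.π m).hom.app (op V) r = (cokernel m).obj.map g.op d := hr
    rw [← hr']
    exact (NatTrans.naturality_apply (cokernel.π m).hom j.op r).symm
  have h2 : n • ((EtCoh.push i).obj S.X₃).obj.map j.op r =
      ((EtCoh.push i).map S.g).hom.app (op V') t' := ht.symm
  have h3 : ((EtCoh.push i).map S.g ≫ cokernel.π m) = 0 := by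
    rw [← hm, Category.assoc, cokernel.condition, comp_zero]
  have h4 : (cokernel.π m).hom.app (op V') (((EtCoh.push i).map S.g).hom.app (op V') t') = 0 := by
    have := congrArg (fun φ => φ.hom.app (op V') t') h3
    exact this
  rw [h1, ← map_nsmul, h2, h4]

variable [CompactSpace Y] [QuasiSeparatedSpace Y] [PreservesFiniteLimits (EtCoh.pull i)]

/-- `H^{q+1}(Y, i_* F)` is torsion. -/
theorem exists_nsmul_eq_zero_H (q : ℕ) :
    ∀ (F : EtCoh.Ab (X k)) (x : EtCoh.H Y ((EtCoh.push i).obj F) (q + 1)),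
      ∃ n : ℕ, 0 < n ∧ n • x = 0 := by
  have hRl : PreservesFiniteLimits (EtCoh.push i) := ExtAdjEdge.R_pfl (EtCoh.pullPushAdj i)
  induction q with
  | zero =>
    intro F x
    let T := EtCoh.const Y ℤ
    let R := EtCoh.push i
    let S : ShortComplex (EtCoh.Ab (X k)) :=
      ShortComplex.mk (Injective.ι F) (cokernel.π (Injective.ι F)) (cokernel.condition _)
    have hS : S.ShortExact :=
      ShortComplex.ShortExact.mk' (ShortComplex.exact_cokernel _) inferInstance inferInstance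
    have hI : Injective (R.obj S.X₂) :=
      ExtAdjEdge.injective_R (EtCoh.pullPushAdj i) (Injective.under F)
    have hSf := hS.mono_f
    have hmono : Mono (R.map S.f) := inferInstance
    have hex : (S.map R).Exact :=
      hS.exact.map_of_mono_of_preservesKernel R inferInstance inferInstance
    let A : ShortComplex (EtCoh.Ab Y) :=
      ShortComplex.mk (R.map S.f) (cokernel.π (R.map S.f)) (cokernel.condition _)
    have hA : A.ShortExact :=
      ShortComplex.ShortExact.mk' (ShortComplex.exact_cokernel _) hmono inferInstance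
    have hIA : Injective A.X₂ := hI
    let m : cokernel (R.map S.f) ⟶ R.obj S.X₃ :=
      cokernel.desc (R.map S.f) (R.map S.g) (S.map R).zero
    have hm : Mono m := (S.map R).exact_iff_mono_cokernel_desc.1 hex
    have hπm : cokernel.π (R.map S.f) ≫ m = R.map S.g := cokernel.π_desc _ _ _
    obtain ⟨x₃, hx₃⟩ := Ext.covariant_sequence_exact₁ T hA x
      (Ext.eq_zero_of_injective _) (zero_add 1)
    obtain ⟨c, rfl⟩ := (Ext.mk₀_bijective _ _).2 x₃
    obtain ⟨n, hn, y, hy⟩ := exists_hom_lift_const k i S hS (c ≫ m)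
    refine ⟨n, hn, ?_⟩
    have hyc : y ≫ cokernel.π (R.map S.f) = n • c := by
      rw [← cancel_mono m, Category.assoc, hπm, hy, Preadditive.nsmul_comp]
    have h5 : Ext.mk₀ (n • c) = n • Ext.mk₀ c :=
      map_nsmul (Ext.addEquiv₀ (X := T) (Y := A.X₃)).symm n c
    have h6 : n • (Ext.mk₀ c).comp hA.extClass (zero_add 1) =
        (n • Ext.mk₀ c).comp hA.extClass (zero_add 1) :=
      (map_nsmul (hA.extClass.postcomp T (zero_add 1)) n (Ext.mk₀ c)).symm
    have h7 : (Ext.mk₀ A.g).comp hA.extClass (zero_add 1) = 0 := hA.comp_extClass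
    rw [← hx₃, h6, ← h5, ← hyc]
    change (Ext.mk₀ (y ≫ A.g)).comp hA.extClass (zero_add 1) = 0
    rw [← Ext.mk₀_comp_mk₀, Ext.comp_assoc_of_second_deg_zero, h7, Ext.comp_zero]
  | succ q ih =>
    intro F x
    let T := EtCoh.const Y ℤ
    let R := EtCoh.push i
    let S : ShortComplex (EtCoh.Ab (X k)) :=
      ShortComplex.mk (Injective.ι F) (cokernel.π (Injective.ι F)) (cokernel.condition _)
    have hS : S.ShortExact :=
      ShortComplex.ShortExact.mk' (ShortComplex.exact_cokernel _) inferInstance inferInstance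
    have hI : Injective (R.obj S.X₂) :=
      ExtAdjEdge.injective_R (EtCoh.pullPushAdj i) (Injective.under F)
    have hSf := hS.mono_f
    have hmono : Mono (R.map S.f) := inferInstance
    have hex : (S.map R).Exact :=
      hS.exact.map_of_mono_of_preservesKernel R inferInstance inferInstance
    let A : ShortComplex (EtCoh.Ab Y) :=
      ShortComplex.mk (R.map S.f) (cokernel.π (R.map S.f)) (cokernel.condition _)
    have hA : A.ShortExact :=
      ShortComplex.ShortExact.mk' (ShortComplex.exact_cokernel _) hmono inferInstance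
    have hIA : Injective A.X₂ := hI
    let m : cokernel (R.map S.f) ⟶ R.obj S.X₃ :=
      cokernel.desc (R.map S.f) (R.map S.g) (S.map R).zero
    have hm : Mono m := (S.map R).exact_iff_mono_cokernel_desc.1 hex
    have hπm : cokernel.π (R.map S.f) ≫ m = R.map S.g := cokernel.π_desc _ _ _
    let B : ShortComplex (EtCoh.Ab Y) := ShortComplex.mk m (cokernel.π m) (cokernel.condition _)
    have hB : B.ShortExact :=
      ShortComplex.ShortExact.mk' (ShortComplex.exact_cokernel _) hm inferInstance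
    have hD : EtCoh.IsTorsion (cokernel m) :=
      isTorsion_cokernel k i S hS (cokernel.π (R.map S.f)) m hπm
    obtain ⟨x₃, hx₃⟩ := Ext.covariant_sequence_exact₁ T hA x
      (Ext.eq_zero_of_injective _) (rfl : (q + 1) + 1 = q + 1 + 1)
    -- `x₃ ∈ Ext^{q+1}(T, C)` is torsion
    obtain ⟨n, hn, hn0⟩ := ih S.X₃ (x₃.comp (Ext.mk₀ m) (add_zero (q + 1)))
    have e1 : (n • x₃).comp (Ext.mk₀ B.f) (add_zero (q + 1)) = 0 := by
      have : (n • x₃).comp (Ext.mk₀ m) (add_zero (q + 1)) =
          n • x₃.comp (Ext.mk₀ m) (add_zero (q + 1)) :=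
        map_nsmul ((Ext.mk₀ m).postcomp T (add_zero (q + 1))) n x₃
      exact this.trans hn0
    obtain ⟨z, hz⟩ := Ext.covariant_sequence_exact₁ T hB (n • x₃) e1 (rfl : q + 1 = q + 1)
    have hzt : IsOfFinAddOrder z := Groth.Agent.S0124.result Y (cokernel m) hD q z
    obtain ⟨n', hn', hn'0⟩ := hzt.exists_nsmul_eq_zero
    refine ⟨n' * n, Nat.mul_pos hn' hn, ?_⟩
    have e2 : n' • (n • x₃) = 0 := by
      rw [← hz]
      have : n' • z.comp hB.extClass (rfl : q + 1 = q + 1) =
          (n' • z).comp hB.extClass (rfl : q + 1 = q + 1) :=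
        (map_nsmul (hB.extClass.postcomp T (rfl : q + 1 = q + 1)) n' z).symm
      rw [this, hn'0, Ext.zero_comp]
    have e3 : (n' * n) • x₃ = 0 := by rw [mul_nsmul']; exact e2
    have h6 : (n' * n) • x₃.comp hA.extClass (rfl : (q + 1) + 1 = q + 1 + 1) =
        ((n' * n) • x₃).comp hA.extClass (rfl : (q + 1) + 1 = q + 1 + 1) :=
      (map_nsmul (hA.extClass.postcomp T (rfl : (q + 1) + 1 = q + 1 + 1)) (n' * n) x₃).symm
    rw [← hx₃, h6, e3, Ext.zero_comp]

end Part2

end Groth.Agent.Lib.Helper28.SkyTors
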