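import Mathlib.FieldTheory.Galois.Basic
import Mathlib.GroupTheory.Sylow

set_option autoImplicit false
universe u
open Module

namespace Groth.Agent.Lib.Helper28.SylowField

/-- The fixed field of a Sylow `p`-subgroup of a finite Galois extension has degree prime to `p`
and the extension has `p`-power degree over it. -/
lemma exists_sylow_fixedField (K M : Type u) [Field K] [Field M] [Algebra K M]
    [FiniteDimensional K M] [IsGalois K M] (p : ℕ) (hp : p.Prime) :
    ∃ L' : IntermediateField K M, ¬ p ∣ finrank K L' ∧ ∃ a : ℕ, finrank L' M = p ^ a := by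
  have := Fact.mk hp
  let P : Sylow p (M ≃ₐ[K] M) := default
  refine ⟨IntermediateField.fixedField (P : Subgroup (M ≃ₐ[K] M)), ?_, ?_⟩
  · have h1 : finrank (IntermediateField.fixedField (P : Subgroup (M ≃ₐ[K] M))) M =
        Nat.card (P : Subgroup (M ≃ₐ[K] M)) := IntermediateField.finrank_fixedField_eq_card _
    have h2 : finrank K (IntermediateField.fixedField (P : Subgroup (M ≃ₐ[K] M))) *
        finrank (IntermediateField.fixedField (P : Subgroup (M ≃ₐ[K] M))) M = finrank K M :=
      finrank_mul_finrank K _ M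
    have h3 : Nat.card (M ≃ₐ[K] M) = finrank K M := IsGalois.card_aut_eq_finrank K M
    have h4 : Nat.card (P : Subgroup (M ≃ₐ[K] M)) * (P : Subgroup (M ≃ₐ[K] M)).index =
        Nat.card (M ≃ₐ[K] M) := Subgroup.card_mul_index _
    have h5 : finrank K (IntermediateField.fixedField (P : Subgroup (M ≃ₐ[K] M))) =
        (P : Subgroup (M ≃ₐ[K] M)).index := by
      have hpos : 0 < Nat.card (P : Subgroup (M ≃ₐ[K] M)) := Nat.card_pos
      have : finrank K (IntermediateField.fixedField (P : Subgroup (M ≃ₐ[K] M))) *
          Nat.card (P : Subgroup (M ≃ₐ[K] M)) =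
          (P : Subgroup (M ≃ₐ[K] M)).index * Nat.card (P : Subgroup (M ≃ₐ[K] M)) := by
        rw [← h1, h2, ← h3, ← h4, h1, mul_comm]
      exact Nat.eq_of_mul_eq_mul_right hpos this
    rw [h5]
    exact P.not_dvd_index
  · obtain ⟨a, ha⟩ := IsPGroup.exists_card_eq P.isPGroup'
    exact ⟨a, (IntermediateField.finrank_fixedField_eq_card _).trans ha⟩

end Groth.Agent.Lib.Helper28.SylowField
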