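import Groth.Agent.Lib.Helper28.TopSh
import Groth.Agent.Lib.Helper28.CechLP
import Groth.Agent.Lib.Helper28.CartanG
import Groth.Agent.Lib.Helper28.OverProd
import Groth.Agent.Lib.Helper45.ToposFin4

/-!
# Cartan's criterion for objects of a sheaf topos

Let `S` be a generating set of quasi-compact objects of the topos `Sh J`, closed under
isomorphisms and fibre products.  If an abelian sheaf `F` has vanishing higher Čech cohomology for
all finite jointly epimorphic families of members of `S` over a member of `S`, then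
`Ext^n(ℤ[K], F) = 0` for all `K ∈ S` and `n > 0`.
-/

namespace Groth.Agent.Lib.Helper28.TopCartan

open CategoryTheory Limits Opposite Simplicial Abelian
open Groth.Agent.Lib.Helper28 Groth.Agent.Lib.Helper45 TopH TopSh

universe u

variable {C : Type u} [SmallCategory C] {J : GrothendieckTopology C}

/-- `T ↦ Hom(ℤ[T], F)` for an abelian sheaf `F`. -/
noncomputable abbrev hSh (F : Sheaf J AddCommGrpCat.{u}) :
    (Sheaf J (Type u))ᵒᵖ ⥤ AddCommGrpCat.{u} := (h J).obj F.obj

/-- The free abelian sheaf on a sheaf of sets. -/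
noncomputable abbrev zSh (K : Sheaf J (Type u)) : Sheaf J AddCommGrpCat.{u} :=
  (presheafToSheaf J AddCommGrpCat.{u}).obj ((zPre J).obj K)

/-- Hypotheses on the class of objects. -/
structure Good (S : Set (Sheaf J (Type u))) : Prop where
  qc : ∀ K ∈ S, ToposFin.IsQC K
  iso : ∀ ⦃K L : Sheaf J (Type u)⦄, K ∈ S → (K ≅ L) → L ∈ S
  gen : ToposFin.IsGenerating S
  pb : ToposFin.ClosedUnderPullbacks S

/-- Finite jointly epimorphic families of members of `S` over a member of `S`. -/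
def Cov (S : Set (Sheaf J (Type u))) (K : Sheaf J (Type u)) (ι : Type u) (Y : ι → Over K) : Prop :=
  Finite ι ∧ K ∈ S ∧ (∀ i, (Y i).left ∈ S) ∧ JEpi (fun i => (Y i).hom)

/-- Vanishing of higher Čech cohomology for all families in `Cov S`. -/
def CechAcyc (S : Set (Sheaf J (Type u))) (F : Sheaf J AddCommGrpCat.{u}) : Prop :=
  ∀ (K : Sheaf J (Type u)) (ι : Type u) (Y : ι → Over K), Cov S K ι Y →
    ∀ p : ℕ, IsZero (CartanG.cechH (hSh F) Y (p + 1))

variable {S : Set (Sheaf J (Type u))}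

lemma Good.isPullback_mem (hS : Good S) {P Z₁ Z₂ W : Sheaf J (Type u)} {fst : P ⟶ Z₁}
    {snd : P ⟶ Z₂} {f : Z₁ ⟶ W} {g : Z₂ ⟶ W} (sq : IsPullback fst snd f g) (h₁ : Z₁ ∈ S)
    (h₂ : Z₂ ∈ S) (hW : W ∈ S) : P ∈ S := by
  obtain ⟨P', p, q, hP', sq'⟩ := hS.pb f g h₁ h₂ hW
  exact hS.iso hP' (sq'.isoIsPullback _ _ sq)

lemma Cov.prod_mem (hS : Good S) {K : Sheaf J (Type u)} {ι : Type u} {Y : ι → Over K}
    (hY : Cov S K ι Y) (p : ℕ) (a : Fin (p + 1) → ι) : (∏ᶜ fun k => Y (a k)).left ∈ S :=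
  OverProd.prod_left_mem S (fun sq h₁ h₂ hW => hS.isPullback_mem sq h₁ h₂ hW) hY.2.1 p
    (fun k => Y (a k)) (fun k => hY.2.2.1 (a k))

/-- Every covering sieve of a member of `S` contains a family from `Cov S`. -/
lemma exists_cov (hS : Good S) {K : Sheaf J (Type u)} (hK : K ∈ S) (T : Sieve K)
    (hT : T ∈ epiTop J K) :
    ∃ (ι : Type u) (Y : ι → Over K), Cov S K ι Y ∧ ∀ i, T.arrows (Y i).hom := by
  let A := {p : Σ V : C, K.obj.obj (op V) // T (secMap p.2)}
  have h1 : JEpi (fun a : A => secMap a.1.2) := by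
    rw [jEpi_iff_ljs]
    intro U x
    refine ⟨secSieve T x, hT U x, fun V f hf => ?_⟩
    rw [secSieve_apply] at hf
    exact ⟨⟨⟨V, K.obj.map f.op x⟩, hf⟩, etaSec J V, secMap_app_etaSec _⟩
  choose κ G ρ hG hρ using fun a : A => exists_cover_of_isGenerating hS.gen (ToposFin.eps J a.1.1)
  have h2 := h1.comp ρ hρ
  obtain ⟨s, hs⟩ := (isQC_iff K).1 (hS.qc K hK) _ _ _ h2
  exact ⟨s, fun p => Over.mk (ρ p.1.1 p.1.2 ≫ secMap p.1.1.1.2),
    ⟨inferInstance, hK, fun p => hG _ _, hs⟩, fun p => T.downward_closed p.1.1.2 _⟩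

lemma lift_aux {F G : Sheaf J AddCommGrpCat.{u}} (g : F ⟶ G) {K : Sheaf J (Type u)}
    (s : (zPre J).obj K ⟶ G.obj) {V : C} (t : K.obj.obj (op V)) (y : (Φ.obj F).obj.obj (op V))
    (hy : (Φ.map g).hom.app (op V) y = (toSh G s).hom.app (op V) t) :
    ofSh F (secMap y) ≫ g.hom = (zPre J).map (secMap t) ≫ s := by
  apply (shEquiv G _).injective
  change toSh G (ofSh F (secMap y) ≫ g.hom) = toSh G ((zPre J).map (secMap t) ≫ s)
  have e : toSh F (ofSh F (secMap y)) = secMap y := (shEquiv F _).right_inv _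
  rw [toSh_naturality_right, toSh_naturality_left, e, secMap_comp, secMap_comp, hy]

section Step

variable (Sx : ShortComplex (Sheaf J AddCommGrpCat.{u})) (hSx : Sx.ShortExact)

/-- The sieve of morphisms along which a section of `Sx.X₃` lifts to `Sx.X₂`. -/
def liftSieve {K : Sheaf J (Type u)} (s : (zPre J).obj K ⟶ Sx.X₃.obj) : Sieve K where
  arrows A k := ∃ y : (zPre J).obj A ⟶ Sx.X₂.obj, y ≫ Sx.g.hom = (zPre J).map k ≫ s
  downward_closed := by
    rintro A B k ⟨y, hy⟩ l
    refine ⟨(zPre J).map l ≫ y, ?_⟩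
    rw [Category.assoc, hy, Functor.map_comp, Category.assoc]

include hSx in
lemma liftSieve_mem {K : Sheaf J (Type u)} (s : (zPre J).obj K ⟶ Sx.X₃.obj) :
    liftSieve Sx s ∈ epiTop J K := by
  intro U x
  have := hSx.epi_g
  have hls : Sheaf.IsLocallySurjective Sx.g :=
    (Sheaf.isLocallySurjective_iff_epi' _ Sx.g).2 inferInstance
  refine J.superset_covering ?_
    (Presheaf.imageSieve_mem J Sx.g.hom (s.app (op U) (CechY.gen (R := K.obj) x)))
  rintro V f ⟨y, hy⟩
  rw [secSieve_apply]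
  refine ⟨ofSh Sx.X₂ (secMap (F := Φ.obj Sx.X₂) y), ?_⟩
  exact lift_aux Sx.g s (K.obj.map f.op x) y
    (hy.trans (CechY.app_gen_map Sx.X₃.obj s f.op x).symm)

instance : (h J).Additive where
  map_add {G G' f g} := by
    ext T : 2
    refine AddCommGrpCat.hom_ext (AddMonoidHom.ext (fun (x : (zPre J).obj T.unop ⟶ G) => ?_))
    change x ≫ (f + g) = x ≫ f + x ≫ g
    rw [Preadditive.comp_add]

instance : PreservesLimitsOfSize.{0, 0} (h J) := (adj J).rightAdjoint_preservesLimits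

instance : (h J).PreservesMonomorphisms := Functor.preservesMonomorphisms_of_adjunction (adj J)

/-- The left exact sequence of presheaves on the topos attached to a short exact sequence of
abelian sheaves. -/
lemma hfg : (h J).map Sx.f.hom ≫ (h J).map Sx.g.hom = 0 := by
  have h0 : Sx.f.hom ≫ Sx.g.hom = 0 := congrArg (fun k => k.hom) Sx.zero
  rw [← Functor.map_comp, h0, Functor.map_zero]

include hSx in
lemma hex : (ShortComplex.mk ((h J).map Sx.f.hom) ((h J).map Sx.g.hom) (hfg Sx)).Exact := by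
  have := hSx.mono_f
  have hSp : (Sx.map (sheafToPresheaf J AddCommGrpCat.{u})).Exact :=
    hSx.exact.map_of_mono_of_preservesKernel (sheafToPresheaf J AddCommGrpCat.{u}) inferInstance
      inferInstance
  have hmono : Mono (Sx.map (sheafToPresheaf J AddCommGrpCat.{u})).f :=
    inferInstanceAs (Mono ((sheafToPresheaf J AddCommGrpCat.{u}).map Sx.f))
  exact hSp.map_of_mono_of_preservesKernel (h J) hmono inferInstance

include hSx in
lemma mono_hf : Mono ((h J).map Sx.f.hom) := by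
  have := hSx.mono_f
  have hmono : Mono Sx.f.hom :=
    inferInstanceAs (Mono ((sheafToPresheaf J AddCommGrpCat.{u}).map Sx.f))
  infer_instance

include hSx in
/-- Sections of `Sx.X₃` over a member of `S` lift to `Sx.X₂` if the first Čech cohomology groups of
`Sx.X₁` vanish. -/
theorem surjective_h (hS : Good S)
    (h1 : ∀ (K : Sheaf J (Type u)) (ι : Type u) (Y : ι → Over K), Cov S K ι Y →
      IsZero (CartanG.cechH (hSh Sx.X₁) Y 1))
    {K : Sheaf J (Type u)} (hK : K ∈ S) :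
    Function.Surjective (((h J).map Sx.g.hom).app (op K)) := by
  intro (s : (zPre J).obj K ⟶ Sx.X₃.obj)
  obtain ⟨ι, Y, hCov, hYT⟩ := exists_cov hS hK (liftSieve Sx s) (liftSieve_mem Sx hSx s)
  have hcov : CechLG.imageSieve (Over.forget K) (CechO.cechE Y) (CechO.η (CechO.cechE Y)) ∈
      epiTop J K :=
    (epiTop J).superset_covering (CechOLG.ofArrows_le_imageSieve Y)
      (ofArrows_mem_epiTop _ hCov.2.2.2)
  have := mono_hf Sx hSx
  refine CechLP.exists_section (Φ := Over.forget K) (E := CechO.cechE Y)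
    (η := CechO.η (CechO.cechE Y)) ((h J).map Sx.f.hom) ((h J).map Sx.g.hom) (hfg Sx)
    (hex Sx hSx) (CechO.sectionwiseCechLike Y) (isSheaf_h Sx.X₂ _ hcov)
    (isSheaf_h Sx.X₃ _ hcov).isSeparatedFor s ?_ (h1 K ι Y hCov)
  intro a
  rw [CechOLG.baseHom_eq]
  have hmem : (liftSieve Sx s).arrows (((CechO.cechE Y).obj (op ⦋0⦌)).obj a).hom := by
    rw [CechOLG.hom_eq]
    exact (liftSieve Sx s).downward_closed (hYT (a 0)) _
  exact hmem

end Step

/-- Cartan's criterion: Čech-acyclic sheaves are acyclic for the members of `S`. -/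
theorem ext_eq_zero (hS : Good S) (F : Sheaf J AddCommGrpCat.{u}) (hF : CechAcyc S F)
    {K₀ : Sheaf J (Type u)} (hK₀ : K₀ ∈ S) (n : ℕ) (x : Ext.{u} (zSh K₀) F (n + 1)) : x = 0 := by
  have hT : ∀ (G H : Sheaf J AddCommGrpCat.{u}) (g : G ⟶ H),
      Function.Surjective (((h J).map g.hom).app (op K₀)) →
      ∀ x : zSh K₀ ⟶ H, ∃ y : zSh K₀ ⟶ G, y ≫ g = x := by
    intro G H g hg x
    obtain ⟨(y' : (zPre J).obj K₀ ⟶ G.obj), hy'⟩ :=
      hg ((sheafificationAdjunction J AddCommGrpCat.{u}).homEquiv _ _ x)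
    have hy'' : y' ≫ g.hom =
        (sheafificationAdjunction J AddCommGrpCat.{u}).homEquiv _ _ x := hy'
    refine ⟨((sheafificationAdjunction J AddCommGrpCat.{u}).homEquiv _ _).symm y', ?_⟩
    apply ((sheafificationAdjunction J AddCommGrpCat.{u}).homEquiv _ _).injective
    rw [Adjunction.homEquiv_naturality_right, Equiv.apply_symm_apply]
    exact hy''
  have hstep : ∀ Sx : ShortComplex (Sheaf J AddCommGrpCat.{u}), Sx.ShortExact → Injective Sx.X₂ →
      CechAcyc S Sx.X₁ → (CechAcyc S Sx.X₃ ∧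
        ∀ x : zSh K₀ ⟶ Sx.X₃, ∃ y : zSh K₀ ⟶ Sx.X₂, y ≫ Sx.g = x) := by
    intro Sx hSx hI hP₁
    have hsurj : ∀ K ∈ S, Function.Surjective (((h J).map Sx.g.hom).app (op K)) :=
      fun K hK => surjective_h Sx hSx hS (fun K ι Y hCov => hP₁ K ι Y hCov 0) hK
    refine ⟨?_, fun x => hT _ _ Sx.g (hsurj K₀ hK₀) x⟩
    intro K ι Y hCov p
    have := CartanG.injective_obj Sx.X₂
    have := injective_h_obj (J := J) Sx.X₂.obj
    have := mono_hf Sx hSx
    exact CechLP.isZero_homology_X₃ (Φ := Over.forget K) (E := CechO.cechE Y)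
      ((h J).map Sx.f.hom) ((h J).map Sx.g.hom) (hfg Sx) (hex Sx hSx)
      (fun n i => hsurj _ (hCov.prod_mem hS n i)) (hP₁ K ι Y hCov)
      (fun p => CechO.isZero_cech_homology_succ_of_injective Y (hSh Sx.X₂) p) p
  exact CartanT.acyc_of_step (zSh K₀) (CechAcyc S) hstep n F hF x

end Groth.Agent.Lib.Helper28.TopCartan
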