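import Groth.Agent.Lib.Helper28.TopColim
import Groth.Agent.Lib.Helper28.ConstZero
import Groth.Agent.Lib.Helper28.RpushIso
import Mathlib.CategoryTheory.Sites.Adjunction

/-!
# Good classes of objects in a sheaf topos, and comparison of free abelian sheaves
-/

namespace Groth.Agent.Lib.Helper28.TopCoh

open CategoryTheory Limits Opposite Abelian
open Groth.Agent.Lib.Helper28 Groth.Agent.Lib.Helper45 TopH TopSh TopCartan TopColim

universe u

variable {C : Type u} [SmallCategory C] {J : GrothendieckTopology C}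

/-- The class of coherent objects. -/
def Coh (J : GrothendieckTopology C) : Set (Sheaf J (Type u)) := {K | ToposFin.IsCoherent K}

/-- In an algebraic topos, the coherent objects form a good class. -/
lemma good_coh (hE : ToposFin.IsAlgebraic J) : Good (Coh J) where
  qc K hK := hK.1
  iso K L hK e := ⟨isQC_of_iso e hK.1, isQS_of_iso e hK.2⟩
  gen := by
    obtain ⟨S, hqc, hgen, hpb, -⟩ := hE
    intro X
    obtain ⟨ι, F, π, hF, hπ⟩ := hgen X
    exact ⟨ι, F, π, fun i => isCoherent_of_mem_of_closedUnderPullbacks hqc hgen hpb (hF i), hπ⟩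
  pb := by
    intro K L M f g hK hL hM
    refine ⟨pullback f g, pullback.fst f g, pullback.snd f g, ⟨hM.2 K L f g hK.1 hL.1, ?_⟩,
      IsPullback.of_hasPullback f g⟩
    have hg : ToposFin.IsQSHom g := isQSHom_of_isQS_of_isAlgebraic hE g hL.2
    exact isQS_of_isQSHom_of_isQS (pullback.fst f g)
      (isQSHom_of_isPullback hg (IsPullback.of_hasPullback f g).flip) hK.2

/-- The closure of a class of objects under isomorphisms. -/
def isoClosure (S : Set (Sheaf J (Type u))) : Set (Sheaf J (Type u)) :=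
  {L | ∃ K ∈ S, Nonempty (K ≅ L)}

lemma subset_isoClosure (S : Set (Sheaf J (Type u))) : S ⊆ isoClosure S :=
  fun K hK => ⟨K, hK, ⟨Iso.refl K⟩⟩

lemma good_isoClosure {S : Set (Sheaf J (Type u))} (hqc : ∀ K ∈ S, ToposFin.IsQC K)
    (hgen : ToposFin.IsGenerating S) (hpb : ToposFin.ClosedUnderPullbacks S) :
    Good (isoClosure S) where
  qc := by
    rintro L ⟨K, hK, ⟨e⟩⟩
    exact isQC_of_iso e (hqc K hK)
  iso := by
    rintro L L' ⟨K, hK, ⟨e⟩⟩ e'
    exact ⟨K, hK, ⟨e ≪≫ e'⟩⟩
  gen := by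
    intro X
    obtain ⟨ι, F, π, hF, hπ⟩ := hgen X
    exact ⟨ι, F, π, fun i => subset_isoClosure S (hF i), hπ⟩
  pb := by
    rintro K' L' M' f g ⟨K, hK, ⟨eK⟩⟩ ⟨L, hL, ⟨eL⟩⟩ ⟨M, hM, ⟨eM⟩⟩
    obtain ⟨P, p, q, hP, sq⟩ := hpb (eK.hom ≫ f ≫ eM.inv) (eL.hom ≫ g ≫ eM.inv) hK hL hM
    refine ⟨P, p ≫ eK.hom, q ≫ eL.hom, subset_isoClosure S hP, ?_⟩
    refine IsPullback.of_iso sq (Iso.refl P) eK eL eM ?_ ?_ ?_ ?_
    · rw [Iso.refl_hom, Category.id_comp]
    · rw [Iso.refl_hom, Category.id_comp]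
    · rw [Category.assoc, Category.assoc, Iso.inv_hom_id, Category.comp_id]
    · rw [Category.assoc, Category.assoc, Iso.inv_hom_id, Category.comp_id]

/-- The free abelian sheaf on an object of the site is the free abelian sheaf on the associated
sheaf of sets. -/
noncomputable def freeIso (X : C) : (RpushIso.freeSheaf J).obj X ≅ zSh (ToposFin.eps J X) :=
  (asIso (toPresheafToSheafCompComposeAndSheafify J AddCommGrpCat.free.{u})).app (yoneda.obj X)

noncomputable instance uniqueTerminalSections (V : Cᵒᵖ) :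
    Unique ((⊤_ (Sheaf J (Type u))).obj.obj V) :=
  (Types.isTerminalEquivUnique _).toFun
    (IsTerminal.isTerminalObj (sheafToPresheaf J (Type u) ⋙ (evaluation Cᵒᵖ (Type u)).obj V) _
      terminalIsTerminal)

/-- The free abelian presheaf on the terminal sheaf of sets is the constant presheaf `ℤ`. -/
noncomputable def constPreIso : (zPre J).obj (⊤_ (Sheaf J (Type u))) ≅
    (Functor.const Cᵒᵖ).obj (AddCommGrpCat.of (ULift.{u} ℤ)) :=
  NatIso.ofComponents (fun V => ((FreeAbelianGroup.uniqueEquiv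
    ((⊤_ (Sheaf J (Type u))).obj.obj V)).trans AddEquiv.ulift.symm).toAddCommGrpIso) (by
    intro V V' f
    apply AddCommGrpCat.hom_ext
    apply FreeAbelianGroup.lift_ext
    intro x
    apply ULift.ext
    change FreeAbelianGroup.lift (fun _ => (1 : ℤ))
        (FreeAbelianGroup.map ((⊤_ (Sheaf J (Type u))).obj.map f) (FreeAbelianGroup.of x)) =
      FreeAbelianGroup.lift (fun _ => (1 : ℤ)) (FreeAbelianGroup.of x)
    rw [FreeAbelianGroup.map_of_apply, FreeAbelianGroup.lift_apply_of,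
      FreeAbelianGroup.lift_apply_of])

/-- The constant sheaf `ℤ` is the free abelian sheaf on the terminal sheaf of sets. -/
noncomputable def constIso : ConstZero.Zc J ≅ zSh (⊤_ (Sheaf J (Type u))) :=
  (presheafToSheaf J AddCommGrpCat.{u}).mapIso constPreIso.symm

section ExtIso

universe w v' u'

/-- `Ext^q(X, -) ≅ Ext^q(Y, -)` for isomorphic `X` and `Y`. -/
noncomputable def extFunctorObjIso {𝒜 : Type u'} [Category.{v'} 𝒜] [Abelian 𝒜] [HasExt.{w} 𝒜]
    {X Y : 𝒜} (e : X ≅ Y) (q : ℕ) : extFunctorObj.{w} X q ≅ extFunctorObj.{w} Y q :=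
  (extFunctor.{w} q).mapIso e.symm.op

end ExtIso

/-- Sheaf cohomology is `Ext` out of the free abelian sheaf on the terminal sheaf of sets. -/
noncomputable def functorHIso (q : ℕ) :
    (Sheaf.functorH J q : Sheaf J AddCommGrpCat.{u} ⥤ AddCommGrpCat.{u}) ≅
      extFunctorObj.{u} (zSh (⊤_ (Sheaf J (Type u)))) q :=
  ConstZero.functorHIso J q ≪≫ extFunctorObjIso (constIso (J := J)) q

end Groth.Agent.Lib.Helper28.TopCoh
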