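import Groth.Agent.Lib.Helper28.TopCartan
import Groth.Agent.Lib.Helper28.FiltCech
import Groth.Agent.Lib.Helper28.AbFilt
import Groth.Agent.Lib.Helper45.ToposFP3
import Groth.Agent.Lib.Helper28.ExtColim
import Mathlib.CategoryTheory.Sites.PreservesSheafification

/-!
# Sections of abelian sheaves over coherent objects of a topos commute with filtered colimits
-/

namespace Groth.Agent.Lib.Helper28.TopColim

open CategoryTheory Limits Opposite Abelian
open Groth.Agent.Lib.Helper28 Groth.Agent.Lib.Helper45 TopH TopSh TopCartan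

universe u

variable {C : Type u} [SmallCategory C] {J : GrothendieckTopology C}
  {I : Type u} [SmallCategory I] [IsFiltered I]

/-- The forgetful functor from abelian sheaves to sheaves of sets preserves filtered colimits. -/
instance preservesColimit_Φ (M : I ⥤ Sheaf J AddCommGrpCat.{u}) :
    PreservesColimit M (Φ (J := J)) := by
  let P : I ⥤ (Cᵒᵖ ⥤ AddCommGrpCat.{u}) := M ⋙ sheafToPresheaf J AddCommGrpCat.{u}
  let e : P ⋙ presheafToSheaf J AddCommGrpCat.{u} ≅ M :=
    Functor.associator _ _ _ ≪≫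
      Functor.isoWhiskerLeft M (asIso (sheafificationAdjunction J AddCommGrpCat.{u}).counit) ≪≫
      Functor.rightUnitor M
  have : PreservesColimit (P ⋙ presheafToSheaf J AddCommGrpCat.{u}) (Φ (J := J)) := by
    have h1 : PreservesColimit P
        ((Functor.whiskeringRight Cᵒᵖ _ _).obj (forget AddCommGrpCat.{u}) ⋙
          presheafToSheaf J (Type u)) := inferInstance
    have h2 : PreservesColimit P (presheafToSheaf J AddCommGrpCat.{u} ⋙ Φ (J := J)) :=
      preservesColimit_of_natIso P (sheafComposeNatIso J (forget AddCommGrpCat.{u})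
        (sheafificationAdjunction J _) (sheafificationAdjunction J _))
    refine preservesColimit_of_preserves_colimit_cocone
      (isColimitOfPreserves (presheafToSheaf J AddCommGrpCat.{u}) (colimit.isColimit P)) ?_
    exact isColimitOfPreserves (presheafToSheaf J AddCommGrpCat.{u} ⋙ Φ (J := J))
      (colimit.isColimit P)
  exact preservesColimit_of_iso_diagram (Φ (J := J)) e

section Compact

variable (M : I ⥤ Sheaf J AddCommGrpCat.{u}) {cM : Cocone M} (hcM : IsColimit cM)

/-- The diagram `i ↦ (T ↦ Hom(ℤ[T], M i))`. -/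
noncomputable abbrev hDiag : I ⥤ (Sheaf J (Type u))ᵒᵖ ⥤ AddCommGrpCat.{u} :=
  M ⋙ sheafToPresheaf J AddCommGrpCat.{u} ⋙ h J

/-- The cocone `(T ↦ Hom(ℤ[T], M i)) ⟶ (T ↦ Hom(ℤ[T], colim M))`. -/
noncomputable abbrev hCocone (cM : Cocone M) : Cocone (hDiag M) :=
  (sheafToPresheaf J AddCommGrpCat.{u} ⋙ h J).mapCocone cM

include hcM in
lemma exists_factor (hE : ToposFin.HasQCGenerators J) {T : Sheaf J (Type u)}
    (hT : ToposFin.IsCoherent T) (x : (zPre J).obj T ⟶ cM.pt.obj) :
    ∃ (k : I) (y : (zPre J).obj T ⟶ (M.obj k).obj), y ≫ (cM.ι.app k).hom = x := by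
  let hc' : IsColimit ((Φ (J := J)).mapCocone cM) := isColimitOfPreserves _ hcM
  let e : colimit (M ⋙ Φ (J := J)) ≅ (Φ (J := J)).obj cM.pt :=
    (colimit.isColimit _).coconePointUniqueUpToIso hc'
  have he : ∀ k, colimit.ι (M ⋙ Φ (J := J)) k ≫ e.hom = (Φ (J := J)).map (cM.ι.app k) :=
    fun k => (colimit.isColimit _).comp_coconePointUniqueUpToIso_hom hc' k
  obtain ⟨k, ψ, hψ⟩ := ToposFP.exists_factor_of_isCoherent (M ⋙ Φ (J := J)) hE hT
    (toSh cM.pt x ≫ e.inv)
  refine ⟨k, ofSh (M.obj k) ψ, ?_⟩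
  apply (shEquiv cM.pt T).injective
  change toSh cM.pt (ofSh (M.obj k) ψ ≫ (cM.ι.app k).hom) = toSh cM.pt x
  have e1 : toSh (M.obj k) (ofSh (M.obj k) ψ) = ψ := (shEquiv (M.obj k) T).right_inv ψ
  rw [toSh_naturality_right, e1, ← he k, ← Category.assoc, hψ, Category.assoc, e.inv_hom_id,
    Category.comp_id]

include hcM in
lemma exists_eq_zero {T : Sheaf J (Type u)} (hT : ToposFin.IsQC T) (k : I)
    (y : (zPre J).obj T ⟶ (M.obj k).obj) (hy : y ≫ (cM.ι.app k).hom = 0) :
    ∃ (k' : I) (g : k ⟶ k'), y ≫ (M.map g).hom = 0 := by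
  let hc' : IsColimit ((Φ (J := J)).mapCocone cM) := isColimitOfPreserves _ hcM
  let e : colimit (M ⋙ Φ (J := J)) ≅ (Φ (J := J)).obj cM.pt :=
    (colimit.isColimit _).coconePointUniqueUpToIso hc'
  have he : ∀ k, colimit.ι (M ⋙ Φ (J := J)) k ≫ e.hom = (Φ (J := J)).map (cM.ι.app k) :=
    fun k => (colimit.isColimit _).comp_coconePointUniqueUpToIso_hom hc' k
  have h0 : ∀ {F F' : Sheaf J AddCommGrpCat.{u}} (g : F ⟶ F'),
      toSh F (0 : (zPre J).obj T ⟶ F.obj) ≫ (Φ (J := J)).map g =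
        toSh F' (0 : (zPre J).obj T ⟶ F'.obj) := by
    intro F F' g
    rw [← toSh_naturality_right, zero_comp]
  have h1 : toSh (M.obj k) y ≫ colimit.ι (M ⋙ Φ (J := J)) k =
      toSh (M.obj k) (0 : (zPre J).obj T ⟶ (M.obj k).obj) ≫ colimit.ι (M ⋙ Φ (J := J)) k := by
    rw [← cancel_mono e.hom, Category.assoc, Category.assoc, he k, ← toSh_naturality_right, hy,
      h0]
  obtain ⟨k', g, hg⟩ := ToposFP.exists_eq_of_isQC (M ⋙ Φ (J := J)) hT _ _ h1
  refine ⟨k', g, ?_⟩
  apply (shEquiv (M.obj k') T).injective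
  change toSh (M.obj k') (y ≫ (M.map g).hom) = toSh (M.obj k') 0
  rw [toSh_naturality_right]
  exact hg.trans (h0 (M.map g))

include hcM in
/-- Sections over a coherent object commute with filtered colimits of abelian sheaves. -/
theorem nonempty_isColimit_evalCocone (hE : ToposFin.HasQCGenerators J) {T : Sheaf J (Type u)}
    (hT : ToposFin.IsCoherent T) :
    Nonempty (IsColimit (FiltColim.evalCocone (hDiag M) (hCocone M cM) (op T))) := by
  refine AbFilt.nonempty_isColimit _ ?_ ?_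
  · intro (x : (zPre J).obj T ⟶ cM.pt.obj)
    obtain ⟨k, y, hy⟩ := exists_factor M hcM hE hT x
    exact ⟨k, y, hy⟩
  · intro k (y : (zPre J).obj T ⟶ (M.obj k).obj) hy
    obtain ⟨k', g, hg⟩ := exists_eq_zero M hcM hT.1 k y hy
    exact ⟨k', g, hg⟩

end Compact

section Acyc

variable {S : Set (Sheaf J (Type u))}

lemma hasQCGenerators_of_good (hS : Good S) : ToposFin.HasQCGenerators J :=
  hasQCGenerators_of_isGenerating hS.qc hS.gen

lemma isCoherent_of_good (hS : Good S) {K : Sheaf J (Type u)} (hK : K ∈ S) : ToposFin.IsCoherent K :=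
  isCoherent_of_mem_of_closedUnderPullbacks hS.qc hS.gen hS.pb hK

/-- Injective sheaves are Čech-acyclic. -/
lemma cechAcyc_of_injective (F : Sheaf J AddCommGrpCat.{u}) [Injective F] : CechAcyc S F := by
  intro K ι Y hCov p
  have := CartanG.injective_obj F
  have := injective_h_obj (J := J) F.obj
  exact CechO.isZero_cech_homology_succ_of_injective Y (hSh F) p

/-- Filtered colimits of Čech-acyclic sheaves are Čech-acyclic. -/
theorem cechAcyc_colimit (hS : Good S) (M : I ⥤ Sheaf J AddCommGrpCat.{u}) {cM : Cocone M}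
    (hcM : IsColimit cM) (hM : ∀ i, CechAcyc S (M.obj i)) : CechAcyc S cM.pt := by
  intro K ι Y hCov p
  have : Finite ι := hCov.1
  have hc : ∀ (n : ℕ) (a : Fin (n + 1) → ι),
      IsColimit (FiltColim.evalCocone (hDiag M) (hCocone M cM) (op (∏ᶜ (Y ∘ a)).left)) :=
    fun n a => (nonempty_isColimit_evalCocone M hcM (hasQCGenerators_of_good hS)
      (isCoherent_of_good hS (hCov.prod_mem hS n a))).some
  exact FiltCech.isZero_homology_colimit Y hc p (fun k => hM k K ι Y hCov p)

/-- `Ext^{n+1}(ℤ[K], -)` vanishes on filtered colimits of Čech-acyclic sheaves. -/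
theorem ext_colimit_eq_zero (hS : Good S) (M : I ⥤ Sheaf J AddCommGrpCat.{u})
    (hM : ∀ i, CechAcyc S (M.obj i)) {K : Sheaf J (Type u)} (hK : K ∈ S) (n : ℕ)
    (x : Ext.{u} (zSh K) (colimit M) (n + 1)) : x = 0 :=
  ext_eq_zero hS _ (cechAcyc_colimit hS M (colimit.isColimit M) hM) hK n x

end Acyc

section ExtZero

universe v' u'

/-- Recognising when `Hom(X, -) = Ext^0(X, -)` preserves a filtered colimit. -/
lemma nonempty_isColimit_ext_zero {𝒜 : Type u'} [Category.{v'} 𝒜] [Abelian 𝒜] [HasExt.{u} 𝒜]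
    (X : 𝒜) (F : I ⥤ 𝒜) (c : Cocone F)
    (hsurj : ∀ f : X ⟶ c.pt, ∃ (k : I) (g : X ⟶ F.obj k), g ≫ c.ι.app k = f)
    (hinj : ∀ (k : I) (g : X ⟶ F.obj k), g ≫ c.ι.app k = 0 →
      ∃ (k' : I) (a : k ⟶ k'), g ≫ F.map a = 0) :
    Nonempty (IsColimit ((extFunctorObj.{u} X 0).mapCocone c)) := by
  refine AbFilt.nonempty_isColimit _ ?_ ?_
  · intro (x : Ext.{u} X c.pt 0)
    obtain ⟨f, rfl⟩ := (Ext.mk₀_bijective X c.pt).2 x
    obtain ⟨k, g, hg⟩ := hsurj f
    refine ⟨k, Ext.mk₀ g, ?_⟩
    change (Ext.mk₀ g).comp (Ext.mk₀ (c.ι.app k)) (add_zero 0) = _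
    rw [Ext.mk₀_comp_mk₀, hg]
  · intro k (y : Ext.{u} X (F.obj k) 0) hy
    obtain ⟨g, rfl⟩ := (Ext.mk₀_bijective X (F.obj k)).2 y
    have hy' : (Ext.mk₀ g).comp (Ext.mk₀ (c.ι.app k)) (add_zero 0) = 0 := hy
    rw [Ext.mk₀_comp_mk₀, Ext.mk₀_eq_zero_iff] at hy'
    obtain ⟨k', a, ha⟩ := hinj k g hy'
    refine ⟨k', a, ?_⟩
    change (Ext.mk₀ g).comp (Ext.mk₀ (F.map a)) (add_zero 0) = 0
    rw [Ext.mk₀_comp_mk₀, ha, Ext.mk₀_zero]

end ExtZero

section Ext

variable {S : Set (Sheaf J (Type u))}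

/-- `Hom(ℤ[K], -)` commutes with filtered colimits for coherent `K`. -/
lemma preservesColimit_ext_zero (hE : ToposFin.HasQCGenerators J) {K : Sheaf J (Type u)}
    (hK : ToposFin.IsCoherent K) (F : I ⥤ Sheaf J AddCommGrpCat.{u}) :
    PreservesColimit F (extFunctorObj.{u} (zSh K) 0) := by
  refine preservesColimit_of_preserves_colimit_cocone (colimit.isColimit F) ?_
  refine (nonempty_isColimit_ext_zero (zSh K) F _ ?_ ?_).some
  · intro f
    obtain ⟨k, y, hy⟩ := exists_factor F (colimit.isColimit F) hE hK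
      ((sheafificationAdjunction J AddCommGrpCat.{u}).homEquiv _ _ f)
    refine ⟨k, ((sheafificationAdjunction J AddCommGrpCat.{u}).homEquiv _ _).symm y, ?_⟩
    apply ((sheafificationAdjunction J AddCommGrpCat.{u}).homEquiv _ _).injective
    rw [Adjunction.homEquiv_naturality_right, Equiv.apply_symm_apply]
    exact hy
  · intro k g hg
    obtain ⟨k', a, ha⟩ := exists_eq_zero F (colimit.isColimit F) hK.1 k
      ((sheafificationAdjunction J AddCommGrpCat.{u}).homEquiv _ _ g) (by
        have := congrArg ((sheafificationAdjunction J AddCommGrpCat.{u}).homEquiv _ _) hg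
        rw [Adjunction.homEquiv_naturality_right] at this
        refine this.trans ?_
        exact ((sheafificationAdjunction J AddCommGrpCat.{u}).homAddEquiv _ _).map_zero)
    refine ⟨k', a, ?_⟩
    apply ((sheafificationAdjunction J AddCommGrpCat.{u}).homEquiv _ _).injective
    rw [Adjunction.homEquiv_naturality_right]
    refine ha.trans ?_
    exact (((sheafificationAdjunction J AddCommGrpCat.{u}).homAddEquiv _ _).map_zero).symm

/-- `Ext^n(ℤ[K], -)` commutes with filtered colimits for `K` in a good class of objects. -/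
theorem preservesColimit_ext (hS : Good S) {K : Sheaf J (Type u)} (hK : K ∈ S)
    (F : I ⥤ Sheaf J AddCommGrpCat.{u}) (n : ℕ) :
    PreservesColimit F (extFunctorObj.{u} (zSh K) n) :=
  ExtColim.preservesColimit_extFunctorObj (zSh K) I
    (fun F' => preservesColimit_ext_zero (hasQCGenerators_of_good hS) (isCoherent_of_good hS hK) F')
    (fun M _ n x => ext_colimit_eq_zero hS M (fun i => cechAcyc_of_injective _) hK n x) F n

end Ext

end Groth.Agent.Lib.Helper28.TopColim
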