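import Groth.Agent.Lib.Helper28.CechLG
import Groth.Agent.Lib.Helper45.CanSite1
import Mathlib.CategoryTheory.Preadditive.Yoneda.Basic
import Mathlib.CategoryTheory.Preadditive.Injective.Basic

/-!
# Sections of abelian presheaves over objects of the sheaf topos

For a small site `(C, J)` and an abelian presheaf `G` on `C`, the presheaf `h G` on the topos
`Sh J` sends a sheaf of sets `T` to `Hom(ℤ[T], G)` ("sections of `G` over `T`").  The functor `h`
is right adjoint to the restriction along `C ⥤ Sh J`, hence preserves injectives.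
-/

namespace Groth.Agent.Lib.Helper28.TopH

open CategoryTheory Limits Opposite
open Groth.Agent.Lib.Helper28 Groth.Agent.Lib.Helper45

universe u

variable {C : Type u} [SmallCategory C] (J : GrothendieckTopology C)

/-- The free abelian presheaf `ℤ[T]` on a sheaf of sets `T`. -/
noncomputable abbrev zPre : Sheaf J (Type u) ⥤ (Cᵒᵖ ⥤ AddCommGrpCat.{u}) :=
  sheafToPresheaf J (Type u) ⋙ CechQ.freeW

/-- `h G : T ↦ Hom(ℤ[T], G)`. -/
noncomputable abbrev h : (Cᵒᵖ ⥤ AddCommGrpCat.{u}) ⥤
    ((Sheaf J (Type u))ᵒᵖ ⥤ AddCommGrpCat.{u}) :=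
  preadditiveYoneda ⋙ (Functor.whiskeringLeft _ _ _).obj (zPre J).op

/-- Restriction of presheaves on the topos to the site. -/
noncomputable abbrev res : ((Sheaf J (Type u))ᵒᵖ ⥤ AddCommGrpCat.{u}) ⥤
    (Cᵒᵖ ⥤ AddCommGrpCat.{u}) :=
  (Functor.whiskeringLeft Cᵒᵖ (Sheaf J (Type u))ᵒᵖ AddCommGrpCat.{u}).obj (epsF J).op

variable {J}

lemma h_obj_map_apply (G : Cᵒᵖ ⥤ AddCommGrpCat.{u}) {T T' : (Sheaf J (Type u))ᵒᵖ} (f : T ⟶ T')
    (x : (zPre J).obj T.unop ⟶ G) :
    ((h J).obj G).map f x = (zPre J).map f.unop ≫ x := rfl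

lemma h_map_app_apply {G G' : Cᵒᵖ ⥤ AddCommGrpCat.{u}} (φ : G ⟶ G') (T : (Sheaf J (Type u))ᵒᵖ)
    (x : (zPre J).obj T.unop ⟶ G) :
    ((h J).map φ).app T x = x ≫ φ := rfl


section Adj

/-- The generator of `ℤ[eps V]` over `V` given by the universal section. -/
noncomputable def univGen (V : Cᵒᵖ) : ((zPre J).obj (ToposFin.eps J V.unop)).obj V :=
  CechY.gen (R := (ToposFin.eps J V.unop).obj) (etaSec J V.unop)

lemma zPre_map_app_gen {T T' : Sheaf J (Type u)} (φ : T ⟶ T') {V : Cᵒᵖ} (t : T.obj.obj V) :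
    ((zPre J).map φ).app V (CechY.gen (R := T.obj) t) =
      CechY.gen (R := T'.obj) (φ.hom.app V t) :=
  CechY.freeW_map_app_gen _ t

lemma zPre_obj_map_gen (T : Sheaf J (Type u)) {V V' : Cᵒᵖ} (f : V ⟶ V') (t : T.obj.obj V) :
    ((zPre J).obj T).map f (CechY.gen (R := T.obj) t) = CechY.gen (R := T.obj) (T.obj.map f t) :=
  CechY.freeW_obj_map_gen f t

lemma secMap_etaSec (V : C) : secMap (etaSec J V) = 𝟙 (ToposFin.eps J V) :=
  secMap_app_etaSec_eq (𝟙 (ToposFin.eps J V))

variable {M M' : (Sheaf J (Type u))ᵒᵖ ⥤ AddCommGrpCat.{u}} {G G' : Cᵒᵖ ⥤ AddCommGrpCat.{u}}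

lemma key_aux {V V' : Cᵒᵖ} (f : V ⟶ V') (x : (zPre J).obj (ToposFin.eps J V.unop) ⟶ G)
    (x' : (zPre J).obj (ToposFin.eps J V'.unop) ⟶ G)
    (h1 : x' = (zPre J).map ((epsF J).map f.unop) ≫ x) :
    x'.app V' (univGen V') = G.map f (x.app V (univGen V)) := by
  have h2 : x.app V' (((zPre J).obj (ToposFin.eps J V.unop)).map f (univGen V)) =
      G.map f (x.app V (univGen V)) := NatTrans.naturality_apply x f (univGen V)
  rw [← h2, h1, NatTrans.comp_app, ConcreteCategory.comp_apply]
  congr 1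
  rw [univGen, univGen, zPre_map_app_gen, zPre_obj_map_gen, epsF_map]
  congr 1
  exact epsMap_app_etaSec f.unop

lemma toRes_aux (z : M ⟶ (h J).obj G) {V V' : Cᵒᵖ} (f : V ⟶ V')
    (m : M.obj (op (ToposFin.eps J V.unop))) :
    (z.app (op (ToposFin.eps J V'.unop)) (M.map ((epsF J).map f.unop).op m)).app V'
      (univGen V') = G.map f ((z.app (op (ToposFin.eps J V.unop)) m).app V (univGen V)) :=
  key_aux f (z.app (op (ToposFin.eps J V.unop)) m)
    (z.app (op (ToposFin.eps J V'.unop)) (M.map ((epsF J).map f.unop).op m))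
    (NatTrans.naturality_apply z ((epsF J).map f.unop).op m)

/-- From a morphism `M ⟶ h G` to a morphism `res M ⟶ G`. -/
noncomputable def toRes (z : M ⟶ (h J).obj G) : (res J).obj M ⟶ G where
  app V := AddCommGrpCat.ofHom (AddMonoidHom.mk'
    (fun m : M.obj (op (ToposFin.eps J V.unop)) =>
      (z.app (op (ToposFin.eps J V.unop)) m).app V (univGen V))
    (fun m m' => by
      have e : z.app (op (ToposFin.eps J V.unop)) (m + m') =
          z.app (op (ToposFin.eps J V.unop)) m + z.app (op (ToposFin.eps J V.unop)) m' :=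
        map_add _ m m'
      rw [e]
      rfl))
  naturality V V' f := by
    refine AddCommGrpCat.hom_ext (AddMonoidHom.ext
      (fun (m : M.obj (op (ToposFin.eps J V.unop))) => ?_))
    exact toRes_aux z f m

lemma toRes_app_apply (z : M ⟶ (h J).obj G) (V : Cᵒᵖ) (m : M.obj (op (ToposFin.eps J V.unop))) :
    (toRes z).app V m = (z.app (op (ToposFin.eps J V.unop)) m).app V (univGen V) := rfl

lemma ofResFun_aux (w : (res J).obj M ⟶ G) (T : (Sheaf J (Type u))ᵒᵖ) (m : M.obj T)
    {V V' : Cᵒᵖ} (f : V ⟶ V') (t : T.unop.obj.obj V) :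
    w.app V' (M.map (secMap (V := V'.unop) (T.unop.obj.map f t)).op m) =
      G.map f (w.app V (M.map (secMap (V := V.unop) t).op m)) := by
  have h1 : w.app V' (((res J).obj M).map f (M.map (secMap (V := V.unop) t).op m)) =
      G.map f (w.app V (M.map (secMap (V := V.unop) t).op m)) :=
    NatTrans.naturality_apply w f (M.map (secMap (V := V.unop) t).op m)
  rw [← h1]
  congr 1
  change _ = M.map ((epsF J).map f.unop).op (M.map (secMap (V := V.unop) t).op m)
  rw [← ConcreteCategory.comp_apply, ← Functor.map_comp, ← op_comp, epsF_map,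
    epsMap_comp_secMap]
  rfl

/-- The morphism `ℤ[T] ⟶ G` attached to `w : res M ⟶ G` and `m ∈ M(T)`. -/
noncomputable def ofResFun (w : (res J).obj M ⟶ G) (T : (Sheaf J (Type u))ᵒᵖ) (m : M.obj T) :
    (zPre J).obj T.unop ⟶ G :=
  CechY.liftGen G (R := T.unop.obj)
    (fun V t => w.app V (M.map (secMap (V := V.unop) t).op m))
    (fun f t => ofResFun_aux w T m f t)

lemma ofResFun_app_gen (w : (res J).obj M ⟶ G) (T : (Sheaf J (Type u))ᵒᵖ) (m : M.obj T)
    {V : Cᵒᵖ} (t : T.unop.obj.obj V) :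
    (ofResFun w T m).app V (CechY.gen (R := T.unop.obj) t) =
      w.app V (M.map (secMap (V := V.unop) t).op m) :=
  CechY.liftGen_app_gen G _ _ t

lemma ofResFun_add (w : (res J).obj M ⟶ G) (T : (Sheaf J (Type u))ᵒᵖ) (m m' : M.obj T) :
    ofResFun w T (m + m') = ofResFun w T m + ofResFun w T m' := by
  apply CechY.hom_ext_gen
  intro V t
  rw [NatTrans.app_add]
  change _ = (ofResFun w T m).app V (CechY.gen t) + (ofResFun w T m').app V (CechY.gen t)
  rw [ofResFun_app_gen, ofResFun_app_gen, ofResFun_app_gen, map_add, map_add]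

lemma ofResFun_naturality (w : (res J).obj M ⟶ G) {T T' : (Sheaf J (Type u))ᵒᵖ} (φ : T ⟶ T')
    (m : M.obj T) : ofResFun w T' (M.map φ m) = (zPre J).map φ.unop ≫ ofResFun w T m := by
  apply CechY.hom_ext_gen
  intro V t
  rw [ofResFun_app_gen, NatTrans.comp_app, ConcreteCategory.comp_apply, zPre_map_app_gen,
    ofResFun_app_gen]
  congr 1
  rw [← ConcreteCategory.comp_apply, ← Functor.map_comp]
  have e : φ ≫ (secMap (V := V.unop) t).op =
      (secMap (V := V.unop) (φ.unop.hom.app V t)).op := by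
    rw [← secMap_comp]
    rfl
  rw [e]

/-- From a morphism `res M ⟶ G` to a morphism `M ⟶ h G`. -/
noncomputable def ofRes (w : (res J).obj M ⟶ G) : M ⟶ (h J).obj G where
  app T := AddCommGrpCat.ofHom (AddMonoidHom.mk' (fun m : M.obj T => ofResFun w T m)
    (fun m m' => ofResFun_add w T m m'))
  naturality T T' φ := by
    refine AddCommGrpCat.hom_ext (AddMonoidHom.ext (fun (m : M.obj T) => ?_))
    exact ofResFun_naturality w φ m

lemma ofRes_app_apply (w : (res J).obj M ⟶ G) (T : (Sheaf J (Type u))ᵒᵖ) (m : M.obj T) :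
    (ofRes w).app T m = ofResFun w T m := rfl

lemma toRes_ofRes (w : (res J).obj M ⟶ G) : toRes (ofRes w) = w := by
  ext V : 2
  refine AddCommGrpCat.hom_ext (AddMonoidHom.ext
    (fun (m : M.obj (op (ToposFin.eps J V.unop))) => ?_))
  change (toRes (ofRes w)).app V m = w.app V m
  rw [toRes_app_apply, ofRes_app_apply, univGen, ofResFun_app_gen]
  congr 1
  rw [secMap_etaSec]
  change M.map (𝟙 _) m = m
  rw [CategoryTheory.Functor.map_id]
  rfl

lemma ofResFun_eq (w : (res J).obj M ⟶ G) (T : (Sheaf J (Type u))ᵒᵖ) (m : M.obj T)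
    (x : (zPre J).obj T.unop ⟶ G)
    (hx : ∀ (V : Cᵒᵖ) (t : T.unop.obj.obj V),
      w.app V (M.map (secMap (V := V.unop) t).op m) = x.app V (CechY.gen (R := T.unop.obj) t)) :
    ofResFun w T m = x := by
  apply CechY.hom_ext_gen
  intro V t
  rw [ofResFun_app_gen, hx]

lemma key_aux' {T : Sheaf J (Type u)} {V : Cᵒᵖ} (t : T.obj.obj V) (x : (zPre J).obj T ⟶ G)
    (x' : (zPre J).obj (ToposFin.eps J V.unop) ⟶ G)
    (h1 : x' = (zPre J).map (secMap (V := V.unop) t) ≫ x) :
    x'.app V (univGen V) = x.app V (CechY.gen (R := T.obj) t) := by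
  rw [h1, NatTrans.comp_app, ConcreteCategory.comp_apply, univGen, zPre_map_app_gen]
  congr 2
  exact secMap_app_etaSec t

lemma ofRes_toRes (z : M ⟶ (h J).obj G) : ofRes (toRes z) = z := by
  ext T : 2
  refine AddCommGrpCat.hom_ext (AddMonoidHom.ext (fun (m : M.obj T) => ?_))
  refine ofResFun_eq (toRes z) T m (z.app T m) (fun V t => ?_)
  exact key_aux' t (z.app T m)
    (z.app (op (ToposFin.eps J V.unop)) (M.map (secMap (V := V.unop) t).op m))
    (NatTrans.naturality_apply z (secMap (V := V.unop) t).op m)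

/-- The bijection `Hom(res M, G) ≃ Hom(M, h G)`. -/
noncomputable def homEquiv (M : (Sheaf J (Type u))ᵒᵖ ⥤ AddCommGrpCat.{u})
    (G : Cᵒᵖ ⥤ AddCommGrpCat.{u}) : ((res J).obj M ⟶ G) ≃ (M ⟶ (h J).obj G) where
  toFun := ofRes
  invFun := toRes
  left_inv := toRes_ofRes
  right_inv := ofRes_toRes

variable (J) in
/-- Restriction to the site is left adjoint to `h`. -/
noncomputable def adj : res J ⊣ h J :=
  Adjunction.mkOfHomEquiv
    { homEquiv := homEquiv
      homEquiv_naturality_left_symm := by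
        intro M' M G f g
        rfl
      homEquiv_naturality_right := by
        intro M G G' w g
        ext T : 2
        refine AddCommGrpCat.hom_ext (AddMonoidHom.ext (fun (m : M.obj T) => ?_))
        change ofResFun (w ≫ g) T m = ofResFun w T m ≫ g
        apply CechY.hom_ext_gen
        intro V t
        rw [ofResFun_app_gen]
        change _ = g.app V ((ofResFun w T m).app V (CechY.gen t))
        rw [ofResFun_app_gen]
        rfl }

instance : (res J).PreservesMonomorphisms := by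
  have : PreservesLimitsOfSize.{0, 0} (res J) := by
    unfold res
    infer_instance
  infer_instance

/-- `h` preserves injective objects. -/
lemma injective_h_obj (G : Cᵒᵖ ⥤ AddCommGrpCat.{u}) [Injective G] : Injective ((h J).obj G) :=
  Injective.injective_of_adjoint (adj J) G

end Adj

end Groth.Agent.Lib.Helper28.TopH
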