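import Groth.Agent.Lib.Helper28.TopH
import Groth.Agent.Lib.Helper45.CanTop2
import Mathlib.CategoryTheory.Sites.Whiskering

/-!
# Sections of abelian sheaves over objects of the sheaf topos are morphisms of sheaves of sets

For an abelian sheaf `F`, `Hom(ℤ[T], F) ≃ Hom_{Sh}(T, F)` (with `F` regarded as a sheaf of sets),
naturally in `T` and `F`; hence `T ↦ Hom(ℤ[T], F)` is a sheaf for the topology of jointly
epimorphic sieves on the topos.
-/

namespace Groth.Agent.Lib.Helper28.TopSh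

open CategoryTheory Limits Opposite
open Groth.Agent.Lib.Helper28 Groth.Agent.Lib.Helper45 TopH

universe u

variable {C : Type u} [SmallCategory C] {J : GrothendieckTopology C}

/-- The underlying sheaf of sets of an abelian sheaf. -/
noncomputable abbrev Φ : Sheaf J AddCommGrpCat.{u} ⥤ Sheaf J (Type u) :=
  sheafCompose J (forget AddCommGrpCat.{u})

variable (F : Sheaf J AddCommGrpCat.{u})

/-- From `ℤ[T] ⟶ F` to `T ⟶ F`. -/
noncomputable def toSh {T : Sheaf J (Type u)} (x : (zPre J).obj T ⟶ F.obj) : T ⟶ Φ.obj F :=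
  ObjectProperty.homMk
    { app := fun V => ↾(fun t : T.obj.obj V => x.app V (CechY.gen (R := T.obj) t))
      naturality := by
        intro V V' f
        ext t
        exact CechY.app_gen_map F.obj x f t }

lemma toSh_hom_app {T : Sheaf J (Type u)} (x : (zPre J).obj T ⟶ F.obj) (V : Cᵒᵖ)
    (t : T.obj.obj V) : (toSh F x).hom.app V t = x.app V (CechY.gen (R := T.obj) t) := rfl

lemma ofSh_aux {T : Sheaf J (Type u)} (ψ : T ⟶ Φ.obj F) {V V' : Cᵒᵖ} (f : V ⟶ V')
    (t : T.obj.obj V) :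
    ψ.hom.app V' (T.obj.map f t) = F.obj.map f (ψ.hom.app V t) :=
  ConcreteCategory.congr_hom (ψ.hom.naturality f) t

/-- From `T ⟶ F` to `ℤ[T] ⟶ F`. -/
noncomputable def ofSh {T : Sheaf J (Type u)} (ψ : T ⟶ Φ.obj F) : (zPre J).obj T ⟶ F.obj :=
  CechY.liftGen F.obj (R := T.obj) (fun V t => ψ.hom.app V t)
    (fun f t => ofSh_aux F ψ f t)

lemma ofSh_app_gen {T : Sheaf J (Type u)} (ψ : T ⟶ Φ.obj F) (V : Cᵒᵖ) (t : T.obj.obj V) :
    (ofSh F ψ).app V (CechY.gen (R := T.obj) t) = ψ.hom.app V t :=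
  CechY.liftGen_app_gen F.obj _ _ t

/-- `Hom(ℤ[T], F) ≃ Hom_{Sh}(T, F)`. -/
noncomputable def shEquiv (T : Sheaf J (Type u)) : ((zPre J).obj T ⟶ F.obj) ≃ (T ⟶ Φ.obj F) where
  toFun := toSh F
  invFun := ofSh F
  left_inv x := by
    apply CechY.hom_ext_gen
    intro V t
    rw [ofSh_app_gen, toSh_hom_app]
  right_inv ψ := by
    apply ObjectProperty.hom_ext
    ext V t
    exact ofSh_app_gen F ψ V t

lemma toSh_naturality_left {T T' : Sheaf J (Type u)} (φ : T' ⟶ T) (x : (zPre J).obj T ⟶ F.obj) :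
    toSh F ((zPre J).map φ ≫ x) = φ ≫ toSh F x := by
  apply ObjectProperty.hom_ext
  ext V t
  change ((zPre J).map φ ≫ x).app V (CechY.gen (R := T'.obj) t) =
    x.app V (CechY.gen (R := T.obj) (φ.hom.app V t))
  rw [NatTrans.comp_app, ConcreteCategory.comp_apply, zPre_map_app_gen]

variable {F} in
lemma toSh_naturality_right {F' : Sheaf J AddCommGrpCat.{u}} (g : F ⟶ F') {T : Sheaf J (Type u)}
    (x : (zPre J).obj T ⟶ F.obj) : toSh F' (x ≫ g.hom) = toSh F x ≫ Φ.map g := by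
  apply ObjectProperty.hom_ext
  ext V t
  rfl

/-- `T ↦ Hom(ℤ[T], F)` as a presheaf of sets is representable. -/
noncomputable def yonedaIso :
    yoneda.obj (Φ.obj F) ≅ (h J).obj F.obj ⋙ forget AddCommGrpCat.{u} :=
  NatIso.ofComponents (fun T => Equiv.toIso (shEquiv F T.unop).symm) (by
    intro T T' φ
    ext (ψ : T.unop ⟶ Φ.obj F)
    change ofSh F (φ.unop ≫ ψ) = (zPre J).map φ.unop ≫ ofSh F ψ
    apply (shEquiv F T'.unop).injective
    change toSh F (ofSh F (φ.unop ≫ ψ)) = toSh F ((zPre J).map φ.unop ≫ ofSh F ψ)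
    rw [toSh_naturality_left]
    have e1 : toSh F (ofSh F (φ.unop ≫ ψ)) = φ.unop ≫ ψ := (shEquiv F T'.unop).right_inv _
    have e2 : toSh F (ofSh F ψ) = ψ := (shEquiv F T.unop).right_inv _
    rw [e1, e2])

/-- `T ↦ Hom(ℤ[T], F)` is a sheaf for the topology of jointly epimorphic sieves. -/
theorem isSheaf_h : Presieve.IsSheaf (epiTop J) ((h J).obj F.obj ⋙ forget AddCommGrpCat.{u}) :=
  Presieve.isSheaf_iso (epiTop J) (yonedaIso F) (isSheaf_yoneda_epiTop (Φ.obj F))

end Groth.Agent.Lib.Helper28.TopSh
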