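import Groth.Agent.Lib.Helper28.TopCoh
import Groth.Agent.Lib.Helper28.ExtCoker

/-!
# Compactness of free abelian sheaves on coherent objects, and cohomology with supports
-/

namespace Groth.Agent.Lib.Helper28.TopSupp

open CategoryTheory Limits Opposite Abelian
open Groth.Agent.Lib.Helper28 Groth.Agent.Lib.Helper45 TopH TopSh TopCartan TopColim

universe u

variable {C : Type u} [SmallCategory C] {J : GrothendieckTopology C}
  {I : Type u} [SmallCategory I] [IsFiltered I]

/-- The free abelian sheaf on a coherent object is compact. -/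
lemma compact_zSh (hE : ToposFin.HasQCGenerators J) {K : Sheaf J (Type u)}
    (hK : ToposFin.IsCoherent K) : ExtCoker.Compact I (zSh K) where
  surj F f := by
    obtain ⟨k, y, hy⟩ := exists_factor F (colimit.isColimit F) hE hK
      ((sheafificationAdjunction J AddCommGrpCat.{u}).homEquiv _ _ f)
    refine ⟨k, ((sheafificationAdjunction J AddCommGrpCat.{u}).homEquiv _ _).symm y, ?_⟩
    apply ((sheafificationAdjunction J AddCommGrpCat.{u}).homEquiv _ _).injective
    rw [Adjunction.homEquiv_naturality_right, Equiv.apply_symm_apply]
    exact hy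
  inj F k g hg := by
    obtain ⟨k', a, ha⟩ := exists_eq_zero F (colimit.isColimit F) hK.1 k
      ((sheafificationAdjunction J AddCommGrpCat.{u}).homEquiv _ _ g) (by
        have := congrArg ((sheafificationAdjunction J AddCommGrpCat.{u}).homEquiv _ _) hg
        rw [Adjunction.homEquiv_naturality_right] at this
        refine this.trans ?_
        exact ((sheafificationAdjunction J AddCommGrpCat.{u}).homAddEquiv _ _).map_zero)
    refine ⟨k', a, ?_⟩
    apply ((sheafificationAdjunction J AddCommGrpCat.{u}).homEquiv _ _).injective
    rw [Adjunction.homEquiv_naturality_right]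
    refine ha.trans ?_
    exact (((sheafificationAdjunction J AddCommGrpCat.{u}).homAddEquiv _ _).map_zero).symm

lemma van_zSh {S : Set (Sheaf J (Type u))} (hS : Good S) {K : Sheaf J (Type u)} (hK : K ∈ S) :
    ExtCoker.Van I (zSh K) :=
  fun M _ n x => ext_colimit_eq_zero hS M (fun _ => cechAcyc_of_injective _) hK n x

/-- The free abelian sheaf functor preserves monomorphisms. -/
instance mono_freeAb_map {U V : Sheaf J (Type u)} (f : U ⟶ V) [Mono f] :
    Mono ((ToposFin.freeAb J).map f) := by
  have h1 : Mono f.hom := inferInstanceAs (Mono ((sheafToPresheaf J (Type u)).map f))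
  have h2 : ∀ W, Mono (f.hom.app W) := fun W => (NatTrans.mono_iff_mono_app f.hom).1 h1 W
  have h3 : Mono (Functor.whiskerRight f.hom AddCommGrpCat.free.{u}) := by
    have : ∀ W, Mono ((Functor.whiskerRight f.hom AddCommGrpCat.free.{u}).app W) := fun W =>
      inferInstanceAs (Mono (AddCommGrpCat.free.{u}.map (f.hom.app W)))
    exact NatTrans.mono_of_mono_app _
  exact inferInstanceAs (Mono ((presheafToSheaf J AddCommGrpCat.{u}).map
    (Functor.whiskerRight f.hom AddCommGrpCat.free.{u})))

/-- Cohomology with supports in the complement of a coherent open of a coherent topos commutes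
with filtered colimits. -/
theorem preservesColimit_HZ (hE : ToposFin.IsAlgebraic J)
    (hT : ToposFin.IsCoherent (⊤_ (Sheaf J (Type u)))) (U : Sheaf J (Type u))
    [Mono (terminal.from U)] (hU : ToposFin.IsCoherent U) (F : I ⥤ Sheaf J AddCommGrpCat.{u})
    (q : ℕ) : PreservesColimit F (extFunctorObj.{u} (ToposFin.quotZ U) q) := by
  have hS := TopCoh.good_coh hE
  have hQC := hasQCGenerators_of_good hS
  exact ExtCoker.preservesColimit_ext_cokernel ((ToposFin.freeAb J).map (terminal.from U))
    (compact_zSh hQC hU) (compact_zSh hQC hT) (van_zSh hS hU) (van_zSh hS hT) F q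

end Groth.Agent.Lib.Helper28.TopSupp
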