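import Groth.Agent.S6161
import Groth.Agent.Lib.Helper28.CechR
import Mathlib.CategoryTheory.Sites.Adjunction
import Mathlib.CategoryTheory.Sites.EpiMono
import Mathlib.CategoryTheory.Limits.Types.Pullbacks
import Mathlib.CategoryTheory.Abelian.GrothendieckCategory.HasExt
import Mathlib.CategoryTheory.Abelian.GrothendieckCategory.EnoughInjectives
import Mathlib.Algebra.Homology.DerivedCategory.Ext.EnoughInjectives

namespace Groth.Agent.Lib.Helper28.TotAcyc

open CategoryTheory Limits Opposite Simplicial AlgebraicTopology Abelian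
open Groth.Agent.Lib.Helper28

universe u

variable {C : Type u} [SmallCategory C] (J : GrothendieckTopology C)

/-- The free abelian sheaf functor on sheaves of sets. -/
noncomputable abbrev G : Sheaf J (Type u) ⥤ Sheaf J AddCommGrpCat.{u} :=
  Sheaf.composeAndSheafify J AddCommGrpCat.free.{u}

/-- The underlying sheaf of sets of an abelian sheaf. -/
noncomputable abbrev Uf : Sheaf J AddCommGrpCat.{u} ⥤ Sheaf J (Type u) :=
  sheafCompose J (forget AddCommGrpCat.{u})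

/-- The free-forgetful adjunction for sheaves. -/
noncomputable def adjG : G J ⊣ Uf J := Sheaf.adjunction J AddCommGrpCat.adj

lemma epi_pullback_fst {K Q I : Sheaf J (Type u)} (s : K ⟶ Q) (g : I ⟶ Q) [Epi g] :
    Epi (pullback.fst s g) := by
  rw [← Sheaf.isLocallySurjective_iff_epi]
  have hg : Sheaf.IsLocallySurjective g := (Sheaf.isLocallySurjective_iff_epi g).2 inferInstance
  constructor
  intro U k
  refine J.superset_covering ?_ (Presheaf.imageSieve_mem J g.hom (s.hom.app _ k))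
  rintro V i ⟨t, ht⟩
  have hpb := (IsPullback.of_hasPullback s g).map
    (sheafToPresheaf J (Type u) ⋙ (evaluation Cᵒᵖ (Type u)).obj (op V))
  obtain ⟨c, hc1, hc2⟩ := Types.exists_of_isPullback hpb (K.obj.map i.op k) t (by
    refine Eq.trans ?_ ht.symm
    exact NatTrans.naturality_apply s.hom i.op k)
  exact ⟨c, hc1⟩


lemma epi_Uf_map {A B : Sheaf J AddCommGrpCat.{u}} (g : A ⟶ B) [Epi g] : Epi ((Uf J).map g) := by
  have : Sheaf.IsLocallySurjective g := (Sheaf.isLocallySurjective_iff_epi' _ g).2 inferInstance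
  exact (Sheaf.isLocallySurjective_iff_epi _).1 inferInstance

variable {J}

section

variable {K' K : Sheaf J (Type u)} (f : K' ⟶ K)

/-- The augmented simplicial free abelian sheaf attached to `f`. -/
noncomputable abbrev X : SimplicialObject.Augmented (Sheaf J AddCommGrpCat.{u}) :=
  ((SimplicialObject.Augmented.whiskering _ _).obj (G J)).obj (Arrow.mk f).augmentedCechNerve

/-- The chain complex of free abelian sheaves attached to `f`. -/
noncomputable abbrev L : ChainComplex (Sheaf J AddCommGrpCat.{u}) ℕ :=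
  (alternatingFaceMapComplex _).obj ((Arrow.mk f).cechNerve ⋙ G J)

/-- The augmentation `ℤ[K'_0] ⟶ ℤ[K]`. -/
noncomputable abbrev ε₀ : (L f).X 0 ⟶ (G J).obj K := (X f).hom.app (op ⦋0⦌)

lemma ε₀_eq : ε₀ f = (G J).map ((Arrow.mk f).augmentedCechNerve.hom.app (op ⦋0⦌)) :=
  Category.comp_id _

lemma d_comp_ε₀ : (L f).d 1 0 ≫ ε₀ f = 0 := CechH.d_comp_ε (X f)

lemma epi_ε₀ [Epi f] : Epi (ε₀ f) := by
  have hQ : QuasiIso (AlternatingFaceMapComplex.ε.app (X f)) := Groth.Agent.S6161.result J f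
  exact (CechH.exact_and_epi_of_quasiIso (X f)).2

lemma exact_ε₀ [Epi f] : (ShortComplex.mk _ _ (d_comp_ε₀ f)).Exact := by
  have hQ : QuasiIso (AlternatingFaceMapComplex.ε.app (X f)) := Groth.Agent.S6161.result J f
  exact (CechH.exact_and_epi_of_quasiIso (X f)).1

/-- Exactness of the Čech complex of `F` for `f` in degree `q + 1`. -/
def CechAcyclicAt (F : Sheaf J AddCommGrpCat.{u}) (q : ℕ) : Prop :=
  ∀ x : (L f).X (q + 1) ⟶ F, (L f).d (q + 2) (q + 1) ≫ x = 0 →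
    ∃ y : (L f).X q ⟶ F, (L f).d (q + 1) q ≫ y = x

end

/-- The Čech complexes of `F` for all epimorphisms of sheaves of sets are exact in positive
degrees. -/
def CechAcyclic (F : Sheaf J AddCommGrpCat.{u}) : Prop :=
  ∀ (K' K : Sheaf J (Type u)) (f : K' ⟶ K), Epi f → ∀ q : ℕ, CechAcyclicAt f F q


/-- Sections of the quotient lift to the middle term, if the first Čech cohomology groups of the
kernel vanish. -/
lemma exists_lift {S : ShortComplex (Sheaf J AddCommGrpCat.{u})} (hS : S.ShortExact)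
    (h1 : ∀ (K' K : Sheaf J (Type u)) (f : K' ⟶ K), Epi f → CechAcyclicAt f S.X₁ 0)
    (K : Sheaf J (Type u)) (s : (G J).obj K ⟶ S.X₃) : ∃ t : (G J).obj K ⟶ S.X₂, t ≫ S.g = s := by
  have := hS.mono_f
  have := hS.epi_g
  have : Epi ((Uf J).map S.g) := epi_Uf_map J S.g
  let s₀ : K ⟶ (Uf J).obj S.X₃ := (adjG J).homEquiv K S.X₃ s
  let K' := pullback s₀ ((Uf J).map S.g)
  let f : K' ⟶ K := pullback.fst s₀ ((Uf J).map S.g)
  have : Epi f := epi_pullback_fst J s₀ ((Uf J).map S.g)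
  let p₂ : K' ⟶ (Uf J).obj S.X₂ := pullback.snd s₀ ((Uf J).map S.g)
  let t'' : (G J).obj K' ⟶ S.X₂ := ((adjG J).homEquiv K' S.X₂).symm p₂
  have ht'' : t'' ≫ S.g = (G J).map f ≫ s := by
    have e1 : t'' ≫ S.g = ((adjG J).homEquiv K' S.X₃).symm (p₂ ≫ (Uf J).map S.g) :=
      ((adjG J).homEquiv_naturality_right_symm p₂ S.g).symm
    have e2 : (G J).map f ≫ s = ((adjG J).homEquiv K' S.X₃).symm (f ≫ s₀) := by
      rw [(adjG J).homEquiv_naturality_left_symm, Equiv.symm_apply_apply]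
    rw [e1, e2, pullback.condition]
  -- the degree zero cochain
  obtain ⟨x₀, hx₀⟩ : ∃ x₀ : (L f).X 0 ⟶ S.X₂, x₀ ≫ S.g = ε₀ f ≫ s := by
    refine ⟨(G J).map (WidePullback.π (fun _ : Fin (0 + 1) => (Arrow.mk f).hom) 0) ≫ t'', ?_⟩
    rw [Category.assoc, ht'', ← Category.assoc, ← Functor.map_comp, ε₀_eq]
    congr 2
    exact WidePullback.π_arrow _ _
  have h0 : ((L f).d 1 0 ≫ x₀) ≫ S.g = 0 := by
    rw [Category.assoc, hx₀, ← Category.assoc, d_comp_ε₀, zero_comp]
  obtain ⟨c₁, hc₁⟩ : ∃ c₁ : (L f).X 1 ⟶ S.X₁, c₁ ≫ S.f = (L f).d 1 0 ≫ x₀ :=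
    ⟨hS.exact.lift _ h0, hS.exact.lift_f _ h0⟩
  have hc₁' : (L f).d 2 1 ≫ c₁ = 0 := by
    rw [← cancel_mono S.f, Category.assoc, hc₁, ← Category.assoc, (L f).d_comp_d, zero_comp,
      zero_comp]
  obtain ⟨c₀, hc₀⟩ : ∃ c₀ : (L f).X 0 ⟶ S.X₁, (L f).d 1 0 ≫ c₀ = c₁ :=
    h1 K' K f inferInstance c₁ hc₁'
  have ht₁ : (L f).d 1 0 ≫ (x₀ - c₀ ≫ S.f) = 0 := by
    rw [Preadditive.comp_sub, ← Category.assoc, hc₀, hc₁, sub_self]
  have : Epi (ε₀ f) := epi_ε₀ f
  obtain ⟨t, ht⟩ : ∃ t : (G J).obj K ⟶ S.X₂, ε₀ f ≫ t = x₀ - c₀ ≫ S.f :=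
    ⟨(exact_ε₀ f).desc _ ht₁, (exact_ε₀ f).g_desc _ ht₁⟩
  refine ⟨t, ?_⟩
  rw [← cancel_epi (ε₀ f), ← Category.assoc, ht, Preadditive.sub_comp, Category.assoc, S.zero,
    comp_zero, sub_zero, hx₀]


lemma exact_L {K' K : Sheaf J (Type u)} (f : K' ⟶ K) [Epi f] (q : ℕ) :
    ((L f).sc' (q + 2) (q + 1) q).Exact := by
  have hQ : QuasiIso (AlternatingFaceMapComplex.ε.app (X f)) := Groth.Agent.S6161.result J f
  have h := CechH.exactAt_succ_of_quasiIso (X f) q
  rw [HomologicalComplex.exactAt_iff' _ (q + 2) (q + 1) q (by simp) (by simp)] at h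
  exact h

lemma cechAcyclic_of_injective (I : Sheaf J AddCommGrpCat.{u}) [Injective I] : CechAcyclic I := by
  intro K' K f hf q x hx
  exact ⟨(exact_L f q).descToInjective x hx, (exact_L f q).comp_descToInjective x hx⟩

lemma cechAcyclic_X₃ {S : ShortComplex (Sheaf J AddCommGrpCat.{u})} (hS : S.ShortExact)
    (h₁ : CechAcyclic S.X₁) (h₂ : CechAcyclic S.X₂) : CechAcyclic S.X₃ := by
  intro K' K f hf q z hz
  have := hS.mono_f
  obtain ⟨w, hw⟩ : ∃ w : (L f).X (q + 1) ⟶ S.X₂, w ≫ S.g = z :=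
    exists_lift hS (fun K' K f hf => h₁ K' K f hf 0) _ z
  have h0 : ((L f).d (q + 2) (q + 1) ≫ w) ≫ S.g = 0 := by
    rw [Category.assoc, hw, hz]
  obtain ⟨v, hv⟩ : ∃ v : (L f).X (q + 2) ⟶ S.X₁, v ≫ S.f = (L f).d (q + 2) (q + 1) ≫ w :=
    ⟨hS.exact.lift _ h0, hS.exact.lift_f _ h0⟩
  have hv' : (L f).d (q + 3) (q + 2) ≫ v = 0 := by
    rw [← cancel_mono S.f, Category.assoc, hv, ← Category.assoc, (L f).d_comp_d, zero_comp,
      zero_comp]
  obtain ⟨v', hv''⟩ : ∃ v' : (L f).X (q + 1) ⟶ S.X₁, (L f).d (q + 2) (q + 1) ≫ v' = v :=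
    h₁ K' K f hf (q + 1) v hv'
  have hw' : (L f).d (q + 2) (q + 1) ≫ (w - v' ≫ S.f) = 0 := by
    rw [Preadditive.comp_sub, ← Category.assoc, hv'', hv, sub_self]
  obtain ⟨y', hy'⟩ : ∃ y' : (L f).X q ⟶ S.X₂, (L f).d (q + 1) q ≫ y' = w - v' ≫ S.f :=
    h₂ K' K f hf q _ hw'
  refine ⟨y' ≫ S.g, ?_⟩
  rw [← Category.assoc, hy', Preadditive.sub_comp, Category.assoc, S.zero, comp_zero, sub_zero, hw]

theorem ext_eq_zero_of_cechAcyclic (p : ℕ) :
    ∀ (F : Sheaf J AddCommGrpCat.{u}), CechAcyclic F → ∀ (K : Sheaf J (Type u))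
      (x : Ext ((G J).obj K) F (p + 1)), x = 0 := by
  induction p with
  | zero =>
    intro F hF K x
    let S : ShortComplex (Sheaf J AddCommGrpCat.{u}) :=
      ShortComplex.mk (Injective.ι F) (cokernel.π (Injective.ι F)) (cokernel.condition _)
    have hS : S.ShortExact :=
      ShortComplex.ShortExact.mk' (ShortComplex.exact_cokernel _) inferInstance inferInstance
    obtain ⟨x₃, hx₃⟩ := Ext.covariant_sequence_exact₁ ((G J).obj K) hS x
      (Ext.eq_zero_of_injective _) (zero_add 1)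
    obtain ⟨s, rfl⟩ := (Ext.mk₀_bijective _ _).2 x₃
    obtain ⟨t, rfl⟩ := exists_lift hS (fun K' K f hf => hF K' K f hf 0) K s
    rw [← hx₃, ← Ext.mk₀_comp_mk₀, Ext.comp_assoc_of_second_deg_zero, hS.comp_extClass,
      Ext.comp_zero]
  | succ p ih =>
    intro F hF K x
    let S : ShortComplex (Sheaf J AddCommGrpCat.{u}) :=
      ShortComplex.mk (Injective.ι F) (cokernel.π (Injective.ι F)) (cokernel.condition _)
    have hS : S.ShortExact :=
      ShortComplex.ShortExact.mk' (ShortComplex.exact_cokernel _) inferInstance inferInstance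
    obtain ⟨x₃, hx₃⟩ := Ext.covariant_sequence_exact₁ ((G J).obj K) hS x
      (Ext.eq_zero_of_injective _) (rfl : (p + 1) + 1 = p + 1 + 1)
    have hQ : CechAcyclic S.X₃ :=
      cechAcyclic_X₃ hS hF (cechAcyclic_of_injective (Injective.under F))
    rw [← hx₃, ih S.X₃ hQ K x₃, Ext.zero_comp]

end Groth.Agent.Lib.Helper28.TotAcyc
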