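import Groth.Prelude.Def_EtAcyc
import Groth.Agent.Lib.Helper57.ClosedSets

/-!
# Composition of `0`-acyclic morphisms (sheaves of sets)
-/

set_option autoImplicit false
open CategoryTheory CategoryTheory.Limits AlgebraicGeometry Opposite
universe u

namespace Groth.Agent.Lib.Helper28.ZeroAcycComp
open Groth.Agent.Lib.Helper4 Groth.Agent.Lib.Helper57

/-- The unit of `f^* ⊣ f_*` on sheaves of sets is an isomorphism when `f` is an isomorphism of
schemes. -/
theorem isIso_unit_of_isIso {A' A : Scheme.{u}} (ε : A' ⟶ A) [IsIso ε] (G : EtDesc.Sh A) :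
    IsIso ((EtDesc.adjSh ε).unit.app G) := by
  rw [IntStalk.isIso_iff_stalkSh]
  intro Ω _ _ ξ
  have hgood : IntStalk.Good ε := IntStalk.good_of_isImmersion ε
  have h := StalkSets.isIso_stalkSh_unit ε hgood G (ξ ≫ inv ε)
  have e : (ξ ≫ inv ε) ≫ ε = ξ := by
    rw [Category.assoc, IsIso.inv_hom_id, Category.comp_id]
  rw [e] at h
  exact h

theorem isIso_unit_comp_iff {A B C : Scheme.{u}} (a : A ⟶ B) (b : B ⟶ C) (F : EtDesc.Sh C)
    (ha : IsIso ((EtDesc.adjSh a).unit.app ((EtDesc.pullSh b).obj F))) :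
    IsIso ((EtDesc.adjSh (a ≫ b)).unit.app F) ↔ IsIso ((EtDesc.adjSh b).unit.app F) := by
  let adj1 := EtDesc.adjSh (a ≫ b)
  let adj2 := ((EtDesc.adjSh b).comp (EtDesc.adjSh a)).ofNatIsoRight (EtDesc.pushCompSh b a)
  have h1 : adj1.unit.app F ≫ (EtDesc.pushSh (a ≫ b)).map ((EtDesc.pullCompSh a b).hom.app F) =
      adj2.unit.app F := Adjunction.unit_leftAdjointUniq_hom_app adj1 adj2 F
  have h2 : adj2.unit.app F = ((EtDesc.adjSh b).unit.app F ≫
      (EtDesc.pushSh b).map ((EtDesc.adjSh a).unit.app ((EtDesc.pullSh b).obj F))) ≫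
        (EtDesc.pushCompSh b a).hom.app _ := by
    have h3 := Adjunction.homEquiv_ofNatIsoRight_apply ((EtDesc.adjSh b).comp (EtDesc.adjSh a))
      (EtDesc.pushCompSh b a) (𝟙 ((EtDesc.pullSh b ⋙ EtDesc.pullSh a).obj F))
    rw [Adjunction.homEquiv_id, Adjunction.homEquiv_id] at h3
    rw [h3, Adjunction.comp_unit_app]
    rfl
  have hiso1 : IsIso ((EtDesc.pushSh (a ≫ b)).map ((EtDesc.pullCompSh a b).hom.app F)) :=
    inferInstance
  have hiso2 : IsIso ((EtDesc.pushSh b).map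
      ((EtDesc.adjSh a).unit.app ((EtDesc.pullSh b).obj F))) := inferInstance
  constructor
  · intro h
    have h4 : IsIso (adj2.unit.app F) := by
      rw [← h1]
      infer_instance
    rw [h2] at h4
    have h5 : IsIso ((EtDesc.adjSh b).unit.app F ≫ (EtDesc.pushSh b).map
        ((EtDesc.adjSh a).unit.app ((EtDesc.pullSh b).obj F))) :=
      IsIso.of_isIso_comp_right _ ((EtDesc.pushCompSh b a).hom.app
        ((EtDesc.pullSh a).obj ((EtDesc.pullSh b).obj F)))
    exact IsIso.of_isIso_comp_right ((EtDesc.adjSh b).unit.app F) ((EtDesc.pushSh b).map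
      ((EtDesc.adjSh a).unit.app ((EtDesc.pullSh b).obj F)))
  · intro h
    have h4 : IsIso (adj2.unit.app F) := by
      rw [h2]
      infer_instance
    rw [← h1] at h4
    exact IsIso.of_isIso_comp_right _ ((EtDesc.pushSh (a ≫ b)).map
      ((EtDesc.pullCompSh a b).hom.app F))

theorem isZeroAcyclic_comp_iff {X Y Z : Scheme.{u}} (g : X ⟶ Y) (h : Y ⟶ Z)
    (hg : EtAcyc.IsZeroAcyclic g) :
    EtAcyc.IsZeroAcyclic h ↔ EtAcyc.IsZeroAcyclic (g ≫ h) := by
  have key : ∀ (V : Z.Etale) (F : EtDesc.Sh V.left),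
      IsIso ((EtDesc.adjSh (EtAcyc.prj h V)).unit.app F) ↔
        IsIso ((EtDesc.adjSh (EtAcyc.prj (g ≫ h) V)).unit.app F) := by
    intro V F
    have : Etale V.hom := V.prop
    let V' : Y.Etale := Scheme.Etale.mk (pullback.snd V.hom h)
    let e := pullbackLeftPullbackSndIso V.hom h g
    have he : e.inv ≫ (EtAcyc.prj g V' ≫ EtAcyc.prj h V) = EtAcyc.prj (g ≫ h) V :=
      pullbackLeftPullbackSndIso_inv_fst V.hom h g
    have h1 := isIso_unit_comp_iff (EtAcyc.prj g V') (EtAcyc.prj h V) F (hg V' _)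
    have h2 := isIso_unit_comp_iff e.inv (EtAcyc.prj g V' ≫ EtAcyc.prj h V) F
      (isIso_unit_of_isIso e.inv _)
    rw [he] at h2
    exact h1.symm.trans h2.symm
  exact ⟨fun hh V F => (key V F).1 (hh V F), fun hh V F => (key V F).2 (hh V F)⟩

end Groth.Agent.Lib.Helper28.ZeroAcycComp
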